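import Mathlib
import Cfsg.Prelude.Def_GeometricClasses
import Cfsg.Agent.Lib.Helper99.AschDefs
import Cfsg.Agent.Lib.Helper37.Asch.FormKit
import Cfsg.Agent.Lib.Helper36.AltEven

/-!
# Project ASCH: modules [C8S], [C8U], [C8Q]

If an absolutely irreducible subgroup `P` normalised by `H` fixes a non-degenerate symplectic,
unitary or quadratic form, then `H` lies in a member of class 8.
-/

set_option autoImplicit false

namespace Cfsg.Agent.Lib.Helper37.AschC8

open Cfsg Cfsg.Geo
open scoped MatrixGroups Matrix

variable {n : ℕ} {F : Type*} [Field F]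

/-- a non-degenerate symplectic form lives in even dimension -/
theorem even_of_isSymplecticForm {f : (Fin n → F) → (Fin n → F) → F} (hf : IsSymplecticForm f) :
    Even n := by
  let B : LinearMap.BilinForm F (Fin n → F) :=
    LinearMap.mk₂ F f hf.bilinear.add_left hf.bilinear.smul_left hf.bilinear.add_right
      hf.bilinear.smul_right
  have hB : ∀ u v, B u v = f u v := fun u v => rfl
  have hA : B.IsAlt := fun v => by rw [hB]; exact hf.alternating v
  have hN : B.Nondegenerate := by
    refine ⟨fun u hu => ?_, fun u hu => ?_⟩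
    · by_contra h0
      obtain ⟨x, hx⟩ := (hf.nondegenerate u h0).2
      exact hx (by rw [← hB]; exact hu x)
    · by_contra h0
      obtain ⟨x, hx⟩ := (hf.nondegenerate u h0).1
      exact hx (by rw [← hB]; exact hu x)
  have := Cfsg.Agent.Lib.Helper36.even_finrank_of_isAlt_nondegenerate B hA hN
  rwa [Module.finrank_fin_fun] at this

end Cfsg.Agent.Lib.Helper37.AschC8

namespace Cfsg.Agent.Lib.Helper99.Asch

open Cfsg Cfsg.Geo
open scoped MatrixGroups Matrix

variable {n : ℕ} {F : Type*} [Field F] [Fintype F]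

/-- ASCH-[C8S] -/
theorem geo_of_fixes_symplectic (hn : 3 ≤ n) (H P : Subgroup (GL (Fin n) F))
    (hP : ActsAbsolutelyIrreducibly (matrixSet P)) (hnrm : Nrm H P)
    (f : (Fin n → F) → (Fin n → F) → F) (hf : IsSymplecticForm f)
    (hfix : FixesForm (matrixSet P) f) : Geo H := by
  have he : Even n := Cfsg.Agent.Lib.Helper37.AschC8.even_of_isSymplecticForm hf
  have h4 : 4 ≤ n := by
    obtain ⟨k, hk⟩ := he
    omega
  refine ⟨similarityGroup f, ?_, ?_⟩
  · right; right; right; right; right; right; right; right; right; left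
    exact ⟨f, hf, he, h4, rfl⟩
  · exact Cfsg.Agent.Lib.Helper37.Asch.le_similarityGroup_of_symplectic hf P H hP hfix hnrm

/-- ASCH-[C8U] -/
theorem geo_of_fixes_unitary (hn : 3 ≤ n) (H P : Subgroup (GL (Fin n) F))
    (hP : ActsAbsolutelyIrreducibly (matrixSet P)) (hnrm : Nrm H P)
    (σ : F ≃+* F) (f : (Fin n → F) → (Fin n → F) → F) (hf : IsUnitaryForm σ f)
    (hfix : FixesForm (matrixSet P) f) : Geo H := by
  refine ⟨similarityGroup f, ?_, ?_⟩
  · right; right; right; right; right; right; right; right; right; right; left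
    exact ⟨σ, f, hf, hn, rfl⟩
  · exact Cfsg.Agent.Lib.Helper37.Asch.le_similarityGroup_of_unitary hf P H hP hfix hnrm

/-- ASCH-[C8Q] -/
theorem geo_of_fixes_quadratic (hn : 3 ≤ n) (H P : Subgroup (GL (Fin n) F))
    (hP : ActsAbsolutelyIrreducibly (matrixSet P)) (hnrm : Nrm H P)
    (Q : (Fin n → F) → F) (hQ : IsNondegenerateQuadraticForm Q)
    (hfix : FixesQuadForm (matrixSet P) Q) : Geo H := by
  by_cases h2 : (2 : F) = 0
  · exact geo_of_fixes_symplectic hn H P hP hnrm _
      (Cfsg.Agent.Lib.Helper37.Asch.isSymplecticForm_polar hQ h2)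
      (Cfsg.Agent.Lib.Helper37.Asch.fixesForm_polar hfix)
  · have hodd : Odd (Fintype.card F) := by
      rw [Nat.odd_iff]
      apply FiniteField.odd_card_of_char_ne_two
      intro hc
      apply h2
      have := ringChar.Nat.cast_ringChar (R := F)
      rw [hc] at this
      exact_mod_cast this
    refine ⟨quadSimilarityGroup Q, ?_, ?_⟩
    · right; right; right; right; right; right; right; right; right; right; right
      exact ⟨Q, hQ, hodd, hn, rfl⟩
    · exact Cfsg.Agent.Lib.Helper37.Asch.le_quadSimilarityGroup hQ h2 P H hP hfix hnrm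

end Cfsg.Agent.Lib.Helper99.Asch
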