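import Mathlib
import Cfsg.Agent.S0837
import Cfsg.Agent.S0781
import Cfsg.Agent.Lib.Helper13.HermWitt
import Cfsg.Agent.Lib.Helper5.UnitaryField

set_option autoImplicit false

/-!
# Totally isotropic lines of a finite unitary space (helper37)

Double counting of ordered pairs of independent, mutually orthogonal isotropic vectors.
-/

namespace Cfsg.Agent.Lib.Helper37

open Matrix Module Cfsg.Agent.S0837 Cfsg.Agent.S0781

section defs
variable {F : Type*} [Field F] (σ : F →+* F)

/-- non-zero isotropic vectors -/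
abbrev Iso (n : ℕ) : Type _ := {v : Fin n → F // v ≠ 0 ∧ hf σ v v = 0}

/-- ordered pairs of independent mutually orthogonal isotropic vectors -/
abbrev Pairs (n : ℕ) : Type _ :=
  {p : (Fin n → F) × (Fin n → F) // hf σ p.1 p.1 = 0 ∧ hf σ p.2 p.2 = 0 ∧ hf σ p.2 p.1 = 0 ∧
    LinearIndependent F ![p.1, p.2]}

/-- isotropic vectors orthogonal to and independent of `u` -/
abbrev Thru {n : ℕ} (u : Fin n → F) : Type _ :=
  {w : Fin n → F // hf σ w w = 0 ∧ hf σ w u = 0 ∧ LinearIndependent F ![u, w]}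

/-- totally isotropic lines -/
abbrev Lines (n : ℕ) : Type _ :=
  {W : Submodule F (Fin n → F) // finrank F W = 2 ∧ ∀ u ∈ W, ∀ v ∈ W, hf σ u v = 0}

def pairsEquivSigma (n : ℕ) : Pairs σ n ≃ Σ u : Iso σ n, Thru σ u.1 where
  toFun p := ⟨⟨p.1.1, (p.2.2.2.2.ne_zero 0 : (![p.1.1, p.1.2] : Fin 2 → Fin n → F) 0 ≠ 0), p.2.1⟩,
    ⟨p.1.2, p.2.2.1, p.2.2.2.1, p.2.2.2.2⟩⟩
  invFun x := ⟨(x.1.1, x.2.1), x.1.2.2, x.2.2.1, x.2.2.2.1, x.2.2.2.2⟩
  left_inv p := rfl
  right_inv x := rfl

end defs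

section witt
variable {F : Type*} [Field F] (σ : F →+* F)

theorem BV_symm (hσ2 : ∀ a, σ (σ a) = a) (n : ℕ) : (BV σ n).IsSymm := by
  refine ⟨fun x y => ?_⟩
  rw [BV_apply, BV_apply]
  exact (hf_symm σ hσ2 _ _).symm

theorem BV_nondeg (hσ2 : ∀ a, σ (σ a) = a) (n : ℕ) : (BV σ n).Nondegenerate := by
  constructor
  · intro x hx
    ext i
    have := hx (Pi.single i 1)
    rw [BV_apply, hf_single_left] at this
    have h2 := congrArg σ this
    rwa [hσ2, map_zero] at h2
  · intro y hy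
    ext i
    have := hy (Pi.single i 1)
    rw [BV_apply, hf_single_right] at this
    exact this

theorem card_thru_eq [Finite F] (hσ : σ ≠ RingHom.id F) (hσ2 : ∀ a, σ (σ a) = a) {n : ℕ}
    (u u' : Iso σ n) : Nat.card (Thru σ u.1) = Nat.card (Thru σ u'.1) := by
  obtain ⟨T, hT, hTu⟩ := Cfsg.Agent.Lib.Helper13.witt_families_herm σ hσ hσ2 (BV σ n)
    (BV_symm σ hσ2 n) (BV_nondeg σ hσ2 n) 1 ![u.1] ![u'.1]
    (linearIndependent_unique_iff.mpr u.2.1)
    (linearIndependent_unique_iff.mpr u'.2.1)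
    (by
      intro i j
      fin_cases i; fin_cases j
      simp only [BV_apply, Fin.zero_eta, Fin.isValue, Matrix.cons_val_zero]
      rw [u.2.2, u'.2.2])
  have hTu0 : T u.1 = u'.1 := by simpa using hTu 0
  have hTh : ∀ z w, hf σ (T z) (T w) = hf σ z w := fun z w => hT w z
  apply Nat.card_congr
  refine Equiv.subtypeEquiv T.toEquiv ?_
  intro w
  show (hf σ w w = 0 ∧ hf σ w u.1 = 0 ∧ LinearIndependent F ![u.1, w]) ↔
    (hf σ (T w) (T w) = 0 ∧ hf σ (T w) u'.1 = 0 ∧ LinearIndependent F ![u'.1, T w])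
  rw [hTh, ← hTu0, hTh]
  have hcomp : (![T u.1, T w] : Fin 2 → Fin n → F) = T ∘ ![u.1, w] := by
    funext i; fin_cases i <;> rfl
  rw [hcomp]
  have := LinearMap.linearIndependent_iff (v := (![u.1, w] : Fin 2 → Fin n → F)) T.toLinearMap
    (LinearMap.ker_eq_bot.mpr T.injective)
  rw [show (T ∘ ![u.1, w] : Fin 2 → Fin n → F) = T.toLinearMap ∘ ![u.1, w] from rfl, this]

end witt

section std
variable {F : Type*} [Field F] (σ : F →+* F)

theorem hf_succ_succ {m : ℕ} (x y : Fin (m + 2) → F) :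
    hf σ x y = x 0 * σ (y 0) + x 1 * σ (y 1) +
      hf σ (fun i : Fin m => x i.succ.succ) (fun i : Fin m => y i.succ.succ) := by
  unfold hf
  rw [Fin.sum_univ_succ, Fin.sum_univ_succ]
  simp only [Fin.succ_zero_eq_one]
  ring

/-- the standard isotropic vector `(1, ζ, 0, …, 0)` -/
def stdIso (m : ℕ) (ζ : F) : Fin (m + 2) → F := Fin.cons 1 (Fin.cons ζ 0)

theorem stdIso_zero (m : ℕ) (ζ : F) : stdIso m ζ 0 = 1 := rfl
theorem stdIso_one (m : ℕ) (ζ : F) : stdIso m ζ 1 = ζ := rfl
theorem stdIso_succ_succ (m : ℕ) (ζ : F) (i : Fin m) : stdIso m ζ i.succ.succ = 0 := rfl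

theorem stdIso_ne_zero (m : ℕ) (ζ : F) : stdIso m ζ ≠ 0 := by
  intro h
  have := congrFun h 0
  rw [stdIso_zero] at this
  exact one_ne_zero this

theorem hf_stdIso_self (m : ℕ) (ζ : F) (hζ : ζ * σ ζ = -1) : hf σ (stdIso m ζ) (stdIso m ζ) = 0 := by
  rw [hf_succ_succ, stdIso_zero, stdIso_one]
  have : hf σ (fun i : Fin m => stdIso m ζ i.succ.succ) (fun i : Fin m => stdIso m ζ i.succ.succ) = 0 := by
    unfold hf
    simp [stdIso_succ_succ]
  rw [this, map_one, hζ]
  ring

theorem hf_stdIso_right (m : ℕ) (ζ : F) (w : Fin (m + 2) → F) :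
    hf σ w (stdIso m ζ) = w 0 + w 1 * σ ζ := by
  rw [hf_succ_succ, stdIso_zero, stdIso_one]
  have : hf σ (fun i : Fin m => w i.succ.succ) (fun i : Fin m => stdIso m ζ i.succ.succ) = 0 := by
    unfold hf
    simp [stdIso_succ_succ]
  rw [this, map_one]
  ring

/-- assemble a vector from its first two coordinates and the rest -/
def cons2 {m : ℕ} (a b : F) (y : Fin m → F) : Fin (m + 2) → F := Fin.cons a (Fin.cons b y)

theorem cons2_zero {m : ℕ} (a b : F) (y : Fin m → F) : cons2 a b y 0 = a := rfl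
theorem cons2_one {m : ℕ} (a b : F) (y : Fin m → F) : cons2 a b y 1 = b := rfl
theorem cons2_succ_succ {m : ℕ} (a b : F) (y : Fin m → F) (i : Fin m) :
    cons2 a b y i.succ.succ = y i := rfl

theorem cons2_eta {m : ℕ} (w : Fin (m + 2) → F) :
    cons2 (w 0) (w 1) (fun i : Fin m => w i.succ.succ) = w := by
  funext i
  refine Fin.cases ?_ (fun j => ?_) i
  · rfl
  · refine Fin.cases ?_ (fun k => ?_) j
    · rfl
    · rfl

theorem thru_std_indep_iff (hσ2 : ∀ a, σ (σ a) = a) (m : ℕ) (ζ : F) (hζ : ζ * σ ζ = -1)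
    (w : Fin (m + 2) → F) (hw : w 0 + w 1 * σ ζ = 0) :
    LinearIndependent F ![stdIso m ζ, w] ↔ (fun i : Fin m => w i.succ.succ) ≠ 0 := by
  rw [LinearIndependent.pair_iff]
  constructor
  · intro h hy
    have h0 : (-(w 1) * σ ζ) • stdIso m ζ + (-1 : F) • w = 0 := by
      funext i
      refine Fin.cases ?_ (fun j => ?_) i
      · simp only [Pi.add_apply, Pi.smul_apply, smul_eq_mul, stdIso_zero, Pi.zero_apply]
        linear_combination -hw
      · refine Fin.cases ?_ (fun k => ?_) j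
        · simp only [Pi.add_apply, Pi.smul_apply, smul_eq_mul, Fin.succ_zero_eq_one, stdIso_one,
            Pi.zero_apply]
          have : σ ζ * ζ = -1 := by rw [mul_comm]; exact hζ
          linear_combination (-(w 1)) * this
        · have := congrFun hy k
          simp only [Pi.zero_apply] at this
          simp only [Pi.add_apply, Pi.smul_apply, smul_eq_mul, stdIso_succ_succ, this,
            Pi.zero_apply]
          ring
    have := (h _ _ h0).2
    exact absurd this (by norm_num)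
  · intro hy s t hst
    obtain ⟨k, hk⟩ : ∃ k : Fin m, w k.succ.succ ≠ 0 := by
      by_contra hcon
      push Not at hcon
      exact hy (funext hcon)
    have h1 := congrFun hst k.succ.succ
    simp only [Pi.add_apply, Pi.smul_apply, smul_eq_mul, stdIso_succ_succ, mul_zero, zero_add,
      Pi.zero_apply] at h1
    have ht : t = 0 := by
      rcases mul_eq_zero.mp h1 with h | h
      · exact h
      · exact absurd h hk
    have h2 := congrFun hst 0
    simp only [Pi.add_apply, Pi.smul_apply, smul_eq_mul, stdIso_zero, ht, zero_mul, add_zero,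
      mul_one, Pi.zero_apply] at h2
    exact ⟨h2, ht⟩

/-- vectors through the standard isotropic vector -/
def thruStdEquiv (hσ2 : ∀ a, σ (σ a) = a) (m : ℕ) (ζ : F) (hζ : ζ * σ ζ = -1) :
    Thru σ (stdIso m ζ) ≃ F × Iso σ m where
  toFun w := (w.1 1, ⟨fun i : Fin m => w.1 i.succ.succ, by
    have hw : w.1 0 + w.1 1 * σ ζ = 0 := by rw [← hf_stdIso_right]; exact w.2.2.1
    refine ⟨(thru_std_indep_iff σ hσ2 m ζ hζ w.1 hw).mp w.2.2.2, ?_⟩
    have h := w.2.1
    rw [hf_succ_succ] at h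
    have h0 : w.1 0 = -(w.1 1 * σ ζ) := by linear_combination hw
    rw [h0] at h
    have : σ ζ * ζ = -1 := by rw [mul_comm]; exact hζ
    simp only [map_neg, map_mul, hσ2] at h
    linear_combination h - (w.1 1 * σ (w.1 1)) * this⟩)
  invFun x := ⟨cons2 (-(x.1 * σ ζ)) x.1 x.2.1, by
    have hperp : cons2 (-(x.1 * σ ζ)) x.1 x.2.1 0 + cons2 (-(x.1 * σ ζ)) x.1 x.2.1 1 * σ ζ = 0 := by
      rw [cons2_zero, cons2_one]; ring
    refine ⟨?_, ?_, ?_⟩
    · rw [hf_succ_succ, cons2_zero, cons2_one]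
      have h1 : hf σ (fun i : Fin m => cons2 (-(x.1 * σ ζ)) x.1 x.2.1 i.succ.succ)
          (fun i : Fin m => cons2 (-(x.1 * σ ζ)) x.1 x.2.1 i.succ.succ) = 0 := x.2.2.2
      rw [h1]
      have : σ ζ * ζ = -1 := by rw [mul_comm]; exact hζ
      simp only [map_neg, map_mul, hσ2]
      linear_combination (x.1 * σ x.1) * this
    · rw [hf_stdIso_right]; exact hperp
    · rw [thru_std_indep_iff σ hσ2 m ζ hζ _ hperp]
      exact x.2.2.1⟩
  left_inv w := by
    apply Subtype.ext
    have hw : w.1 0 + w.1 1 * σ ζ = 0 := by rw [← hf_stdIso_right]; exact w.2.2.1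
    show cons2 (-(w.1 1 * σ ζ)) (w.1 1) (fun i : Fin m => w.1 i.succ.succ) = w.1
    have h0 : -(w.1 1 * σ ζ) = w.1 0 := by linear_combination -hw
    rw [h0, cons2_eta]
  right_inv x := by
    apply Prod.ext
    · rfl
    · apply Subtype.ext
      rfl

end std

section lines
variable {F : Type*} [Field F] (σ : F →+* F) {n : ℕ}

theorem finrank_span_pair {u w : Fin n → F} (h : LinearIndependent F ![u, w]) :
    finrank F (Submodule.span F ({u, w} : Set (Fin n → F))) = 2 := by
  have := finrank_span_eq_card h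
  rw [Matrix.range_cons_cons_empty] at this
  simpa using this

theorem ti_span_pair (hσ2 : ∀ a, σ (σ a) = a) {u w : Fin n → F} (huu : hf σ u u = 0)
    (hww : hf σ w w = 0) (hwu : hf σ w u = 0) :
    ∀ x ∈ Submodule.span F ({u, w} : Set (Fin n → F)),
      ∀ y ∈ Submodule.span F ({u, w} : Set (Fin n → F)), hf σ x y = 0 := by
  have huw : hf σ u w = 0 := by rw [hf_symm σ hσ2, hwu, map_zero]
  intro x hx y hy
  obtain ⟨a, b, rfl⟩ := Submodule.mem_span_pair.mp hx
  obtain ⟨c, d, rfl⟩ := Submodule.mem_span_pair.mp hy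
  simp only [hf_add_left, hf_add_right, hf_smul_left, hf_smul_right, huu, hww, hwu, huw]
  ring

/-- the line spanned by a pair -/
def toLine (hσ2 : ∀ a, σ (σ a) = a) (p : Pairs σ n) : Lines σ n :=
  ⟨Submodule.span F ({p.1.1, p.1.2} : Set (Fin n → F)), finrank_span_pair p.2.2.2.2,
    ti_span_pair σ hσ2 p.2.1 p.2.2.1 p.2.2.2.1⟩

theorem toLine_coe (hσ2 : ∀ a, σ (σ a) = a) (p : Pairs σ n) :
    (toLine σ hσ2 p).1 = Submodule.span F ({p.1.1, p.1.2} : Set (Fin n → F)) := rfl

/-- pairs spanning a given line correspond to ordered bases of the line -/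
def fiberEquiv (hσ2 : ∀ a, σ (σ a) = a) (W : Lines σ n) :
    {p : Pairs σ n // toLine σ hσ2 p = W} ≃ {s : Fin 2 → W.1 // LinearIndependent F s} where
  toFun p :=
    have hW : Submodule.span F ({p.1.1.1, p.1.1.2} : Set (Fin n → F)) = W.1 :=
      congrArg Subtype.val p.2
    have h1 : p.1.1.1 ∈ W.1 := by
      rw [← hW]; exact Submodule.subset_span (by simp)
    have h2 : p.1.1.2 ∈ W.1 := by
      rw [← hW]; exact Submodule.subset_span (by simp)
    ⟨![⟨p.1.1.1, h1⟩, ⟨p.1.1.2, h2⟩], by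
      apply LinearIndependent.of_comp W.1.subtype
      have : (W.1.subtype ∘ ![(⟨p.1.1.1, h1⟩ : W.1), ⟨p.1.1.2, h2⟩]) = ![p.1.1.1, p.1.1.2] := by
        funext i; fin_cases i <;> rfl
      rw [this]
      exact p.1.2.2.2.2⟩
  invFun s :=
    have hli : LinearIndependent F ![((s.1 0 : W.1) : Fin n → F), ((s.1 1 : W.1) : Fin n → F)] := by
      have := s.2.map' W.1.subtype (Submodule.ker_subtype _)
      have h2 : (W.1.subtype ∘ s.1) = ![((s.1 0 : W.1) : Fin n → F), ((s.1 1 : W.1) : Fin n → F)] := by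
        funext i; fin_cases i <;> rfl
      rwa [h2] at this
    ⟨⟨(((s.1 0 : W.1) : Fin n → F), ((s.1 1 : W.1) : Fin n → F)),
      W.2.2 _ (s.1 0).2 _ (s.1 0).2, W.2.2 _ (s.1 1).2 _ (s.1 1).2,
      W.2.2 _ (s.1 1).2 _ (s.1 0).2, hli⟩, by
      apply Subtype.ext
      show Submodule.span F ({((s.1 0 : W.1) : Fin n → F), ((s.1 1 : W.1) : Fin n → F)} :
        Set (Fin n → F)) = W.1
      apply Submodule.eq_of_le_of_finrank_eq
      · rw [Submodule.span_le]
        intro x hx
        rcases hx with rfl | rfl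
        · exact (s.1 0).2
        · exact (s.1 1).2
      · rw [finrank_span_pair hli, W.2.1]⟩
  left_inv p := by
    apply Subtype.ext
    apply Subtype.ext
    rfl
  right_inv s := by
    apply Subtype.ext
    funext i
    fin_cases i <;> rfl

theorem card_pairs_eq [Fintype F] (hσ2 : ∀ a, σ (σ a) = a) :
    Nat.card (Pairs σ n) = Nat.card (Lines σ n) *
      ((Fintype.card F ^ 2 - 1) * (Fintype.card F ^ 2 - Fintype.card F)) := by
  classical
  have : Finite (Lines σ n) := by unfold Lines; infer_instance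
  have : Fintype (Lines σ n) := Fintype.ofFinite _
  have : Finite (Pairs σ n) := by unfold Pairs; infer_instance
  rw [Nat.card_congr (Equiv.sigmaFiberEquiv (toLine σ hσ2)).symm, Nat.card_sigma]
  have hfib : ∀ W : Lines σ n, Nat.card {p : Pairs σ n // toLine σ hσ2 p = W} =
      (Fintype.card F ^ 2 - 1) * (Fintype.card F ^ 2 - Fintype.card F) := by
    intro W
    rw [Nat.card_congr (fiberEquiv σ hσ2 W)]
    have := card_linearIndependent (K := F) (V := W.1) (k := 2) (by rw [W.2.1])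
    rw [this, W.2.1, Fin.prod_univ_two]
    simp
  simp only [hfib, Finset.sum_const, Finset.card_univ, smul_eq_mul, Nat.card_eq_fintype_card]

end lines

section count
variable {F : Type*} [Field F] [Fintype F] (σ : F →+* F)

theorem card_iso {q : ℕ} (hσ : ∀ x, σ x = x ^ q) (n : ℕ) :
    Nat.card (Iso σ n) = Cfsg.Agent.Lib.Helper5.hermCount F q n 0 - 1 := by
  classical
  unfold Cfsg.Agent.Lib.Helper5.hermCount
  set T := {v : Fin n → F // ∑ i, v i * v i ^ q = 0} with hT
  have h0 : (∑ i, (0 : Fin n → F) i * (0 : Fin n → F) i ^ q) = 0 := by simp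
  let z : T := ⟨0, h0⟩
  have e : Iso σ n ≃ {x : T // x ≠ z} :=
    { toFun := fun v => ⟨⟨v.1, by
          have := v.2.2
          unfold hf at this
          simpa only [hσ] using this⟩, fun h => v.2.1 (congrArg Subtype.val h)⟩
      invFun := fun x => ⟨x.1.1, fun h => x.2 (Subtype.ext h), by
          have := x.1.2
          unfold hf
          simpa only [hσ] using this⟩
      left_inv := fun v => rfl
      right_inv := fun x => rfl }
  rw [Nat.card_congr e, Nat.card_eq_fintype_card, Nat.card_eq_fintype_card]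
  exact Set.card_ne_eq z

/-- **Counting totally isotropic lines** in the `(m+2)`-dimensional unitary space. -/
theorem card_lines_mul {q : ℕ} (hF : Fintype.card F = q ^ 2) (hσ : ∀ x, σ x = x ^ q)
    (hσ2 : ∀ a, σ (σ a) = a) (m : ℕ) :
    Nat.card (Lines σ (m + 2)) * (((q ^ 2) ^ 2 - 1) * ((q ^ 2) ^ 2 - q ^ 2)) =
      (Cfsg.Agent.Lib.Helper5.hermCount F q (m + 2) 0 - 1) *
        (q ^ 2 * (Cfsg.Agent.Lib.Helper5.hermCount F q m 0 - 1)) := by
  classical
  have hne := frob_ne_id σ hF hσ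
  obtain ⟨ζ, hζ⟩ := Cfsg.Agent.Lib.Helper36.exists_mul_map_eq σ hne hσ2 (-1) (by simp)
  have hpairs := card_pairs_eq σ (n := m + 2) hσ2
  rw [hF] at hpairs
  rw [← hpairs]
  have : Finite (Iso σ (m + 2)) := by unfold Iso; infer_instance
  have : Fintype (Iso σ (m + 2)) := Fintype.ofFinite _
  have hfin : ∀ u : Iso σ (m + 2), Finite (Thru σ u.1) := fun u => by unfold Thru; infer_instance
  rw [Nat.card_congr (pairsEquivSigma σ (m + 2)), Nat.card_sigma]
  let u₀ : Iso σ (m + 2) := ⟨stdIso m ζ, stdIso_ne_zero m ζ, hf_stdIso_self σ m ζ hζ⟩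
  have hall : ∀ u : Iso σ (m + 2), Nat.card (Thru σ u.1) = q ^ 2 * Nat.card (Iso σ m) := by
    intro u
    rw [card_thru_eq σ hne hσ2 u u₀, Nat.card_congr (thruStdEquiv σ hσ2 m ζ hζ), Nat.card_prod,
      Nat.card_eq_fintype_card, hF]
  simp only [hall, Finset.sum_const, Finset.card_univ, smul_eq_mul]
  rw [← Nat.card_eq_fintype_card, card_iso σ hσ, card_iso σ hσ]

end count

end Cfsg.Agent.Lib.Helper37
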