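import Mathlib
import Cfsg.Agent.S0837
import Cfsg.Agent.S0781
import Cfsg.Agent.S2644
import Cfsg.Agent.Lib.Helper36.HermNorm

set_option autoImplicit false

/-!
# Generation of the special unitary group by unitary transvections

`σ` is an involution of the field `F` (not the identity), `hf σ` the standard `σ`-hermitian form on
`Fin n → F`.  `TG σ n` is the subgroup of `GL` generated by the unitary transvections.
-/

namespace Cfsg.Agent.Lib.Helper37

open Matrix Module Cfsg.Agent.S0837 Cfsg.Agent.S0781 Cfsg.Agent.S2644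

section groups
variable {F : Type*} [Field F] (σ : F →+* F) {n : ℕ}

/-- the unitary group of `hf σ`, as a subgroup of `GL`. -/
def UG (n : ℕ) : Subgroup (GL (Fin n) F) where
  carrier := {g | ∀ x y, hf σ ((g : Matrix (Fin n) (Fin n) F) *ᵥ x)
    ((g : Matrix (Fin n) (Fin n) F) *ᵥ y) = hf σ x y}
  mul_mem' := by
    intro a b ha hb x y
    rw [Units.val_mul, ← mulVec_mulVec, ← mulVec_mulVec, ha, hb]
  one_mem' := by intro x y; simp
  inv_mem' := by
    intro a ha x y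
    have := ha ((a⁻¹ : GL (Fin n) F).1 *ᵥ x) ((a⁻¹ : GL (Fin n) F).1 *ᵥ y)
    rw [mulVec_mulVec, mulVec_mulVec, ← Units.val_mul, mul_inv_cancel, Units.val_one, one_mulVec,
      one_mulVec] at this
    exact this.symm

theorem mem_UG (g : GL (Fin n) F) : g ∈ UG σ n ↔ ∀ x y, hf σ ((g : Matrix (Fin n) (Fin n) F) *ᵥ x)
    ((g : Matrix (Fin n) (Fin n) F) *ᵥ y) = hf σ x y := Iff.rfl

/-- the group generated by unitary transvections. -/
def TG (n : ℕ) : Subgroup (GL (Fin n) F) :=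
  Subgroup.closure {g | ∃ (z : Fin n → F) (c : F), hf σ z z = 0 ∧ c + σ c = 0 ∧
    (g : Matrix (Fin n) (Fin n) F) = tv σ z c}

theorem TG_le_UG (hσ2 : ∀ a, σ (σ a) = a) : TG σ n ≤ UG σ n := by
  unfold TG
  rw [Subgroup.closure_le]
  rintro g ⟨z, c, hz, hc, hg⟩ x y
  rw [hg, hf_tv σ hσ2, hc, hz]
  ring

theorem tv_mul_tv_neg (z : Fin n → F) (c : F) (hz : hf σ z z = 0) :
    tv σ z c * tv σ z (-c) = 1 := by
  apply Matrix.toLin'.injective
  apply LinearMap.ext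
  intro x
  rw [Matrix.toLin'_apply, ← mulVec_mulVec, tv_mulVec, tv_mulVec]
  simp only [hf_add_left, hf_smul_left, hz, Matrix.toLin'_one, LinearMap.id_coe, id_eq]
  ext i
  simp only [Pi.add_apply, Pi.smul_apply, smul_eq_mul]
  ring

/-- a transvection as an element of `GL`. -/
def tvGL (z : Fin n → F) (c : F) (hz : hf σ z z = 0) : GL (Fin n) F :=
  ⟨tv σ z c, tv σ z (-c), tv_mul_tv_neg σ z c hz, by
    have := tv_mul_tv_neg σ z (-c) hz
    rwa [neg_neg] at this⟩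

theorem tvGL_mem (z : Fin n → F) (c : F) (hz : hf σ z z = 0) (hc : c + σ c = 0) :
    tvGL σ z c hz ∈ TG σ n :=
  Subgroup.subset_closure ⟨z, c, hz, hc, rfl⟩

/-- membership of a matrix in `TG`. -/
def InT (M : Matrix (Fin n) (Fin n) F) : Prop := ∃ t ∈ TG σ n, (t : Matrix (Fin n) (Fin n) F) = M

theorem InT.mul {M N : Matrix (Fin n) (Fin n) F} (hM : InT σ M) (hN : InT σ N) : InT σ (M * N) := by
  obtain ⟨s, hs, rfl⟩ := hM
  obtain ⟨t, ht, rfl⟩ := hN
  exact ⟨s * t, Subgroup.mul_mem _ hs ht, rfl⟩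

theorem InT.one : InT σ (1 : Matrix (Fin n) (Fin n) F) := ⟨1, Subgroup.one_mem _, rfl⟩

theorem InT.tv (z : Fin n → F) (c : F) (hz : hf σ z z = 0) (hc : c + σ c = 0) : InT σ (tv σ z c) :=
  ⟨tvGL σ z c hz, tvGL_mem σ z c hz hc, rfl⟩

/-- conjugating a transvection by a unitary matrix -/
theorem conj_mem_TG (g : GL (Fin n) F) (hg : g ∈ UG σ n) (t : GL (Fin n) F) (ht : t ∈ TG σ n) :
    g * t * g⁻¹ ∈ TG σ n := by
  have hle : TG σ n ≤ (TG σ n).comap (MulAut.conj g).toMonoidHom := by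
    unfold TG
    rw [Subgroup.closure_le]
    rintro s ⟨z, c, hz, hc, hs⟩
    show g * s * g⁻¹ ∈ Subgroup.closure {g : GL (Fin n) F | ∃ (z : Fin n → F) (c : F), hf σ z z = 0 ∧
      c + σ c = 0 ∧ (g : Matrix (Fin n) (Fin n) F) = tv σ z c}
    apply Subgroup.subset_closure
    refine ⟨(g : Matrix (Fin n) (Fin n) F) *ᵥ z, c, ?_, hc, ?_⟩
    · rw [hg, hz]
    · have h1 : (g : Matrix (Fin n) (Fin n) F) * tv σ z c =
          tv σ ((g : Matrix (Fin n) (Fin n) F) *ᵥ z) c * (g : Matrix (Fin n) (Fin n) F) := by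
        apply Matrix.toLin'.injective
        apply LinearMap.ext
        intro x
        rw [Matrix.toLin'_apply, Matrix.toLin'_apply, ← mulVec_mulVec, ← mulVec_mulVec, tv_mulVec,
          tv_mulVec, hg, mulVec_add, mulVec_smul]
      rw [Units.val_mul, Units.val_mul, hs, h1, Matrix.mul_assoc, ← Units.val_mul, mul_inv_cancel,
        Units.val_one, Matrix.mul_one]
  exact hle ht

/-- the orbit relation of `TG` on vectors -/
def Rel (u u' : Fin n → F) : Prop :=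
  ∃ t ∈ TG σ n, (t : Matrix (Fin n) (Fin n) F) *ᵥ u = u'

theorem Rel.refl (u : Fin n → F) : Rel σ u u := ⟨1, Subgroup.one_mem _, by simp⟩

variable {σ}

theorem Rel.symm {u u' : Fin n → F} (h : Rel σ u u') : Rel σ u' u := by
  obtain ⟨t, ht, rfl⟩ := h
  refine ⟨t⁻¹, Subgroup.inv_mem _ ht, ?_⟩
  rw [mulVec_mulVec, ← Units.val_mul, inv_mul_cancel, Units.val_one, one_mulVec]

theorem Rel.trans {u u' u'' : Fin n → F} (h : Rel σ u u') (h' : Rel σ u' u'') : Rel σ u u'' := by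
  obtain ⟨t, ht, rfl⟩ := h
  obtain ⟨s, hs, rfl⟩ := h'
  refine ⟨s * t, Subgroup.mul_mem _ hs ht, ?_⟩
  rw [Units.val_mul, mulVec_mulVec]

theorem Rel.smul {u u' : Fin n → F} (h : Rel σ u u') (l : F) : Rel σ (l • u) (l • u') := by
  obtain ⟨t, ht, rfl⟩ := h
  exact ⟨t, ht, by rw [mulVec_smul]⟩

variable (σ)

/-- the basic step: a single transvection moving `u` to `u'`. -/
theorem rel_of_step (hσ2 : ∀ a, σ (σ a) = a) (u u' : Fin n → F) (hu : hf σ u u = 0)
    (hu' : hf σ u' u' = 0) (hd : hf σ u u' ≠ 0) (hd0 : hf σ u u' + σ (hf σ u u') = 0) :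
    Rel σ u u' := by
  set d := hf σ u u' with hdd
  have hu'u : hf σ u' u = σ d := hf_symm σ hσ2 u' u
  have hz : hf σ (u' - u) (u' - u) = 0 := by
    rw [hf_sub_left, hf_sub_right, hf_sub_right, hu, hu', hu'u, ← hdd]
    linear_combination (-1 : F) * hd0
  have hc : d⁻¹ + σ d⁻¹ = 0 := by
    have : σ d = -d := by linear_combination hd0
    rw [map_inv₀, this, inv_neg, add_neg_cancel]
  refine ⟨tvGL σ (u' - u) d⁻¹ hz, tvGL_mem σ _ _ hz hc, ?_⟩
  show tv σ (u' - u) d⁻¹ *ᵥ u = u'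
  rw [tv_mulVec, hf_sub_right, hu, sub_zero, ← hdd, inv_mul_cancel₀ hd, one_smul]
  abel

end groups

section geom
variable {F : Type*} [Field F] (σ : F →+* F) {n : ℕ}

theorem map_ne_zero_of_invol (hσ2 : ∀ a, σ (σ a) = a) {a : F} (ha : a ≠ 0) : σ a ≠ 0 := by
  intro h
  apply ha
  have := congrArg σ h
  rwa [hσ2, map_zero] at this

theorem exists_trace_zero_ne (hσ : σ ≠ RingHom.id F) (hσ2 : ∀ a, σ (σ a) = a) :
    ∃ ε : F, ε ≠ 0 ∧ ε + σ ε = 0 := by
  obtain ⟨t, ht⟩ : ∃ t : F, σ t ≠ t := by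
    by_contra hcon
    push Not at hcon
    exact hσ (RingHom.ext hcon)
  refine ⟨t - σ t, fun h => ht (sub_eq_zero.mp h).symm, ?_⟩
  rw [map_sub, hσ2]
  ring

theorem hf_self_fixed (hσ2 : ∀ a, σ (σ a) = a) (x : Fin n → F) : σ (hf σ x x) = hf σ x x :=
  (hf_symm σ hσ2 x x).symm

theorem exists_hf_ne_zero (hσ2 : ∀ a, σ (σ a) = a) (u : Fin n → F) (hu : u ≠ 0) :
    ∃ y : Fin n → F, hf σ y u ≠ 0 := by
  obtain ⟨i, hi⟩ : ∃ i, u i ≠ 0 := by
    by_contra hcon
    push Not at hcon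
    exact hu (funext hcon)
  exact ⟨Pi.single i 1, by rw [hf_single_left]; exact map_ne_zero_of_invol σ hσ2 hi⟩

/-- hyperbolic pairs -/
structure HP (u v : Fin n → F) : Prop where
  uu : hf σ u u = 0
  vv : hf σ v v = 0
  vu : hf σ v u = 1

variable {σ}

theorem HP.uv {u v : Fin n → F} (h : HP σ u v) (hσ2 : ∀ a, σ (σ a) = a) : hf σ u v = 1 := by
  rw [hf_symm σ hσ2, h.vu, map_one]

theorem HP.symm {u v : Fin n → F} (h : HP σ u v) (hσ2 : ∀ a, σ (σ a) = a) : HP σ v u :=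
  ⟨h.vv, h.uu, h.uv hσ2⟩

theorem HP.ne_zero {u v : Fin n → F} (h : HP σ u v) : u ≠ 0 := by
  rintro rfl
  have := h.vu
  rw [hf_zero_right] at this
  exact zero_ne_one this

variable (σ)

/-- component orthogonal to a hyperbolic pair -/
def pr (u v x : Fin n → F) : Fin n → F := x - hf σ x v • u - hf σ x u • v

theorem pr_eq (u v x : Fin n → F) : x = hf σ x v • u + hf σ x u • v + pr σ u v x := by
  unfold pr; abel

theorem hf_pr_u {u v : Fin n → F} (h : HP σ u v) (x : Fin n → F) :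
    hf σ (pr σ u v x) u = 0 := by
  unfold pr
  rw [hf_sub_left, hf_sub_left, hf_smul_left, hf_smul_left, h.uu, h.vu]
  ring

theorem hf_pr_v (hσ2 : ∀ a, σ (σ a) = a) {u v : Fin n → F} (h : HP σ u v) (x : Fin n → F) :
    hf σ (pr σ u v x) v = 0 := by
  unfold pr
  rw [hf_sub_left, hf_sub_left, hf_smul_left, hf_smul_left, h.vv, h.uv hσ2]
  ring

theorem hf_pr_left (hσ2 : ∀ a, σ (σ a) = a) {u v : Fin n → F} (x y : Fin n → F)
    (hyu : hf σ y u = 0) (hyv : hf σ y v = 0) : hf σ (pr σ u v x) y = hf σ x y := by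
  have h1 : hf σ u y = 0 := by rw [hf_symm σ hσ2, hyu, map_zero]
  have h2 : hf σ v y = 0 := by rw [hf_symm σ hσ2, hyv, map_zero]
  unfold pr
  rw [hf_sub_left, hf_sub_left, hf_smul_left, hf_smul_left, h1, h2]
  ring

theorem pr_of_perp {u v : Fin n → F} (y : Fin n → F)
    (hyu : hf σ y u = 0) (hyv : hf σ y v = 0) : pr σ u v y = y := by
  unfold pr
  rw [hyu, hyv, zero_smul, zero_smul, sub_zero, sub_zero]

/-- completing an isotropic vector to a hyperbolic pair inside the span of `y₀` and `u` -/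
theorem exists_partner (hσ : σ ≠ RingHom.id F) (hσ2 : ∀ a, σ (σ a) = a) (u y₀ : Fin n → F)
    (hu : hf σ u u = 0) (h : hf σ y₀ u ≠ 0) : ∃ a b : F, HP σ u (a • y₀ + b • u) := by
  set a := (hf σ y₀ u)⁻¹ with ha
  obtain ⟨y₁, hy₁⟩ : ∃ y₁, y₁ = a • y₀ := ⟨_, rfl⟩
  have h1 : hf σ y₁ u = 1 := by rw [hy₁, hf_smul_left, ha, inv_mul_cancel₀ h]
  have h1' : hf σ u y₁ = 1 := by rw [hf_symm σ hσ2, h1, map_one]
  obtain ⟨b, hb⟩ := trace_surj σ hσ hσ2 (-(hf σ y₁ y₁)) (by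
    rw [map_neg, hf_self_fixed σ hσ2])
  refine ⟨a, b, hu, ?_, ?_⟩
  · rw [← hy₁]
    simp only [hf_add_left, hf_add_right, hf_smul_left, hf_smul_right, hu, h1, h1']
    linear_combination hb
  · rw [← hy₁, hf_add_left, h1, hf_smul_left, hu]
    ring

theorem exists_HP_of_isotropic (hσ : σ ≠ RingHom.id F) (hσ2 : ∀ a, σ (σ a) = a) (u : Fin n → F)
    (hu0 : u ≠ 0) (hu : hf σ u u = 0) : ∃ v, HP σ u v := by
  obtain ⟨y, hy⟩ := exists_hf_ne_zero σ hσ2 u hu0
  obtain ⟨a, b, h⟩ := exists_partner σ hσ hσ2 u y hu hy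
  exact ⟨_, h⟩

/-- a hyperbolic pair exists in dimension at least two -/
theorem exists_HP [Finite F] (hσ : σ ≠ RingHom.id F) (hσ2 : ∀ a, σ (σ a) = a) (hn : 2 ≤ n) :
    ∃ u v : Fin n → F, HP σ u v := by
  obtain ⟨η, hη⟩ := Cfsg.Agent.Lib.Helper36.exists_mul_map_eq σ hσ hσ2 (-1) (by
    rw [map_neg, map_one])
  set i0 : Fin n := ⟨0, by omega⟩ with hi0
  set i1 : Fin n := ⟨1, by omega⟩ with hi1
  have h01 : i0 ≠ i1 := by
    intro h; rw [Fin.ext_iff] at h; simp [hi0, hi1] at h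
  set u : Fin n → F := Pi.single i0 1 + η • Pi.single i1 1 with hu
  have huu : hf σ u u = 0 := by
    rw [hu]
    simp only [hf_add_left, hf_add_right, hf_smul_left, hf_smul_right, hf_single_single,
      if_neg h01, if_neg (Ne.symm h01), if_true]
    linear_combination hη
  have hu0 : u ≠ 0 := by
    intro h
    have := congrFun h i0
    simp [hu, Pi.single_eq_of_ne h01] at this
  obtain ⟨v, hv⟩ := exists_HP_of_isotropic σ hσ hσ2 u hu0 huu
  exact ⟨u, v, hv⟩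

theorem le_of_span_top {k : ℕ} (b : Fin k → (Fin n → F))
    (h : ∀ y, y ∈ Submodule.span F (Set.range b)) : n ≤ k := by
  have h1 : Submodule.span F (Set.range b) = ⊤ := by
    rw [Submodule.eq_top_iff']; exact h
  have h2 := finrank_range_le_card (R := F) b
  unfold Set.finrank at h2
  rw [h1, finrank_top, Module.finrank_fin_fun, Fintype.card_fin] at h2
  exact h2

theorem le_of_linearIndependent {k : ℕ} (b : Fin k → (Fin n → F))
    (h : LinearIndependent F b) : k ≤ n := by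
  have := h.fintype_card_le_finrank
  rwa [Fintype.card_fin, Module.finrank_fin_fun] at this

/-- in dimension `≥ 3` there is an anisotropic vector orthogonal to a hyperbolic pair -/
theorem exists_aniso_perp (hσ : σ ≠ RingHom.id F) (hσ2 : ∀ a, σ (σ a) = a) (hn : 3 ≤ n)
    {u v : Fin n → F} (h : HP σ u v) :
    ∃ x : Fin n → F, hf σ x u = 0 ∧ hf σ x v = 0 ∧ hf σ x x ≠ 0 := by
  obtain ⟨y, hy⟩ : ∃ y, pr σ u v y ≠ 0 := by
    by_contra hcon
    push Not at hcon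
    have : n ≤ 2 := by
      apply le_of_span_top ![u, v]
      intro y
      have h1 := pr_eq σ u v y
      rw [hcon y, add_zero] at h1
      rw [h1]
      apply Submodule.add_mem
      · apply Submodule.smul_mem
        apply Submodule.subset_span
        exact ⟨0, rfl⟩
      · apply Submodule.smul_mem
        apply Submodule.subset_span
        exact ⟨1, rfl⟩
    omega
  obtain ⟨y₀, hy₀⟩ : ∃ y₀, y₀ = pr σ u v y := ⟨_, rfl⟩
  have hy₀u : hf σ y₀ u = 0 := by rw [hy₀]; exact hf_pr_u σ h y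
  have hy₀v : hf σ y₀ v = 0 := by rw [hy₀]; exact hf_pr_v σ hσ2 h y
  rw [← hy₀] at hy
  by_cases h00 : hf σ y₀ y₀ = 0
  swap
  · exact ⟨y₀, hy₀u, hy₀v, h00⟩
  obtain ⟨y₁, hy₁⟩ := exists_hf_ne_zero σ hσ2 y₀ hy
  obtain ⟨y₂, hy₂⟩ : ∃ y₂, y₂ = pr σ u v y₁ := ⟨_, rfl⟩
  have hy₂u : hf σ y₂ u = 0 := by rw [hy₂]; exact hf_pr_u σ h y₁
  have hy₂v : hf σ y₂ v = 0 := by rw [hy₂]; exact hf_pr_v σ hσ2 h y₁
  have hd : hf σ y₂ y₀ ≠ 0 := by
    rw [hy₂, hf_pr_left σ hσ2 y₁ y₀ hy₀u hy₀v]; exact hy₁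
  by_cases h22 : hf σ y₂ y₂ = 0
  swap
  · exact ⟨y₂, hy₂u, hy₂v, h22⟩
  obtain ⟨c₀, hc₀⟩ := trace_surj σ hσ hσ2 1 (map_one σ)
  set d := hf σ y₂ y₀ with hdd
  have hσd : σ d ≠ 0 := map_ne_zero_of_invol σ hσ2 hd
  have hd' : hf σ y₀ y₂ = σ d := hf_symm σ hσ2 y₀ y₂
  refine ⟨y₂ + (c₀ / σ d) • y₀, ?_, ?_, ?_⟩
  · rw [hf_add_left, hf_smul_left, hy₂u, hy₀u]; ring
  · rw [hf_add_left, hf_smul_left, hy₂v, hy₀v]; ring
  · simp only [hf_add_left, hf_add_right, hf_smul_left, hf_smul_right, h00, h22, hd', ← hdd,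
      map_div₀, hσ2]
    have : c₀ / σ d * σ d + σ c₀ / d * d = 1 := by
      rw [div_mul_cancel₀ _ hσd, div_mul_cancel₀ _ hd]; exact hc₀
    intro hcon
    apply one_ne_zero (α := F)
    rw [← this]
    linear_combination hcon

/-- either the orthogonal complement of a hyperbolic pair contains a non-zero isotropic vector,
or it is the line spanned by `x`. -/
theorem isotropic_or_line [Finite F] (hσ : σ ≠ RingHom.id F) (hσ2 : ∀ a, σ (σ a) = a)
    {u v : Fin n → F} (x : Fin n → F) (hxu : hf σ x u = 0) (hxv : hf σ x v = 0)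
    (hxx : hf σ x x ≠ 0) :
    (∃ e : Fin n → F, e ≠ 0 ∧ hf σ e u = 0 ∧ hf σ e v = 0 ∧ hf σ e e = 0) ∨
      (∀ y : Fin n → F, hf σ y u = 0 → hf σ y v = 0 → y = (hf σ y x / hf σ x x) • x) := by
  by_cases hline : ∀ y : Fin n → F, hf σ y u = 0 → hf σ y v = 0 → y = (hf σ y x / hf σ x x) • x
  · exact Or.inr hline
  left
  push Not at hline
  obtain ⟨y, hyu, hyv, hy⟩ := hline
  set a := hf σ x x with ha
  obtain ⟨y', hy'⟩ : ∃ y', y' = y - (hf σ y x / a) • x := ⟨_, rfl⟩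
  have hy'0 : y' ≠ 0 := by
    intro h0
    apply hy
    rw [hy', sub_eq_zero] at h0
    exact h0
  have hy'u : hf σ y' u = 0 := by rw [hy', hf_sub_left, hf_smul_left, hyu, hxu]; ring
  have hy'v : hf σ y' v = 0 := by rw [hy', hf_sub_left, hf_smul_left, hyv, hxv]; ring
  have hy'x : hf σ y' x = 0 := by
    rw [hy', hf_sub_left, hf_smul_left, ← ha, div_mul_cancel₀ _ hxx, sub_self]
  have hxy' : hf σ x y' = 0 := by rw [hf_symm σ hσ2, hy'x, map_zero]
  by_cases hb : hf σ y' y' = 0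
  · exact ⟨y', hy'0, hy'u, hy'v, hb⟩
  set b := hf σ y' y' with hbb
  have hσa : σ a = a := hf_self_fixed σ hσ2 x
  have hσb : σ b = b := hf_self_fixed σ hσ2 y'
  obtain ⟨γ, hγ⟩ := Cfsg.Agent.Lib.Helper36.exists_mul_map_eq σ hσ hσ2 (-a / b) (by
    rw [map_div₀, map_neg, hσa, hσb])
  refine ⟨x + γ • y', ?_, ?_, ?_, ?_⟩
  · intro h0
    have h1 : hf σ (x + γ • y') x = a := by
      rw [hf_add_left, hf_smul_left, hy'x, mul_zero, add_zero]
    rw [h0, hf_zero_left] at h1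
    exact hxx h1.symm
  · rw [hf_add_left, hf_smul_left, hxu, hy'u]; ring
  · rw [hf_add_left, hf_smul_left, hxv, hy'v]; ring
  · simp only [hf_add_left, hf_add_right, hf_smul_left, hf_smul_right, hy'x, hxy', ← ha, ← hbb]
    have : γ * σ γ * b = -a := by rw [hγ, div_mul_cancel₀ _ hb]
    linear_combination this

/-- in dimension `≥ 4` the orthogonal complement of a hyperbolic pair contains a non-zero isotropic
vector -/
theorem exists_isotropic_perp [Finite F] (hσ : σ ≠ RingHom.id F) (hσ2 : ∀ a, σ (σ a) = a)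
    (hn : 4 ≤ n) {u v : Fin n → F} (h : HP σ u v) :
    ∃ e : Fin n → F, e ≠ 0 ∧ hf σ e u = 0 ∧ hf σ e v = 0 ∧ hf σ e e = 0 := by
  obtain ⟨x, hxu, hxv, hxx⟩ := exists_aniso_perp σ hσ hσ2 (by omega) h
  rcases isotropic_or_line σ hσ hσ2 x hxu hxv hxx with h1 | h1
  · exact h1
  exfalso
  have : n ≤ 3 := by
    apply le_of_span_top ![u, v, x]
    intro y
    have h2 := pr_eq σ u v y
    have h3 := h1 _ (hf_pr_u σ h y) (hf_pr_v σ hσ2 h y)
    rw [h3] at h2
    rw [h2]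
    apply Submodule.add_mem
    · apply Submodule.add_mem
      · apply Submodule.smul_mem
        apply Submodule.subset_span
        exact ⟨0, rfl⟩
      · apply Submodule.smul_mem
        apply Submodule.subset_span
        exact ⟨1, rfl⟩
    · apply Submodule.smul_mem
      apply Submodule.subset_span
      exact ⟨2, rfl⟩
  omega

end geom

section trans
variable {F : Type*} [Field F] (σ : F →+* F) {n : ℕ}

theorem rel_partner_eps (hσ2 : ∀ a, σ (σ a) = a) {u v : Fin n → F} (h : HP σ u v) (ε : F)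
    (hε : ε ≠ 0) (hε0 : ε + σ ε = 0) : Rel σ u (ε • v) := by
  apply rel_of_step σ hσ2 u (ε • v) h.uu
  · rw [hf_smul_left, hf_smul_right, h.vv]; ring
  · rw [hf_smul_right, h.uv hσ2, mul_one]; exact map_ne_zero_of_invol σ hσ2 hε
  · rw [hf_smul_right, h.uv hσ2, mul_one, hσ2]; linear_combination hε0

/-- scalar multiples of an isotropic vector lie in one orbit -/
theorem rel_smul_self [Finite F] (hσ : σ ≠ RingHom.id F) (hσ2 : ∀ a, σ (σ a) = a)
    {u v : Fin n → F} (h : HP σ u v) (x : Fin n → F) (hxu : hf σ x u = 0) (hxv : hf σ x v = 0)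
    (hxx : hf σ x x ≠ 0) (l : F) (hl : l ≠ 0) : Rel σ u (l • u) := by
  obtain ⟨ε, hε, hε0⟩ := exists_trace_zero_ne σ hσ hσ2
  have hσl : σ l ≠ 0 := map_ne_zero_of_invol σ hσ2 hl
  have hux : hf σ u x = 0 := by rw [hf_symm σ hσ2, hxu, map_zero]
  have hvx : hf σ v x = 0 := by rw [hf_symm σ hσ2, hxv, map_zero]
  set a := hf σ x x with ha
  have hσa : σ a = a := hf_self_fixed σ hσ2 x
  set β := ε / σ l with hβ
  obtain ⟨γ, hγ⟩ := Cfsg.Agent.Lib.Helper36.exists_mul_map_eq σ hσ hσ2 (-(β + σ β) / a) (by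
    rw [map_div₀, map_neg, map_add, hσ2, hσa, add_comm])
  have hγ' : γ * σ γ * a = -(β + σ β) := by rw [hγ, div_mul_cancel₀ _ hxx]
  obtain ⟨z, hz⟩ : ∃ z, z = u + β • v + γ • x := ⟨_, rfl⟩
  have hzz : hf σ z z = 0 := by
    rw [hz]
    simp only [hf_add_left, hf_add_right, hf_smul_left, hf_smul_right, h.uu, h.vv, h.vu,
      h.uv hσ2, hxu, hxv, hux, hvx, ← ha]
    linear_combination hγ'
  have hvz : hf σ v z = 1 := by
    rw [hz]
    simp only [hf_add_right, hf_smul_right, h.vv, h.vu, hvx]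
    ring
  have hzu : hf σ z u = β := by
    rw [hz]
    simp only [hf_add_left, hf_smul_left, h.uu, h.vu, hxu]
    ring
  have h1 : Rel σ u (ε • v) := rel_partner_eps σ hσ2 h ε hε hε0
  have hεv : hf σ (ε • v) (ε • v) = 0 := by rw [hf_smul_left, hf_smul_right, h.vv]; ring
  have h2 : Rel σ (ε • v) z := by
    apply rel_of_step σ hσ2 _ _ hεv hzz
    · rw [hf_smul_left, hvz, mul_one]; exact hε
    · rw [hf_smul_left, hvz, mul_one]; exact hε0
  have h3 : Rel σ z (l • u) := by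
    apply rel_of_step σ hσ2 _ _ hzz
    · rw [hf_smul_left, hf_smul_right, h.uu]; ring
    · rw [hf_smul_right, hzu, hβ, mul_div_cancel₀ _ hσl]; exact hε
    · rw [hf_smul_right, hzu, hβ, mul_div_cancel₀ _ hσl]; exact hε0
  exact (h1.trans h2).trans h3

theorem rel_smul_partner [Finite F] (hσ : σ ≠ RingHom.id F) (hσ2 : ∀ a, σ (σ a) = a)
    {u v : Fin n → F} (h : HP σ u v) (x : Fin n → F) (hxu : hf σ x u = 0) (hxv : hf σ x v = 0)
    (hxx : hf σ x x ≠ 0) (m : F) (hm : m ≠ 0) : Rel σ u (m • v) := by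
  obtain ⟨ε, hε, hε0⟩ := exists_trace_zero_ne σ hσ hσ2
  have h1 : Rel σ u (ε • v) := rel_partner_eps σ hσ2 h ε hε hε0
  have h2 : Rel σ v ((m / ε) • v) :=
    rel_smul_self σ hσ hσ2 (h.symm hσ2) x hxv hxu hxx (m / ε) (div_ne_zero hm hε)
  have h3 := h2.smul ε
  rw [smul_smul, mul_div_cancel₀ _ hε] at h3
  exact h1.trans h3

theorem rel_of_not_perp [Finite F] (hσ : σ ≠ RingHom.id F) (hσ2 : ∀ a, σ (σ a) = a) (hn : 3 ≤ n)
    (u u' : Fin n → F) (hu : hf σ u u = 0) (hu' : hf σ u' u' = 0) (hne : hf σ u' u ≠ 0) :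
    Rel σ u u' := by
  set m := hf σ u' u with hm
  have hHP : HP σ u (m⁻¹ • u') := by
    refine ⟨hu, ?_, ?_⟩
    · rw [hf_smul_left, hf_smul_right, hu']; ring
    · rw [hf_smul_left, ← hm, inv_mul_cancel₀ hne]
  obtain ⟨x, hxu, hxv, hxx⟩ := exists_aniso_perp σ hσ hσ2 hn hHP
  have := rel_smul_partner σ hσ hσ2 hHP x hxu hxv hxx m hne
  rwa [smul_smul, mul_inv_cancel₀ hne, one_smul] at this

/-- `TG` is transitive on non-zero isotropic vectors in dimension `≥ 3`. -/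
theorem rel_isotropic [Finite F] (hσ : σ ≠ RingHom.id F) (hσ2 : ∀ a, σ (σ a) = a) (hn : 3 ≤ n)
    (u u' : Fin n → F) (hu0 : u ≠ 0) (hu0' : u' ≠ 0) (hu : hf σ u u = 0) (hu' : hf σ u' u' = 0) :
    Rel σ u u' := by
  by_cases hne : hf σ u' u ≠ 0
  · exact rel_of_not_perp σ hσ hσ2 hn u u' hu hu' hne
  push Not at hne
  have hne' : hf σ u u' = 0 := by rw [hf_symm σ hσ2, hne, map_zero]
  obtain ⟨v, hv⟩ := exists_HP_of_isotropic σ hσ hσ2 u hu0 hu
  by_cases hvu' : hf σ v u' ≠ 0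
  · have h1 : Rel σ u v := rel_of_not_perp σ hσ hσ2 hn u v hu hv.vv (by rw [hv.vu]; exact one_ne_zero)
    have h2 : Rel σ v u' := rel_of_not_perp σ hσ hσ2 hn v u' hv.vv hu' (by
      rw [hf_symm σ hσ2]; exact map_ne_zero_of_invol σ hσ2 hvu')
    exact h1.trans h2
  push Not at hvu'
  have hu'v : hf σ u' v = 0 := by rw [hf_symm σ hσ2, hvu', map_zero]
  obtain ⟨y₁, hy₁⟩ := exists_hf_ne_zero σ hσ2 u' hu0'
  obtain ⟨y₂, hy₂⟩ : ∃ y₂, y₂ = pr σ u v y₁ := ⟨_, rfl⟩
  have hy₂u : hf σ y₂ u = 0 := by rw [hy₂]; exact hf_pr_u σ hv y₁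
  have hy₂v : hf σ y₂ v = 0 := by rw [hy₂]; exact hf_pr_v σ hσ2 hv y₁
  have hd : hf σ y₂ u' ≠ 0 := by
    rw [hy₂, hf_pr_left σ hσ2 y₁ u' hne hu'v]; exact hy₁
  obtain ⟨a, b, hab⟩ := exists_partner σ hσ hσ2 u' y₂ hu' hd
  obtain ⟨y, hy⟩ : ∃ y, y = a • y₂ + b • u' := ⟨_, rfl⟩
  rw [← hy] at hab
  have hyu : hf σ y u = 0 := by rw [hy, hf_add_left, hf_smul_left, hf_smul_left, hy₂u, hne]; ring
  have hyv : hf σ y v = 0 := by rw [hy, hf_add_left, hf_smul_left, hf_smul_left, hy₂v, hu'v]; ring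
  have hvy : hf σ v y = 0 := by rw [hf_symm σ hσ2, hyv, map_zero]
  have hww : hf σ (v + y) (v + y) = 0 := by
    simp only [hf_add_left, hf_add_right, hv.vv, hab.vv, hyv, hvy]; ring
  have h1 : Rel σ u (v + y) := rel_of_not_perp σ hσ hσ2 hn u (v + y) hu hww (by
    rw [hf_add_left, hv.vu, hyu, add_zero]; exact one_ne_zero)
  have h2 : Rel σ (v + y) u' := rel_of_not_perp σ hσ hσ2 hn (v + y) u' hww hu' (by
    rw [hf_add_right, hu'v, hab.uv hσ2, zero_add]; exact one_ne_zero)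
  exact h1.trans h2

end trans

section siegel
variable {F : Type*} [Field F] (σ : F →+* F) {n : ℕ}

theorem sieg_zero (v : Fin n → F) : sieg σ v 0 0 = 1 := by
  unfold sieg
  have h2 : (σ ∘ (0 : Fin n → F)) = 0 := funext fun j => map_zero σ
  rw [h2, Matrix.vecMulVec_zero, sub_zero, zero_smul, add_zero, Matrix.zero_vecMulVec, add_zero]

theorem hf_neg_left (u v : Fin n → F) : hf σ (-u) v = -hf σ u v := by
  simp [hf]

theorem sieg_mul_inv (hσ2 : ∀ a, σ (σ a) = a) (u w : Fin n → F) (β : F) (hu : hf σ u u = 0)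
    (hw : hf σ w u = 0) (hβ : β + σ β + hf σ w w = 0) :
    sieg σ u w β * sieg σ u (-w) (σ β) = 1 := by
  rw [sieg_mul σ hσ2 u w (-w) β (σ β) hu hw (by rw [hf_neg_left, hw, neg_zero]), add_neg_cancel,
    hf_neg_left, sub_neg_eq_add, hβ, sieg_zero]

/-- a Siegel element as an element of `GL` -/
def siegGL (hσ2 : ∀ a, σ (σ a) = a) (u w : Fin n → F) (β : F) (hu : hf σ u u = 0)
    (hw : hf σ w u = 0) (hβ : β + σ β + hf σ w w = 0) : GL (Fin n) F :=
  ⟨sieg σ u w β, sieg σ u (-w) (σ β), sieg_mul_inv σ hσ2 u w β hu hw hβ, by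
    have := sieg_mul_inv σ hσ2 u (-w) (σ β) hu (by rw [hf_neg_left, hw, neg_zero]) (by
      rw [hσ2, hf_neg_left]
      have : hf σ w (-w) = -hf σ w w := by
        rw [hf_symm σ hσ2, hf_neg_left, map_neg, ← hf_symm σ hσ2]
      rw [this]
      linear_combination hβ)
    rwa [neg_neg, hσ2] at this⟩

theorem siegGL_mem_UG (hσ2 : ∀ a, σ (σ a) = a) (u w : Fin n → F) (β : F) (hu : hf σ u u = 0)
    (hw : hf σ w u = 0) (hβ : β + σ β + hf σ w w = 0) :
    siegGL σ hσ2 u w β hu hw hβ ∈ UG σ n := by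
  intro x y
  exact sieg_preserves σ hσ2 u w β hu hw hβ x y

/-- all Siegel elements `sieg u w β` (for the given `u`, `w`) lie in `TG` -/
def Good (u w : Fin n → F) : Prop :=
  hf σ w u = 0 ∧ ∀ β, β + σ β + hf σ w w = 0 → InT σ (sieg σ u w β)

theorem good_add (hσ : σ ≠ RingHom.id F) (hσ2 : ∀ a, σ (σ a) = a) {u w₁ w₂ : Fin n → F}
    (hu : hf σ u u = 0) (h₁ : Good σ u w₁) (h₂ : Good σ u w₂) : Good σ u (w₁ + w₂) := by
  refine ⟨by rw [hf_add_left, h₁.1, h₂.1, add_zero], fun β hβ => ?_⟩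
  obtain ⟨β₁, hβ₁⟩ := trace_surj σ hσ hσ2 (-(hf σ w₁ w₁)) (by rw [map_neg, hf_self_fixed σ hσ2])
  have h21 : σ (hf σ w₂ w₁) = hf σ w₁ w₂ := (hf_symm σ hσ2 w₁ w₂).symm
  have hβ₂ : (β - β₁ + hf σ w₂ w₁) + σ (β - β₁ + hf σ w₂ w₁) + hf σ w₂ w₂ = 0 := by
    simp only [hf_add_left, hf_add_right] at hβ
    rw [map_add, map_sub, h21]
    linear_combination hβ - hβ₁
  have h := (h₁.2 β₁ (by linear_combination hβ₁)).mul σ (h₂.2 _ hβ₂)
  rw [sieg_mul σ hσ2 u w₁ w₂ _ _ hu h₁.1 h₂.1] at h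
  have : β₁ + (β - β₁ + hf σ w₂ w₁) - hf σ w₂ w₁ = β := by ring
  rwa [this] at h

theorem good_of_one (hσ2 : ∀ a, σ (σ a) = a) {u w : Fin n → F} (hu : hf σ u u = 0)
    (hw : hf σ w u = 0) (β₀ : F) (hβ₀ : β₀ + σ β₀ + hf σ w w = 0) (h : InT σ (sieg σ u w β₀)) :
    Good σ u w := by
  refine ⟨hw, fun β hβ => ?_⟩
  have hδ : (β - β₀) + σ (β - β₀) = 0 := by
    rw [map_sub]; linear_combination hβ - hβ₀
  have h1 : InT σ (sieg σ u 0 (β - β₀)) := InT.tv σ u (β - β₀) hu hδ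
  have h2 := h1.mul σ h
  rw [sieg_mul σ hσ2 u 0 w _ _ hu (hf_zero_left σ u) hw, zero_add, hf_zero_right, sub_zero,
    sub_add_cancel] at h2
  exact h2

/-- Siegel elements with isotropic `w` are products of three transvections -/
theorem good_of_isotropic (hσ : σ ≠ RingHom.id F) (hσ2 : ∀ a, σ (σ a) = a) {u w : Fin n → F}
    (hu : hf σ u u = 0) (hw : hf σ w u = 0) (hww : hf σ w w = 0) : Good σ u w := by
  refine ⟨hw, fun β hβ => ?_⟩
  rw [hww, add_zero] at hβ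
  obtain ⟨c, hc, hc0⟩ := exists_trace_zero_ne σ hσ hσ2
  have hσc : σ c = -c := by linear_combination hc0
  have huw : hf σ u w = 0 := by rw [hf_symm σ hσ2, hw, map_zero]
  have hci : c⁻¹ + σ c⁻¹ = 0 := by rw [map_inv₀, hσc, inv_neg, add_neg_cancel]
  have hz : hf σ (u + c⁻¹ • w) (u + c⁻¹ • w) = 0 := by
    simp only [hf_add_left, hf_add_right, hf_smul_left, hf_smul_right, hu, hw, huw, hww]
    ring
  have hβc : (β - c) + σ (β - c) = 0 := by
    rw [map_sub]; linear_combination hβ - hc0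
  have hprod : sieg σ u w β = tv σ u (β - c) * (tv σ w c⁻¹ * tv σ (u + c⁻¹ • w) c) := by
    apply Matrix.toLin'.injective
    apply LinearMap.ext
    intro x
    rw [Matrix.toLin'_apply, Matrix.toLin'_apply, ← mulVec_mulVec, ← mulVec_mulVec, tv_mulVec,
      tv_mulVec, tv_mulVec, sieg_mulVec]
    simp only [hf_add_left, hf_add_right, hf_smul_left, hf_smul_right, hu, hw, huw, hww, map_inv₀,
      hσc]
    ext i
    simp only [Pi.add_apply, Pi.sub_apply, Pi.smul_apply, smul_eq_mul]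
    field_simp
    ring
  rw [hprod]
  exact (InT.tv σ u _ hu hβc).mul σ ((InT.tv σ w _ hww hci).mul σ (InT.tv σ _ c hz hc0))

theorem good_smul_self (hσ : σ ≠ RingHom.id F) (hσ2 : ∀ a, σ (σ a) = a) {u : Fin n → F}
    (hu : hf σ u u = 0) (a : F) : Good σ u (a • u) :=
  good_of_isotropic σ hσ hσ2 hu (by rw [hf_smul_left, hu, mul_zero])
    (by rw [hf_smul_left, hf_smul_right, hu]; ring)

/-- if the complement of the hyperbolic pair `(u,v)` contains a hyperbolic pair, all Siegel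
elements at `u` are in `TG`. -/
theorem good_of_HP_perp (hσ : σ ≠ RingHom.id F) (hσ2 : ∀ a, σ (σ a) = a) {u v e f : Fin n → F}
    (h : HP σ u v) (h' : HP σ e f) (heu : hf σ e u = 0) (hfu : hf σ f u = 0)
    (w : Fin n → F) (hw : hf σ w u = 0) : Good σ u w := by
  obtain ⟨w₀, hw₀⟩ : ∃ w₀, w₀ = pr σ u v w := ⟨_, rfl⟩
  obtain ⟨wp, hwp⟩ : ∃ wp, wp = pr σ e f w₀ := ⟨_, rfl⟩
  have hw₀u : hf σ w₀ u = 0 := by rw [hw₀]; exact hf_pr_u σ h w
  have hwpe : hf σ wp e = 0 := by rw [hwp]; exact hf_pr_u σ h' w₀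
  have hwpf : hf σ wp f = 0 := by rw [hwp]; exact hf_pr_v σ hσ2 h' w₀
  have hewp : hf σ e wp = 0 := by rw [hf_symm σ hσ2, hwpe, map_zero]
  have hfwp : hf σ f wp = 0 := by rw [hf_symm σ hσ2, hwpf, map_zero]
  have hwpu : hf σ wp u = 0 := by
    rw [hwp]; unfold pr
    rw [hf_sub_left, hf_sub_left, hf_smul_left, hf_smul_left, hw₀u, heu, hfu]; ring
  obtain ⟨α, hα⟩ := trace_surj σ hσ hσ2 (-(hf σ wp wp)) (by rw [map_neg, hf_self_fixed σ hσ2])
  set a := hf σ w₀ f with ha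
  set b := hf σ w₀ e with hb
  obtain ⟨κ, hκ⟩ : ∃ κ, κ = hf σ w v := ⟨_, rfl⟩
  have hdecomp : w = κ • u + (wp + α • e + f) + (a - α) • e + (b - 1) • f := by
    have h1 := pr_eq σ u v w
    have h2 := pr_eq σ e f w₀
    rw [← hw₀, hw, zero_smul, add_zero, ← hκ] at h1
    rw [← hwp, ← ha, ← hb] at h2
    rw [h1, h2]
    module
  rw [hdecomp]
  have g1 : Good σ u (κ • u) := good_smul_self σ hσ hσ2 h.uu _
  have g2 : Good σ u (wp + α • e + f) := by
    apply good_of_isotropic σ hσ hσ2 h.uu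
    · rw [hf_add_left, hf_add_left, hf_smul_left, hwpu, heu, hfu]; ring
    · simp only [hf_add_left, hf_add_right, hf_smul_left, hf_smul_right, hwpe, hwpf, hewp, hfwp,
        h'.uu, h'.vv, h'.vu, h'.uv hσ2]
      linear_combination hα
  have g3 : Good σ u ((a - α) • e) := by
    apply good_of_isotropic σ hσ hσ2 h.uu
    · rw [hf_smul_left, heu, mul_zero]
    · rw [hf_smul_left, hf_smul_right, h'.uu]; ring
  have g4 : Good σ u ((b - 1) • f) := by
    apply good_of_isotropic σ hσ hσ2 h.uu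
    · rw [hf_smul_left, hfu, mul_zero]
    · rw [hf_smul_left, hf_smul_right, h'.vv]; ring
  exact good_add σ hσ hσ2 h.uu (good_add σ hσ hσ2 h.uu (good_add σ hσ hσ2 h.uu g1 g2) g3) g4

/-- Siegel elements act transitively on the partners of `u`. -/
theorem exists_siegel_partner (hσ2 : ∀ a, σ (σ a) = a) {u v v' : Fin n → F} (h : HP σ u v)
    (h' : HP σ u v') (hgood : ∀ w, hf σ w u = 0 → Good σ u w) :
    ∃ t ∈ TG σ n, (t : Matrix (Fin n) (Fin n) F) *ᵥ u = u ∧
      (t : Matrix (Fin n) (Fin n) F) *ᵥ v = v' := by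
  have hwu : hf σ (v' - v) u = 0 := by rw [hf_sub_left, h.vu, h'.vu, sub_self]
  have huw : hf σ u (v' - v) = 0 := by rw [hf_symm σ hσ2, hwu, map_zero]
  have hv'v : hf σ v' v = σ (hf σ v v') := hf_symm σ hσ2 v' v
  have hβ : hf σ v v' + σ (hf σ v v') + hf σ (v' - v) (v' - v) = 0 := by
    simp only [hf_sub_left, hf_sub_right, h.vv, h'.vv, hv'v]
    ring
  obtain ⟨t, ht, htm⟩ := (hgood _ hwu).2 _ hβ
  refine ⟨t, ht, ?_, ?_⟩
  · rw [htm, sieg_mulVec, h.uu, huw, zero_smul, zero_smul, add_zero, sub_zero]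
  · rw [htm, sieg_mulVec, h.vu, one_smul, hf_sub_right, h.vv, sub_zero]
    module

theorem sieg_conj (M : Matrix (Fin n) (Fin n) F)
    (hM : ∀ x y, hf σ (M *ᵥ x) (M *ᵥ y) = hf σ x y) (u w : Fin n → F) (β : F) :
    M * sieg σ u w β = sieg σ (M *ᵥ u) (M *ᵥ w) β * M := by
  apply Matrix.toLin'.injective
  apply LinearMap.ext
  intro x
  rw [Matrix.toLin'_apply, Matrix.toLin'_apply, ← mulVec_mulVec, ← mulVec_mulVec, sieg_mulVec,
    sieg_mulVec, hM, hM]
  simp only [mulVec_add, mulVec_sub, mulVec_smul]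

theorem sieg_smul_center (hσ2 : ∀ a, σ (σ a) = a) (u w : Fin n → F) (β l : F) :
    sieg σ (l • u) w β = sieg σ u (σ l • w) (l * σ l * β) := by
  apply Matrix.toLin'.injective
  apply LinearMap.ext
  intro x
  rw [Matrix.toLin'_apply, Matrix.toLin'_apply, sieg_mulVec, sieg_mulVec]
  simp only [hf_smul_right, hσ2]
  module

/-- the case where the complement of the hyperbolic pair is an anisotropic line
(dimension three), and the field has more than four elements. -/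
theorem good_of_line [Finite F] (hσ : σ ≠ RingHom.id F) (hσ2 : ∀ a, σ (σ a) = a)
    {u v : Fin n → F} (h : HP σ u v) (x : Fin n → F) (hxu : hf σ x u = 0) (hxv : hf σ x v = 0)
    (hxx : hf σ x x ≠ 0)
    (hline : ∀ y : Fin n → F, hf σ y u = 0 → hf σ y v = 0 → y = (hf σ y x / hf σ x x) • x)
    (l : F) (hl : l ≠ 0) (hl1 : l * σ l ≠ 1) (w : Fin n → F) (hw : hf σ w u = 0) :
    Good σ u w := by
  have hσl : σ l ≠ 0 := map_ne_zero_of_invol σ hσ2 hl
  have hux : hf σ u x = 0 := by rw [hf_symm σ hσ2, hxu, map_zero]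
  obtain ⟨t, ht, htu⟩ := rel_smul_self σ hσ hσ2 h x hxu hxv hxx l hl
  have htU : ∀ y z, hf σ ((t : Matrix (Fin n) (Fin n) F) *ᵥ y)
      ((t : Matrix (Fin n) (Fin n) F) *ᵥ z) = hf σ y z := TG_le_UG σ hσ2 ht
  obtain ⟨T, hT⟩ : ∃ T : Matrix (Fin n) (Fin n) F, T = (t : Matrix (Fin n) (Fin n) F) := ⟨_, rfl⟩
  rw [← hT] at htu htU
  set a := hf σ x x with ha
  -- the image of `x`
  have hTxu : hf σ (T *ᵥ x) u = 0 := by
    have h1 := htU x u
    rw [htu, hf_smul_right, hxu] at h1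
    rcases mul_eq_zero.mp h1 with h2 | h2
    · exact absurd h2 hσl
    · exact h2
  obtain ⟨κ, hκ⟩ : ∃ κ, κ = hf σ (T *ᵥ x) v := ⟨_, rfl⟩
  obtain ⟨μ, hμ⟩ : ∃ μ, μ = hf σ (pr σ u v (T *ᵥ x)) x / a := ⟨_, rfl⟩
  have hTx : T *ᵥ x = κ • u + μ • x := by
    have h1 := pr_eq σ u v (T *ᵥ x)
    have h2 := hline _ (hf_pr_u σ h (T *ᵥ x)) (hf_pr_v σ hσ2 h (T *ᵥ x))
    rw [← hμ] at h2
    rw [h2, hTxu, zero_smul, add_zero, ← hκ] at h1
    exact h1
  have hμ1 : μ * σ μ = 1 := by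
    have h1 := htU x x
    rw [hTx] at h1
    simp only [hf_add_left, hf_add_right, hf_smul_left, hf_smul_right, h.uu, hxu, hux, ← ha] at h1
    have h2 : (μ * σ μ - 1) * a = 0 := by linear_combination h1
    rcases mul_eq_zero.mp h2 with h3 | h3
    · linear_combination h3
    · exact absurd h3 hxx
  set ν := σ l * μ - 1 with hν
  have hν0 : ν ≠ 0 := by
    intro h0
    have h1 : σ l * μ = 1 := by linear_combination h0
    apply hl1
    have h2 := congrArg σ h1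
    rw [map_mul, hσ2, map_one] at h2
    calc l * σ l = (l * σ μ) * (σ l * μ) := by
          rw [show l * σ μ * (σ l * μ) = l * σ l * (μ * σ μ) by ring, hμ1, mul_one]
      _ = 1 := by rw [h2, h1, mul_one]
  -- the line `F x` is good
  have hkey : ∀ γ' : F, Good σ u (γ' • x) := by
    intro γ'
    obtain ⟨γ, hγ⟩ : ∃ γ, γ = γ' / ν := ⟨_, rfl⟩
    obtain ⟨w₁, hw₁⟩ : ∃ w₁, w₁ = γ • x := ⟨_, rfl⟩
    have hw₁u : hf σ w₁ u = 0 := by rw [hw₁, hf_smul_left, hxu, mul_zero]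
    obtain ⟨β₁, hβ₁⟩ := trace_surj σ hσ hσ2 (-(hf σ w₁ w₁)) (by
      rw [map_neg, hf_self_fixed σ hσ2])
    have hβ₁' : β₁ + σ β₁ + hf σ w₁ w₁ = 0 := by linear_combination hβ₁
    set ρ := siegGL σ hσ2 u w₁ β₁ h.uu hw₁u hβ₁' with hρ
    have hρU : ρ ∈ UG σ n := siegGL_mem_UG σ hσ2 u w₁ β₁ h.uu hw₁u hβ₁'
    have hc : t * (ρ * t⁻¹ * ρ⁻¹) ∈ TG σ n :=
      Subgroup.mul_mem _ ht (conj_mem_TG σ ρ hρU _ (Subgroup.inv_mem _ ht))
    obtain ⟨w₂, hw₂⟩ : ∃ w₂, w₂ = σ l • (T *ᵥ w₁) := ⟨_, rfl⟩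
    have hTw₁u : hf σ (T *ᵥ w₁) u = 0 := by
      rw [hw₁, mulVec_smul, hf_smul_left, hTxu, mul_zero]
    have hw₂u : hf σ w₂ u = 0 := by rw [hw₂, hf_smul_left, hTw₁u, mul_zero]
    have hmat : ((t * (ρ * t⁻¹ * ρ⁻¹) : GL (Fin n) F) : Matrix (Fin n) (Fin n) F) =
        sieg σ u w₂ (l * σ l * β₁) * sieg σ u (-w₁) (σ β₁) := by
      have h1 : T * sieg σ u w₁ β₁ = sieg σ u w₂ (l * σ l * β₁) * T := by
        rw [sieg_conj σ T htU, htu, sieg_smul_center σ hσ2, ← hw₂]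
      have h2 : T * ((t⁻¹ : GL (Fin n) F) : Matrix (Fin n) (Fin n) F) = 1 := by
        rw [hT, ← Units.val_mul, mul_inv_cancel, Units.val_one]
      show (t : Matrix (Fin n) (Fin n) F) * (sieg σ u w₁ β₁ *
        ((t⁻¹ : GL (Fin n) F) : Matrix (Fin n) (Fin n) F) * sieg σ u (-w₁) (σ β₁)) = _
      rw [← hT, ← Matrix.mul_assoc, ← Matrix.mul_assoc, h1, Matrix.mul_assoc _ T, h2,
        Matrix.mul_one]
    have hnw₁u : hf σ (-w₁) u = 0 := by rw [hf_neg_left, hw₁u, neg_zero]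
    rw [sieg_mul σ hσ2 u w₂ (-w₁) _ _ h.uu hw₂u hnw₁u] at hmat
    have hw₂w₂ : hf σ w₂ w₂ = l * σ l * hf σ w₁ w₁ := by
      rw [hw₂, hf_smul_left, hf_smul_right, htU, hσ2]; ring
    have hgood : Good σ u (w₂ + -w₁) := by
      apply good_of_one σ hσ2 h.uu (by rw [hf_add_left, hw₂u, hnw₁u, add_zero])
        (l * σ l * β₁ + σ β₁ - hf σ (-w₁) w₂) _ ⟨_, hc, hmat⟩
      have h3 : σ (hf σ (-w₁) w₂) = hf σ w₂ (-w₁) := (hf_symm σ hσ2 w₂ (-w₁)).symm
      have h4 : hf σ (-w₁) (-w₁) = hf σ w₁ w₁ := by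
        rw [hf_neg_left, hf_symm σ hσ2, hf_neg_left, map_neg, ← hf_symm σ hσ2, neg_neg]
      simp only [hf_add_left, hf_add_right, map_add, map_sub, map_mul, hσ2, h3, h4, hw₂w₂]
      linear_combination (l * σ l + 1) * hβ₁'
    have hexp : γ' • x = (w₂ + -w₁) + (-(σ l * γ * κ)) • u := by
      have hγ' : γ' = γ * ν := by rw [hγ, div_mul_cancel₀ _ hν0]
      rw [hw₂, hw₁, mulVec_smul, hTx, hγ', hν]
      module
    rw [hexp]
    exact good_add σ hσ hσ2 h.uu hgood (good_smul_self σ hσ hσ2 h.uu _)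
  have h1 := pr_eq σ u v w
  have h2 := hline _ (hf_pr_u σ h w) (hf_pr_v σ hσ2 h w)
  rw [h2, hw, zero_smul, add_zero] at h1
  rw [h1]
  exact good_add σ hσ hσ2 h.uu (good_smul_self σ hσ hσ2 h.uu _) (hkey _)

/-- all Siegel elements lie in `TG` (dimension `≥ 3`, not the case `(3, 𝔽₄)`). -/
theorem good_all [Finite F] (hσ : σ ≠ RingHom.id F) (hσ2 : ∀ a, σ (σ a) = a) (hn : 3 ≤ n)
    (hq : 4 ≤ n ∨ ∃ l : F, l ≠ 0 ∧ l * σ l ≠ 1) {u v : Fin n → F} (h : HP σ u v)
    (w : Fin n → F) (hw : hf σ w u = 0) : Good σ u w := by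
  have hα : (∃ e : Fin n → F, e ≠ 0 ∧ hf σ e u = 0 ∧ hf σ e v = 0 ∧ hf σ e e = 0) →
      Good σ u w := by
    rintro ⟨e, he0, heu, hev, hee⟩
    obtain ⟨y₁, hy₁⟩ := exists_hf_ne_zero σ hσ2 e he0
    obtain ⟨y₂, hy₂⟩ : ∃ y₂, y₂ = pr σ u v y₁ := ⟨_, rfl⟩
    have hy₂u : hf σ y₂ u = 0 := by rw [hy₂]; exact hf_pr_u σ h y₁
    have hd : hf σ y₂ e ≠ 0 := by
      rw [hy₂, hf_pr_left σ hσ2 y₁ e heu hev]; exact hy₁
    obtain ⟨a, b, hab⟩ := exists_partner σ hσ hσ2 e y₂ hee hd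
    have hfu : hf σ (a • y₂ + b • e) u = 0 := by
      rw [hf_add_left, hf_smul_left, hf_smul_left, hy₂u, heu]; ring
    exact good_of_HP_perp σ hσ hσ2 h hab heu hfu w hw
  obtain ⟨x, hxu, hxv, hxx⟩ := exists_aniso_perp σ hσ hσ2 hn h
  rcases isotropic_or_line σ hσ hσ2 x hxu hxv hxx with h1 | h1
  · exact hα h1
  rcases hq with h4 | ⟨l, hl, hl1⟩
  · exact hα (exists_isotropic_perp σ hσ hσ2 h4 h)
  · exact good_of_line σ hσ hσ2 h x hxu hxv hxx h1 l hl hl1 w hw

/-- `TG` is transitive on hyperbolic pairs. -/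
theorem hp_transitive [Finite F] (hσ : σ ≠ RingHom.id F) (hσ2 : ∀ a, σ (σ a) = a) (hn : 3 ≤ n)
    (hq : 4 ≤ n ∨ ∃ l : F, l ≠ 0 ∧ l * σ l ≠ 1) {u v u' v' : Fin n → F} (h : HP σ u v)
    (h' : HP σ u' v') :
    ∃ t ∈ TG σ n, (t : Matrix (Fin n) (Fin n) F) *ᵥ u = u' ∧
      (t : Matrix (Fin n) (Fin n) F) *ᵥ v = v' := by
  obtain ⟨t₁, ht₁, ht₁u⟩ := rel_isotropic σ hσ hσ2 hn u u' h.ne_zero h'.ne_zero h.uu h'.uu
  have hU := TG_le_UG σ hσ2 ht₁
  have h'' : HP σ u' ((t₁ : Matrix (Fin n) (Fin n) F) *ᵥ v) := by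
    refine ⟨h'.uu, ?_, ?_⟩
    · rw [hU, h.vv]
    · rw [← ht₁u, hU, h.vu]
  obtain ⟨s, hs, hsu, hsv⟩ := exists_siegel_partner σ hσ2 h'' h'
    (fun w hw => good_all σ hσ hσ2 hn hq h'' w hw)
  refine ⟨s * t₁, Subgroup.mul_mem _ hs ht₁, ?_, ?_⟩
  · rw [Units.val_mul, ← mulVec_mulVec, ht₁u, hsu]
  · rw [Units.val_mul, ← mulVec_mulVec, hsv]

end siegel

section base
variable {F : Type*} [Field F] (σ : F →+* F)

theorem det_of_mem_TG {n : ℕ} (t : GL (Fin n) F) (ht : t ∈ TG σ n) :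
    (t : Matrix (Fin n) (Fin n) F).det = 1 := by
  have hle : TG σ n ≤ MonoidHom.ker (Matrix.GeneralLinearGroup.det (n := Fin n) (R := F)) := by
    unfold TG
    rw [Subgroup.closure_le]
    rintro g ⟨z, c, hz, -, hg⟩
    rw [SetLike.mem_coe, MonoidHom.mem_ker]
    apply Units.ext
    rw [Matrix.GeneralLinearGroup.val_det_apply, hg, tv_det, hz, mul_zero, add_zero, Units.val_one]
  have h := hle ht
  rw [MonoidHom.mem_ker] at h
  have h2 := congrArg Units.val h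
  rwa [Matrix.GeneralLinearGroup.val_det_apply, Units.val_one] at h2

theorem span_two (hσ2 : ∀ a, σ (σ a) = a) {e f : Fin 2 → F} (h : HP σ e f) (y : Fin 2 → F) :
    y = hf σ y f • e + hf σ y e • f := by
  have h1 := pr_eq σ e f y
  suffices h0 : pr σ e f y = 0 by rwa [h0, add_zero] at h1
  by_contra hne
  obtain ⟨y₀, hy₀⟩ : ∃ y₀, y₀ = pr σ e f y := ⟨_, rfl⟩
  have hy₀e : hf σ y₀ e = 0 := by rw [hy₀]; exact hf_pr_u σ h y
  have hy₀f : hf σ y₀ f = 0 := by rw [hy₀]; exact hf_pr_v σ hσ2 h y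
  rw [← hy₀] at hne
  have hli : LinearIndependent F ![e, f, y₀] := by
    rw [Fintype.linearIndependent_iff]
    intro g hg
    rw [Fin.sum_univ_three] at hg
    simp only [Matrix.cons_val_zero, Matrix.cons_val_one, Matrix.cons_val_two,
      Matrix.head_cons, Matrix.tail_cons] at hg
    have h0 : g 0 = 0 := by
      have := congrArg (fun z => hf σ z f) hg
      simp only [hf_add_left, hf_smul_left, h.uv hσ2, h.vv, hy₀f, hf_zero_left] at this
      linear_combination this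
    have h1 : g 1 = 0 := by
      have := congrArg (fun z => hf σ z e) hg
      simp only [hf_add_left, hf_smul_left, h.uu, h.vu, hy₀e, hf_zero_left] at this
      linear_combination this
    have h2 : g 2 = 0 := by
      rw [h0, h1, zero_smul, zero_smul, zero_add, zero_add] at hg
      rcases smul_eq_zero.mp hg with h3 | h3
      · exact h3
      · exact absurd h3 hne
    intro i
    fin_cases i
    · exact h0
    · exact h1
    · exact h2
  have := le_of_linearIndependent _ hli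
  omega

theorem eq_of_agree (hσ2 : ∀ a, σ (σ a) = a) {e f : Fin 2 → F} (h : HP σ e f)
    (A B : Matrix (Fin 2) (Fin 2) F) (he : A *ᵥ e = B *ᵥ e) (hf' : A *ᵥ f = B *ᵥ f) : A = B := by
  apply Matrix.toLin'.injective
  apply LinearMap.ext
  intro y
  rw [Matrix.toLin'_apply, Matrix.toLin'_apply, span_two σ hσ2 h y]
  simp only [mulVec_add, mulVec_smul, he, hf']

theorem det_of_diag (hσ2 : ∀ a, σ (σ a) = a) {e f : Fin 2 → F} (h : HP σ e f)
    (N : Matrix (Fin 2) (Fin 2) F) (l m : F) (he : N *ᵥ e = l • e) (hf' : N *ᵥ f = m • f) :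
    N.det = l * m := by
  set P : Matrix (Fin 2) (Fin 2) F := Matrix.of fun i j => ![e, f] j i with hP
  set Q : Matrix (Fin 2) (Fin 2) F := Matrix.of fun i j => ![σ ∘ f, σ ∘ e] i j with hQ
  have hdot : ∀ a b : Fin 2 → F, σ (a 0) * b 0 + σ (a 1) * b 1 = hf σ b a := by
    intro a b
    unfold hf
    rw [Fin.sum_univ_two]
    ring
  have hQP : Q * P = 1 := by
    ext i j
    fin_cases i <;> fin_cases j <;>
      simp [hP, hQ, Matrix.mul_apply, Fin.sum_univ_two, hdot, h.uu, h.vv, h.vu, h.uv hσ2]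
  have hPQ : P * Q = 1 := mul_eq_one_comm.mp hQP
  have hNP : N * P = P * Matrix.diagonal ![l, m] := by
    ext i j
    fin_cases j
    · have := congrFun he i
      simp only [mulVec, dotProduct, Fin.sum_univ_two, Pi.smul_apply, smul_eq_mul] at this
      simp [hP, Matrix.mul_apply, Fin.sum_univ_two, mul_comm]
      linear_combination this
    · have := congrFun hf' i
      simp only [mulVec, dotProduct, Fin.sum_univ_two, Pi.smul_apply, smul_eq_mul] at this
      simp [hP, Matrix.mul_apply, Fin.sum_univ_two, mul_comm]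
      linear_combination this
  have hN : N = P * Matrix.diagonal ![l, m] * Q := by
    rw [← hNP, Matrix.mul_assoc, hPQ, Matrix.mul_one]
  have hdet : P.det * Q.det = 1 := by rw [← Matrix.det_mul, hPQ, Matrix.det_one]
  rw [hN, Matrix.det_mul, Matrix.det_mul, Matrix.det_diagonal, Fin.prod_univ_two]
  simp only [Matrix.cons_val_zero, Matrix.cons_val_one]
  linear_combination (l * m) * hdet

/-- adjusting a unitary matrix which scales `e` by a transvection centred at `e` -/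
theorem adjust_two (hσ2 : ∀ a, σ (σ a) = a) {e f : Fin 2 → F} (h : HP σ e f)
    (N : Matrix (Fin 2) (Fin 2) F) (hN : ∀ x y, hf σ (N *ᵥ x) (N *ᵥ y) = hf σ x y)
    (l : F) (hl : l ≠ 0) (hNe : N *ᵥ e = l • e) :
    ∃ c : F, c + σ c = 0 ∧ (tv σ e c * N) *ᵥ e = l • e ∧ (tv σ e c * N) *ᵥ f = (σ l)⁻¹ • f := by
  have hσl : σ l ≠ 0 := map_ne_zero_of_invol σ hσ2 hl
  obtain ⟨f₁, hf₁⟩ : ∃ f₁, f₁ = N *ᵥ f := ⟨_, rfl⟩
  have h11 : hf σ f₁ f₁ = 0 := by rw [hf₁, hN, h.vv]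
  have hβ : hf σ f₁ e = (σ l)⁻¹ := by
    have h1 := hN f e
    rw [hNe, ← hf₁, hf_smul_right, h.vu] at h1
    exact eq_inv_of_mul_eq_one_left (by rw [mul_comm]; exact h1)
  obtain ⟨α, hα⟩ : ∃ α, α = hf σ f₁ f := ⟨_, rfl⟩
  set β := (σ l)⁻¹ with hββ
  have hβ0 : β ≠ 0 := inv_ne_zero hσl
  have hσβ0 : σ β ≠ 0 := map_ne_zero_of_invol σ hσ2 hβ0
  have hspan : f₁ = α • e + β • f := by
    have := span_two σ hσ2 h f₁
    rwa [← hα, hβ] at this
  have hiso : α * σ β + β * σ α = 0 := by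
    have h2 := h11
    rw [hspan] at h2
    simp only [hf_add_left, hf_add_right, hf_smul_left, hf_smul_right, h.uu, h.vv, h.vu,
      h.uv hσ2] at h2
    linear_combination h2
  refine ⟨-α / β, ?_, ?_, ?_⟩
  · rw [map_div₀, map_neg]
    field_simp
    linear_combination (-1 : F) * hiso
  · rw [← mulVec_mulVec, hNe, tv_mulVec, hf_smul_left, h.uu]
    simp
  · rw [← mulVec_mulVec, ← hf₁, tv_mulVec, hβ, hspan]
    have : -α / β * β = -α := div_mul_cancel₀ _ hβ0
    rw [this]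
    module

/-- `SU₂` is generated by transvections -/
theorem su_two [Finite F] (hσ : σ ≠ RingHom.id F) (hσ2 : ∀ a, σ (σ a) = a)
    (g : GL (Fin 2) F) (hg : g ∈ UG σ 2) (hdet : (g : Matrix (Fin 2) (Fin 2) F).det = 1) :
    g ∈ TG σ 2 := by
  obtain ⟨e, f, h⟩ := exists_HP σ hσ hσ2 (le_refl 2)
  obtain ⟨ε, hε, hε0⟩ := exists_trace_zero_ne σ hσ hσ2
  have hgU : ∀ x y, hf σ ((g : Matrix (Fin 2) (Fin 2) F) *ᵥ x)
      ((g : Matrix (Fin 2) (Fin 2) F) *ᵥ y) = hf σ x y := hg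
  -- Step A
  obtain ⟨l, hl, hrel⟩ : ∃ l : F, l ≠ 0 ∧ Rel σ ((g : Matrix (Fin 2) (Fin 2) F) *ᵥ e) (l • e) := by
    obtain ⟨y, hy⟩ : ∃ y, y = (g : Matrix (Fin 2) (Fin 2) F) *ᵥ e := ⟨_, rfl⟩
    rw [← hy]
    have hyy : hf σ y y = 0 := by rw [hy, hgU, h.uu]
    have hy0 : y ≠ 0 := by
      intro h0
      have h1 := hgU e f
      rw [← hy, h0, hf_zero_left, h.uv hσ2] at h1
      exact zero_ne_one h1
    obtain ⟨α, hα⟩ : ∃ α, α = hf σ y f := ⟨_, rfl⟩
    obtain ⟨β, hβ⟩ : ∃ β, β = hf σ y e := ⟨_, rfl⟩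
    have hspan : y = α • e + β • f := by
      have := span_two σ hσ2 h y
      rwa [← hα, ← hβ] at this
    by_cases hβ0 : β = 0
    · rw [hβ0, zero_smul, add_zero] at hspan
      refine ⟨α, ?_, by rw [hspan]; exact Rel.refl σ _⟩
      rintro rfl
      rw [zero_smul] at hspan
      exact hy0 hspan
    have hσβ0 : σ β ≠ 0 := map_ne_zero_of_invol σ hσ2 hβ0
    have hiso : α * σ β + β * σ α = 0 := by
      have h2 := hyy
      rw [hspan] at h2
      simp only [hf_add_left, hf_add_right, hf_smul_left, hf_smul_right, h.uu, h.vv, h.vu,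
        h.uv hσ2] at h2
      linear_combination h2
    have hc : (-α / β) + σ (-α / β) = 0 := by
      rw [map_div₀, map_neg]
      field_simp
      linear_combination (-1 : F) * hiso
    have h1 : Rel σ y (β • f) := by
      refine ⟨tvGL σ e (-α / β) h.uu, tvGL_mem σ e _ h.uu hc, ?_⟩
      show tv σ e (-α / β) *ᵥ y = β • f
      rw [tv_mulVec, ← hβ, div_mul_cancel₀ _ hβ0, hspan]
      module
    have h2 : Rel σ f (ε • e) := rel_partner_eps σ hσ2 (h.symm hσ2) ε hε hε0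
    have h3 := h2.smul β
    rw [smul_smul] at h3
    exact ⟨β * ε, mul_ne_zero hβ0 hε, h1.trans h3⟩
  obtain ⟨t₁, ht₁, ht₁e⟩ := hrel
  -- Step B
  have hσl : σ l ≠ 0 := map_ne_zero_of_invol σ hσ2 hl
  have hN : ∀ x y, hf σ (((t₁ * g : GL (Fin 2) F) : Matrix (Fin 2) (Fin 2) F) *ᵥ x)
      (((t₁ * g : GL (Fin 2) F) : Matrix (Fin 2) (Fin 2) F) *ᵥ y) = hf σ x y :=
    Subgroup.mul_mem _ (TG_le_UG σ hσ2 ht₁) hg
  have hNe : ((t₁ * g : GL (Fin 2) F) : Matrix (Fin 2) (Fin 2) F) *ᵥ e = l • e := by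
    rw [Units.val_mul, ← mulVec_mulVec, ht₁e]
  obtain ⟨c, hc, hce, hcf⟩ := adjust_two σ hσ2 h _ hN l hl hNe
  -- Step C
  have hdet2 : (tv σ e c * ((t₁ * g : GL (Fin 2) F) : Matrix (Fin 2) (Fin 2) F)).det = 1 := by
    rw [Matrix.det_mul, tv_det, h.uu, mul_zero, add_zero, one_mul, Units.val_mul, Matrix.det_mul,
      det_of_mem_TG σ t₁ ht₁, hdet, one_mul]
  have hfix : σ l = l := by
    have h1 := det_of_diag σ hσ2 h _ l (σ l)⁻¹ hce hcf
    rw [hdet2] at h1
    field_simp at h1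
    exact h1
  -- Step D
  have hr1 : Rel σ e (ε • f) := rel_partner_eps σ hσ2 h ε hε hε0
  have hεf : hf σ (ε • f) (ε • f) = 0 := by rw [hf_smul_left, hf_smul_right, h.vv]; ring
  have hr2 : Rel σ (ε • f) (l • e) := by
    apply rel_of_step σ hσ2 _ _ hεf
    · rw [hf_smul_left, hf_smul_right, h.uu]; ring
    · rw [hf_smul_left, hf_smul_right, h.vu, hfix]
      exact mul_ne_zero hε (by rw [mul_one]; exact hl)
    · rw [hf_smul_left, hf_smul_right, h.vu, hfix, map_mul, map_mul, hfix, map_one]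
      linear_combination l * hε0
  obtain ⟨t₃, ht₃, ht₃e⟩ := hr1.trans hr2
  obtain ⟨c', hc', hc'e, hc'f⟩ := adjust_two σ hσ2 h _ (TG_le_UG σ hσ2 ht₃) l hl ht₃e
  -- Step E
  have heq : tv σ e c * ((t₁ * g : GL (Fin 2) F) : Matrix (Fin 2) (Fin 2) F) =
      tv σ e c' * (t₃ : Matrix (Fin 2) (Fin 2) F) :=
    eq_of_agree σ hσ2 h _ _ (by rw [hce, hc'e]) (by rw [hcf, hc'f])
  have heq' : tvGL σ e c h.uu * (t₁ * g) = tvGL σ e c' h.uu * t₃ := by
    apply Units.ext
    rw [Units.val_mul, Units.val_mul]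
    exact heq
  have hg' : g = (tvGL σ e c h.uu * t₁)⁻¹ * (tvGL σ e c' h.uu * t₃) := by
    rw [← heq', ← mul_assoc (tvGL σ e c h.uu) t₁ g, inv_mul_cancel_left]
  rw [hg']
  exact Subgroup.mul_mem _ (Subgroup.inv_mem _ (Subgroup.mul_mem _ (tvGL_mem σ e c h.uu hc) ht₁))
    (Subgroup.mul_mem _ (tvGL_mem σ e c' h.uu hc') ht₃)

end base

section frames
variable {F : Type*} [Field F] (σ : F →+* F)
variable {n k m : ℕ} (P : Matrix (Fin n) (Fin k ⊕ Fin m) F)

theorem preserves_of_hs_mul (hσ2 : ∀ a, σ (σ a) = a) {a b : Type*} [Fintype a] [Fintype b]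
    [DecidableEq b] (M : Matrix a b F) (h : hs σ M * M = 1) (x y : b → F) :
    hf σ (M *ᵥ x) (M *ᵥ y) = hf σ x y := by
  rw [hf_adjoint_left σ hσ2, mulVec_mulVec, h, one_mulVec]

theorem hf_sum_elim (z z' : Fin m → F) :
    hf σ (Sum.elim (0 : Fin k → F) z) (Sum.elim (0 : Fin k → F) z') = hf σ z z' := by
  unfold hf
  rw [Fintype.sum_sum_type]
  simp

/-- block embedding of a transvection is a transvection -/
theorem psi_tv (h2 : P * hs σ P = 1) (z : Fin m → F) (c : F) :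
    P * fromBlocks (1 : Matrix (Fin k) (Fin k) F) 0 0 (tv σ z c) * hs σ P =
      tv σ (P *ᵥ (Sum.elim (0 : Fin k → F) z)) c := by
  apply Matrix.toLin'.injective
  apply LinearMap.ext
  intro x
  rw [Matrix.toLin'_apply, Matrix.toLin'_apply, ← mulVec_mulVec, ← mulVec_mulVec, tv_mulVec]
  obtain ⟨y, hy⟩ : ∃ y, y = hs σ P *ᵥ x := ⟨_, rfl⟩
  have hx : x = P *ᵥ y := by rw [hy, mulVec_mulVec, h2, one_mulVec]
  have h3 : hf σ x (P *ᵥ (Sum.elim (0 : Fin k → F) z)) = hf σ (y ∘ Sum.inr) z := by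
    rw [hf_adjoint, ← hy]
    unfold hf
    rw [Fintype.sum_sum_type]
    simp
  rw [← hy, h3, fromBlocks_mulVec, tv_mulVec]
  have h4 : Sum.elim ((1 : Matrix (Fin k) (Fin k) F) *ᵥ (y ∘ Sum.inl) +
      (0 : Matrix (Fin k) (Fin m) F) *ᵥ (y ∘ Sum.inr))
      ((0 : Matrix (Fin m) (Fin k) F) *ᵥ (y ∘ Sum.inl) +
        (y ∘ Sum.inr + (c * hf σ (y ∘ Sum.inr) z) • z)) =
      y + (c * hf σ (y ∘ Sum.inr) z) • Sum.elim (0 : Fin k → F) z := by
    ext i
    rcases i with i | i <;> simp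
  rw [h4, mulVec_add, mulVec_smul, ← hx]

/-- the block embedding `GL_m → GL_n` maps `TG` into `TG` -/
theorem lift_TG (hσ2 : ∀ a, σ (σ a) = a) (h1 : hs σ P * P = 1) (h2 : P * hs σ P = 1)
    (t : GL (Fin m) F) (ht : t ∈ TG σ m) :
    InT σ (P * fromBlocks (1 : Matrix (Fin k) (Fin k) F) 0 0 (t : Matrix (Fin m) (Fin m) F) *
      hs σ P) := by
  set φ : GL (Fin m) F →* GL (Fin n) F :=
    (psiGL σ P h1 h2).comp (MonoidHom.inr (GL (Fin k) F) (GL (Fin m) F)) with hφ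
  have hφc : ∀ s : GL (Fin m) F, ((φ s : GL (Fin n) F) : Matrix (Fin n) (Fin n) F) =
      P * fromBlocks (1 : Matrix (Fin k) (Fin k) F) 0 0 (s : Matrix (Fin m) (Fin m) F) *
        hs σ P := by
    intro s
    rw [hφ, MonoidHom.comp_apply, psiGL_coe]
    rfl
  have hle : TG σ m ≤ (TG σ n).comap φ := by
    unfold TG
    rw [Subgroup.closure_le]
    rintro s ⟨z, c, hz, hc, hs'⟩
    show φ s ∈ Subgroup.closure {g : GL (Fin n) F | ∃ (z : Fin n → F) (c : F), hf σ z z = 0 ∧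
      c + σ c = 0 ∧ (g : Matrix (Fin n) (Fin n) F) = tv σ z c}
    apply Subgroup.subset_closure
    refine ⟨P *ᵥ (Sum.elim (0 : Fin k → F) z), c, ?_, hc, ?_⟩
    · rw [preserves_of_hs_mul σ hσ2 P h1, hf_sum_elim, hz]
    · rw [hφc, hs', psi_tv σ P h2]
  exact ⟨φ t, hle ht, hφc t⟩

/-- a unitary matrix fixing `W` pointwise comes from the complement -/
theorem reduce_frame (hσ2 : ∀ a, σ (σ a) = a) (h1 : hs σ P * P = 1) (h2 : P * hs σ P = 1)
    (W : Submodule F (Fin n → F))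
    (hWP : ∀ v, v ∈ W ↔ ∀ j : Fin m, (hs σ P *ᵥ v) (Sum.inr j) = 0)
    (M : Matrix (Fin n) (Fin n) F) (hM : ∀ x y, hf σ (M *ᵥ x) (M *ᵥ y) = hf σ x y)
    (hfix : ∀ w ∈ W, M *ᵥ w = w) :
    ∃ E : Matrix (Fin m) (Fin m) F, hs σ E * E = 1 ∧ E * hs σ E = 1 ∧ E.det = M.det ∧
      M = P * fromBlocks (1 : Matrix (Fin k) (Fin k) F) 0 0 E * hs σ P := by
  have hMM : hs σ M * M = 1 := hs_mul_self_of_preserves σ M hM
  obtain ⟨D, hD⟩ : ∃ D, D = hs σ P * M * P := ⟨_, rfl⟩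
  have hDD : hs σ D * D = 1 := by
    rw [hD, hs_mul, hs_mul, hs_hs σ hσ2]
    calc hs σ P * (hs σ M * P) * (hs σ P * M * P)
        = hs σ P * (hs σ M * (P * hs σ P) * M) * P := by simp only [Matrix.mul_assoc]
      _ = 1 := by rw [h2, Matrix.mul_one, hMM, Matrix.mul_one, h1]
  have hPDP : P * D * hs σ P = M := by
    calc P * D * hs σ P = (P * hs σ P) * M * (P * hs σ P) := by
          rw [hD]; simp only [Matrix.mul_assoc]
      _ = M := by rw [h2, Matrix.one_mul, Matrix.mul_one]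
  have hcol : ∀ i : Fin k, P.col (Sum.inl i) ∈ W := by
    intro i
    rw [hWP]
    intro j'
    rw [← mulVec_single_one, mulVec_mulVec, h1, one_mulVec]
    simp
  have hDcol : ∀ i : Fin k, D *ᵥ Pi.single (Sum.inl i) 1 = Pi.single (Sum.inl i) 1 := by
    intro i
    rw [hD, ← mulVec_mulVec, ← mulVec_mulVec, mulVec_single_one, hfix _ (hcol i),
      ← mulVec_single_one, mulVec_mulVec, h1, one_mulVec]
  obtain ⟨A, B, C, E, hABCE⟩ : ∃ A B C E, D = fromBlocks A B C E :=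
    ⟨_, _, _, _, (fromBlocks_toBlocks D).symm⟩
  have hA : A = 1 := by
    ext i j
    have := congrFun (hDcol j) (Sum.inl i)
    rw [mulVec_single_one, hABCE] at this
    simp only [Matrix.col_apply, fromBlocks_apply₁₁] at this
    rw [this, Matrix.one_apply, Pi.single_apply]
    simp [Sum.inl.injEq]
  have hC : C = 0 := by
    ext i j
    have := congrFun (hDcol j) (Sum.inr i)
    rw [mulVec_single_one, hABCE] at this
    simp only [Matrix.col_apply, fromBlocks_apply₂₁] at this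
    rw [this]
    simp
  subst hA hC
  have hDD' := hDD
  rw [hABCE, hs_fromBlocks, fromBlocks_multiply, ← fromBlocks_one, fromBlocks_inj] at hDD'
  simp only [hs_zero, hs_one, Matrix.zero_mul, Matrix.mul_zero, add_zero, Matrix.one_mul,
    Matrix.mul_one] at hDD'
  obtain ⟨-, hB, -, hEE⟩ := hDD'
  subst hB
  simp only [hs_zero, Matrix.zero_mul, zero_add] at hEE
  have hEE' : E * hs σ E = 1 := mul_eq_one_comm.mp hEE
  refine ⟨E, hEE, hEE', ?_, ?_⟩
  · rw [← hPDP, Matrix.det_conj_of_mul_eq_one h2 h1, hABCE, Matrix.det_fromBlocks_zero₂₁,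
      Matrix.det_one, one_mul]
  · rw [← hPDP, hABCE]

end frames

section main
variable {F : Type*} [Field F] (σ : F →+* F)

/-- reduction to the orthogonal complement of a non-degenerate subspace fixed pointwise -/
theorem reduce_step [Finite F] (hσ : σ ≠ RingHom.id F) (hσ2 : ∀ a, σ (σ a) = a) {n : ℕ}
    (W : Submodule F (Fin n → F)) (hW : ∀ u ∈ W, (∀ v ∈ W, hf σ u v = 0) → u = 0)
    (g : GL (Fin n) F) (hg : g ∈ UG σ n) (hdet : (g : Matrix (Fin n) (Fin n) F).det = 1)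
    (hfix : ∀ w ∈ W, (g : Matrix (Fin n) (Fin n) F) *ᵥ w = w)
    (IH : ∀ m, finrank F W + m = n → ∀ E : GL (Fin m) F, E ∈ UG σ m →
      (E : Matrix (Fin m) (Fin m) F).det = 1 → E ∈ TG σ m) : g ∈ TG σ n := by
  obtain ⟨m, P, hkm, h1, h2, hWP⟩ := main_frame σ hσ hσ2 W hW
  obtain ⟨E, hEE, hEE', hEdet, hEM⟩ := reduce_frame σ P hσ2 h1 h2 W hWP _ hg hfix
  have hE := IH m hkm ⟨E, hs σ E, hEE', hEE⟩ (preserves_of_hs_mul σ hσ2 E hEE)
    (by rw [hEdet, hdet])
  obtain ⟨t, ht, htm⟩ := lift_TG σ P hσ2 h1 h2 _ hE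
  have : t = g := by
    apply Units.ext
    rw [htm, hEM]
  rw [← this]
  exact ht

/-- **The special unitary group is generated by unitary transvections**, except for `SU₃(2)`. -/
theorem su_gen [Finite F] (hσ : σ ≠ RingHom.id F) (hσ2 : ∀ a, σ (σ a) = a) :
    ∀ n : ℕ, 1 ≤ n → (n = 3 → ∃ l : F, l ≠ 0 ∧ l * σ l ≠ 1) → ∀ g : GL (Fin n) F, g ∈ UG σ n →
      (g : Matrix (Fin n) (Fin n) F).det = 1 → g ∈ TG σ n := by
  intro n
  induction n using Nat.strong_induction_on with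
  | _ n IH =>
    intro hn1 hn3 g hg hdet
    rcases Nat.lt_or_ge n 3 with hlt | hge
    · -- small cases
      obtain rfl | rfl : n = 1 ∨ n = 2 := by omega
      · have : g = 1 := by
          apply Units.ext
          ext i j
          rw [Matrix.det_unique] at hdet
          have hi : i = default := Subsingleton.elim _ _
          have hj : j = default := Subsingleton.elim _ _
          rw [hi, hj, hdet]
          simp
        rw [this]
        exact Subgroup.one_mem _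
      · exact su_two σ hσ hσ2 g hg hdet
    -- general case
    have hq : 4 ≤ n ∨ ∃ l : F, l ≠ 0 ∧ l * σ l ≠ 1 := by
      rcases Nat.lt_or_ge n 4 with h | h
      · exact Or.inr (hn3 (by omega))
      · exact Or.inl h
    obtain ⟨e, f, h⟩ := exists_HP σ hσ hσ2 (n := n) (by omega)
    have hgU : ∀ x y, hf σ ((g : Matrix (Fin n) (Fin n) F) *ᵥ x)
        ((g : Matrix (Fin n) (Fin n) F) *ᵥ y) = hf σ x y := hg
    have h' : HP σ ((g : Matrix (Fin n) (Fin n) F) *ᵥ e) ((g : Matrix (Fin n) (Fin n) F) *ᵥ f) :=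
      ⟨by rw [hgU, h.uu], by rw [hgU, h.vv], by rw [hgU, h.vu]⟩
    obtain ⟨t, ht, hte, htf⟩ := hp_transitive σ hσ hσ2 hge hq h' h
    suffices hsuff : t * g ∈ TG σ n by
      have : g = t⁻¹ * (t * g) := by rw [inv_mul_cancel_left]
      rw [this]
      exact Subgroup.mul_mem _ (Subgroup.inv_mem _ ht) hsuff
    have hg'U : t * g ∈ UG σ n := Subgroup.mul_mem _ (TG_le_UG σ hσ2 ht) hg
    have hg'det : ((t * g : GL (Fin n) F) : Matrix (Fin n) (Fin n) F).det = 1 := by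
      rw [Units.val_mul, Matrix.det_mul, det_of_mem_TG σ t ht, hdet, one_mul]
    have hg'e : ((t * g : GL (Fin n) F) : Matrix (Fin n) (Fin n) F) *ᵥ e = e := by
      rw [Units.val_mul, ← mulVec_mulVec, hte]
    have hg'f : ((t * g : GL (Fin n) F) : Matrix (Fin n) (Fin n) F) *ᵥ f = f := by
      rw [Units.val_mul, ← mulVec_mulVec, htf]
    by_cases hspecial : n = 5 ∧ ¬ ∃ l : F, l ≠ 0 ∧ l * σ l ≠ 1
    · -- reduce by a line
      obtain ⟨c₀, hc₀⟩ := trace_surj σ hσ hσ2 1 (map_one σ)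
      obtain ⟨a, ha⟩ : ∃ a, a = e + c₀ • f := ⟨_, rfl⟩
      have haa : hf σ a a = 1 := by
        rw [ha]
        simp only [hf_add_left, hf_add_right, hf_smul_left, hf_smul_right, h.uu, h.vv, h.vu,
          h.uv hσ2]
        linear_combination hc₀
      have ha0 : a ≠ 0 := by
        rintro rfl
        rw [hf_zero_left] at haa
        exact zero_ne_one haa
      have hW : ∀ u ∈ Submodule.span F {a}, (∀ v ∈ Submodule.span F {a}, hf σ u v = 0) →
          u = 0 := by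
        intro u hu hperp
        obtain ⟨r, rfl⟩ := Submodule.mem_span_singleton.mp hu
        have := hperp a (Submodule.mem_span_singleton_self a)
        rw [hf_smul_left, haa, mul_one] at this
        rw [this, zero_smul]
      have hrank : finrank F (Submodule.span F {a}) = 1 := finrank_span_singleton ha0
      apply reduce_step σ hσ hσ2 (Submodule.span F {a}) hW (t * g) hg'U hg'det
      · intro w hw
        obtain ⟨r, rfl⟩ := Submodule.mem_span_singleton.mp hw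
        rw [mulVec_smul, ha, mulVec_add, mulVec_smul, hg'e, hg'f]
      · intro m hm E hE hEdet
        rw [hrank] at hm
        exact IH m (by omega) (by omega) (by omega) E hE hEdet
    · -- reduce by the hyperbolic plane
      have hli : LinearIndependent F ![e, f] := by
        rw [LinearIndependent.pair_iff]
        intro s r hsr
        have h1 := congrArg (fun z => hf σ z f) hsr
        have h2 := congrArg (fun z => hf σ z e) hsr
        simp only [hf_add_left, hf_smul_left, h.uu, h.vv, h.vu, h.uv hσ2, hf_zero_left] at h1 h2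
        exact ⟨by linear_combination h1, by linear_combination h2⟩
      have hrank : finrank F (Submodule.span F (Set.range ![e, f])) = 2 := by
        rw [finrank_span_eq_card hli, Fintype.card_fin]
      have hmem : ∀ u ∈ Submodule.span F (Set.range ![e, f]), ∃ r s : F, u = r • e + s • f := by
        intro u hu
        rw [Matrix.range_cons_cons_empty, Submodule.mem_span_pair] at hu
        obtain ⟨r, s, rfl⟩ := hu
        exact ⟨r, s, rfl⟩
      have he_mem : e ∈ Submodule.span F (Set.range ![e, f]) :=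
        Submodule.subset_span ⟨0, rfl⟩
      have hf_mem : f ∈ Submodule.span F (Set.range ![e, f]) :=
        Submodule.subset_span ⟨1, rfl⟩
      have hW : ∀ u ∈ Submodule.span F (Set.range ![e, f]),
          (∀ v ∈ Submodule.span F (Set.range ![e, f]), hf σ u v = 0) → u = 0 := by
        intro u hu hperp
        obtain ⟨r, s, rfl⟩ := hmem u hu
        have h1 := hperp f hf_mem
        have h2 := hperp e he_mem
        simp only [hf_add_left, hf_smul_left, h.uu, h.vv, h.vu, h.uv hσ2] at h1 h2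
        have hr : r = 0 := by linear_combination h1
        have hs : s = 0 := by linear_combination h2
        rw [hr, hs, zero_smul, zero_smul, add_zero]
      apply reduce_step σ hσ hσ2 _ hW (t * g) hg'U hg'det
      · intro w hw
        obtain ⟨r, s, rfl⟩ := hmem w hw
        rw [mulVec_add, mulVec_smul, mulVec_smul, hg'e, hg'f]
      · intro m hm E hE hEdet
        rw [hrank] at hm
        refine IH m (by omega) (by omega) ?_ E hE hEdet
        intro hm3
        by_contra hcon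
        exact hspecial ⟨by omega, hcon⟩

end main

end Cfsg.Agent.Lib.Helper37
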