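import Mathlib
import Cfsg.Agent.Lib.Helper37.UnitaryGen

set_option autoImplicit false

/-!
# Simplicity of the projective special unitary group (Iwasawa's argument)
-/

namespace Cfsg.Agent.Lib.Helper37

open Matrix Module Cfsg.Agent.S0837 Cfsg.Agent.S0781 Cfsg.Agent.S2644

section prelim
variable {F : Type*} [Field F] (σ : F →+* F) {n : ℕ}

/-- two non-zero isotropic vectors have a common non-orthogonal isotropic vector -/
theorem exists_common (hσ : σ ≠ RingHom.id F) (hσ2 : ∀ a, σ (σ a) = a)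
    (u u' : Fin n → F) (hu0 : u ≠ 0) (hu0' : u' ≠ 0) (hu : hf σ u u = 0) (hu' : hf σ u' u' = 0) :
    ∃ w : Fin n → F, hf σ w w = 0 ∧ hf σ w u ≠ 0 ∧ hf σ w u' ≠ 0 := by
  by_cases hne : hf σ u' u ≠ 0
  · obtain ⟨ε, hε, hε0⟩ := exists_trace_zero_ne σ hσ hσ2
    set d := hf σ u' u with hd
    have hσd : σ d ≠ 0 := map_ne_zero_of_invol σ hσ2 hne
    have huu' : hf σ u u' = σ d := hf_symm σ hσ2 u u'
    refine ⟨u + (ε / d) • u', ?_, ?_, ?_⟩
    · simp only [hf_add_left, hf_add_right, hf_smul_left, hf_smul_right, hu, hu', huu', ← hd,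
        map_div₀]
      have h1 : ε / d * d = ε := div_mul_cancel₀ _ hne
      have h2 : σ ε / σ d * σ d = σ ε := div_mul_cancel₀ _ hσd
      linear_combination h1 + h2 + hε0
    · rw [hf_add_left, hf_smul_left, hu, ← hd, div_mul_cancel₀ _ hne, zero_add]; exact hε
    · rw [hf_add_left, hf_smul_left, hu', huu', mul_zero, add_zero]; exact hσd
  push Not at hne
  have hne' : hf σ u u' = 0 := by rw [hf_symm σ hσ2, hne, map_zero]
  obtain ⟨v, hv⟩ := exists_HP_of_isotropic σ hσ hσ2 u hu0 hu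
  by_cases hvu' : hf σ v u' ≠ 0
  · exact ⟨v, hv.vv, by rw [hv.vu]; exact one_ne_zero, hvu'⟩
  push Not at hvu'
  have hu'v : hf σ u' v = 0 := by rw [hf_symm σ hσ2, hvu', map_zero]
  obtain ⟨y₁, hy₁⟩ := exists_hf_ne_zero σ hσ2 u' hu0'
  obtain ⟨y₂, hy₂⟩ : ∃ y₂, y₂ = pr σ u v y₁ := ⟨_, rfl⟩
  have hy₂u : hf σ y₂ u = 0 := by rw [hy₂]; exact hf_pr_u σ hv y₁
  have hy₂v : hf σ y₂ v = 0 := by rw [hy₂]; exact hf_pr_v σ hσ2 hv y₁
  have hd : hf σ y₂ u' ≠ 0 := by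
    rw [hy₂, hf_pr_left σ hσ2 y₁ u' hne hu'v]; exact hy₁
  obtain ⟨a, b, hab⟩ := exists_partner σ hσ hσ2 u' y₂ hu' hd
  obtain ⟨y, hy⟩ : ∃ y, y = a • y₂ + b • u' := ⟨_, rfl⟩
  rw [← hy] at hab
  have hyu : hf σ y u = 0 := by rw [hy, hf_add_left, hf_smul_left, hf_smul_left, hy₂u, hne]; ring
  have hyv : hf σ y v = 0 := by rw [hy, hf_add_left, hf_smul_left, hf_smul_left, hy₂v, hu'v]; ring
  have hvy : hf σ v y = 0 := by rw [hf_symm σ hσ2, hyv, map_zero]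
  refine ⟨v + y, ?_, ?_, ?_⟩
  · simp only [hf_add_left, hf_add_right, hv.vv, hab.vv, hyv, hvy]; ring
  · rw [hf_add_left, hv.vu, hyu, add_zero]; exact one_ne_zero
  · rw [hf_add_left, hvu', hab.vu, zero_add]; exact one_ne_zero

theorem tv_smul_center (hσ2 : ∀ a, σ (σ a) = a) (u : Fin n → F) (a c : F) :
    tv σ (a • u) c = tv σ u (c * (a * σ a)) := by
  unfold tv
  rw [sieg_smul_center σ hσ2, smul_zero]
  congr 1
  ring

theorem tv_zero_vec (c : F) : tv σ (0 : Fin n → F) c = 1 := by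
  apply Matrix.toLin'.injective
  apply LinearMap.ext
  intro x
  rw [Matrix.toLin'_apply, tv_mulVec, smul_zero, add_zero, Matrix.toLin'_one]
  rfl

theorem tv_mul_tv (u : Fin n → F) (hu : hf σ u u = 0) (c c' : F) :
    tv σ u c * tv σ u c' = tv σ u (c + c') := by
  apply Matrix.toLin'.injective
  apply LinearMap.ext
  intro x
  rw [Matrix.toLin'_apply, Matrix.toLin'_apply, ← mulVec_mulVec, tv_mulVec, tv_mulVec, tv_mulVec]
  simp only [hf_add_left, hf_smul_left, hu]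
  module

theorem tv_conj (M : Matrix (Fin n) (Fin n) F)
    (hM : ∀ x y, hf σ (M *ᵥ x) (M *ᵥ y) = hf σ x y) (z : Fin n → F) (c : F) :
    M * tv σ z c = tv σ (M *ᵥ z) c * M := by
  unfold tv
  rw [sieg_conj σ M hM, mulVec_zero]

end prelim

section grp
variable {F : Type*} [Field F] (σ : F →+* F) {n : ℕ}
variable {G : Type*} [Group G] (ι : G →* GL (Fin n) F)

/-- the matrix of a group element -/
def mat (g : G) : Matrix (Fin n) (Fin n) F := ((ι g : GL (Fin n) F) : Matrix (Fin n) (Fin n) F)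

theorem mat_mul (g h : G) : mat ι (g * h) = mat ι g * mat ι h := by
  unfold mat; rw [map_mul, Units.val_mul]

theorem mat_one : mat ι (1 : G) = 1 := by
  unfold mat; rw [map_one, Units.val_one]

theorem mat_inv_mul (g : G) : mat ι g⁻¹ * mat ι g = 1 := by
  rw [← mat_mul, inv_mul_cancel, mat_one]

theorem mat_mul_inv (g : G) : mat ι g * mat ι g⁻¹ = 1 := by
  rw [← mat_mul, mul_inv_cancel, mat_one]

theorem mat_inv_smul (g : G) (x y : Fin n → F) (k : F) (hk : k ≠ 0) (h : mat ι g *ᵥ x = k • y) :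
    mat ι g⁻¹ *ᵥ y = k⁻¹ • x := by
  have h1 : y = k⁻¹ • (mat ι g *ᵥ x) := by rw [h, smul_smul, inv_mul_cancel₀ hk, one_smul]
  rw [h1, mulVec_smul, mulVec_mulVec, mat_inv_mul, one_mulVec]

theorem mat_preserves (hσ2 : ∀ a, σ (σ a) = a) (hTG : ∀ g, ι g ∈ TG σ n) (g : G)
    (x y : Fin n → F) : hf σ (mat ι g *ᵥ x) (mat ι g *ᵥ y) = hf σ x y :=
  TG_le_UG σ hσ2 (hTG g) x y

/-- eigenvalues of `g` on two non-orthogonal isotropic eigenvectors agree, if `g` fixes all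
isotropic points. -/
theorem eig_eq_of_nonperp (hσ : σ ≠ RingHom.id F) (hσ2 : ∀ a, σ (σ a) = a) (g : G)
    (h : ∀ u : Fin n → F, u ≠ 0 → hf σ u u = 0 → ∃ l : F, mat ι g *ᵥ u = l • u)
    (x y : Fin n → F) (hx : hf σ x x = 0) (hy : hf σ y y = 0) (hyx : hf σ y x ≠ 0) (a b : F)
    (hgx : mat ι g *ᵥ x = a • x) (hgy : mat ι g *ᵥ y = b • y) : a = b := by
  obtain ⟨ε, hε, hε0⟩ := exists_trace_zero_ne σ hσ hσ2
  set d := hf σ y x with hd
  have hxy : hf σ x y = σ d := hf_symm σ hσ2 x y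
  have hσd : σ d ≠ 0 := map_ne_zero_of_invol σ hσ2 hyx
  -- the isotropic vector `x + (ε/d) y`
  obtain ⟨w, hw⟩ : ∃ w, w = x + (ε / d) • y := ⟨_, rfl⟩
  have hww : hf σ w w = 0 := by
    rw [hw]
    simp only [hf_add_left, hf_add_right, hf_smul_left, hf_smul_right, hx, hy, hxy, ← hd,
      map_div₀]
    have h1 : ε / d * d = ε := div_mul_cancel₀ _ hyx
    have h2 : σ ε / σ d * σ d = σ ε := div_mul_cancel₀ _ hσd
    linear_combination h1 + h2 + hε0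
  have hwx : hf σ w x = ε := by
    rw [hw, hf_add_left, hf_smul_left, hx, ← hd, div_mul_cancel₀ _ hyx, zero_add]
  have hw0 : w ≠ 0 := by
    rintro rfl
    rw [hf_zero_left] at hwx
    exact hε hwx.symm
  obtain ⟨c, hc⟩ := h w hw0 hww
  have hgw : mat ι g *ᵥ w = a • x + (ε / d * b) • y := by
    rw [hw, mulVec_add, mulVec_smul, hgx, hgy, smul_smul]
  rw [hgw, hw] at hc
  have h1 := congrArg (fun z => hf σ z y) hc
  have h2 := congrArg (fun z => hf σ z x) hc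
  simp only [hf_add_left, hf_smul_left, hx, hy, hxy, ← hd] at h1 h2
  have hac : a = c := by
    have : (a - c) * σ d = 0 := by linear_combination h1
    rcases mul_eq_zero.mp this with h3 | h3
    · linear_combination h3
    · exact absurd h3 hσd
  have hbc : b = c := by
    have h3 : ε / d * d = ε := div_mul_cancel₀ _ hyx
    have : (b - c) * ε = 0 := by
      have h4 : ε / d * b * d = c * (ε / d * d) := by linear_combination h2
      rw [h3] at h4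
      have h5 : ε / d * b * d = b * (ε / d * d) := by ring
      rw [h5, h3] at h4
      linear_combination h4
    rcases mul_eq_zero.mp this with h3 | h3
    · linear_combination h3
    · exact absurd h3 hε
  rw [hac, hbc]

/-- an element fixing all isotropic points is central -/
theorem central_of_fix [Finite F] (hσ : σ ≠ RingHom.id F) (hσ2 : ∀ a, σ (σ a) = a) (hn : 2 ≤ n)
    (hinj : Function.Injective ι) (g : G)
    (h : ∀ u : Fin n → F, u ≠ 0 → hf σ u u = 0 → ∃ l : F, mat ι g *ᵥ u = l • u) :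
    g ∈ Subgroup.center G := by
  obtain ⟨u₁, v₁, hp⟩ := exists_HP σ hσ hσ2 hn
  obtain ⟨a, ha⟩ := h u₁ hp.ne_zero hp.uu
  have hiso : ∀ w : Fin n → F, w ≠ 0 → hf σ w w = 0 → mat ι g *ᵥ w = a • w := by
    intro w hw0 hww
    obtain ⟨c, hc⟩ := h w hw0 hww
    obtain ⟨z, hzz, hzu, hzw⟩ := exists_common σ hσ hσ2 u₁ w hp.ne_zero hw0 hp.uu hww
    have hz0 : z ≠ 0 := by
      rintro rfl
      exact hzu (hf_zero_left σ u₁)
    obtain ⟨b, hb⟩ := h z hz0 hzz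
    have h1 := eig_eq_of_nonperp σ ι hσ hσ2 g h u₁ z hp.uu hzz hzu a b ha hb
    have h2 := eig_eq_of_nonperp σ ι hσ hσ2 g h w z hww hzz hzw c b hc hb
    rw [hc, h2, ← h1]
  have hv₁ : mat ι g *ᵥ v₁ = a • v₁ := hiso v₁ (hp.symm hσ2).ne_zero hp.vv
  have hall : ∀ y : Fin n → F, mat ι g *ᵥ y = a • y := by
    intro y
    obtain ⟨x, hx⟩ : ∃ x, x = pr σ u₁ v₁ y := ⟨_, rfl⟩
    have hxu : hf σ x u₁ = 0 := by rw [hx]; exact hf_pr_u σ hp y
    have hxv : hf σ x v₁ = 0 := by rw [hx]; exact hf_pr_v σ hσ2 hp y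
    have hux : hf σ u₁ x = 0 := by rw [hf_symm σ hσ2, hxu, map_zero]
    have hvx : hf σ v₁ x = 0 := by rw [hf_symm σ hσ2, hxv, map_zero]
    obtain ⟨α, hα⟩ := trace_surj σ hσ hσ2 (-(hf σ x x)) (by rw [map_neg, hf_self_fixed σ hσ2])
    obtain ⟨z, hz⟩ : ∃ z, z = x + α • u₁ + v₁ := ⟨_, rfl⟩
    have hzz : hf σ z z = 0 := by
      rw [hz]
      simp only [hf_add_left, hf_add_right, hf_smul_left, hf_smul_right, hp.uu, hp.vv, hp.vu,
        hp.uv hσ2, hxu, hxv, hux, hvx]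
      linear_combination hα
    have hzu : hf σ z u₁ = 1 := by
      rw [hz]
      simp only [hf_add_left, hf_smul_left, hp.uu, hp.vu, hxu]
      ring
    have hz0 : z ≠ 0 := by
      rintro rfl
      rw [hf_zero_left] at hzu
      exact zero_ne_one hzu
    have hgz := hiso z hz0 hzz
    have hxz : x = z - α • u₁ - v₁ := by rw [hz]; abel
    have hgx : mat ι g *ᵥ x = a • x := by
      rw [hxz, mulVec_sub, mulVec_sub, mulVec_smul, hgz, ha, hv₁]
      module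
    have hy := pr_eq σ u₁ v₁ y
    rw [← hx] at hy
    rw [hy, mulVec_add, mulVec_add, mulVec_smul, mulVec_smul, ha, hv₁, hgx]
    module
  have hmat : mat ι g = a • (1 : Matrix (Fin n) (Fin n) F) := by
    apply Matrix.toLin'.injective
    apply LinearMap.ext
    intro y
    rw [Matrix.toLin'_apply, hall, Matrix.toLin'_apply, Matrix.smul_mulVec, one_mulVec]
  rw [Subgroup.mem_center_iff]
  intro k
  apply hinj
  apply Units.ext
  show mat ι (k * g) = mat ι (g * k)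
  rw [mat_mul, mat_mul, hmat, Matrix.mul_smul, Matrix.smul_mul, Matrix.mul_one, Matrix.one_mul]

/-- explicit form of the basic step -/
theorem step_explicit (hσ2 : ∀ a, σ (σ a) = a) (u u' : Fin n → F) (hu : hf σ u u = 0)
    (hu' : hf σ u' u' = 0) (hd : hf σ u u' ≠ 0) (hd0 : hf σ u u' + σ (hf σ u u') = 0) :
    ∃ c : F, hf σ (u' - u) (u' - u) = 0 ∧ c + σ c = 0 ∧ tv σ (u' - u) c *ᵥ u = u' := by
  set d := hf σ u u' with hdd
  have hu'u : hf σ u' u = σ d := hf_symm σ hσ2 u' u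
  have hz : hf σ (u' - u) (u' - u) = 0 := by
    rw [hf_sub_left, hf_sub_right, hf_sub_right, hu, hu', hu'u, ← hdd]
    linear_combination (-1 : F) * hd0
  have hc : d⁻¹ + σ d⁻¹ = 0 := by
    have : σ d = -d := by linear_combination hd0
    rw [map_inv₀, this, inv_neg, add_neg_cancel]
  refine ⟨d⁻¹, hz, hc, ?_⟩
  rw [tv_mulVec, hf_sub_right, hu, sub_zero, ← hdd, inv_mul_cancel₀ hd, one_smul]
  abel

/-- the orbit of an isotropic point under a normal subgroup moving it is everything -/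
theorem orbit_all [Finite F] (hσ : σ ≠ RingHom.id F) (hσ2 : ∀ a, σ (σ a) = a) (hn : 3 ≤ n)
    (hq : 4 ≤ n ∨ ∃ l : F, l ≠ 0 ∧ l * σ l ≠ 1)
    (hTG : ∀ g, ι g ∈ TG σ n) (hex : ∀ t ∈ TG σ n, ∃ g, ι g = t)
    (N : Subgroup G) [hN : N.Normal] (u₀ : Fin n → F) (hu₀ : u₀ ≠ 0) (huu₀ : hf σ u₀ u₀ = 0)
    (n₀ : G) (hn₀ : n₀ ∈ N) (hmove : ¬ ∃ l : F, mat ι n₀ *ᵥ u₀ = l • u₀) :
    ∀ w : Fin n → F, w ≠ 0 → hf σ w w = 0 →
      ∃ m ∈ N, ∃ l : F, l ≠ 0 ∧ mat ι m *ᵥ u₀ = l • w := by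
  obtain ⟨B, hB⟩ : ∃ B : (Fin n → F) → Prop,
      B = fun w => ∃ m ∈ N, ∃ l : F, l ≠ 0 ∧ mat ι m *ᵥ u₀ = l • w := ⟨_, rfl⟩
  have hBdef : ∀ w, B w ↔ ∃ m ∈ N, ∃ l : F, l ≠ 0 ∧ mat ι m *ᵥ u₀ = l • w := by
    intro w; rw [hB]
  suffices hall : ∀ w : Fin n → F, w ≠ 0 → hf σ w w = 0 → B w by
    intro w hw0 hww
    exact (hBdef w).mp (hall w hw0 hww)
  have hscale : ∀ (w : Fin n → F) (c : F), c ≠ 0 → B w → B (c • w) := by
    intro w c hc hw
    rw [hBdef] at hw ⊢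
    obtain ⟨m, hm, l, hl, hmw⟩ := hw
    exact ⟨m, hm, l / c, div_ne_zero hl hc, by rw [smul_smul, div_mul_cancel₀ _ hc, hmw]⟩
  have hinvar : ∀ (s w : Fin n → F) (g : G) (κ : F), κ ≠ 0 → mat ι g *ᵥ s = κ • s → B s → B w →
      B (mat ι g *ᵥ w) := by
    intro s w g κ hκ hgs hs hw
    rw [hBdef] at hs hw ⊢
    obtain ⟨ms, hms, μ, hμ, hsμ⟩ := hs
    obtain ⟨mw, hmw, l, hl, hwl⟩ := hw
    refine ⟨g * (mw * ms⁻¹) * g⁻¹ * ms,
      N.mul_mem (hN.conj_mem _ (N.mul_mem hmw (N.inv_mem hms)) g) hms, κ⁻¹ * l,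
      mul_ne_zero (inv_ne_zero hκ) hl, ?_⟩
    have h1 : mat ι g⁻¹ *ᵥ s = κ⁻¹ • s := mat_inv_smul ι g s s κ hκ hgs
    have h2 : mat ι ms⁻¹ *ᵥ s = μ⁻¹ • u₀ := mat_inv_smul ι ms u₀ s μ hμ hsμ
    simp only [mat_mul, ← mulVec_mulVec, hsμ, mulVec_smul, h1, h2, hwl, smul_smul]
    congr 1
    field_simp
  have claimA : ∀ s w w' : Fin n → F, hf σ s s = 0 → hf σ w w = 0 → hf σ w' w' = 0 →
      hf σ w s ≠ 0 → hf σ w' s ≠ 0 → B s → B w → B w' := by
    intro s w w' hss hww hww' hd hd' hBs hBw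
    have hHP : HP σ s ((hf σ w s)⁻¹ • w) :=
      ⟨hss, by rw [hf_smul_left, hf_smul_right, hww]; ring,
        by rw [hf_smul_left, inv_mul_cancel₀ hd]⟩
    have hHP' : HP σ s ((hf σ w' s)⁻¹ • w') :=
      ⟨hss, by rw [hf_smul_left, hf_smul_right, hww']; ring,
        by rw [hf_smul_left, inv_mul_cancel₀ hd']⟩
    obtain ⟨t, ht, hts, htw⟩ := exists_siegel_partner σ hσ2 hHP hHP'
      (fun w hw => good_all σ hσ hσ2 hn hq hHP w hw)
    obtain ⟨g, hg⟩ := hex t ht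
    have hmat : mat ι g = (t : Matrix (Fin n) (Fin n) F) := by unfold mat; rw [hg]
    have h1 := hinvar s _ g 1 one_ne_zero (by rw [hmat, hts, one_smul]) hBs
      (hscale w (hf σ w s)⁻¹ (inv_ne_zero hd) hBw)
    rw [hmat, htw] at h1
    have h2 := hscale _ (hf σ w' s) hd' h1
    rwa [smul_smul, mul_inv_cancel₀ hd', one_smul] at h2
  have claimB : ∀ s w : Fin n → F, hf σ s s = 0 → hf σ w w = 0 → s ≠ 0 → hf σ w s ≠ 0 → B s →
      B w → ∀ r : Fin n → F, r ≠ 0 → hf σ r r = 0 → B r := by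
    intro s w hss hww hs0 hd hBs hBw r hr0 hrr
    by_cases hrs : hf σ r s ≠ 0
    · exact claimA s w r hss hww hrr hd hrs hBs hBw
    obtain ⟨z, hzz, hzs, hzr⟩ := exists_common σ hσ hσ2 s r hs0 hr0 hss hrr
    have hBz : B z := claimA s w z hss hww hzz hd hzs hBs hBw
    have hsz : hf σ s z ≠ 0 := by
      rw [hf_symm σ hσ2]; exact map_ne_zero_of_invol σ hσ2 hzs
    have hrz : hf σ r z ≠ 0 := by
      rw [hf_symm σ hσ2]; exact map_ne_zero_of_invol σ hσ2 hzr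
    exact claimA z s r hzz hss hrr hsz hrz hBz hBs
  -- the two initial points
  have hBu₀ : B u₀ := by
    rw [hBdef]
    exact ⟨1, N.one_mem, 1, one_ne_zero, by rw [mat_one, one_mulVec, one_smul]⟩
  obtain ⟨u₁, hu₁⟩ : ∃ u₁, u₁ = mat ι n₀ *ᵥ u₀ := ⟨_, rfl⟩
  have hBu₁ : B u₁ := by
    rw [hBdef]
    exact ⟨n₀, hn₀, 1, one_ne_zero, by rw [one_smul, hu₁]⟩
  have huu₁ : hf σ u₁ u₁ = 0 := by rw [hu₁, mat_preserves σ ι hσ2 hTG, huu₀]
  have hu₁0 : u₁ ≠ 0 := by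
    intro h0
    apply hmove
    exact ⟨0, by rw [← hu₁, h0, zero_smul]⟩
  by_cases h10 : hf σ u₁ u₀ ≠ 0
  · exact claimB u₀ u₁ huu₀ huu₁ hu₀ h10 hBu₀ hBu₁
  push Not at h10
  have h01 : hf σ u₀ u₁ = 0 := by rw [hf_symm σ hσ2, h10, map_zero]
  obtain ⟨v, hv⟩ := exists_HP_of_isotropic σ hσ hσ2 u₀ hu₀ huu₀
  obtain ⟨w₀, hw₀⟩ : ∃ w₀, w₀ = pr σ u₀ v u₁ := ⟨_, rfl⟩
  have hw₀u : hf σ w₀ u₀ = 0 := by rw [hw₀]; exact hf_pr_u σ hv u₁
  have hw₀v : hf σ w₀ v = 0 := by rw [hw₀]; exact hf_pr_v σ hσ2 hv u₁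
  have hdec : u₁ = hf σ u₁ v • u₀ + w₀ := by
    have := pr_eq σ u₀ v u₁
    rwa [h10, zero_smul, add_zero, ← hw₀] at this
  have hw₀0 : w₀ ≠ 0 := by
    intro h0
    apply hmove
    refine ⟨hf σ u₁ v, ?_⟩
    rw [← hu₁]
    rw [h0, add_zero] at hdec
    exact hdec
  obtain ⟨y₁, hy₁⟩ := exists_hf_ne_zero σ hσ2 w₀ hw₀0
  obtain ⟨y₂, hy₂⟩ : ∃ y₂, y₂ = pr σ u₀ v y₁ := ⟨_, rfl⟩
  have hy₂u : hf σ y₂ u₀ = 0 := by rw [hy₂]; exact hf_pr_u σ hv y₁
  have hy₂w : hf σ y₂ w₀ ≠ 0 := by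
    rw [hy₂, hf_pr_left σ hσ2 y₁ w₀ hw₀u hw₀v]; exact hy₁
  have hy₂u₁ : hf σ y₂ u₁ ≠ 0 := by
    rw [hdec, hf_add_right, hf_smul_right, hy₂u, mul_zero, zero_add]; exact hy₂w
  obtain ⟨a, b, hab⟩ := exists_partner σ hσ hσ2 u₁ y₂ huu₁ hy₂u₁
  obtain ⟨v', hv'⟩ : ∃ v', v' = a • y₂ + b • u₁ := ⟨_, rfl⟩
  rw [← hv'] at hab
  have hv'u₀ : hf σ v' u₀ = 0 := by
    rw [hv', hf_add_left, hf_smul_left, hf_smul_left, hy₂u, h10]; ring
  have hu₀v' : hf σ u₀ v' = 0 := by rw [hf_symm σ hσ2, hv'u₀, map_zero]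
  obtain ⟨ε, hε, hε0⟩ := exists_trace_zero_ne σ hσ hσ2
  have hεv' : hf σ (ε • v') (ε • v') = 0 := by rw [hf_smul_left, hf_smul_right, hab.vv]; ring
  obtain ⟨c, hz, hc, hstep⟩ := step_explicit σ hσ2 u₁ (ε • v') huu₁ hεv'
    (by rw [hf_smul_right, hab.uv hσ2, mul_one]; exact map_ne_zero_of_invol σ hσ2 hε)
    (by rw [hf_smul_right, hab.uv hσ2, mul_one, hσ2]; linear_combination hε0)
  obtain ⟨g, hg⟩ := hex (tvGL σ (ε • v' - u₁) c hz) (tvGL_mem σ _ c hz hc)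
  have hmat : mat ι g = tv σ (ε • v' - u₁) c := by unfold mat; rw [hg]; rfl
  have hgu₀ : mat ι g *ᵥ u₀ = (1 : F) • u₀ := by
    rw [hmat, tv_mulVec, hf_sub_right, hf_smul_right, hu₀v', h01]
    simp
  have h1 := hinvar u₀ u₁ g 1 one_ne_zero hgu₀ hBu₀ hBu₁
  rw [hmat, hstep] at h1
  have hBv' : B v' := by
    have := hscale _ ε⁻¹ (inv_ne_zero hε) h1
    rwa [smul_smul, inv_mul_cancel₀ hε, one_smul] at this
  exact claimB u₁ v' huu₁ hab.vv hu₁0 (by rw [hab.vu]; exact one_ne_zero) hBu₁ hBv'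

/-- the transvection subgroup at `u` -/
def Tsub (u : Fin n → F) (hu : hf σ u u = 0) : Subgroup G where
  carrier := {g | ∃ c : F, c + σ c = 0 ∧ mat ι g = tv σ u c}
  one_mem' := ⟨0, by simp, by
    rw [mat_one]
    show (1 : Matrix (Fin n) (Fin n) F) = sieg σ u 0 0
    rw [sieg_zero]⟩
  mul_mem' := by
    rintro a b ⟨c, hc, ha⟩ ⟨c', hc', hb⟩
    refine ⟨c + c', ?_, ?_⟩
    · rw [map_add]; linear_combination hc + hc'
    · rw [mat_mul, ha, hb, tv_mul_tv σ u hu]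
  inv_mem' := by
    rintro a ⟨c, hc, ha⟩
    refine ⟨-c, ?_, ?_⟩
    · rw [map_neg]; linear_combination (-1 : F) * hc
    · have h1 : mat ι a⁻¹ * mat ι a = 1 := mat_inv_mul ι a
      have h2 : tv σ u c * tv σ u (-c) = 1 := tv_mul_tv_neg σ u c hu
      calc mat ι a⁻¹ = mat ι a⁻¹ * (tv σ u c * tv σ u (-c)) := by rw [h2, Matrix.mul_one]
        _ = (mat ι a⁻¹ * mat ι a) * tv σ u (-c) := by rw [ha, Matrix.mul_assoc]
        _ = tv σ u (-c) := by rw [h1, Matrix.one_mul]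

theorem Tsub_comm (hinj : Function.Injective ι) (u : Fin n → F) (hu : hf σ u u = 0) :
    IsMulCommutative (Tsub σ ι u hu) := by
  refine ⟨⟨?_⟩⟩
  rintro ⟨a, c, hc, ha⟩ ⟨b, c', hc', hb⟩
  apply Subtype.ext
  apply hinj
  apply Units.ext
  show mat ι (a * b) = mat ι (b * a)
  rw [mat_mul, mat_mul, ha, hb, tv_mul_tv σ u hu, tv_mul_tv σ u hu, add_comm]

/-- `N ⊔ T_u = ⊤` once the `N`-orbit of `u` contains all isotropic points -/
theorem sup_Tsub_eq_top (hσ2 : ∀ a, σ (σ a) = a) (hinj : Function.Injective ι)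
    (hTG : ∀ g, ι g ∈ TG σ n) (hex : ∀ t ∈ TG σ n, ∃ g, ι g = t)
    (N : Subgroup G) (u₀ : Fin n → F) (huu₀ : hf σ u₀ u₀ = 0)
    (horb : ∀ w : Fin n → F, w ≠ 0 → hf σ w w = 0 →
      ∃ m ∈ N, ∃ l : F, l ≠ 0 ∧ mat ι m *ᵥ u₀ = l • w) :
    N ⊔ Tsub σ ι u₀ huu₀ = ⊤ := by
  have hle : TG σ n ≤ (N ⊔ Tsub σ ι u₀ huu₀).map ι := by
    unfold TG
    rw [Subgroup.closure_le]
    rintro s ⟨z, c, hz, hc, hs⟩
    by_cases hz0 : z = 0
    · refine ⟨1, Subgroup.one_mem _, ?_⟩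
      apply Units.ext
      rw [map_one, Units.val_one, hs, hz0, tv_zero_vec]
    obtain ⟨m, hm, l, hl, hml⟩ := horb z hz0 hz
    have hσl : σ l ≠ 0 := map_ne_zero_of_invol σ hσ2 hl
    have hz' : z = mat ι m *ᵥ (l⁻¹ • u₀) := by
      rw [mulVec_smul, hml, smul_smul, inv_mul_cancel₀ hl, one_smul]
    set c' : F := c * (l⁻¹ * σ l⁻¹) with hc'
    have hc'0 : c' + σ c' = 0 := by
      rw [hc', map_mul, map_mul, hσ2]
      linear_combination (l⁻¹ * σ l⁻¹) * hc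
    obtain ⟨τ, hτ⟩ := hex (tvGL σ u₀ c' huu₀) (tvGL_mem σ u₀ c' huu₀ hc'0)
    have hτm : mat ι τ = tv σ u₀ c' := by unfold mat; rw [hτ]; rfl
    refine ⟨m * τ * m⁻¹, Subgroup.mul_mem _ (Subgroup.mul_mem _ (Subgroup.mem_sup_left hm)
      (Subgroup.mem_sup_right ⟨c', hc'0, hτm⟩)) (Subgroup.mem_sup_left (N.inv_mem hm)), ?_⟩
    apply Units.ext
    show mat ι (m * τ * m⁻¹) = _
    rw [mat_mul, mat_mul, hτm, hs, hz', ← tv_smul_center σ hσ2,
      tv_conj σ (mat ι m) (mat_preserves σ ι hσ2 hTG m), Matrix.mul_assoc, mat_mul_inv,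
      Matrix.mul_one]
  rw [eq_top_iff]
  intro g _
  obtain ⟨g', hg', hgg'⟩ := hle (hTG g)
  rw [← hinj hgg']
  exact hg'

/-- **Iwasawa's argument**: the quotient by the centre of a perfect group identified with the
group generated by the unitary transvections is simple. -/
theorem simple_center_quot [Finite F] (hσ : σ ≠ RingHom.id F) (hσ2 : ∀ a, σ (σ a) = a)
    (hn : 3 ≤ n) (hq : 4 ≤ n ∨ ∃ l : F, l ≠ 0 ∧ l * σ l ≠ 1)
    (hinj : Function.Injective ι) (hTG : ∀ g, ι g ∈ TG σ n) (hex : ∀ t ∈ TG σ n, ∃ g, ι g = t)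
    (hperf : commutator G = ⊤) (hnt : Nontrivial G) :
    IsSimpleGroup (G ⧸ Subgroup.center G) := by
  -- normal subgroups are central or everything
  have key : ∀ N : Subgroup G, N.Normal → N ≤ Subgroup.center G ∨ N = ⊤ := by
    intro N hN
    by_cases hNZ : N ≤ Subgroup.center G
    · exact Or.inl hNZ
    right
    obtain ⟨n₀, hn₀, hn₀Z⟩ : ∃ n₀ ∈ N, n₀ ∉ Subgroup.center G := by
      by_contra hcon
      push Not at hcon
      exact hNZ hcon
    obtain ⟨u₀, hu₀, huu₀, hmove⟩ : ∃ u₀ : Fin n → F, u₀ ≠ 0 ∧ hf σ u₀ u₀ = 0 ∧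
        ¬ ∃ l : F, mat ι n₀ *ᵥ u₀ = l • u₀ := by
      by_contra hcon
      push Not at hcon
      apply hn₀Z
      apply central_of_fix σ ι hσ hσ2 (by omega) hinj n₀
      intro u hu0 huu
      exact hcon u hu0 huu
    have horb := orbit_all σ ι hσ hσ2 hn hq hTG hex N u₀ hu₀ huu₀ n₀ hn₀ hmove
    have hsup := sup_Tsub_eq_top σ ι hσ2 hinj hTG hex N u₀ huu₀ horb
    have hle := hN.commutator_le_of_self_sup_commutative_eq_top hsup (Tsub_comm σ ι hinj u₀ huu₀)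
    rw [hperf, top_le_iff] at hle
    exact hle
  have hntq : Nontrivial (G ⧸ Subgroup.center G) := by
    by_contra hsub
    rw [not_nontrivial_iff_subsingleton] at hsub
    have hZ : Subgroup.center G = ⊤ := by
      rw [eq_top_iff]
      intro g _
      have : (QuotientGroup.mk g : G ⧸ Subgroup.center G) = 1 := Subsingleton.elim _ _
      exact (QuotientGroup.eq_one_iff g).mp this
    rw [← commutator_eq_bot_iff_center_eq_top, hperf] at hZ
    have : Subsingleton G := by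
      rw [← Subgroup.subsingleton_iff]
      exact subsingleton_of_bot_eq_top hZ.symm
    exact not_subsingleton G this
  refine { exists_pair_ne := hntq.exists_pair_ne, eq_bot_or_eq_top_of_normal := ?_ }
  intro H hH
  rcases key (H.comap (QuotientGroup.mk' (Subgroup.center G))) (hH.comap _) with h | h
  · left
    rw [eq_bot_iff]
    intro x hx
    obtain ⟨g, rfl⟩ := QuotientGroup.mk_surjective x
    rw [Subgroup.mem_bot, QuotientGroup.eq_one_iff]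
    exact h hx
  · right
    rw [eq_top_iff]
    intro x _
    obtain ⟨g, rfl⟩ := QuotientGroup.mk_surjective x
    have hg : g ∈ H.comap (QuotientGroup.mk' (Subgroup.center G)) := by rw [h]; exact Subgroup.mem_top g
    exact hg

end grp

end Cfsg.Agent.Lib.Helper37
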