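import Mathlib
import Cfsg.Prelude.Def_GeometricClasses
import Cfsg.Agent.Lib.Helper99.AschDefs
import Cfsg.Agent.Lib.Helper99.AschDefsR
import Cfsg.Agent.Lib.Helper37.AschC8

/-!
# Project ASCH: modules [C8S], [C8U], [C8Q], refined (`GeoR`) versions
-/

set_option autoImplicit false

namespace Cfsg.Agent.Lib.Helper99.Asch

open Cfsg Cfsg.Geo
open scoped MatrixGroups Matrix

variable {n : ℕ} {F : Type*} [Field F] [Fintype F]

/-- ASCH-[C8S], `GeoR` version -/
theorem geo_of_fixes_symplectic_R (hn : 3 ≤ n) (H P : Subgroup (GL (Fin n) F))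
    (hP : ActsAbsolutelyIrreducibly (matrixSet P)) (hnrm : Nrm H P)
    (f : (Fin n → F) → (Fin n → F) → F) (hf : IsSymplecticForm f)
    (hfix : FixesForm (matrixSet P) f) : GeoR H := by
  have he : Even n := Cfsg.Agent.Lib.Helper37.AschC8.even_of_isSymplecticForm hf
  have h4 : 4 ≤ n := by
    obtain ⟨k, hk⟩ := he
    omega
  refine ⟨similarityGroup f, ?_, ?_⟩
  · right; right; right; right; right; right; right; right; right; left
    exact ⟨f, hf, he, h4, rfl⟩
  · exact Cfsg.Agent.Lib.Helper37.Asch.le_similarityGroup_of_symplectic hf P H hP hfix hnrm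

/-- ASCH-[C8U], `GeoR` version -/
theorem geo_of_fixes_unitary_R (hn : 3 ≤ n) (H P : Subgroup (GL (Fin n) F))
    (hP : ActsAbsolutelyIrreducibly (matrixSet P)) (hnrm : Nrm H P)
    (σ : F ≃+* F) (f : (Fin n → F) → (Fin n → F) → F) (hf : IsUnitaryForm σ f)
    (hfix : FixesForm (matrixSet P) f) : GeoR H := by
  refine ⟨similarityGroup f, ?_, ?_⟩
  · right; right; right; right; right; right; right; right; right; right; left
    exact ⟨σ, f, hf, hn, rfl⟩
  · exact Cfsg.Agent.Lib.Helper37.Asch.le_similarityGroup_of_unitary hf P H hP hfix hnrm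

/-- ASCH-[C8Q], `GeoR` version -/
theorem geo_of_fixes_quadratic_R (hn : 3 ≤ n) (H P : Subgroup (GL (Fin n) F))
    (hP : ActsAbsolutelyIrreducibly (matrixSet P)) (hnrm : Nrm H P)
    (Q : (Fin n → F) → F) (hQ : IsNondegenerateQuadraticForm Q)
    (hfix : FixesQuadForm (matrixSet P) Q) : GeoR H := by
  by_cases h2 : (2 : F) = 0
  · exact geo_of_fixes_symplectic_R hn H P hP hnrm _
      (Cfsg.Agent.Lib.Helper37.Asch.isSymplecticForm_polar hQ h2)
      (Cfsg.Agent.Lib.Helper37.Asch.fixesForm_polar hfix)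
  · have hodd : Odd (Fintype.card F) := by
      rw [Nat.odd_iff]
      apply FiniteField.odd_card_of_char_ne_two
      intro hc
      apply h2
      have := ringChar.Nat.cast_ringChar (R := F)
      rw [hc] at this
      exact_mod_cast this
    refine ⟨quadSimilarityGroup Q, ?_, ?_⟩
    · right; right; right; right; right; right; right; right; right; right; right
      exact ⟨Q, hQ, hodd, hn, rfl⟩
    · exact Cfsg.Agent.Lib.Helper37.Asch.le_quadSimilarityGroup hQ h2 P H hP hfix hnrm

end Cfsg.Agent.Lib.Helper99.Asch
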