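/-
helper37 library: the standard even-dimensional quadratic forms over a finite field as
`QuadraticForm`s, the number of vectors of norm one (which distinguishes the two types), and the
fixed-point congruence for an isometry of prime order.
-/
import Mathlib
import Cfsg.Prelude.Def_Classical
import Cfsg.Agent.Lib.Helper5.OrthMinus
import Cfsg.Agent.Lib.Helper5.QuadCount

set_option autoImplicit false

namespace Cfsg.Agent.Lib.Helper37.OrthEven

open Cfsg.Agent.Lib.Helper5 Matrix

section nondeg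
variable {F : Type*} [Field F] {V : Type*} [AddCommGroup V] [Module F V]

/-- non-degeneracy of the polar form from left non-degeneracy -/
theorem nondeg_of_left (Q : QuadraticForm F V)
    (h : ∀ x : V, (∀ y, QuadraticMap.polar Q x y = 0) → x = 0) :
    (QuadraticMap.polarBilin Q).Nondegenerate := by
  constructor
  · intro x hx
    exact h x hx
  · intro y hy
    apply h y
    intro x
    rw [QuadraticMap.polar_comm]
    exact hy x

theorem nondeg_of_exists (Q : QuadraticForm F V)
    (h : ∀ x : V, x ≠ 0 → ∃ y, QuadraticMap.polar Q x y ≠ 0) :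
    (QuadraticMap.polarBilin Q).Nondegenerate := by
  apply nondeg_of_left
  intro x hx
  by_contra hx0
  obtain ⟨y, hy⟩ := h x hx0
  exact hy (hx y)

theorem left_of_nondeg (Q : QuadraticForm F V) (h : (QuadraticMap.polarBilin Q).Nondegenerate)
    (x : V) (hx : ∀ y, QuadraticMap.polar Q x y = 0) : x = 0 :=
  h.1 x hx

end nondeg

section forms
variable (m : ℕ) (F : Type*) [Field F]

/-- the form `Σ x_i y_i` as a `QuadraticForm` -/
noncomputable def plusQ : QuadraticForm F (Fin m ⊕ Fin m → F) :=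
  ∑ i : Fin m, QuadraticMap.proj (Sum.inl i) (Sum.inr i)

theorem plusQ_coe : ⇑(plusQ m F) = Cfsg.quadFormPlus m F := by
  funext v
  unfold plusQ Cfsg.quadFormPlus
  rw [QuadraticMap.sum_apply]
  simp

theorem plusQ_apply (v : Fin m ⊕ Fin m → F) :
    plusQ m F v = ∑ i : Fin m, v (Sum.inl i) * v (Sum.inr i) := by
  rw [plusQ_coe]
  rfl

theorem plusQ_polar (u v : Fin m ⊕ Fin m → F) :
    QuadraticMap.polar (⇑(plusQ m F)) u v =
      ∑ i : Fin m, (u (Sum.inl i) * v (Sum.inr i) + v (Sum.inl i) * u (Sum.inr i)) := by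
  rw [plusQ_coe]
  unfold QuadraticMap.polar Cfsg.quadFormPlus
  rw [← Finset.sum_sub_distrib, ← Finset.sum_sub_distrib]
  apply Finset.sum_congr rfl
  intro i _
  simp only [Pi.add_apply]
  ring

theorem plusQ_nondeg : (QuadraticMap.polarBilin (plusQ m F)).Nondegenerate := by
  classical
  apply nondeg_of_left
  intro x hx
  funext j
  rcases j with j | j
  · have h := hx (Pi.single (Sum.inr j) 1)
    rw [plusQ_polar, Finset.sum_eq_single j] at h
    · simpa using h
    · intro i _ hij
      simp [hij]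
    · intro h'
      exact absurd (Finset.mem_univ j) h'
  · have h := hx (Pi.single (Sum.inl j) 1)
    rw [plusQ_polar, Finset.sum_eq_single j] at h
    · simpa using h
    · intro i _ hij
      simp [hij]
    · intro h'
      exact absurd (Finset.mem_univ j) h'

/-- the form `Σ x_i y_i + z₁² + a z₁ z₂ + c z₂²` as a `QuadraticForm` -/
noncomputable def minusQ (a c : F) : QuadraticForm F ((Fin m ⊕ Fin m) ⊕ Fin 2 → F) :=
  tailForm m (binForm a c)

theorem minusQ_coe (a c : F) : ⇑(minusQ m F a c) = Cfsg.quadFormMinus m F a c := by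
  funext v
  exact tailForm_binForm m a c v

theorem minusQ_nondeg [Finite F] (a c : F)
    (hac : ∀ z₁ z₂ : F, z₁ ^ 2 + a * z₁ * z₂ + c * z₂ ^ 2 = 0 → z₁ = 0 ∧ z₂ = 0) :
    (QuadraticMap.polarBilin (minusQ m F a c)).Nondegenerate :=
  nondeg_of_exists _ (tailForm_nondeg m (binForm a c) (binForm_nondeg hac))

end forms

section count
variable {F : Type*} [Field F] [Fintype F]

/-- number of vectors of norm one -/
noncomputable def cnt {V : Type*} (Q : V → F) : ℕ := Nat.card {v : V // Q v = 1}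

omit [Fintype F] in
theorem cnt_congr {V V' : Type*} (T : V ≃ V') (Q : V → F) (Q' : V' → F)
    (h : ∀ v, Q' (T v) = Q v) : cnt Q = cnt Q' := by
  unfold cnt
  apply Nat.card_congr
  exact Equiv.subtypeEquiv T (fun v => by rw [h])

theorem cnt_plus (m : ℕ) :
    cnt (Cfsg.quadFormPlus m F) = Fintype.card F ^ (m - 1) * (Fintype.card F ^ m - 1) := by
  classical
  have h := card_hyperbolic_add (F := F) m (W := Unit) (fun _ => (-1 : F))
  have h0 : Nat.card {w : Unit // (-1 : F) = 0} = 0 := by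
    rw [Nat.card_eq_zero]
    left
    constructor
    intro w
    have := w.2
    simp at this
  have hU : Nat.card Unit = 1 := Nat.card_unique
  rw [h0, mul_zero, zero_add, hU, mul_one] at h
  rw [mul_comm, ← h]
  unfold cnt
  apply Nat.card_congr
  refine Equiv.subtypeEquiv
    ((Equiv.sumArrowEquivProdArrow (Fin m) (Fin m) F).trans
      (Equiv.prodCongr (Equiv.refl _) (Equiv.prodPUnit _).symm)) ?_
  intro v
  show Cfsg.quadFormPlus m F v = 1 ↔ (v ∘ Sum.inl) ⬝ᵥ (v ∘ Sum.inr) + (-1 : F) = 0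
  unfold Cfsg.quadFormPlus dotProduct
  simp only [Function.comp_apply]
  constructor
  · intro h1; rw [h1]; ring
  · intro h1; linear_combination h1

theorem cnt_minus (m : ℕ) (a c : F)
    (hac : ∀ z₁ z₂ : F, z₁ ^ 2 + a * z₁ * z₂ + c * z₂ ^ 2 = 0 → z₁ = 0 ∧ z₂ = 0) :
    cnt (Cfsg.quadFormMinus m F a c) = Fintype.card F ^ m * (Fintype.card F ^ (m + 1) + 1) := by
  classical
  have h := card_hyperbolic_add (F := F) m (W := Fin 2 → F) (fun z => binForm a c z - 1)
  have h0 : Nat.card {z : Fin 2 → F // binForm a c z - 1 = 0} = Fintype.card F + 1 := by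
    have h1 := card_unitVec (binForm a c) (binForm_aniso hac) (binForm_nondeg hac)
      (by rw [Nat.card_eq_fintype_card, Fintype.card_fun, Fintype.card_fin])
      (z₀ := Pi.single 0 1) (by rw [binForm_apply]; simp)
    rw [← h1]
    apply Nat.card_congr
    exact Equiv.subtypeEquiv (Equiv.refl _) (fun z => by
      rw [Equiv.refl_apply, sub_eq_zero])
  rw [h0, Nat.card_eq_fintype_card (α := Fin 2 → F), Fintype.card_fun, Fintype.card_fin] at h
  have hq : 1 ≤ Fintype.card F ^ m := Nat.one_le_pow _ _ Fintype.card_pos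
  have hfin : Fintype.card F ^ m * (Fintype.card F + 1) +
      (Fintype.card F ^ m - 1) * (Fintype.card F ^ (m - 1) * Fintype.card F ^ 2) =
      Fintype.card F ^ m * (Fintype.card F ^ (m + 1) + 1) := by
    rcases m with _ | m
    · simp
    · obtain ⟨Q, hQ⟩ : ∃ Q, Q = Fintype.card F := ⟨_, rfl⟩
      rw [← hQ] at hq ⊢
      have h2 : Q ^ (m + 1) - 1 + 1 = Q ^ (m + 1) := Nat.sub_add_cancel hq
      have h3 : (Q ^ (m + 1) - 1) * (Q ^ (m + 1 - 1) * Q ^ 2) + Q ^ (m + 1 - 1) * Q ^ 2 =
          Q ^ (m + 1) * (Q ^ (m + 1 - 1) * Q ^ 2) := by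
        conv_rhs => rw [← h2]
        ring
      have h4 : Q ^ (m + 1 - 1) * Q ^ 2 = Q ^ (m + 1) * Q := by
        rw [Nat.add_sub_cancel]; ring
      rw [h4] at h3
      rw [h4]
      have h5 : Q ^ (m + 1 + 1) = Q ^ (m + 1) * Q := pow_succ _ _
      rw [h5]
      nlinarith [h3]
  rw [← hfin, ← h]
  unfold cnt
  apply Nat.card_congr
  refine Equiv.subtypeEquiv
    ((Equiv.sumArrowEquivProdArrow (Fin m ⊕ Fin m) (Fin 2) F).trans
      ((Equiv.prodCongr (Equiv.sumArrowEquivProdArrow (Fin m) (Fin m) F) (Equiv.refl _)).trans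
        (Equiv.prodAssoc _ _ _))) ?_
  intro v
  show Cfsg.quadFormMinus m F a c v = 1 ↔
    ((v ∘ Sum.inl) ∘ Sum.inl) ⬝ᵥ ((v ∘ Sum.inl) ∘ Sum.inr) + (binForm a c (v ∘ Sum.inr) - 1) = 0
  rw [binForm_apply]
  unfold Cfsg.quadFormMinus dotProduct
  simp only [Function.comp_apply]
  constructor
  · intro h1; linear_combination h1
  · intro h1; linear_combination h1

end count

section fixed

/-- fixed-point congruence for a permutation of prime order -/
theorem card_modEq_fixed {X : Type*} [Finite X] (σ : Equiv.Perm X) (r : ℕ) [Fact r.Prime]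
    (hσ : σ ^ r = 1) : Nat.card X ≡ Nat.card {x : X // σ x = x} [MOD r] := by
  classical
  have : Fintype X := Fintype.ofFinite X
  have h1 := Equiv.Perm.card_compl_support_modEq (p := r) (n := 1) (σ := σ) (by rwa [pow_one])
  rw [Nat.card_eq_fintype_card, Nat.card_eq_fintype_card]
  refine h1.symm.trans ?_
  rw [Fintype.card_subtype]
  have : σ.supportᶜ = Finset.univ.filter (fun x => σ x = x) := by
    ext x
    simp [Equiv.Perm.mem_support]
  rw [this]

variable {F : Type*} [Field F] [Fintype F]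

/-- the number of vectors of norm one is congruent modulo `r` to the number of those fixed by an
isometry of order dividing the prime `r` -/
theorem cnt_modEq {ι : Type*} [Fintype ι] [DecidableEq ι] (Q : (ι → F) → F) (g : Matrix ι ι F)
    (r : ℕ) [hr : Fact r.Prime] (hg : ∀ v, Q (g *ᵥ v) = Q v) (hgr : g ^ r = 1) :
    cnt Q ≡ Nat.card {v : ι → F // Q v = 1 ∧ g *ᵥ v = v} [MOD r] := by
  classical
  have hpowQ : ∀ (k : ℕ) (v : ι → F), Q ((g ^ k) *ᵥ v) = Q v := by
    intro k
    induction k with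
    | zero => intro v; rw [pow_zero, one_mulVec]
    | succ k ih =>
      intro v
      rw [pow_succ, ← mulVec_mulVec, ih, hg]
  have h1 : g ^ (r - 1) * g = 1 := by
    rw [← pow_succ, Nat.sub_add_cancel hr.out.pos, hgr]
  have h2 : g * g ^ (r - 1) = 1 := by
    rw [← pow_succ', Nat.sub_add_cancel hr.out.pos, hgr]
  let σ : Equiv.Perm {v : ι → F // Q v = 1} :=
    { toFun := fun v => ⟨g *ᵥ v.1, by rw [hg]; exact v.2⟩
      invFun := fun v => ⟨(g ^ (r - 1)) *ᵥ v.1, by rw [hpowQ]; exact v.2⟩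
      left_inv := fun v => by
        apply Subtype.ext
        show (g ^ (r - 1)) *ᵥ (g *ᵥ v.1) = v.1
        rw [mulVec_mulVec, h1, one_mulVec]
      right_inv := fun v => by
        apply Subtype.ext
        show g *ᵥ ((g ^ (r - 1)) *ᵥ v.1) = v.1
        rw [mulVec_mulVec, h2, one_mulVec] }
  have hσpow : ∀ (k : ℕ) (v : {v : ι → F // Q v = 1}), ((σ ^ k) v).1 = (g ^ k) *ᵥ v.1 := by
    intro k
    induction k with
    | zero => intro v; rw [pow_zero, pow_zero, one_mulVec]; rfl
    | succ k ih =>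
      intro v
      rw [pow_succ', Equiv.Perm.mul_apply, pow_succ', ← mulVec_mulVec, ← ih]
      rfl
  have hσr : σ ^ r = 1 := by
    apply Equiv.ext
    intro v
    apply Subtype.ext
    rw [hσpow, hgr, one_mulVec]
    rfl
  have h3 := card_modEq_fixed σ r hσr
  have h4 : Nat.card {x : {v : ι → F // Q v = 1} // σ x = x} =
      Nat.card {v : ι → F // Q v = 1 ∧ g *ᵥ v = v} := by
    apply Nat.card_congr
    exact
      { toFun := fun x => ⟨x.1.1, x.1.2, congrArg Subtype.val x.2⟩
        invFun := fun v => ⟨⟨v.1, v.2.1⟩, Subtype.ext v.2.2⟩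
        left_inv := fun _ => rfl
        right_inv := fun _ => rfl }
  rw [h4] at h3
  exact h3

/-- no fixed vectors: the count is divisible by `r` -/
theorem dvd_cnt {ι : Type*} [Fintype ι] [DecidableEq ι] (Q : (ι → F) → F) (hQ0 : Q 0 = 0)
    (g : Matrix ι ι F)
    (r : ℕ) [hr : Fact r.Prime] (hg : ∀ v, Q (g *ᵥ v) = Q v) (hgr : g ^ r = 1)
    (hfix : ∀ v, g *ᵥ v = v → v = 0) : r ∣ cnt Q := by
  have h := cnt_modEq Q g r hg hgr
  have h0 : Nat.card {v : ι → F // Q v = 1 ∧ g *ᵥ v = v} = 0 := by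
    rw [Nat.card_eq_zero]
    left
    constructor
    intro v
    have h1 := hfix v.1 v.2.2
    have h2 := v.2.1
    rw [h1, hQ0] at h2
    exact zero_ne_one h2
  rw [h0] at h
  exact (Nat.modEq_zero_iff_dvd).1 h

end fixed

section casts
variable {F : Type*} [Field F] [Fintype F]

theorem cast_cnt_plus (r m : ℕ) :
    ((Fintype.card F : ℕ) : ZMod r) * (cnt (Cfsg.quadFormPlus m F) : ZMod r) =
      ((Fintype.card F : ℕ) : ZMod r) ^ m * (((Fintype.card F : ℕ) : ZMod r) ^ m - 1) := by
  rw [cnt_plus]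
  have hq : 1 ≤ Fintype.card F ^ m := Nat.one_le_pow _ _ Fintype.card_pos
  rw [Nat.cast_mul, Nat.cast_sub hq, Nat.cast_pow, Nat.cast_pow, Nat.cast_one]
  rcases m with _ | m
  · simp
  · rw [Nat.add_sub_cancel]
    ring

theorem cast_cnt_minus (r m : ℕ) (a c : F)
    (hac : ∀ z₁ z₂ : F, z₁ ^ 2 + a * z₁ * z₂ + c * z₂ ^ 2 = 0 → z₁ = 0 ∧ z₂ = 0) :
    ((Fintype.card F : ℕ) : ZMod r) * (cnt (Cfsg.quadFormMinus m F a c) : ZMod r) =
      ((Fintype.card F : ℕ) : ZMod r) ^ (m + 1) *
        (((Fintype.card F : ℕ) : ZMod r) ^ (m + 1) + 1) := by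
  rw [cnt_minus m a c hac]
  push_cast
  ring

end casts

end Cfsg.Agent.Lib.Helper37.OrthEven
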