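/-
helper37 library: quadratic forms are determined by their values and polar values on a basis;
isometries from matching bases.
-/
import Mathlib

set_option autoImplicit false

namespace Cfsg.Agent.Lib.Helper37.OrthIso

variable {F : Type*} [Field F] {V V' : Type*} [AddCommGroup V] [Module F V]
  [AddCommGroup V'] [Module F V']

/-- the value of a quadratic form on a linear combination is determined by the Gram data -/
theorem quad_sum_eq (Q : QuadraticForm F V) (Q' : QuadraticForm F V') {κ : Type*} [DecidableEq κ]
    (b : κ → V) (b' : κ → V') (hQ : ∀ k, Q (b k) = Q' (b' k))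
    (hpol : ∀ k l, QuadraticMap.polar Q (b k) (b l) = QuadraticMap.polar Q' (b' k) (b' l))
    (a : κ → F) (s : Finset κ) :
    Q (∑ k ∈ s, a k • b k) = Q' (∑ k ∈ s, a k • b' k) := by
  have hpolsum : ∀ (t : Finset κ) (l : κ),
      QuadraticMap.polar Q (b l) (∑ k ∈ t, a k • b k) =
        QuadraticMap.polar Q' (b' l) (∑ k ∈ t, a k • b' k) := by
    intro t l
    have h1 : QuadraticMap.polar Q (b l) (∑ k ∈ t, a k • b k) =
        ∑ k ∈ t, a k * QuadraticMap.polar Q (b l) (b k) := by
      have := map_sum (QuadraticMap.polarBilin Q (b l)) (fun k => a k • b k) t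
      simp only [QuadraticMap.polarBilin_apply_apply] at this
      rw [this]
      apply Finset.sum_congr rfl
      intro k _
      rw [QuadraticMap.polar_smul_right, smul_eq_mul]
    have h2 : QuadraticMap.polar Q' (b' l) (∑ k ∈ t, a k • b' k) =
        ∑ k ∈ t, a k * QuadraticMap.polar Q' (b' l) (b' k) := by
      have := map_sum (QuadraticMap.polarBilin Q' (b' l)) (fun k => a k • b' k) t
      simp only [QuadraticMap.polarBilin_apply_apply] at this
      rw [this]
      apply Finset.sum_congr rfl
      intro k _
      rw [QuadraticMap.polar_smul_right, smul_eq_mul]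
    rw [h1, h2]
    apply Finset.sum_congr rfl
    intro k _
    rw [hpol]
  induction s using Finset.induction_on with
  | empty => simp
  | insert k s hk ih =>
    rw [Finset.sum_insert hk, Finset.sum_insert hk]
    have e1 : ∀ (x y : V), Q (x + y) = Q x + Q y + QuadraticMap.polar Q x y := by
      intro x y; unfold QuadraticMap.polar; ring
    have e2 : ∀ (x y : V'), Q' (x + y) = Q' x + Q' y + QuadraticMap.polar Q' x y := by
      intro x y; unfold QuadraticMap.polar; ring
    rw [e1, e2, ih, QuadraticMap.map_smul, QuadraticMap.map_smul, hQ,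
      QuadraticMap.polar_smul_left, QuadraticMap.polar_smul_left, hpolsum]

/-- the linear equivalence matching two bases with the same Gram data is an isometry -/
theorem isometry_of_bases (Q : QuadraticForm F V) (Q' : QuadraticForm F V') {κ : Type*}
    [Fintype κ] [DecidableEq κ] (b : Module.Basis κ F V) (b' : Module.Basis κ F V')
    (hQ : ∀ k, Q (b k) = Q' (b' k))
    (hpol : ∀ k l, QuadraticMap.polar Q (b k) (b l) = QuadraticMap.polar Q' (b' k) (b' l))
    (v : V) : Q' (b.equiv b' (Equiv.refl κ) v) = Q v := by
  conv_rhs => rw [← b.sum_repr v]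
  have h1 : b.equiv b' (Equiv.refl κ) v = ∑ k, b.repr v k • b' k := by
    conv_lhs => rw [← b.sum_repr v]
    rw [map_sum]
    apply Finset.sum_congr rfl
    intro k _
    rw [map_smul, Module.Basis.equiv_apply, Equiv.refl_apply]
  rw [h1]
  exact (quad_sum_eq Q Q' b b' hQ hpol (fun k => b.repr v k) Finset.univ).symm

end Cfsg.Agent.Lib.Helper37.OrthIso
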