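/-
helper37 library: every non-degenerate even-dimensional quadratic space over a finite field is
isometric to a standard hyperbolic or elliptic one (from S2616), and the two types are
distinguished modulo an odd prime `r` by the number of vectors of norm one.
-/
import Mathlib
import Cfsg.Agent.S2616
import Cfsg.Agent.Lib.Helper37.OrthIso
import Cfsg.Agent.Lib.Helper37.OrthEvenCount

set_option autoImplicit false

namespace Cfsg.Agent.Lib.Helper37.OrthEven

open Cfsg.Agent.Lib.Helper5 Matrix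

section gram
variable {F : Type*} [Field F]

/-- Gram data of a hyperbolic basis -/
def gramPlus (n : ℕ) (F : Type*) [Field F] : (Fin n ⊕ Fin n) → (Fin n ⊕ Fin n) → F
  | Sum.inl i, Sum.inr j => if i = j then 1 else 0
  | Sum.inr i, Sum.inl j => if i = j then 1 else 0
  | _, _ => 0

theorem plusQ_single (n : ℕ) (k : Fin n ⊕ Fin n) : plusQ n F (Pi.single k 1) = 0 := by
  classical
  rw [plusQ_apply]
  apply Finset.sum_eq_zero
  intro i _
  rcases k with k | k
  · simp
  · simp

theorem plusQ_polar_single (n : ℕ) (k l : Fin n ⊕ Fin n) :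
    QuadraticMap.polar (⇑(plusQ n F)) (Pi.single k 1) (Pi.single l 1) = gramPlus n F k l := by
  classical
  rw [plusQ_polar]
  rcases k with k | k <;> rcases l with l | l
  · simp [gramPlus]
  · simp [gramPlus, Pi.single_apply, eq_comm]
  · simp [gramPlus, Pi.single_apply, eq_comm]
  · simp [gramPlus]

/-- Gram data of an elliptic basis -/
def gramMinus (n : ℕ) (F : Type*) [Field F] (ζ : F) :
    ((Fin n ⊕ Fin n) ⊕ Fin 2) → ((Fin n ⊕ Fin n) ⊕ Fin 2) → F
  | Sum.inl (Sum.inl i), Sum.inl (Sum.inr j) => if i = j then 1 else 0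
  | Sum.inl (Sum.inr i), Sum.inl (Sum.inl j) => if i = j then 1 else 0
  | Sum.inr a, Sum.inr b => if a = 0 then (if b = 0 then 2 else 1) else (if b = 0 then 1 else 2 * ζ)
  | _, _ => 0

theorem minusQ_single (n : ℕ) (ζ : F) (k : (Fin n ⊕ Fin n) ⊕ Fin 2) :
    minusQ n F 1 ζ (Pi.single k 1) =
      match k with
      | Sum.inl _ => 0
      | Sum.inr a => if a = 0 then 1 else ζ := by
  classical
  have h := congrFun (minusQ_coe n F 1 ζ) (Pi.single k 1)
  rw [h]
  unfold Cfsg.quadFormMinus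
  rcases k with (k | k) | k
  · simp
  · simp
  · fin_cases k
    · simp
    · simp

theorem minusQ_polar (n : ℕ) (a c : F) (x y : (Fin n ⊕ Fin n) ⊕ Fin 2 → F) :
    QuadraticMap.polar (⇑(minusQ n F a c)) x y =
      ∑ i, (x (Sum.inl (Sum.inl i)) * y (Sum.inl (Sum.inr i)) +
        y (Sum.inl (Sum.inl i)) * x (Sum.inl (Sum.inr i))) +
      (2 * x (Sum.inr 0) * y (Sum.inr 0) + a * (x (Sum.inr 0) * y (Sum.inr 1) +
        x (Sum.inr 1) * y (Sum.inr 0)) + 2 * c * x (Sum.inr 1) * y (Sum.inr 1)) := by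
  unfold minusQ
  rw [tailForm_polar, binForm_polar]
  rfl

theorem minusQ_polar_single (n : ℕ) (ζ : F) (k l : (Fin n ⊕ Fin n) ⊕ Fin 2) :
    QuadraticMap.polar (⇑(minusQ n F 1 ζ)) (Pi.single k 1) (Pi.single l 1) =
      gramMinus n F ζ k l := by
  classical
  rw [minusQ_polar]
  rcases k with (k | k) | k <;> rcases l with (l | l) | l
  · simp [gramMinus]
  · simp [gramMinus, Pi.single_apply, eq_comm]
  · simp [gramMinus]
  · simp [gramMinus, Pi.single_apply, eq_comm]
  · simp [gramMinus]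
  · simp [gramMinus]
  · simp [gramMinus]
  · simp [gramMinus]
  · fin_cases k <;> fin_cases l <;> simp [gramMinus]

end gram

section stdiso
variable {F : Type*} [Field F] [Finite F] {V : Type*} [AddCommGroup V] [Module F V]
  [FiniteDimensional F V]

/-- a non-degenerate quadratic space of dimension `2n` over a finite field is isometric to the
standard hyperbolic space or to a standard elliptic space -/
theorem exists_std_iso (n : ℕ) (hV : Module.finrank F V = 2 * n) (Q : QuadraticForm F V)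
    (hQ : (QuadraticMap.polarBilin Q).Nondegenerate) :
    (∃ T : V ≃ₗ[F] (Fin n ⊕ Fin n → F), ∀ v, Cfsg.quadFormPlus n F (T v) = Q v) ∨
    (1 ≤ n ∧ ∃ (ζ : F) (_ : ∀ t : F, t ^ 2 + t + ζ ≠ 0)
      (T : V ≃ₗ[F] ((Fin (n - 1) ⊕ Fin (n - 1)) ⊕ Fin 2 → F)),
      ∀ v, Cfsg.quadFormMinus (n - 1) F 1 ζ (T v) = Q v) := by
  classical
  rcases Nat.eq_zero_or_pos n with hn | hn
  · left
    subst hn
    have hsub : Subsingleton V := Module.finrank_zero_iff.1 (by rw [hV])
    have hfr : Module.finrank F V = Module.finrank F (Fin 0 ⊕ Fin 0 → F) := by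
      rw [hV, Module.finrank_fintype_fun_eq_card]
      simp
    refine ⟨LinearEquiv.ofFinrankEq _ _ hfr, ?_⟩
    intro v
    rw [Subsingleton.elim v 0, map_zero, map_zero]
    unfold Cfsg.quadFormPlus
    simp
  · rcases Cfsg.Agent.S2616.result hn hV Q hQ with ⟨b, hb0, hbef, hbee⟩ | ⟨b, ζ, hζ, hb0, hbef, hbee, hbz, hx, hxy, hy⟩
    · left
      let b₀ : Module.Basis (Fin n ⊕ Fin n) F (Fin n ⊕ Fin n → F) := Pi.basisFun F _
      have hb₀ : ∀ k, b₀ k = Pi.single k 1 := fun k => Pi.basisFun_apply F _ k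
      refine ⟨b.equiv b₀ (Equiv.refl _), ?_⟩
      have h := Cfsg.Agent.Lib.Helper37.OrthIso.isometry_of_bases Q (plusQ n F) b b₀ ?_ ?_
      · intro v
        rw [← plusQ_coe]
        exact h v
      · intro k
        rw [hb₀, plusQ_single]
        rcases k with k | k
        · exact (hb0 k).1
        · exact (hb0 k).2
      · intro k l
        rw [hb₀, hb₀, plusQ_polar_single]
        rcases k with k | k <;> rcases l with l | l
        · rw [(hbee k l).1]; rfl
        · rw [hbef k l]; rfl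
        · rw [QuadraticMap.polar_comm, hbef l k]
          simp [gramPlus, eq_comm]
        · rw [(hbee k l).2]; rfl
    · right
      refine ⟨hn, ζ, hζ, ?_⟩
      let b₀ : Module.Basis ((Fin (n - 1) ⊕ Fin (n - 1)) ⊕ Fin 2) F
        ((Fin (n - 1) ⊕ Fin (n - 1)) ⊕ Fin 2 → F) := Pi.basisFun F _
      have hb₀ : ∀ k, b₀ k = Pi.single k 1 := fun k => Pi.basisFun_apply F _ k
      refine ⟨b.equiv b₀ (Equiv.refl _), ?_⟩
      have h := Cfsg.Agent.Lib.Helper37.OrthIso.isometry_of_bases Q (minusQ (n - 1) F 1 ζ) b b₀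
        ?_ ?_
      · intro v
        rw [← minusQ_coe]
        exact h v
      · intro k
        rw [hb₀, minusQ_single]
        rcases k with (k | k) | k
        · exact (hb0 k).1
        · exact (hb0 k).2
        · fin_cases k
          · exact hx
          · exact hy
      · intro k l
        rw [hb₀, hb₀, minusQ_polar_single]
        rcases k with (k | k) | k <;> rcases l with (l | l) | l
        · rw [(hbee k l).1]; rfl
        · rw [hbef k l]; rfl
        · rw [(hbz k l).1]; rfl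
        · rw [QuadraticMap.polar_comm, hbef l k]
          simp [gramMinus, eq_comm]
        · rw [(hbee k l).2]; rfl
        · rw [(hbz k l).2]; rfl
        · rw [QuadraticMap.polar_comm, (hbz l k).1]; rfl
        · rw [QuadraticMap.polar_comm, (hbz l k).2]; rfl
        · fin_cases k <;> fin_cases l
          · show QuadraticMap.polar (⇑Q) (b (Sum.inr 0)) (b (Sum.inr 0)) = _
            rw [QuadraticMap.polar_self, hx]
            simp [gramMinus]
          · show QuadraticMap.polar (⇑Q) (b (Sum.inr 0)) (b (Sum.inr 1)) = _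
            rw [hxy]
            simp [gramMinus]
          · show QuadraticMap.polar (⇑Q) (b (Sum.inr 1)) (b (Sum.inr 0)) = _
            rw [QuadraticMap.polar_comm, hxy]
            simp [gramMinus]
          · show QuadraticMap.polar (⇑Q) (b (Sum.inr 1)) (b (Sum.inr 1)) = _
            rw [QuadraticMap.polar_self, hy]
            simp [gramMinus]

end stdiso

section typecount
variable {F : Type*} [Field F] [Fintype F] {V : Type*} [AddCommGroup V] [Module F V]
  [FiniteDimensional F V]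

omit [Fintype F] in
theorem aniso_of_irred (ζ : F) (hζ : ∀ t : F, t ^ 2 + t + ζ ≠ 0) :
    ∀ z₁ z₂ : F, z₁ ^ 2 + 1 * z₁ * z₂ + ζ * z₂ ^ 2 = 0 → z₁ = 0 ∧ z₂ = 0 := by
  intro z₁ z₂ h
  have h2 : z₂ = 0 := by
    by_contra h2
    apply hζ (z₁ / z₂)
    field_simp
    linear_combination h
  subst h2
  refine ⟨?_, rfl⟩
  have : z₁ ^ 2 = 0 := by linear_combination h
  exact pow_eq_zero_iff (two_ne_zero) |>.1 this

/-- the count of norm-one vectors modulo `r`, in the two cases -/
theorem cnt_cases (r : ℕ) (n : ℕ) (hV : Module.finrank F V = 2 * n) (Q : QuadraticForm F V)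
    (hQ : (QuadraticMap.polarBilin Q).Nondegenerate) :
    ((∃ T : V ≃ₗ[F] (Fin n ⊕ Fin n → F), ∀ v, Cfsg.quadFormPlus n F (T v) = Q v) ∧
      ((Fintype.card F : ℕ) : ZMod r) * (cnt (⇑Q) : ZMod r) =
        ((Fintype.card F : ℕ) : ZMod r) ^ n * (((Fintype.card F : ℕ) : ZMod r) ^ n - 1)) ∨
    ((1 ≤ n ∧ ∃ (ζ : F) (_ : ∀ t : F, t ^ 2 + t + ζ ≠ 0)
      (T : V ≃ₗ[F] ((Fin (n - 1) ⊕ Fin (n - 1)) ⊕ Fin 2 → F)),
      ∀ v, Cfsg.quadFormMinus (n - 1) F 1 ζ (T v) = Q v) ∧
      ((Fintype.card F : ℕ) : ZMod r) * (cnt (⇑Q) : ZMod r) =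
        ((Fintype.card F : ℕ) : ZMod r) ^ n * (((Fintype.card F : ℕ) : ZMod r) ^ n + 1)) := by
  rcases exists_std_iso n hV Q hQ with ⟨T, hT⟩ | ⟨hn, ζ, hζ, T, hT⟩
  · left
    refine ⟨⟨T, hT⟩, ?_⟩
    rw [cnt_congr T.toEquiv (⇑Q) (Cfsg.quadFormPlus n F) hT, cast_cnt_plus]
  · right
    refine ⟨⟨hn, ζ, hζ, T, hT⟩, ?_⟩
    rw [cnt_congr T.toEquiv (⇑Q) (Cfsg.quadFormMinus (n - 1) F 1 ζ) hT,
      cast_cnt_minus r (n - 1) 1 ζ (aniso_of_irred ζ hζ), Nat.sub_add_cancel hn]

/-- a space whose count of norm-one vectors is of hyperbolic type is hyperbolic -/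
theorem plus_of_cnt (r : ℕ) (h2 : (2 : ZMod r) ≠ 0)
    (hx : IsUnit ((Fintype.card F : ℕ) : ZMod r)) (n : ℕ)
    (hV : Module.finrank F V = 2 * n) (Q : QuadraticForm F V)
    (hQ : (QuadraticMap.polarBilin Q).Nondegenerate)
    (hc : ((Fintype.card F : ℕ) : ZMod r) * (cnt (⇑Q) : ZMod r) =
        ((Fintype.card F : ℕ) : ZMod r) ^ n * (((Fintype.card F : ℕ) : ZMod r) ^ n - 1)) :
    ∃ T : V ≃ₗ[F] (Fin n ⊕ Fin n → F), ∀ v, Cfsg.quadFormPlus n F (T v) = Q v := by
  rcases cnt_cases r n hV Q hQ with ⟨h, -⟩ | ⟨-, h⟩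
  · exact h
  · exfalso
    rw [hc] at h
    have h3 := (hx.pow n).mul_left_cancel h
    apply h2
    linear_combination -h3

/-- a space whose count of norm-one vectors is of elliptic type is elliptic -/
theorem minus_of_cnt (r : ℕ) (h2 : (2 : ZMod r) ≠ 0)
    (hx : IsUnit ((Fintype.card F : ℕ) : ZMod r)) (n : ℕ)
    (hV : Module.finrank F V = 2 * n) (Q : QuadraticForm F V)
    (hQ : (QuadraticMap.polarBilin Q).Nondegenerate)
    (hc : ((Fintype.card F : ℕ) : ZMod r) * (cnt (⇑Q) : ZMod r) =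
        ((Fintype.card F : ℕ) : ZMod r) ^ n * (((Fintype.card F : ℕ) : ZMod r) ^ n + 1)) :
    1 ≤ n ∧ ∃ (ζ : F) (_ : ∀ t : F, t ^ 2 + t + ζ ≠ 0)
      (T : V ≃ₗ[F] ((Fin (n - 1) ⊕ Fin (n - 1)) ⊕ Fin 2 → F)),
      ∀ v, Cfsg.quadFormMinus (n - 1) F 1 ζ (T v) = Q v := by
  rcases cnt_cases r n hV Q hQ with ⟨-, h⟩ | ⟨h, -⟩
  · exfalso
    rw [hc] at h
    have h3 := (hx.pow n).mul_left_cancel h
    apply h2
    linear_combination h3
  · exact h

end typecount

end Cfsg.Agent.Lib.Helper37.OrthEven
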