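import Mathlib

set_option autoImplicit false

namespace Cfsg.Agent.Lib.Helper37.ReeW2

private theorem orderOf_conj' {G : Type*} [Group G] (g x : G) : orderOf (g * x * g⁻¹) = orderOf x := by
  have := MulEquiv.orderOf_eq (MulAut.conj g) x
  simpa [MulAut.conj_apply] using this

/-- the basic splitting of an element of order `2 i`, `i` odd. -/
theorem split_two_mul {G : Type*} [Group G] (i : ℕ) (hi : Odd i) (x : G) (hx : orderOf x = 2 * i) :
    orderOf (x ^ i) = 2 ∧ orderOf (x ^ (i + 1)) = i ∧ x ^ i * x ^ (i + 1) = x := by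
  obtain ⟨j, rfl⟩ := hi
  have hpos : 0 < 2 * (2 * j + 1) := by omega
  refine ⟨?_, ?_, ?_⟩
  · rw [orderOf_pow' x (by omega), hx]
    have : Nat.gcd (2 * (2 * j + 1)) (2 * j + 1) = 2 * j + 1 := by
      apply Nat.gcd_eq_right
      exact Dvd.intro_left 2 rfl
    rw [this]
    exact Nat.mul_div_cancel _ (by omega)
  · rw [orderOf_pow' x (by omega), hx]
    have : Nat.gcd (2 * (2 * j + 1)) (2 * j + 1 + 1) = 2 := by
      have h1 : 2 * j + 1 + 1 = 2 * (j + 1) := by ring
      rw [h1, Nat.gcd_mul_left]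
      have : Nat.gcd (2 * j + 1) (j + 1) = 1 := by
        have hd1 := Nat.gcd_dvd_left (2 * j + 1) (j + 1)
        have hd2 := Nat.gcd_dvd_right (2 * j + 1) (j + 1)
        have h4 : Nat.gcd (2 * j + 1) (j + 1) ∣ 2 * (j + 1) - (2 * j + 1) :=
          Nat.dvd_sub (Dvd.dvd.mul_left hd2 2) hd1
        have h3 : 2 * (j + 1) - (2 * j + 1) = 1 := by omega
        rw [h3] at h4
        exact Nat.dvd_one.mp h4
      rw [this]
    rw [this]
    exact Nat.mul_div_cancel_left _ (by omega)
  · rw [← pow_add]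
    have : 2 * j + 1 + (2 * j + 1 + 1) = 2 * (2 * j + 1) + 1 := by ring
    rw [this, pow_succ, ← hx, pow_orderOf_eq_one, one_mul]

theorem join_two_mul {G : Type*} [Group G] (i : ℕ) (hi : Odd i) (t u : G) (ht : orderOf t = 2)
    (hu : orderOf u = i) (hc : u * t = t * u) :
    orderOf (t * u) = 2 * i ∧ (t * u) ^ i = t ∧ (t * u) ^ (i + 1) = u := by
  have hcomm : Commute t u := hc.symm
  have hcop : Nat.Coprime (orderOf t) (orderOf u) := by
    rw [ht, hu]
    exact (Nat.coprime_two_left).mpr hi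
  have ht2 : t ^ 2 = 1 := by rw [← ht]; exact pow_orderOf_eq_one t
  have hui : u ^ i = 1 := by rw [← hu]; exact pow_orderOf_eq_one u
  obtain ⟨j, hj⟩ := hi
  have hti : t ^ i = t := by
    rw [hj, pow_succ, pow_mul, ht2, one_pow, one_mul]
  refine ⟨?_, ?_, ?_⟩
  · rw [hcomm.orderOf_mul_eq_mul_orderOf_of_coprime hcop, ht, hu]
  · rw [hcomm.mul_pow, hti, hui, mul_one]
  · rw [hcomm.mul_pow, pow_succ, pow_succ, hti, hui, one_mul]
    have : t * t = 1 := by rw [← pow_two]; exact ht2
    rw [this, one_mul]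

/-! ## [W2-TWO] (Mathlib only) -/
theorem card_orderOf_two_mul {G : Type*} [Group G] [Finite G] (i : ℕ) (hi : Odd i) (t₀ : G) (ht₀ : orderOf t₀ = 2)
    (hconj : ∀ t : G, orderOf t = 2 → ∃ g : G, t = g * t₀ * g⁻¹) :
    Nat.card {x : G // orderOf x = 2 * i}
      = Nat.card {t : G // orderOf t = 2} * Nat.card {u : G // orderOf u = i ∧ u * t₀ = t₀ * u} := by
  classical
  choose c hc using hconj
  let e : {x : G // orderOf x = 2 * i} ≃
      ({t : G // orderOf t = 2} × {u : G // orderOf u = i ∧ u * t₀ = t₀ * u}) :=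
    { toFun := fun x =>
        (⟨x.1 ^ i, (split_two_mul i hi x.1 x.2).1⟩,
          ⟨(c (x.1 ^ i) (split_two_mul i hi x.1 x.2).1)⁻¹ * x.1 ^ (i + 1) *
              (c (x.1 ^ i) (split_two_mul i hi x.1 x.2).1), by
            have h := split_two_mul i hi x.1 x.2
            set g := c (x.1 ^ i) h.1 with hg
            have hg' : x.1 ^ i = g * t₀ * g⁻¹ := hc (x.1 ^ i) h.1
            refine ⟨?_, ?_⟩
            · have := orderOf_conj' g⁻¹ (x.1 ^ (i + 1))
              rw [inv_inv] at this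
              rw [this, h.2.1]
            · have ht0 : t₀ = g⁻¹ * x.1 ^ i * g := by rw [hg']; group
              have hpc : x.1 ^ (i + 1) * x.1 ^ i = x.1 ^ i * x.1 ^ (i + 1) := by
                rw [← pow_add, ← pow_add, add_comm]
              calc g⁻¹ * x.1 ^ (i + 1) * g * t₀
                  = g⁻¹ * (x.1 ^ (i + 1) * x.1 ^ i) * g := by rw [ht0]; group
                _ = g⁻¹ * (x.1 ^ i * x.1 ^ (i + 1)) * g := by rw [hpc]
                _ = t₀ * (g⁻¹ * x.1 ^ (i + 1) * g) := by rw [ht0]; group⟩)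
      invFun := fun tu =>
        ⟨tu.1.1 * ((c tu.1.1 tu.1.2) * tu.2.1 * (c tu.1.1 tu.1.2)⁻¹), by
          set g := c tu.1.1 tu.1.2 with hg
          have hg' : tu.1.1 = g * t₀ * g⁻¹ := hc tu.1.1 tu.1.2
          have hu' : orderOf (g * tu.2.1 * g⁻¹) = i := by rw [orderOf_conj', tu.2.2.1]
          have hcm : g * tu.2.1 * g⁻¹ * tu.1.1 = tu.1.1 * (g * tu.2.1 * g⁻¹) := by
            have h2 := tu.2.2.2
            calc g * tu.2.1 * g⁻¹ * tu.1.1 = g * (tu.2.1 * t₀) * g⁻¹ := by rw [hg']; group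
              _ = g * (t₀ * tu.2.1) * g⁻¹ := by rw [h2]
              _ = tu.1.1 * (g * tu.2.1 * g⁻¹) := by rw [hg']; group
          exact (join_two_mul i hi tu.1.1 _ tu.1.2 hu' hcm).1⟩
      left_inv := by
        rintro ⟨x, hx⟩
        apply Subtype.ext
        simp only
        have h := split_two_mul i hi x hx
        have : c (x ^ i) h.1 * ((c (x ^ i) h.1)⁻¹ * x ^ (i + 1) * c (x ^ i) h.1) * (c (x ^ i) h.1)⁻¹
            = x ^ (i + 1) := by group
        rw [this]
        exact h.2.2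
      right_inv := by
        rintro ⟨⟨t, ht⟩, ⟨u, hu, hut⟩⟩
        set g := c t ht with hg
        have hg' : t = g * t₀ * g⁻¹ := hc t ht
        have hu' : orderOf (g * u * g⁻¹) = i := by rw [orderOf_conj', hu]
        have hcm : g * u * g⁻¹ * t = t * (g * u * g⁻¹) := by
          calc g * u * g⁻¹ * t = g * (u * t₀) * g⁻¹ := by rw [hg']; group
            _ = g * (t₀ * u) * g⁻¹ := by rw [hut]
            _ = t * (g * u * g⁻¹) := by rw [hg']; group
        have hj := join_two_mul i hi t _ ht hu' hcm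
        have key : ∀ (t' : G) (ht' : orderOf t' = 2), t' = t → c t' ht' = g := by
          intro t' ht' hte
          subst hte
          rfl
        apply Prod.ext
        · apply Subtype.ext
          exact hj.2.1
        · apply Subtype.ext
          show (c _ _)⁻¹ * (t * (g * u * g⁻¹)) ^ (i + 1) * (c _ _) = u
          rw [key _ _ hj.2.1, hj.2.2]
          group }
  rw [Nat.card_congr e, Nat.card_prod]

end Cfsg.Agent.Lib.Helper37.ReeW2
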