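import Mathlib
import Cfsg.Agent.Lib.Helper37.ReeW2Two

set_option autoImplicit false
set_option linter.style.haveILetI false

namespace Cfsg.Agent.Lib.Helper37.ReeW2

/-! ## [W2-ABEL] (Mathlib only) -/
theorem card_orderOf_of_four_mul {D : Type*} [Group D] [Finite D] (hD : ∀ x y : D, x * y = y * x) (k : ℕ)
    (hk : Odd k) (hcard : Nat.card D = 4 * k) (h4 : ∀ x : D, orderOf x ≠ 4)
    (hcyc : ∀ p : ℕ, p.Prime → p ∣ k → ∀ R : Subgroup D, IsPGroup p ↥R → IsCyclic ↥R) :
    (∀ i : ℕ, i ∣ k → Nat.card {x : D // orderOf x = i} = Nat.totient i ∧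
      Nat.card {x : D // orderOf x = 2 * i} = 3 * Nat.totient i) ∧
    (∀ x : D, orderOf x ∣ 2 * k) ∧
    ∃ A : Subgroup D, IsCyclic ↥A ∧ Nat.card ↥A = k ∧ ∀ x : D, x ∈ A ↔ x ^ k = 1 := by
  classical
  letI : CommGroup D := { (inferInstance : Group D) with mul_comm := hD }
  have hkpos : 0 < k := hk.pos
  -- (a)
  have ha : ∀ x : D, x ^ 4 = 1 → x ^ 2 = 1 := by
    intro x hx
    have hdvd : orderOf x ∣ 4 := orderOf_dvd_of_pow_eq_one hx
    have hle : orderOf x ≤ 4 := Nat.le_of_dvd (by norm_num) hdvd
    have hne := h4 x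
    have hpos : 0 < orderOf x := orderOf_pos x
    have : orderOf x ∣ 2 := by
      interval_cases h : orderOf x
      · exact one_dvd _
      · exact dvd_rfl
      · norm_num at hdvd
      · exact absurd rfl hne
    exact orderOf_dvd_iff_pow_eq_one.mp this
  -- (b)
  have hb : ∀ x : D, (x ^ k) ^ 2 = 1 := by
    intro x
    apply ha
    rw [← pow_mul, mul_comm, ← hcard]
    exact pow_card_eq_one'
  have h2 : ∀ x : D, orderOf x ∣ 2 * k := by
    intro x
    apply orderOf_dvd_of_pow_eq_one
    rw [mul_comm, pow_mul]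
    exact hb x
  -- the subgroups
  let fk : D →* D := powMonoidHom k
  let A : Subgroup D := fk.ker
  let T : Subgroup D := (powMonoidHom 2 : D →* D).ker
  have hA : ∀ x : D, x ∈ A ↔ x ^ k = 1 := fun x => by
    show x ∈ fk.ker ↔ _
    rw [MonoidHom.mem_ker]; rfl
  have hT : ∀ x : D, x ∈ T ↔ x ^ 2 = 1 := fun x => by
    show x ∈ (powMonoidHom 2 : D →* D).ker ↔ _
    rw [MonoidHom.mem_ker]; rfl
  -- (c) range fk = T
  have hrange : fk.range = T := by
    ext t
    constructor
    · rintro ⟨x, rfl⟩
      rw [hT]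
      exact hb x
    · intro ht
      rw [hT] at ht
      refine ⟨t, ?_⟩
      obtain ⟨j, hj⟩ := hk
      show t ^ k = t
      rw [hj, pow_succ, pow_mul, ht, one_pow, one_mul]
  -- (d)
  have hprod : Nat.card A * Nat.card T = 4 * k := by
    rw [← hcard, ← hrange]
    have h1 := Subgroup.card_mul_index fk.ker
    rw [Subgroup.index_ker] at h1
    exact h1
  -- (e)
  have hTcard : Nat.card T = 4 := by
    have hTp : IsPGroup 2 T := by
      intro x
      refine ⟨1, ?_⟩
      have := (hT x.1).mp x.2
      apply Subtype.ext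
      simpa using this
    obtain ⟨n, hn⟩ := hTp.exists_card_eq
    have hdvd : Nat.card T ∣ 4 * k := by
      rw [← hcard]; exact Subgroup.card_subgroup_dvd_card T
    have hdvd4 : Nat.card T ∣ 4 := by
      rw [hn] at hdvd ⊢
      have hcop : Nat.Coprime (2 ^ n) k := Nat.Coprime.pow_left n ((Nat.coprime_two_left).mpr hk)
      exact hcop.dvd_of_dvd_mul_right hdvd
    have h4dvd : (2 : ℕ) ^ 2 ∣ Nat.card D := by
      rw [hcard]; exact Dvd.intro k rfl
    haveI : Fact (Nat.Prime 2) := ⟨Nat.prime_two⟩
    obtain ⟨S, hS⟩ := Sylow.exists_subgroup_card_pow_prime 2 h4dvd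
    have hST : S ≤ T := by
      intro x hx
      rw [hT]
      apply ha
      have : (⟨x, hx⟩ : S) ^ Nat.card S = 1 := pow_card_eq_one'
      rw [hS] at this
      have := congrArg Subtype.val this
      simpa using this
    have h4T : 4 ∣ Nat.card T := by
      have := Subgroup.card_dvd_of_le hST
      rw [hS] at this
      exact this
    exact Nat.dvd_antisymm hdvd4 h4T
  -- (f)
  have hAcard : Nat.card A = k := by
    rw [hTcard] at hprod
    omega
  -- (g)
  haveI hAz : IsZGroup A := by
    rw [isZGroup_iff]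
    intro p hp P
    by_cases hpk : p ∣ k
    · have hR : IsPGroup p ((P : Subgroup A).map A.subtype) := P.2.map A.subtype
      haveI := hcyc p hp hpk _ hR
      have e : (P : Subgroup A) ≃* ((P : Subgroup A).map A.subtype) :=
        Subgroup.equivMapOfInjective _ _ A.subtype_injective
      exact isCyclic_of_surjective e.symm e.symm.surjective
    · haveI : Fact p.Prime := ⟨hp⟩
      have hPcard : Nat.card (P : Subgroup A) = 1 := by
        obtain ⟨n, hn⟩ := P.2.exists_card_eq
        have hdvd : Nat.card (P : Subgroup A) ∣ k := by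
          rw [← hAcard]; exact Subgroup.card_subgroup_dvd_card _
        rw [hn] at hdvd ⊢
        rcases Nat.eq_zero_or_pos n with h0 | h0
        · rw [h0, pow_zero]
        · exfalso
          apply hpk
          exact dvd_trans (dvd_pow_self p (by omega)) hdvd
      haveI : Subsingleton (P : Subgroup A) := by
        have := (Nat.card_eq_one_iff_unique.mp hPcard).1
        exact this
      exact isCyclic_of_subsingleton
  have hAcyc : IsCyclic A := inferInstance
  -- involutions
  have hinv : Nat.card {t : D // orderOf t = 2} = 3 := by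
    have hset : {t : D | orderOf t = 2} = (T : Set D) \ {1} := by
      ext t
      simp only [Set.mem_ofPred_eq, Set.mem_sdiff, SetLike.mem_coe, Set.mem_singleton_iff]
      rw [hT, orderOf_eq_prime_iff]
    have h1 : Nat.card {t : D // orderOf t = 2} = Set.ncard {t : D | orderOf t = 2} := by
      rw [← Nat.card_coe_set_eq]; rfl
    rw [h1, hset, Set.ncard_sdiff_singleton_of_mem (T.one_mem)]
    have : Set.ncard (T : Set D) = Nat.card T := by
      rw [← Nat.card_coe_set_eq]; rfl
    rw [this, hTcard]
  -- counting elements of order i ∣ k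
  have hcount : ∀ i : ℕ, i ∣ k → Nat.card {x : D // orderOf x = i} = Nat.totient i := by
    intro i hi
    have e : {x : D // orderOf x = i} ≃ {y : A // orderOf y = i} :=
      { toFun := fun x => ⟨⟨x.1, by
            rw [hA]
            apply orderOf_dvd_iff_pow_eq_one.mp
            rw [x.2]; exact hi⟩, by
          rw [← Subgroup.orderOf_coe]; exact x.2⟩
        invFun := fun y => ⟨y.1.1, by rw [Subgroup.orderOf_coe]; exact y.2⟩
        left_inv := fun x => rfl
        right_inv := fun y => rfl }
    rw [Nat.card_congr e]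
    haveI : Fintype A := Fintype.ofFinite A
    have hc := IsCyclic.card_orderOf_eq_totient (α := A) (d := i) (by
      rw [← Nat.card_eq_fintype_card, hAcard]; exact hi)
    rw [← hc, Nat.card_eq_fintype_card, Fintype.card_subtype]
  refine ⟨?_, h2, A, hAcyc, hAcard, hA⟩
  intro i hi
  refine ⟨hcount i hi, ?_⟩
  have hiodd : Odd i := by
    obtain ⟨c, hc⟩ := hi
    rw [hc] at hk
    exact (Nat.odd_mul.mp hk).1
  let e : {x : D // orderOf x = 2 * i} ≃ ({t : D // orderOf t = 2} × {u : D // orderOf u = i}) :=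
    { toFun := fun x => (⟨x.1 ^ i, (split_two_mul i hiodd x.1 x.2).1⟩,
        ⟨x.1 ^ (i + 1), (split_two_mul i hiodd x.1 x.2).2.1⟩)
      invFun := fun tu => ⟨tu.1.1 * tu.2.1,
        (join_two_mul i hiodd tu.1.1 tu.2.1 tu.1.2 tu.2.2 (hD _ _)).1⟩
      left_inv := fun x => Subtype.ext (split_two_mul i hiodd x.1 x.2).2.2
      right_inv := fun tu => by
        have h := join_two_mul i hiodd tu.1.1 tu.2.1 tu.1.2 tu.2.2 (hD _ _)
        apply Prod.ext
        · exact Subtype.ext h.2.1
        · exact Subtype.ext h.2.2 }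
  rw [Nat.card_congr e, Nat.card_prod, hinv, hcount i hi]

end Cfsg.Agent.Lib.Helper37.ReeW2
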