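import Mathlib
import Cfsg.Agent.Lib.Helper36.Tri.OctLin

set_option autoImplicit false

/-!
# Split octonions: the basic identities (brute force), private copy for the TRI8 modules of helper37
-/

namespace Cfsg.Agent.Lib.Helper37.Tri

open Cfsg.Agent.Lib.Helper36.Tri

variable {F : Type*} [Field F]

theorem b_oone_omul (x : OV F) : omul oone x = x := by
  funext i
  rcases i with i | i <;> fin_cases i <;> simp [omul, oone]

theorem b_omul_oone (x : OV F) : omul x oone = x := by
  funext i
  rcases i with i | i <;> fin_cases i <;> simp [omul, oone]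

theorem b_onorm_oone : onorm (oone : OV F) = 1 := by
  rw [onorm_eq]; simp [oone]

theorem b_oconj_oone : oconj (oone : OV F) = oone := by
  funext i
  rcases i with i | i <;> fin_cases i <;> simp [oconj, oone]

theorem b_onorm_omul (x y : OV F) : onorm (omul x y) = onorm x * onorm y := by
  rw [onorm_eq, onorm_eq, onorm_eq]; simp [omul]; ring

theorem b_omul_oconj (x : OV F) : omul x (oconj x) = onorm x • oone := by
  funext i
  rcases i with i | i <;> fin_cases i <;> simp [omul, oconj, oone, onorm_eq] <;> ring

theorem b_oconj_omul (x : OV F) : omul (oconj x) x = onorm x • oone := by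
  funext i
  rcases i with i | i <;> fin_cases i <;> simp [omul, oconj, oone, onorm_eq] <;> ring

theorem b_oconj_omul_rev (x y : OV F) : oconj (omul x y) = omul (oconj y) (oconj x) := by
  funext i
  rcases i with i | i <;> fin_cases i <;> simp [omul, oconj] <;> ring

set_option maxHeartbeats 4000000 in
theorem b_moufang_mid (a x y : OV F) :
    omul (omul a x) (omul y a) = omul (omul a (omul x y)) a := by
  funext i
  rcases i with i | i <;> fin_cases i <;> simp [omul] <;> ring

set_option maxHeartbeats 4000000 in
theorem b_moufang_left (a x y : OV F) :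
    omul a (omul x (omul a y)) = omul (omul (omul a x) a) y := by
  funext i
  rcases i with i | i <;> fin_cases i <;> simp [omul] <;> ring

set_option maxHeartbeats 4000000 in
theorem b_moufang_right (a x y : OV F) :
    omul (omul (omul x a) y) a = omul x (omul a (omul y a)) := by
  funext i
  rcases i with i | i <;> fin_cases i <;> simp [omul] <;> ring

theorem b_flexible (a x : OV F) : omul (omul a x) a = omul a (omul x a) := by
  funext i
  rcases i with i | i <;> fin_cases i <;> simp [omul] <;> ring

theorem b_oconj_omul_cancel (x y : OV F) : omul (oconj x) (omul x y) = onorm x • y := by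
  funext i
  rcases i with i | i <;> fin_cases i <;> simp [omul, oconj, onorm_eq] <;> ring

theorem b_omul_oconj_cancel (x y : OV F) : omul x (omul (oconj x) y) = onorm x • y := by
  funext i
  rcases i with i | i <;> fin_cases i <;> simp [omul, oconj, onorm_eq] <;> ring

theorem b_omul_cancel_oconj (x y : OV F) : omul (omul y x) (oconj x) = onorm x • y := by
  funext i
  rcases i with i | i <;> fin_cases i <;> simp [omul, oconj, onorm_eq] <;> ring

theorem b_omul_cancel_oconj' (x y : OV F) : omul (omul y (oconj x)) x = onorm x • y := by
  funext i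
  rcases i with i | i <;> fin_cases i <;> simp [omul, oconj, onorm_eq] <;> ring

theorem b_omul_oconj_omul (u x : OV F) :
    omul (omul u (oconj x)) u = obil u x • u - onorm u • x := by
  funext i
  rcases i with i | i <;> fin_cases i <;> simp [omul, oconj, onorm_eq, obil_eq] <;> ring

theorem b_obil_comm (x y : OV F) : obil x y = obil y x := by
  rw [obil_eq, obil_eq]; ring

theorem b_obil_add_left (x x' y : OV F) : obil (x + x') y = obil x y + obil x' y := by
  rw [obil_eq, obil_eq, obil_eq]; simp only [Pi.add_apply]; ring

theorem b_obil_add_right (x y y' : OV F) : obil x (y + y') = obil x y + obil x y' := by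
  rw [obil_eq, obil_eq, obil_eq]; simp only [Pi.add_apply]; ring

theorem b_obil_smul_left (c : F) (x y : OV F) : obil (c • x) y = c * obil x y := by
  rw [obil_eq, obil_eq]; simp only [Pi.smul_apply, smul_eq_mul]; ring

theorem b_obil_smul_right (c : F) (x y : OV F) : obil x (c • y) = c * obil x y := by
  rw [obil_eq, obil_eq]; simp only [Pi.smul_apply, smul_eq_mul]; ring

theorem b_obil_self (x : OV F) : obil x x = 2 * onorm x := by
  rw [obil_eq, onorm_eq]; ring

theorem b_obil_oconj (x y : OV F) : obil (oconj x) (oconj y) = obil x y := by
  rw [obil_eq, obil_eq]; simp [oconj]; ring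

theorem b_obil_omul_left (x y z : OV F) : obil (omul x y) z = obil y (omul (oconj x) z) := by
  rw [obil_eq, obil_eq]; simp [omul, oconj]; ring

theorem b_obil_omul_right (x y z : OV F) : obil (omul x y) z = obil x (omul z (oconj y)) := by
  rw [obil_eq, obil_eq]; simp [omul, oconj]; ring

theorem b_obil_omul_omul (x y z : OV F) : obil (omul x z) (omul y z) = obil x y * onorm z := by
  rw [obil_eq, obil_eq, onorm_eq]; simp [omul]; ring

theorem b_obil_omul_omul' (x y z : OV F) : obil (omul z x) (omul z y) = onorm z * obil x y := by
  rw [obil_eq, obil_eq, onorm_eq]; simp [omul]; ring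

theorem b_onorm_smul (c : F) (x : OV F) : onorm (c • x) = c ^ 2 * onorm x := by
  rw [onorm_eq, onorm_eq]; simp only [Pi.smul_apply, smul_eq_mul]; ring

theorem b_onorm_add (x y : OV F) : onorm (x + y) = onorm x + onorm y + obil x y := by
  unfold obil; ring

theorem b_onorm_neg (x : OV F) : onorm (-x) = onorm x := by
  rw [onorm_eq, onorm_eq]; simp only [Pi.neg_apply]; ring

theorem b_onorm_sub (x y : OV F) : onorm (x - y) = onorm x + onorm y - obil x y := by
  rw [onorm_eq, onorm_eq, onorm_eq, obil_eq]; simp only [Pi.sub_apply]; ring

theorem b_obil_nondeg (x : OV F) (h : ∀ y, obil x y = 0) : x = 0 := by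
  funext i
  rcases i with i | i
  · have := h (Pi.single (Sum.inr i) 1)
    rw [obil_eq] at this
    fin_cases i <;> simpa using this
  · have := h (Pi.single (Sum.inl i) 1)
    rw [obil_eq] at this
    fin_cases i <;> simpa using this

end Cfsg.Agent.Lib.Helper37.Tri
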