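import Mathlib
import Cfsg.Agent.Lib.Helper37.TriBase

set_option autoImplicit false

/-!
# TRI8-[OCT-CYC]: cyclic permutation of related triples of the split octonions
-/

namespace Cfsg.Agent.Lib.Helper37.Tri

open Cfsg.Agent.Lib.Helper36.Tri

variable {F : Type*} [Field F]

theorem obil_of_isIso {A : OV F ≃ₗ[F] OV F} (hA : IsIso A) (x y : OV F) :
    obil (A x) (A y) = obil x y := by
  unfold obil
  rw [← map_add, hA, hA, hA]

/-- two vectors with the same pairing against everything are equal -/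
theorem eq_of_obil_eq {u v : OV F} (h : ∀ w, obil w u = obil w v) : u = v := by
  have h0 : u - v = 0 := by
    apply b_obil_nondeg
    intro y
    rw [b_obil_comm, sub_eq_add_neg, b_obil_add_right, ← neg_one_smul F v, b_obil_smul_right, h y]
    ring
  exact sub_eq_zero.mp h0

/-- rule 1: `A(xy) = B x · C y` gives `C (x z) = (κ B κ) x · A z` -/
theorem isRel_rule1 {A B C : OV F ≃ₗ[F] OV F} (hA : IsIso A) (hC : IsIso C) (h : IsRel A B C) :
    IsRel C (hatE B) A := by
  intro x z
  rw [hatE_apply]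
  apply eq_of_obil_eq
  intro w
  obtain ⟨y, rfl⟩ := C.surjective w
  calc obil (C y) (C (omul x z)) = obil y (omul x z) := obil_of_isIso hC _ _
    _ = obil y (omul (oconj (oconj x)) z) := by rw [oconj_oconj]
    _ = obil (omul (oconj x) y) z := (b_obil_omul_left _ _ _).symm
    _ = obil (A (omul (oconj x) y)) (A z) := (obil_of_isIso hA _ _).symm
    _ = obil (omul (B (oconj x)) (C y)) (A z) := by rw [h]
    _ = obil (C y) (omul (oconj (B (oconj x))) (A z)) := b_obil_omul_left _ _ _

/-- rule 2: `A(xy) = B x · C y` gives `B (x y) = A x · (κ C κ) y` -/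
theorem isRel_rule2 {A B C : OV F ≃ₗ[F] OV F} (hA : IsIso A) (hB : IsIso B) (h : IsRel A B C) :
    IsRel B A (hatE C) := by
  intro z y
  rw [hatE_apply]
  apply eq_of_obil_eq
  intro w
  obtain ⟨w', rfl⟩ := B.surjective w
  calc obil (B w') (B (omul z y)) = obil w' (omul z y) := obil_of_isIso hB _ _
    _ = obil w' (omul z (oconj (oconj y))) := by rw [oconj_oconj]
    _ = obil (omul w' (oconj y)) z := (b_obil_omul_right _ _ _).symm
    _ = obil (A (omul w' (oconj y))) (A z) := (obil_of_isIso hA _ _).symm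
    _ = obil (omul (B w') (C (oconj y))) (A z) := by rw [h]
    _ = obil (B w') (omul (A z) (oconj (C (oconj y)))) := b_obil_omul_right _ _ _

theorem isIso_hatE {A : OV F ≃ₗ[F] OV F} (hA : IsIso A) : IsIso (hatE A) := by
  intro x
  rw [hatE_apply, onorm_oconj, hA, onorm_oconj]

theorem isRel_cyc {A B C : OV F ≃ₗ[F] OV F} (hA : IsIso A) (hB : IsIso B) (hC : IsIso C)
    (h : IsRel A B C) : IsRel (hatE B) C (hatE A) :=
  isRel_rule2 hC (isIso_hatE hB) (isRel_rule1 hA hC h)

theorem isRel_hat {A B C : OV F ≃ₗ[F] OV F} (h : IsRel A B C) :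
    IsRel (hatE A) (hatE C) (hatE B) := by
  intro x y
  rw [hatE_apply, hatE_apply, hatE_apply, b_oconj_omul_rev, h, b_oconj_omul_rev]

end Cfsg.Agent.Lib.Helper37.Tri
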