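import Mathlib
import Cfsg.Agent.Lib.Helper37.TriBase

set_option autoImplicit false

/-!
# TRI8-[OCT-KER]: the nucleus of the split octonions and the kernel of the triality map
-/

namespace Cfsg.Agent.Lib.Helper37.Tri

open Cfsg.Agent.Lib.Helper36.Tri

variable {F : Type*} [Field F]

/-- the nucleus of the split octonions consists of the scalars -/
theorem nucleus (b : OV F) (h : ∀ x y : OV F, omul (omul x b) y = omul x (omul b y)) :
    ∃ l : F, b = l • oone := by
  have e := fun (i j k : Fin 4 ⊕ Fin 4) => congrFun (h (Pi.single i 1) (Pi.single j 1)) k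
  have e1 := e (.inl 0) (.inl 1) (.inr 2)
  have e2 := e (.inl 0) (.inl 1) (.inr 3)
  have e3 := e (.inl 0) (.inl 2) (.inr 3)
  have e4 := e (.inl 0) (.inr 1) (.inl 2)
  have e5 := e (.inl 0) (.inr 1) (.inl 3)
  have e6 := e (.inl 0) (.inr 2) (.inl 3)
  have e7 := e (.inl 1) (.inl 2) (.inr 3)
  simp [omul] at e1 e2 e3 e4 e5 e6 e7
  have e5' : b (.inr 2) = 0 := by
    first
      | exact e5
      | exact e5.symm
  clear e5 e
  refine ⟨b (.inl 0), ?_⟩
  funext i
  rcases i with i | i <;> fin_cases i <;> simp [oone, e1, e2, e3, e4, e5', e6, e7]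

theorem rel_scalar (a : F) (ha : a ≠ 0) (B C : OV F ≃ₗ[F] OV F)
    (h : ∀ x y : OV F, a • omul x y = omul (B x) (C y)) :
    ∃ l m : F, l * m = a ∧ (∀ x, B x = l • x) ∧ (∀ y, C y = m • y) := by
  set b := B oone with hb
  set c := C oone with hc
  have h11 : a • (oone : OV F) = omul b c := by
    have := h oone oone
    rwa [b_oone_omul] at this
  have hN : a ^ 2 = onorm b * onorm c := by
    have := congrArg onorm h11
    rwa [b_onorm_smul, b_onorm_oone, mul_one, b_onorm_omul] at this
  have hNb : onorm b ≠ 0 := by
    intro h0; rw [h0, zero_mul] at hN; exact ha (pow_eq_zero_iff (two_ne_zero) |>.mp hN)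
  have hNc : onorm c ≠ 0 := by
    intro h0; rw [h0, mul_zero] at hN; exact ha (pow_eq_zero_iff (two_ne_zero) |>.mp hN)
  -- B x in terms of c
  have hB : ∀ x, onorm c • B x = a • omul x (oconj c) := by
    intro x
    have := h x oone
    rw [b_omul_oone] at this
    rw [← b_omul_cancel_oconj c (B x), ← this, omul_smul_left]
  -- C y in terms of b
  have hC : ∀ y, onorm b • C y = a • omul (oconj b) y := by
    intro y
    have := h oone y
    rw [b_oone_omul] at this
    rw [← b_oconj_omul_cancel b (C y), ← this, omul_smul_right]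
  -- c in terms of b
  have hcb : onorm b • c = a • oconj b := by
    have := congrArg (omul (oconj b)) h11
    rwa [omul_smul_right, b_omul_oone, b_oconj_omul_cancel, eq_comm] at this
  have hcb' : onorm b • oconj c = a • b := by
    have := congrArg oconj hcb
    rwa [oconj_smul, oconj_smul, oconj_oconj] at this
  -- B x = x b
  have hBx : ∀ x, B x = omul x b := by
    intro x
    have h1 : (onorm b * onorm c) • B x = (onorm b * onorm c) • omul x b := by
      rw [mul_smul, hB, smul_comm, ← omul_smul_right, hcb', omul_smul_right, smul_smul, ← pow_two, hN]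
    have hne : onorm b * onorm c ≠ 0 := mul_ne_zero hNb hNc
    exact smul_right_injective _ hne h1
  -- associativity with b
  have hassoc : ∀ x y : OV F, omul (omul x b) y = omul x (omul b y) := by
    intro x y
    have h1 := h x (omul b y)
    rw [hBx] at h1
    have h2 : onorm b • (a • omul x (omul b y)) = onorm b • (a • omul (omul x b) y) := by
      rw [h1, ← omul_smul_right, hC, omul_smul_right, b_oconj_omul_cancel, omul_smul_right,
        smul_comm]
    have := smul_right_injective (OV F) hNb h2
    exact (smul_right_injective (OV F) ha this).symm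
  obtain ⟨l, hl⟩ := nucleus b hassoc
  have hl0 : l ≠ 0 := by
    intro h0
    rw [h0, zero_smul] at hl
    apply hNb
    rw [hl, onorm_eq]; simp
  have hNl : onorm b = l ^ 2 := by
    rw [hl, b_onorm_smul, b_onorm_oone, mul_one]
  refine ⟨l, a / l, by field_simp, ?_, ?_⟩
  · intro x
    rw [hBx, hl, omul_smul_right, b_omul_oone]
  · intro y
    have h1 := hC y
    rw [hl, oconj_smul, b_oconj_oone, omul_smul_left, b_oone_omul, ← hl, hNl, smul_smul] at h1
    have : (l ^ 2) • C y = (l ^ 2) • ((a / l) • y) := by
      rw [h1, smul_smul]; congr 1; field_simp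
    exact smul_right_injective (OV F) (pow_ne_zero 2 hl0) this

end Cfsg.Agent.Lib.Helper37.Tri
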