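import Mathlib
import Cfsg.Agent.Lib.Helper37.TriBase

set_option autoImplicit false

/-!
# TRI8-[OCT-REFL]: a product of two reflections lies in a related triple
-/

namespace Cfsg.Agent.Lib.Helper37.Tri

open Cfsg.Agent.Lib.Helper36.Tri

variable {F : Type*} [Field F]

/-- the reflection in `w` (for `onorm w = c`) -/
def reflL (c : F) (w : OV F) : OV F →ₗ[F] OV F where
  toFun := fun x => x - (c⁻¹ * obil w x) • w
  map_add' := fun x y => by
    rw [b_obil_add_right, mul_add, add_smul]; abel
  map_smul' := fun a x => by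
    rw [b_obil_smul_right, RingHom.id_apply, smul_sub, smul_smul]
    congr 2; ring

@[simp] theorem reflL_apply (c : F) (w x : OV F) : reflL c w x = x - (c⁻¹ * obil w x) • w := rfl

theorem reflL_reflL (c : F) (hc : c ≠ 0) (w : OV F) (hw : onorm w = c) (x : OV F) :
    reflL c w (reflL c w x) = x := by
  simp only [reflL_apply]
  have h1 : obil w (x - (c⁻¹ * obil w x) • w) = - obil w x := by
    rw [sub_eq_add_neg, b_obil_add_right, ← neg_smul, b_obil_smul_right, b_obil_self, hw]
    field_simp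
    ring
  rw [h1]
  rw [mul_neg, neg_smul]
  abel

theorem onorm_reflL (c : F) (hc : c ≠ 0) (w : OV F) (hw : onorm w = c) (x : OV F) :
    onorm (reflL c w x) = onorm x := by
  simp only [reflL_apply]
  rw [b_onorm_sub, b_onorm_smul, hw, b_obil_smul_right, b_obil_comm x w]
  field_simp
  ring

/-- the reflection as a linear equivalence -/
def reflE (c : F) (hc : c ≠ 0) (w : OV F) (hw : onorm w = c) : OV F ≃ₗ[F] OV F where
  toLinearMap := reflL c w
  invFun := reflL c w
  left_inv := fun x => reflL_reflL c hc w hw x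
  right_inv := fun x => reflL_reflL c hc w hw x

@[simp] theorem reflE_apply (c : F) (hc : c ≠ 0) (w : OV F) (hw : onorm w = c) (x : OV F) :
    reflE c hc w hw x = x - (c⁻¹ * obil w x) • w := rfl

theorem reflL_eq (c : F) (hc : c ≠ 0) (w : OV F) (hw : onorm w = c) (x : OV F) :
    reflL c w x = (-c⁻¹) • omul (omul w (oconj x)) w := by
  rw [reflL_apply, b_omul_oconj_omul, hw, smul_sub, smul_smul, smul_smul]
  have : -c⁻¹ * c = -1 := by field_simp
  rw [this, neg_one_smul, sub_neg_eq_add, add_comm, neg_mul, neg_smul, ← sub_eq_add_neg]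

theorem inv_inv_mul_mul (c : F) (hc : c ≠ 0) (y : OV F) : c⁻¹ • c⁻¹ • c • c • y = y := by
  rw [smul_smul, smul_smul, smul_smul]
  rw [show c⁻¹ * c⁻¹ * c * c = 1 by field_simp, one_smul]

/-- `B x = c⁻¹ • u (v̄ x)` -/
def relB (c : F) (hc : c ≠ 0) (u v : OV F) (hu : onorm u = c) (hv : onorm v = c) :
    OV F ≃ₗ[F] OV F where
  toLinearMap := c⁻¹ • (Lm u ∘ₗ Lm (oconj v))
  invFun := fun x => c⁻¹ • omul v (omul (oconj u) x)
  left_inv := fun x => by
    show c⁻¹ • omul v (omul (oconj u) (c⁻¹ • omul u (omul (oconj v) x))) = x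
    rw [omul_smul_right, omul_smul_right, b_oconj_omul_cancel, hu, omul_smul_right,
      b_omul_oconj_cancel, hv]
    exact inv_inv_mul_mul c hc x
  right_inv := fun x => by
    show c⁻¹ • omul u (omul (oconj v) (c⁻¹ • omul v (omul (oconj u) x))) = x
    rw [omul_smul_right, omul_smul_right, b_oconj_omul_cancel, hv, omul_smul_right,
      b_omul_oconj_cancel, hu]
    exact inv_inv_mul_mul c hc x

theorem relB_apply (c : F) (hc : c ≠ 0) (u v : OV F) (hu : onorm u = c) (hv : onorm v = c)
    (x : OV F) : relB c hc u v hu hv x = c⁻¹ • omul u (omul (oconj v) x) := rfl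

/-- `C x = c⁻¹ • (x v̄) u` -/
def relC (c : F) (hc : c ≠ 0) (u v : OV F) (hu : onorm u = c) (hv : onorm v = c) :
    OV F ≃ₗ[F] OV F where
  toLinearMap := c⁻¹ • (Rm u ∘ₗ Rm (oconj v))
  invFun := fun x => c⁻¹ • omul (omul x (oconj u)) v
  left_inv := fun x => by
    show c⁻¹ • omul (omul (c⁻¹ • omul (omul x (oconj v)) u) (oconj u)) v = x
    rw [omul_smul_left, omul_smul_left, b_omul_cancel_oconj, hu, omul_smul_left,
      b_omul_cancel_oconj', hv]
    exact inv_inv_mul_mul c hc x
  right_inv := fun x => by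
    show c⁻¹ • omul (omul (c⁻¹ • omul (omul x (oconj u)) v) (oconj v)) u = x
    rw [omul_smul_left, omul_smul_left, b_omul_cancel_oconj, hv, omul_smul_left,
      b_omul_cancel_oconj', hu]
    exact inv_inv_mul_mul c hc x

theorem relC_apply (c : F) (hc : c ≠ 0) (u v : OV F) (hu : onorm u = c) (hv : onorm v = c)
    (x : OV F) : relC c hc u v hu hv x = c⁻¹ • omul (omul x (oconj v)) u := rfl

/-- the product of the two reflections, as a twisted two-sided multiplication -/
theorem refl_refl_eq (c : F) (hc : c ≠ 0) (u v : OV F) (hu : onorm u = c) (hv : onorm v = c)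
    (x : OV F) :
    reflL c u (reflL c v x) = (c⁻¹ * c⁻¹) • omul (omul u (omul (oconj v) (omul x (oconj v)))) u := by
  rw [reflL_eq c hc u hu, reflL_eq c hc v hv x, oconj_smul, b_oconj_omul_rev, b_oconj_omul_rev,
    oconj_oconj, omul_smul_right, omul_smul_left, smul_smul, neg_mul_neg]

/-- **TRI8-[OCT-REFL]** -/
theorem refl_rel (u v : OV F) (c : F) (hc : c ≠ 0) (hu : onorm u = c) (hv : onorm v = c) :
    ∃ A B C : OV F ≃ₗ[F] OV F, IsIso A ∧ IsIso B ∧ IsIso C ∧ IsRel A B C ∧
      (∀ x, A x = (x - (c⁻¹ * obil v x) • v)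
        - (c⁻¹ * obil u (x - (c⁻¹ * obil v x) • v)) • u) ∧
      (∀ x, B x = c⁻¹ • omul u (omul (oconj v) x)) ∧
      (∀ x, C x = c⁻¹ • omul (omul x (oconj v)) u) := by
  refine ⟨(reflE c hc v hv).trans (reflE c hc u hu), relB c hc u v hu hv, relC c hc u v hu hv,
    ?_, ?_, ?_, ?_, fun x => rfl, fun x => rfl, fun x => rfl⟩
  · intro x
    show onorm (reflL c u (reflL c v x)) = onorm x
    rw [onorm_reflL c hc u hu, onorm_reflL c hc v hv]
  · intro x
    rw [relB_apply, b_onorm_smul, b_onorm_omul, b_onorm_omul, onorm_oconj, hu, hv]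
    field_simp
  · intro x
    rw [relC_apply, b_onorm_smul, b_onorm_omul, b_onorm_omul, onorm_oconj, hu, hv]
    field_simp
  · intro x y
    show reflL c u (reflL c v (omul x y)) = omul (relB c hc u v hu hv x) (relC c hc u v hu hv y)
    rw [refl_refl_eq c hc u v hu hv, relB_apply, relC_apply, omul_smul_left, omul_smul_right,
      smul_smul]
    congr 1
    rw [← b_flexible (oconj v) (omul x y), ← b_moufang_mid (oconj v) x y,
      ← b_moufang_mid u (omul (oconj v) x) (omul y (oconj v))]

end Cfsg.Agent.Lib.Helper37.Tri
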