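/-
helper37 library: the "polynomial norm equation" over a finite field with an involution.

Main results:
* `norm_surj_of_involution`: for an automorphism `τ` of order 2 of a finite field `L`, every
  `τ`-fixed element is a norm `c * τ c`.
* `exists_norm_poly`: for a finite field `K` with an involutive automorphism `σ ≠ 1` and a monic
  `σ`-invariant polynomial `m` coprime to `X`, there is a polynomial `c` with
  `m ∣ c.map σ * c - X`.
-/
import Mathlib
import Cfsg.Agent.Lib.Helper37.GUFieldAut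
import Cfsg.Agent.Lib.Helper5.UnitaryField

set_option autoImplicit false

namespace Cfsg.Agent.Lib.Helper37.NormEq

open Polynomial

section fieldN
variable {L : Type*} [Field L] [Fintype L] (τ : L ≃+* L)

/-- An automorphism of order 2 of a finite field is `x ↦ x ^ Q`, `Q` the order of the fixed field. -/
theorem involution_eq_pow (hτ : orderOf τ = 2) :
    Fintype.card L = Nat.card (fixF τ) ^ 2 ∧ ∀ x : L, τ x = x ^ Nat.card (fixF τ) := by
  classical
  have hcard : Fintype.card L = Nat.card (fixF τ) ^ 2 := card_fixF_pow τ 2 hτ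
  refine ⟨hcard, ?_⟩
  set Q := Nat.card (fixF τ) with hQ
  have hτ2 : ∀ x : L, τ (τ x) = x := by
    intro x
    have h : τ ^ 2 = 1 := by rw [← hτ]; exact pow_orderOf_eq_one τ
    have := congrArg (fun e : L ≃+* L => e x) h
    simpa [pow_two] using this
  have hQ2 : 2 ≤ Q := Cfsg.Agent.Lib.Helper5.two_le_of_card_eq_sq hcard
  -- fixed elements satisfy z ^ Q = z
  have hfix : ∀ z : L, τ z = z → z ^ Q = z := by
    intro z hz
    have hz' : z ∈ fixF τ := (mem_fixF τ z).2 hz
    have := FiniteField.pow_card (⟨z, hz'⟩ : fixF τ)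
    rw [← Nat.card_eq_fintype_card] at this
    have := congrArg (Subtype.val) this
    simpa [hQ] using this
  -- elements with z ^ Q = z are fixed
  have hfix' : ∀ z : L, z ^ Q = z → τ z = z := by
    intro z hz
    let p : L[X] := X ^ Q - X
    have hpdeg : p.natDegree = Q := by
      have : p = X ^ Q - X := rfl
      rw [this]
      exact FiniteField.X_pow_card_sub_X_natDegree_eq L (by omega)
    have hp0 : p ≠ 0 := by
      intro h
      rw [h, natDegree_zero] at hpdeg
      omega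
    let R : Finset L := p.roots.toFinset
    have hRcard : R.card ≤ Q := by
      calc R.card ≤ p.roots.card := Multiset.toFinset_card_le _
        _ ≤ p.natDegree := card_roots' p
        _ = Q := hpdeg
    have := Fintype.ofFinite (fixF τ)
    let I : Finset L := (Finset.univ : Finset (fixF τ)).image Subtype.val
    have hIcard : I.card = Q := by
      rw [Finset.card_image_of_injective _ Subtype.val_injective, Finset.card_univ,
        ← Nat.card_eq_fintype_card]
    have hIR : I ⊆ R := by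
      intro w hw
      obtain ⟨⟨w', hw'⟩, -, rfl⟩ := Finset.mem_image.1 hw
      rw [Multiset.mem_toFinset, mem_roots hp0]
      simp only [p, IsRoot, eval_sub, eval_pow, eval_X]
      rw [hfix w' ((mem_fixF τ w').1 hw'), sub_self]
    have hIeq : I = R := Finset.eq_of_subset_of_card_le hIR (by rw [hIcard]; exact hRcard)
    have hzR : z ∈ R := by
      rw [Multiset.mem_toFinset, mem_roots hp0]
      simp only [p, IsRoot, eval_sub, eval_pow, eval_X]
      rw [hz, sub_self]
    rw [← hIeq] at hzR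
    obtain ⟨⟨w', hw'⟩, -, rfl⟩ := Finset.mem_image.1 hzR
    exact (mem_fixF τ w').1 hw'
  intro x
  have hs : (x + τ x) ^ Q = x + τ x := hfix _ (by rw [map_add, hτ2, add_comm])
  have ht : (x * τ x) ^ Q = x * τ x := hfix _ (by rw [map_mul, hτ2, mul_comm])
  have hadd : (x + τ x) ^ Q = x ^ Q + (τ x) ^ Q := Cfsg.Agent.Lib.Helper5.add_pow_q hcard x (τ x)
  have hmul : (x * τ x) ^ Q = x ^ Q * (τ x) ^ Q := mul_pow _ _ _
  have hprod : (x ^ Q - x) * (x ^ Q - τ x) = 0 := by
    have e1 : x ^ Q + (τ x) ^ Q = x + τ x := by rw [← hadd, hs]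
    have e2 : x ^ Q * (τ x) ^ Q = x * τ x := by rw [← hmul, ht]
    have e3 : (τ x) ^ Q = x + τ x - x ^ Q := by rw [← e1]; ring
    rw [e3] at e2
    linear_combination -e2
  rcases mul_eq_zero.1 hprod with h | h
  · have hx : x ^ Q = x := sub_eq_zero.1 h
    rw [hfix' x hx, hx]
  · exact (sub_eq_zero.1 h).symm

/-- Norm surjectivity for an involution of a finite field. -/
theorem norm_surj_of_involution (hτ : orderOf τ = 2) (y : L) (hy : τ y = y) :
    ∃ c : L, c * τ c = y := by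
  obtain ⟨hcard, hpow⟩ := involution_eq_pow τ hτ
  have hyQ : y ^ Nat.card (fixF τ) = y := by rw [← hpow, hy]
  obtain ⟨c, hc⟩ := Cfsg.Agent.Lib.Helper5.exists_norm_eq hcard hyQ
  exact ⟨c, by rw [hpow]; exact hc⟩

end fieldN

section poly
variable {K : Type*} [Field K] (σ : K ≃+* K)

/-- conjugation of polynomial coefficients -/
noncomputable abbrev cj : K[X] ≃+* K[X] := Polynomial.mapEquiv σ

theorem cj_X : cj σ X = X := by simp [cj]

theorem cj_C (a : K) : cj σ (C a) = C (σ a) := by simp [cj]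

theorem cj_cj (hσ2 : ∀ x, σ (σ x) = x) (p : K[X]) : cj σ (cj σ p) = p := by
  ext n
  simp [cj, coeff_map, hσ2]

theorem exists_trace_one (hσ2 : ∀ x, σ (σ x) = x) (hσ1 : ∃ x, σ x ≠ x) : ∃ l : K, l + σ l = 1 := by
  by_cases h2 : (2 : K) = 0
  · obtain ⟨x, hx⟩ := hσ1
    have hne : x + σ x ≠ 0 := by
      intro h
      apply hx
      have h2x : x + x = 0 := by rw [← two_mul, h2, zero_mul]
      have : σ x - x = 0 := by linear_combination h - h2x
      exact sub_eq_zero.1 this
    refine ⟨x / (x + σ x), ?_⟩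
    rw [map_div₀, map_add, hσ2, add_comm (σ x) x, ← add_div, div_self hne]
  · refine ⟨1 / 2, ?_⟩
    rw [map_div₀, map_one, map_ofNat]
    field_simp
    norm_num

/-- Hensel-type lifting step for the norm equation. -/
theorem lift_step (hσ2 : ∀ x, σ (σ x) = x) (l : K) (hl : l + σ l = 1) (π c : K[X])
    (hπσ : cj σ π = π) (hπ0 : π ≠ 0) (hX : IsCoprime X π) (k : ℕ)
    (h : π ^ (k + 1) ∣ cj σ c * c - X) : ∃ c' : K[X], π ^ (k + 2) ∣ cj σ c' * c' - X := by
  obtain ⟨r0, hr0⟩ := h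
  -- X - cs * c = π^(k+1) * r
  set r := -r0 with hr
  have h1 : X - cj σ c * c = π ^ (k + 1) * r := by rw [hr]; linear_combination -hr0
  have hrσ : cj σ r = r := by
    have h2 := congrArg (cj σ) h1
    simp only [map_sub, map_mul, map_pow, cj_X, cj_cj σ hσ2, hπσ] at h2
    have h3 : π ^ (k + 1) * cj σ r = π ^ (k + 1) * r := by
      rw [← h2, ← h1]; ring
    exact mul_left_cancel₀ (pow_ne_zero _ hπ0) h3
  have hcop : IsCoprime (cj σ c) π := by
    have h4 : cj σ c * c = X + π * (-(π ^ k * r)) := by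
      linear_combination -h1
    have h5 : IsCoprime (cj σ c * c) π := by
      rw [h4]
      exact IsCoprime.add_mul_left_left_iff.2 hX
    exact h5.of_mul_left_left
  obtain ⟨w, v, hwv⟩ := hcop
  have hwv' : cj σ w * c + cj σ v * π = 1 := by
    have := congrArg (cj σ) hwv
    simpa only [map_add, map_mul, map_one, cj_cj σ hσ2, hπσ] using this
  have hl' : (C l : K[X]) + C (σ l) = 1 := by rw [← C_add, hl, C_1]
  refine ⟨c + π ^ (k + 1) * (C l * r * w), ?_⟩
  have hcs : cj σ (c + π ^ (k + 1) * (C l * r * w)) =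
      cj σ c + π ^ (k + 1) * (C (σ l) * r * cj σ w) := by
    simp only [map_add, map_mul, map_pow, hπσ, cj_C, hrσ]
  rw [hcs]
  refine ⟨-(r * (C l * v + C (σ l) * cj σ v)) + π ^ k * ((C (σ l) * r * cj σ w) * (C l * r * w)), ?_⟩
  linear_combination (-1 : K[X]) * h1 + (π ^ (k + 1) * C l * r) * hwv +
    (π ^ (k + 1) * C (σ l) * r) * hwv' + (π ^ (k + 1) * r) * hl'

/-- CRT combination for the norm equation. -/
theorem comb (M₁ M₂ c₁ c₂ : K[X]) (h₁σ : cj σ M₁ = M₁) (h₂σ : cj σ M₂ = M₂)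
    (hcop : IsCoprime M₁ M₂) (h₁ : M₁ ∣ cj σ c₁ * c₁ - X) (h₂ : M₂ ∣ cj σ c₂ * c₂ - X) :
    ∃ c : K[X], M₁ * M₂ ∣ cj σ c * c - X := by
  obtain ⟨u, v, huv⟩ := hcop
  have huv' : cj σ u * M₁ + cj σ v * M₂ = 1 := by
    have := congrArg (cj σ) huv
    simpa only [map_add, map_mul, map_one, h₁σ, h₂σ] using this
  refine ⟨c₁ * (v * M₂) + c₂ * (u * M₁), ?_⟩
  have hcs : cj σ (c₁ * (v * M₂) + c₂ * (u * M₁)) =
      cj σ c₁ * (cj σ v * M₂) + cj σ c₂ * (cj σ u * M₁) := by
    simp only [map_add, map_mul, h₁σ, h₂σ]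
  rw [hcs]
  apply IsCoprime.mul_dvd ⟨u, v, huv⟩
  · -- mod M₁: c ≡ c₁, cs ≡ cs₁
    obtain ⟨t, ht⟩ := h₁
    have hv : v * M₂ = 1 - u * M₁ := by linear_combination huv
    have hv' : cj σ v * M₂ = 1 - cj σ u * M₁ := by linear_combination huv'
    rw [hv, hv']
    refine ⟨t + (-(cj σ c₁ * c₁ * u) - cj σ c₁ * c₁ * cj σ u + cj σ c₁ * c₁ * cj σ u * u * M₁
      + cj σ c₁ * c₂ * u - cj σ c₁ * cj σ u * M₁ * c₂ * u + cj σ c₂ * cj σ u * c₁
      - cj σ c₂ * cj σ u * c₁ * u * M₁ + cj σ c₂ * cj σ u * M₁ * c₂ * u), ?_⟩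
    linear_combination ht
  · obtain ⟨t, ht⟩ := h₂
    have hu : u * M₁ = 1 - v * M₂ := by linear_combination huv
    have hu' : cj σ u * M₁ = 1 - cj σ v * M₂ := by linear_combination huv'
    rw [hu, hu']
    refine ⟨t + (-(cj σ c₂ * c₂ * v) - cj σ c₂ * c₂ * cj σ v + cj σ c₂ * c₂ * cj σ v * v * M₂
      + cj σ c₂ * c₁ * v - cj σ c₂ * cj σ v * M₂ * c₁ * v + cj σ c₁ * cj σ v * c₂
      - cj σ c₁ * cj σ v * c₂ * v * M₂ + cj σ c₁ * cj σ v * M₂ * c₁ * v), ?_⟩
    linear_combination ht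

/-- The residue field case: `π` irreducible, `σ`-invariant. -/
theorem prime_case [Fintype K] (hσ2 : ∀ x, σ (σ x) = x) (hσ1 : ∃ x, σ x ≠ x) (π : K[X])
    (hπi : Irreducible π) (hπσ : cj σ π = π) : ∃ c : K[X], π ∣ cj σ c * c - X := by
  classical
  haveI : Fact (Irreducible π) := ⟨hπi⟩
  have hπ0 : π ≠ 0 := hπi.ne_zero
  haveI : Module.Finite K (AdjoinRoot π) := (AdjoinRoot.powerBasis hπ0).finite
  haveI : Finite (AdjoinRoot π) := Module.finite_of_finite K
  haveI : Fintype (AdjoinRoot π) := Fintype.ofFinite _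
  have hmap : π.map (σ : K →+* K) = π := by
    have := hπσ
    rwa [cj, Polynomial.mapEquiv_apply] at this
  have h0 : eval₂ ((AdjoinRoot.of π).comp (σ : K →+* K)) (AdjoinRoot.root π) π = 0 := by
    rw [← eval₂_map, hmap, AdjoinRoot.eval₂_root]
  let τ₀ : AdjoinRoot π →+* AdjoinRoot π :=
    AdjoinRoot.lift ((AdjoinRoot.of π).comp (σ : K →+* K)) (AdjoinRoot.root π) h0
  have hτmk : ∀ p : K[X], τ₀ (AdjoinRoot.mk π p) = AdjoinRoot.mk π (cj σ p) := by
    intro p
    change AdjoinRoot.lift _ _ h0 (AdjoinRoot.mk π p) = _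
    rw [AdjoinRoot.lift_mk, ← eval₂_map, cj, Polynomial.mapEquiv_apply, ← AdjoinRoot.aeval_eq,
      aeval_def, AdjoinRoot.algebraMap_eq]
  have hτ2 : ∀ x, τ₀ (τ₀ x) = x := by
    intro x
    induction x using AdjoinRoot.induction_on with
    | ih p => rw [hτmk, hτmk, cj_cj σ hσ2]
  have hcomp : τ₀.comp τ₀ = RingHom.id _ := RingHom.ext hτ2
  let τ : AdjoinRoot π ≃+* AdjoinRoot π := RingEquiv.ofRingHom τ₀ τ₀ hcomp hcomp
  have hτapp : ∀ x, τ x = τ₀ x := fun _ => rfl
  have hord : orderOf τ = 2 := by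
    haveI : Fact (Nat.Prime 2) := ⟨Nat.prime_two⟩
    apply orderOf_eq_prime
    · ext x
      rw [pow_two]
      change τ (τ x) = x
      rw [hτapp, hτapp, hτ2]
    · obtain ⟨a, ha⟩ := hσ1
      intro h
      apply ha
      have h1 : τ (AdjoinRoot.of π a) = AdjoinRoot.of π a := by rw [h]; rfl
      rw [hτapp, ← AdjoinRoot.mk_C, hτmk, cj_C, AdjoinRoot.mk_C] at h1
      exact AdjoinRoot.coe_injective' h1
  have hroot : τ (AdjoinRoot.root π) = AdjoinRoot.root π := by
    rw [hτapp, ← AdjoinRoot.mk_X, hτmk, cj_X]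
  obtain ⟨c', hc'⟩ := norm_surj_of_involution τ hord _ hroot
  obtain ⟨c, rfl⟩ := AdjoinRoot.mk_surjective c'
  refine ⟨c, ?_⟩
  rw [← AdjoinRoot.mk_eq_zero, map_sub, map_mul, AdjoinRoot.mk_X, ← hτmk, ← hτapp, mul_comm, hc',
    sub_self]

/-- The prime power case. -/
theorem prime_pow_case [Fintype K] (hσ2 : ∀ x, σ (σ x) = x) (hσ1 : ∃ x, σ x ≠ x) (π : K[X])
    (hπi : Irreducible π) (hπσ : cj σ π = π) (hX : IsCoprime X π) (k : ℕ) :
    ∃ c : K[X], π ^ (k + 1) ∣ cj σ c * c - X := by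
  obtain ⟨l, hl⟩ := exists_trace_one σ hσ2 hσ1
  induction k with
  | zero =>
    obtain ⟨c, hc⟩ := prime_case σ hσ2 hσ1 π hπi hπσ
    exact ⟨c, by simpa using hc⟩
  | succ k ih =>
    obtain ⟨c, hc⟩ := ih
    exact lift_step σ hσ2 l hl π c hπσ hπi.ne_zero hX k hc

/-- The swapped pair case: `π` and `cj π` coprime. -/
theorem pair_case (hσ2 : ∀ x, σ (σ x) = x) (P : K[X]) (hcop : IsCoprime P (cj σ P)) :
    ∃ c : K[X], P * cj σ P ∣ cj σ c * c - X := by
  obtain ⟨u, v, huv⟩ := hcop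
  have huv' : cj σ u * cj σ P + cj σ v * P = 1 := by
    have := congrArg (cj σ) huv
    simpa only [map_add, map_mul, map_one, cj_cj σ hσ2] using this
  refine ⟨X * (v * cj σ P) + u * P, ?_⟩
  have hcs : cj σ (X * (v * cj σ P) + u * P) = X * (cj σ v * P) + cj σ u * cj σ P := by
    simp only [map_add, map_mul, cj_X, cj_cj σ hσ2]
  rw [hcs]
  apply IsCoprime.mul_dvd ⟨u, v, huv⟩
  · -- mod P : c ≡ X * (v * cj P) = X (1 - u P) ≡ X ; cs ≡ cj u * cj P = 1 - cj v P ≡ 1
    have h1 : v * cj σ P = 1 - u * P := by linear_combination huv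
    have h2 : cj σ u * cj σ P = 1 - cj σ v * P := by linear_combination huv'
    rw [h1, h2]
    refine ⟨X * (cj σ v) * (X * (1 - u * P) + u * P) - cj σ v * (X * (1 - u * P) + u * P)
      + (-(X * u) + u), ?_⟩
    ring
  · have h1 : u * P = 1 - v * cj σ P := by linear_combination huv
    have h2 : cj σ v * P = 1 - cj σ u * cj σ P := by linear_combination huv'
    rw [h1, h2]
    refine ⟨-(X * cj σ u) * (X * (v * cj σ P) + (1 - v * cj σ P)) + cj σ u * (X * (v * cj σ P) + (1 - v * cj σ P))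
      + (X * v - v) * X, ?_⟩
    ring

/-- **The polynomial norm equation.** -/
theorem exists_norm_poly [Fintype K] (hσ2 : ∀ x, σ (σ x) = x) (hσ1 : ∃ x, σ x ≠ x) :
    ∀ (n : ℕ) (m : K[X]), m.natDegree = n → m.Monic → cj σ m = m → IsCoprime X m →
      ∃ c : K[X], m ∣ cj σ c * c - X := by
  intro n
  induction n using Nat.strong_induction_on with
  | _ n ih =>
  intro m hdeg hmon hmσ hX
  by_cases hunit : IsUnit m
  · exact ⟨0, hunit.dvd⟩
  obtain ⟨π, hπmon, hπi, hπm⟩ := exists_monic_irreducible_factor m hunit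
  have hm0 : m ≠ 0 := hmon.ne_zero
  have hπdeg : 0 < π.natDegree := hπi.natDegree_pos
  have hfin : FiniteMultiplicity π m :=
    finiteMultiplicity_of_degree_pos_of_monic (natDegree_pos_iff_degree_pos.1 hπdeg) hπmon hm0
  obtain ⟨m', hm', hndvd⟩ := hfin.exists_eq_pow_mul_and_not_dvd
  obtain ⟨e, he⟩ : ∃ e, e = multiplicity π m := ⟨_, rfl⟩
  rw [← he] at hm'
  have he1 : 1 ≤ e := by
    rcases Nat.eq_zero_or_pos e with h | h
    · exfalso
      rw [h, pow_zero, one_mul] at hm'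
      exact hndvd (hm' ▸ hπm)
    · exact h
  have hπ0 : π ≠ 0 := hπi.ne_zero
  have hπσirr : Irreducible (cj σ π) := (MulEquiv.irreducible_iff (cj σ)).2 hπi
  have hπσmon : (cj σ π).Monic := by
    rw [cj, Polynomial.mapEquiv_apply]
    exact hπmon.map _
  have hXpe : IsCoprime X (π ^ e) := by
    rw [hm'] at hX
    exact hX.of_mul_right_left
  have hXπ : IsCoprime X π := hXpe.of_isCoprime_of_dvd_right (dvd_pow_self π (by omega))
  by_cases hcase : cj σ π = π
  · -- Case A
    have hm'σ : cj σ m' = m' := by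
      have h1 := congrArg (cj σ) hm'
      rw [hmσ, map_mul, map_pow, hcase] at h1
      have h2 : π ^ e * cj σ m' = π ^ e * m' := by rw [← h1, ← hm']
      exact mul_left_cancel₀ (pow_ne_zero _ hπ0) h2
    have hm'mon : m'.Monic := Monic.of_mul_monic_left (hπmon.pow e) (hm' ▸ hmon)
    have hdeg' : m'.natDegree < n := by
      have := congrArg natDegree hm'
      rw [(hπmon.pow e).natDegree_mul hm'mon, hπmon.natDegree_pow, hdeg] at this
      nlinarith
    have hXm' : IsCoprime X m' := by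
      rw [hm'] at hX
      exact hX.of_mul_right_right
    obtain ⟨c', hc'⟩ := ih _ hdeg' m' rfl hm'mon hm'σ hXm'
    obtain ⟨cπ, hcπ⟩ := prime_pow_case σ hσ2 hσ1 π hπi hcase hXπ (e - 1)
    rw [Nat.sub_add_cancel he1] at hcπ
    have hcop : IsCoprime (π ^ e) m' := ((hπi.coprime_iff_not_dvd).2 hndvd).pow_left
    obtain ⟨c, hc⟩ := comb σ (π ^ e) m' cπ c' (by rw [map_pow, hcase]) hm'σ hcop hcπ hc'
    exact ⟨c, by rw [hm']; exact hc⟩
  · -- Case B
    have hcopπ : IsCoprime π (cj σ π) := by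
      rw [hπi.coprime_iff_not_dvd]
      intro h
      have hass := (hπi.dvd_irreducible_iff_associated hπσirr).1 h
      exact hcase (eq_of_monic_of_associated hπmon hπσmon hass).symm
    have hcopP : IsCoprime (π ^ e) (cj σ (π ^ e)) := by
      rw [map_pow]; exact hcopπ.pow
    have hdvd1 : cj σ (π ^ e) ∣ m := by
      have := map_dvd (cj σ) (Dvd.intro _ hm'.symm)
      rwa [hmσ] at this
    have hdvd2 : cj σ (π ^ e) ∣ m' := by
      rw [hm'] at hdvd1
      exact hcopP.symm.dvd_of_dvd_mul_left hdvd1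
    obtain ⟨m'', hm''⟩ := hdvd2
    have hmPP : m = (π ^ e * cj σ (π ^ e)) * m'' := by rw [hm', hm'']; ring
    have hPPσ : cj σ (π ^ e * cj σ (π ^ e)) = π ^ e * cj σ (π ^ e) := by
      rw [map_mul, cj_cj σ hσ2, mul_comm]
    have hPP0 : π ^ e * cj σ (π ^ e) ≠ 0 := by
      apply mul_ne_zero (pow_ne_zero _ hπ0)
      rw [map_pow]
      exact pow_ne_zero _ hπσirr.ne_zero
    have hPPmon : (π ^ e * cj σ (π ^ e)).Monic := by
      apply Monic.mul (hπmon.pow e)
      rw [map_pow]
      exact hπσmon.pow e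
    have hm''σ : cj σ m'' = m'' := by
      have h1 := congrArg (cj σ) hmPP
      rw [hmσ, map_mul, hPPσ] at h1
      have h2 : (π ^ e * cj σ (π ^ e)) * cj σ m'' = (π ^ e * cj σ (π ^ e)) * m'' := by
        rw [← h1, ← hmPP]
      exact mul_left_cancel₀ hPP0 h2
    have hm''mon : m''.Monic := Monic.of_mul_monic_left hPPmon (hmPP ▸ hmon)
    have hdeg'' : m''.natDegree < n := by
      have := congrArg natDegree hmPP
      rw [hPPmon.natDegree_mul hm''mon, hdeg] at this
      have h3 : 0 < (π ^ e * cj σ (π ^ e)).natDegree := by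
        rw [(hπmon.pow e).natDegree_mul (by rw [map_pow]; exact hπσmon.pow e),
          hπmon.natDegree_pow]
        have : 0 < e * π.natDegree := Nat.mul_pos he1 hπdeg
        omega
      omega
    have hXm'' : IsCoprime X m'' := by
      rw [hmPP] at hX
      exact hX.of_mul_right_right
    have hnd1 : ¬ π ∣ m'' := fun h => hndvd (hm'' ▸ Dvd.dvd.mul_left h _)
    have hnd2 : ¬ cj σ π ∣ m'' := by
      intro h
      have := map_dvd (cj σ) h
      rw [cj_cj σ hσ2, hm''σ] at this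
      exact hnd1 this
    obtain ⟨c'', hc''⟩ := ih _ hdeg'' m'' rfl hm''mon hm''σ hXm''
    obtain ⟨cPP, hcPP⟩ := pair_case σ hσ2 (π ^ e) hcopP
    have hcop : IsCoprime (π ^ e * cj σ (π ^ e)) m'' := by
      apply IsCoprime.mul_left
      · exact ((hπi.coprime_iff_not_dvd).2 hnd1).pow_left
      · rw [map_pow]
        exact ((hπσirr.coprime_iff_not_dvd).2 hnd2).pow_left
    obtain ⟨c, hc⟩ := comb σ _ m'' cPP c'' hPPσ hm''σ hcop hcPP hc''
    exact ⟨c, by rw [hmPP]; exact hc⟩

end poly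

end Cfsg.Agent.Lib.Helper37.NormEq
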