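/-
helper37 library: conjugacy in `GU_n(q)` is controlled by `GL_n(q²)`.
If `g A g⁻¹ = B` with `A, B` unitary then `h = g⋆ g` is hermitian and commutes with `A`; the
polynomial norm equation gives `c ∈ K[h]` with `c⋆ c = h`, and `g c⁻¹` is unitary.
-/
import Mathlib
import Cfsg.Prelude.Def_LieClassical
import Cfsg.Agent.Lib.Helper37.NormEq
import Cfsg.Agent.Lib.Helper5.UnitaryGroup

set_option autoImplicit false

namespace Cfsg.Agent.Lib.Helper37.GUConj

open Matrix Polynomial Cfsg Cfsg.Agent.Lib.Helper5 Cfsg.Agent.Lib.Helper37.NormEq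

variable {K : Type*} [Field K] [Fintype K] {q n : ℕ}

/-- the conjugation automorphism `x ↦ x ^ q` -/
noncomputable def sig (hK : Fintype.card K = q ^ 2) : K ≃+* K :=
  RingEquiv.ofBijective (conjHom hK) (conjHom_bijective hK)

theorem sig_apply (hK : Fintype.card K = q ^ 2) (x : K) : sig hK x = x ^ q := rfl

theorem sig_sig (hK : Fintype.card K = q ^ 2) (x : K) : sig hK (sig hK x) = x := by
  rw [sig_apply, sig_apply, pow_q_pow_q hK]

theorem exists_sig_ne (hK : Fintype.card K = q ^ 2) : ∃ x, sig hK x ≠ x := by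
  classical
  by_contra hcon
  push Not at hcon
  have hq2 : 2 ≤ q := two_le_of_card_eq_sq hK
  let p : K[X] := X ^ q - X
  have hpdeg : p.natDegree = q := FiniteField.X_pow_card_sub_X_natDegree_eq K (by omega)
  have hp0 : p ≠ 0 := by
    intro h
    rw [h, natDegree_zero] at hpdeg
    omega
  have h1 : (Finset.univ : Finset K) ⊆ p.roots.toFinset := by
    intro x _
    rw [Multiset.mem_toFinset, mem_roots hp0]
    simp only [p, IsRoot, eval_sub, eval_pow, eval_X]
    rw [← sig_apply hK, hcon, sub_self]
  have h2 : Fintype.card K ≤ q := by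
    calc Fintype.card K = (Finset.univ : Finset K).card := rfl
      _ ≤ p.roots.toFinset.card := Finset.card_le_card h1
      _ ≤ p.roots.card := Multiset.toFinset_card_le _
      _ ≤ p.natDegree := card_roots' p
      _ = q := hpdeg
  rw [hK] at h2
  nlinarith

/-- conjugate transpose -/
noncomputable def st (hK : Fintype.card K = q ^ 2) (M : Matrix (Fin n) (Fin n) K) :
    Matrix (Fin n) (Fin n) K := (M.map (sig hK))ᵀ

theorem st_mul (hK : Fintype.card K = q ^ 2) (M N : Matrix (Fin n) (Fin n) K) :
    st hK (M * N) = st hK N * st hK M := by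
  simp only [st, Matrix.map_mul, transpose_mul]

theorem st_st (hK : Fintype.card K = q ^ 2) (M : Matrix (Fin n) (Fin n) K) :
    st hK (st hK M) = M := by
  ext i j
  simp [st, sig_sig]

theorem st_one (hK : Fintype.card K = q ^ 2) : st hK (1 : Matrix (Fin n) (Fin n) K) = 1 := by
  simp [st, Matrix.map_one]

theorem st_smul (hK : Fintype.card K = q ^ 2) (c : K) (M : Matrix (Fin n) (Fin n) K) :
    st hK (c • M) = sig hK c • st hK M := by
  ext i j
  simp [st]

theorem st_sum (hK : Fintype.card K = q ^ 2) {ι : Type*} (s : Finset ι)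
    (f : ι → Matrix (Fin n) (Fin n) K) : st hK (∑ i ∈ s, f i) = ∑ i ∈ s, st hK (f i) := by
  ext i j
  simp [st, Matrix.sum_apply]

theorem st_pow (hK : Fintype.card K = q ^ 2) (M : Matrix (Fin n) (Fin n) K) (k : ℕ) :
    st hK (M ^ k) = st hK M ^ k := by
  induction k with
  | zero => simp [st_one]
  | succ k ih => rw [pow_succ, st_mul, ih, pow_succ']

theorem st_aeval (hK : Fintype.card K = q ^ 2) (M : Matrix (Fin n) (Fin n) K) (p : K[X]) :
    st hK (aeval M p) = aeval (st hK M) (cj (sig hK) p) := by
  rw [aeval_eq_sum_range, aeval_eq_sum_range, st_sum]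
  have hdeg : (cj (sig hK) p).natDegree = p.natDegree := by
    rw [cj, Polynomial.mapEquiv_apply]
    exact natDegree_map _
  rw [hdeg]
  apply Finset.sum_congr rfl
  intro i _
  rw [st_smul, st_pow, cj, Polynomial.mapEquiv_apply, coeff_map]
  rfl

theorem isUnitaryMat_iff_st (hK : Fintype.card K = q ^ 2) (M : Matrix (Fin n) (Fin n) K) :
    IsUnitaryMat q M ↔ st hK M * M = 1 := by
  unfold IsUnitaryMat st
  constructor
  · intro h
    have := congrArg transpose h
    rw [transpose_mul, transpose_transpose, transpose_one] at this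
    exact this
  · intro h
    have := congrArg transpose h
    rw [transpose_mul, transpose_transpose, transpose_one] at this
    exact this

omit [Fintype K] in
theorem commute_aeval {R : Type*} [Ring R] [Algebra K R] (a h : R) (hc : Commute a h) (p : K[X]) :
    Commute a (aeval h p) := by
  rw [aeval_eq_sum_range]
  apply Commute.sum_right
  intro i _
  exact (hc.pow_right i).smul_right _

/-- The key matrix statement. -/
theorem exists_unitary_conj (hK : Fintype.card K = q ^ 2) (a b G : Matrix (Fin n) (Fin n) K)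
    (ha : IsUnitaryMat q a) (hb : IsUnitaryMat q b) (hG : IsUnit G.det) (hconj : G * a = b * G) :
    ∃ u : Matrix (Fin n) (Fin n) K, IsUnitaryMat q u ∧ u * a = b * u := by
  rw [isUnitaryMat_iff_st hK] at ha hb
  have ha' : a * st hK a = 1 := mul_eq_one_comm.1 ha
  set h := st hK G * G with hh
  have hst : st hK h = h := by rw [hh, st_mul, st_st]
  have hcomm : Commute a h := by
    have h1 : st hK a * h * a = h := by
      calc st hK a * h * a = st hK (G * a) * (G * a) := by rw [st_mul, hh]; simp only [mul_assoc]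
        _ = st hK (b * G) * (b * G) := by rw [hconj]
        _ = st hK G * (st hK b * b) * G := by rw [st_mul]; simp only [mul_assoc]
        _ = h := by rw [hb, mul_one]
    have h2 : a * (st hK a * h * a) = a * h := by rw [h1]
    rw [← mul_assoc, ← mul_assoc, ha', one_mul] at h2
    exact h2.symm
  have hdet : IsUnit h.det := by
    rw [hh, det_mul]
    apply IsUnit.mul _ hG
    unfold st
    rw [det_transpose]
    have : (G.map (sig hK)).det = sig hK G.det := by
      have := (RingHom.map_det (sig hK : K →+* K) G).symm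
      simpa using this
    rw [this]
    exact hG.map _
  -- the characteristic polynomial of h
  set m := h.charpoly with hm
  have hmmon : m.Monic := charpoly_monic h
  have hmσ : cj (sig hK) m = m := by
    rw [cj, Polynomial.mapEquiv_apply, hm]
    have h1 := charpoly_map h (sig hK : K →+* K)
    rw [← h1]
    have h2 : h.map (sig hK : K →+* K) = (st hK h)ᵀ := by
      unfold st; rw [transpose_transpose]; rfl
    rw [h2, charpoly_transpose, hst]
  have hX : IsCoprime X m := by
    rw [(irreducible_X).coprime_iff_not_dvd, X_dvd_iff]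
    intro h0
    have := det_eq_sign_charpoly_coeff h
    rw [← hm, h0, mul_zero] at this
    rw [this] at hdet
    exact not_isUnit_zero hdet
  obtain ⟨c, hc⟩ := exists_norm_poly (sig hK) (sig_sig hK) (exists_sig_ne hK) _ m rfl hmmon hmσ hX
  set C := aeval h c with hC
  have hCC : st hK C * C = h := by
    rw [hC, st_aeval, hst, ← aeval_mul]
    obtain ⟨t, ht⟩ := hc
    have h0 : aeval h (cj (sig hK) c * c - X) = 0 := by
      rw [ht, aeval_mul, hm, aeval_self_charpoly, zero_mul]
    rw [aeval_sub, aeval_X, sub_eq_zero] at h0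
    exact h0
  have hCcomm : Commute a C := commute_aeval a h hcomm c
  have hCdet : IsUnit C.det := by
    have := congrArg det hCC
    rw [det_mul] at this
    rw [← this] at hdet
    exact isUnit_of_mul_isUnit_right hdet
  have hCi1 : C * C⁻¹ = 1 := mul_nonsing_inv C hCdet
  have hCi2 : C⁻¹ * C = 1 := nonsing_inv_mul C hCdet
  have hCicomm : a * C⁻¹ = C⁻¹ * a := by
    have : C⁻¹ * (a * C) * C⁻¹ = C⁻¹ * (C * a) * C⁻¹ := by rw [hCcomm.eq]
    simp only [mul_assoc] at this
    rw [hCi1, mul_one] at this
    rw [← mul_assoc, ← mul_assoc, hCi2, one_mul] at this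
    exact this.symm
  refine ⟨G * C⁻¹, ?_, ?_⟩
  · rw [isUnitaryMat_iff_st hK, st_mul]
    have h1 : st hK C⁻¹ * st hK C = 1 := by rw [← st_mul, hCi1, st_one]
    calc st hK C⁻¹ * st hK G * (G * C⁻¹) = st hK C⁻¹ * h * C⁻¹ := by
          rw [hh]; simp only [mul_assoc]
      _ = st hK C⁻¹ * (st hK C * C) * C⁻¹ := by rw [hCC]
      _ = (st hK C⁻¹ * st hK C) * (C * C⁻¹) := by simp only [mul_assoc]
      _ = 1 := by rw [h1, hCi1, one_mul]
  · calc G * C⁻¹ * a = G * (a * C⁻¹) := by rw [mul_assoc, hCicomm]
      _ = (G * a) * C⁻¹ := by rw [mul_assoc]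
      _ = b * (G * C⁻¹) := by rw [hconj, mul_assoc]

/-- **Conjugacy in `GU_n(q)` is controlled by `GL_n(q²)`.** -/
theorem isConj_GU_of_isConj_GL (hK : Fintype.card K = q ^ 2) (A B : ↥(Cfsg.GU n K q))
    (h : IsConj (A : GL (Fin n) K) (B : GL (Fin n) K)) : IsConj A B := by
  obtain ⟨g, hg⟩ := isConj_iff.1 h
  have hconj : (g : Matrix (Fin n) (Fin n) K) * A.1.1 = B.1.1 * (g : Matrix (Fin n) (Fin n) K) := by
    have h1 : g * (A : GL (Fin n) K) = (B : GL (Fin n) K) * g := by
      rw [← hg]; group
    have := congrArg (fun x : GL (Fin n) K => (x : Matrix (Fin n) (Fin n) K)) h1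
    simpa using this
  have hA : IsUnitaryMat q A.1.1 := (isUnitaryMat_iff_preserves hK _).2 (GU_preserves A)
  have hB : IsUnitaryMat q B.1.1 := (isUnitaryMat_iff_preserves hK _).2 (GU_preserves B)
  have hgdet : IsUnit (g : Matrix (Fin n) (Fin n) K).det :=
    (Matrix.isUnit_iff_isUnit_det _).1 g.isUnit
  obtain ⟨u, hu, hua⟩ := exists_unitary_conj hK A.1.1 B.1.1 g hA hB hgdet hconj
  let U : GU n K q := GUofPreserves hK u ((isUnitaryMat_iff_preserves hK u).1 hu)
  rw [isConj_iff]
  refine ⟨U, ?_⟩
  rw [mul_inv_eq_iff_eq_mul]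
  apply Subtype.ext
  apply Units.ext
  change (U : GL (Fin n) K).1 * A.1.1 = B.1.1 * (U : GL (Fin n) K).1
  rw [GUofPreserves_coe]
  exact hua

end Cfsg.Agent.Lib.Helper37.GUConj
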