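/-
helper37 library: an invertible matrix `A` over `F_{q²}` is similar to a unitary matrix iff it
preserves some nondegenerate sesquilinear form `P` (`A⋆ P A = P`).  The form can be made hermitian
by a "Hilbert 90" argument in the finite commutative ring `K[T]`, `T = P⁻¹ P⋆`, and an invertible
hermitian matrix is `C⋆ C` by the polynomial norm equation of `NormEq`.
-/
import Mathlib
import Cfsg.Prelude.Def_LieClassical
import Cfsg.Agent.Lib.Helper37.GUConj

set_option autoImplicit false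

namespace Cfsg.Agent.Lib.Helper37.GUSimilar

open Matrix Polynomial Cfsg Cfsg.Agent.Lib.Helper5 Cfsg.Agent.Lib.Helper37.NormEq
  Cfsg.Agent.Lib.Helper37.GUConj

variable {K : Type*} [Field K] [Fintype K] {q n : ℕ}

/-- A "Hilbert 90" for finite commutative rings with an involution. -/
theorem hilbert90 {𝒜 : Type*} [CommRing 𝒜] [Finite 𝒜] (sh : 𝒜 →+* 𝒜)
    (hsh : ∀ x, sh (sh x) = x) (a : 𝒜) (ha : IsUnit (a - sh a)) (u : 𝒜) (hu : u * sh u = 1) :
    ∃ r : 𝒜, IsUnit r ∧ r = u * sh r := by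
  classical
  have huu : IsUnit u := IsUnit.of_mul_eq_one _ hu
  have hfinI : Finite (Ideal 𝒜) := Finite.of_injective (fun I : Ideal 𝒜 => (I : Set 𝒜))
    SetLike.coe_injective
  let ℳ := {𝔪 : Ideal 𝒜 // 𝔪.IsMaximal}
  have hfinM : Finite ℳ := inferInstance
  obtain ⟨N, ⟨e⟩⟩ := Finite.exists_equiv_fin ℳ
  have hsurj : Function.Surjective sh := fun x => ⟨sh x, hsh x⟩
  let sI : ℳ → ℳ := fun 𝔪 => ⟨Ideal.comap sh 𝔪.1,
    have := 𝔪.2
    Ideal.comap_isMaximal_of_surjective sh hsurj⟩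
  have hsI_mem : ∀ (𝔪 : ℳ) (x : 𝒜), x ∈ (sI 𝔪).1 ↔ sh x ∈ 𝔪.1 := fun 𝔪 x => Iff.rfl
  have hsI_sI : ∀ 𝔪 : ℳ, sI (sI 𝔪) = 𝔪 := by
    intro 𝔪
    apply Subtype.ext
    ext x
    rw [hsI_mem, hsI_mem, hsh]
  have key : ∀ 𝔪 : ℳ, ∃ v : 𝒜, (sI 𝔪 = 𝔪 → v + u * sh v ∉ 𝔪.1) ∧
      (sI 𝔪 ≠ 𝔪 → (e 𝔪 < e (sI 𝔪) → v = 1) ∧ (¬ e 𝔪 < e (sI 𝔪) → v = 0)) := by
    intro 𝔪
    by_cases hfix : sI 𝔪 = 𝔪
    · by_contra hcon
      push Not at hcon
      have hall : ∀ v : 𝒜, v + u * sh v ∈ 𝔪.1 := by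
        intro v
        by_contra hv
        exact ((hcon v (fun _ => hv)).1) hfix
      have h1 : 1 + u ∈ 𝔪.1 := by
        have := hall 1
        rwa [map_one, mul_one] at this
      have h2 : a - sh a ∈ 𝔪.1 := by
        have h3 := hall a
        have h4 : a - sh a = (a + u * sh a) - (1 + u) * sh a := by ring
        rw [h4]
        exact 𝔪.1.sub_mem h3 (𝔪.1.mul_mem_right _ h1)
      exact 𝔪.2.ne_top (Ideal.eq_top_of_isUnit_mem _ h2 ha)
    · by_cases hlt : e 𝔪 < e (sI 𝔪)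
      · exact ⟨1, fun h => absurd h hfix, fun _ => ⟨fun _ => rfl, fun h => absurd hlt h⟩⟩
      · exact ⟨0, fun h => absurd h hfix, fun _ => ⟨fun h => absurd h hlt, fun _ => rfl⟩⟩
  choose g hg using key
  have hcop : Pairwise (Function.onFun IsCoprime (fun 𝔪 : ℳ => 𝔪.1)) := by
    intro 𝔪 𝔫 hne
    have := 𝔪.2
    have := 𝔫.2
    exact Ideal.isCoprime_of_isMaximal (fun h => hne (Subtype.ext h))
  obtain ⟨x, hx⟩ := Ideal.exists_forall_sub_mem_ideal hcop g
  refine ⟨x + u * sh x, ?_, ?_⟩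
  · by_contra hnu
    obtain ⟨I, hI, hrI⟩ := exists_max_ideal_of_mem_nonunits hnu
    let 𝔪 : ℳ := ⟨I, hI⟩
    change x + u * sh x ∈ 𝔪.1 at hrI
    by_cases hfix : sI 𝔪 = 𝔪
    · have h1 := (hg 𝔪).1 hfix
      have h2 := hx 𝔪
      have h3 : sh (x - g 𝔪) ∈ 𝔪.1 := by
        rw [← hsI_mem, hfix]; exact h2
      apply h1
      have h4 : g 𝔪 + u * sh (g 𝔪) = (x + u * sh x) - ((x - g 𝔪) + u * sh (x - g 𝔪)) := by
        rw [map_sub]; ring
      rw [h4]
      exact 𝔪.1.sub_mem hrI (𝔪.1.add_mem h2 (𝔪.1.mul_mem_left _ h3))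
    · have hne : sI 𝔪 ≠ 𝔪 := hfix
      have hne' : sI (sI 𝔪) ≠ sI 𝔪 := by rw [hsI_sI]; exact fun h => hne h.symm
      have hA := (hg 𝔪).2 hne
      have hB := (hg (sI 𝔪)).2 hne'
      rw [hsI_sI] at hB
      have h2 := hx 𝔪
      have h2' := hx (sI 𝔪)
      rw [hsI_mem, map_sub] at h2'
      by_cases hlt : e 𝔪 < e (sI 𝔪)
      · have hg1 : g 𝔪 = 1 := hA.1 hlt
        have hg2 : g (sI 𝔪) = 0 := hB.2 (not_lt.2 hlt.le)
        rw [hg1] at h2
        rw [hg2, map_zero, sub_zero] at h2'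
        apply 𝔪.2.ne_top
        rw [Ideal.eq_top_iff_one]
        have h4 : (1 : 𝒜) = (x + u * sh x) - ((x - 1) + u * sh x) := by ring
        rw [h4]
        exact 𝔪.1.sub_mem hrI (𝔪.1.add_mem h2 (𝔪.1.mul_mem_left _ h2'))
      · have hlt' : e (sI 𝔪) < e 𝔪 := by
          rcases lt_trichotomy (e 𝔪) (e (sI 𝔪)) with h | h | h
          · exact absurd h hlt
          · exact absurd (e.injective h).symm hne
          · exact h
        have hg1 : g 𝔪 = 0 := hA.2 hlt
        have hg2 : g (sI 𝔪) = 1 := hB.1 hlt'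
        rw [hg1, sub_zero] at h2
        rw [hg2, map_one] at h2'
        apply 𝔪.2.ne_top
        apply Ideal.eq_top_of_isUnit_mem _ _ huu
        have h4 : u = (x + u * sh x) - (x + u * (sh x - 1)) := by ring
        rw [h4]
        exact 𝔪.1.sub_mem hrI (𝔪.1.add_mem h2 (𝔪.1.mul_mem_left _ h2'))
  · rw [map_add, map_mul, hsh]
    have : u * (sh x + sh u * x) = u * sh x + (u * sh u) * x := by ring
    rw [this, hu]; ring

theorem st_add (hK : Fintype.card K = q ^ 2) (M N : Matrix (Fin n) (Fin n) K) :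
    st hK (M + N) = st hK M + st hK N := by
  ext i j
  simp [st]

theorem st_zero (hK : Fintype.card K = q ^ 2) : st hK (0 : Matrix (Fin n) (Fin n) K) = 0 := by
  ext i j
  simp [st]

theorem st_det (hK : Fintype.card K = q ^ 2) (M : Matrix (Fin n) (Fin n) K) :
    (st hK M).det = sig hK M.det := by
  unfold st
  rw [det_transpose]
  have := (RingHom.map_det (sig hK : K →+* K) M).symm
  simpa using this

theorem conj_pow' (P Pi M : Matrix (Fin n) (Fin n) K) (h : P * Pi = 1) (k : ℕ) :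
    (Pi * M * P) ^ k = Pi * M ^ k * P := by
  have h' : Pi * P = 1 := mul_eq_one_comm.1 h
  induction k with
  | zero => simp [h']
  | succ k ih =>
    rw [pow_succ, ih, pow_succ]
    calc Pi * M ^ k * P * (Pi * M * P) = Pi * M ^ k * (P * Pi) * M * P := by
          simp only [Matrix.mul_assoc]
      _ = Pi * (M ^ k * M) * P := by rw [h, Matrix.mul_one]; simp only [Matrix.mul_assoc]

/-- every invertible hermitian matrix is of the form `C⋆ C` -/
theorem exists_st_mul_self_eq (hK : Fintype.card K = q ^ 2) (h : Matrix (Fin n) (Fin n) K)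
    (hst : st hK h = h) (hdet : IsUnit h.det) :
    ∃ C : Matrix (Fin n) (Fin n) K, st hK C * C = h ∧ IsUnit C.det := by
  set m := h.charpoly with hm
  have hmmon : m.Monic := charpoly_monic h
  have hmσ : cj (sig hK) m = m := by
    rw [cj, Polynomial.mapEquiv_apply, hm]
    have h1 := charpoly_map h (sig hK : K →+* K)
    rw [← h1]
    have h2 : h.map (sig hK : K →+* K) = (st hK h)ᵀ := by
      unfold st; rw [transpose_transpose]; rfl
    rw [h2, charpoly_transpose, hst]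
  have hX : IsCoprime X m := by
    rw [(irreducible_X).coprime_iff_not_dvd, X_dvd_iff]
    intro h0
    have := det_eq_sign_charpoly_coeff h
    rw [← hm, h0, mul_zero] at this
    rw [this] at hdet
    exact not_isUnit_zero hdet
  obtain ⟨c, hc⟩ := exists_norm_poly (sig hK) (sig_sig hK) (exists_sig_ne hK) _ m rfl hmmon hmσ hX
  set C := aeval h c with hC
  have hCC : st hK C * C = h := by
    rw [hC, st_aeval, hst, ← aeval_mul]
    obtain ⟨t, ht⟩ := hc
    have h0 : aeval h (cj (sig hK) c * c - X) = 0 := by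
      rw [ht, aeval_mul, hm, aeval_self_charpoly, zero_mul]
    rw [aeval_sub, aeval_X, sub_eq_zero] at h0
    exact h0
  refine ⟨C, hCC, ?_⟩
  have := congrArg det hCC
  rw [det_mul] at this
  rw [← this] at hdet
  exact isUnit_of_mul_isUnit_right hdet

/-- The heart of the matter: a nondegenerate sesquilinear form invariant under `A` can be
replaced by a hermitian one. -/
theorem exists_hermitian_of_invariant (hK : Fintype.card K = q ^ 2)
    (A P : Matrix (Fin n) (Fin n) K) (hP : IsUnit P.det) (hinv : st hK A * P * A = P) :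
    ∃ H : Matrix (Fin n) (Fin n) K, st hK H = H ∧ IsUnit H.det ∧ st hK A * H * A = H := by
  classical
  obtain ⟨Pi, hPi⟩ : ∃ Pi, Pi = P⁻¹ := ⟨_, rfl⟩
  have hP1 : P * Pi = 1 := by rw [hPi]; exact mul_nonsing_inv P hP
  have hP2 : Pi * P = 1 := by rw [hPi]; exact nonsing_inv_mul P hP
  have hsP1 : st hK Pi * st hK P = 1 := by rw [← st_mul, hP1, st_one]
  have hsP2 : st hK P * st hK Pi = 1 := by rw [← st_mul, hP2, st_one]
  obtain ⟨T, hT⟩ : ∃ T, T = Pi * st hK P := ⟨_, rfl⟩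
  obtain ⟨Ti, hTi⟩ : ∃ Ti, Ti = st hK Pi * P := ⟨_, rfl⟩
  have hT1 : T * Ti = 1 := by
    rw [hT, hTi]
    calc Pi * st hK P * (st hK Pi * P) = Pi * (st hK P * st hK Pi) * P := by
          simp only [Matrix.mul_assoc]
      _ = 1 := by rw [hsP2, Matrix.mul_one, hP2]
  have hT2 : Ti * T = 1 := mul_eq_one_comm.1 hT1
  -- `Pi * A⋆ * P` is the inverse of `A`
  have hA1 : Pi * st hK A * P * A = 1 := by
    calc Pi * st hK A * P * A = Pi * (st hK A * P * A) := by simp only [Matrix.mul_assoc]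
      _ = 1 := by rw [hinv, hP2]
  have hA2 : A * (Pi * st hK A * P) = 1 := mul_eq_one_comm.1 hA1
  have hinv' : st hK A * st hK P * A = st hK P := by
    have := congrArg (st hK) hinv
    rw [st_mul, st_mul, st_st] at this
    rw [Matrix.mul_assoc]; exact this
  have hA3 : A * Pi * st hK A = Pi := by
    calc A * Pi * st hK A = A * (Pi * st hK A * P) * Pi := by
          simp only [Matrix.mul_assoc]; rw [hP1, Matrix.mul_one]
      _ = Pi := by rw [hA2, Matrix.one_mul]
  have hTA : Commute A T := by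
    change A * T = T * A
    rw [hT]
    calc A * (Pi * st hK P) = A * Pi * (st hK A * st hK P * A) := by rw [hinv', Matrix.mul_assoc]
      _ = (A * Pi * st hK A) * st hK P * A := by simp only [Matrix.mul_assoc]
      _ = Pi * st hK P * A := by rw [hA3]
  -- `Pi * T⋆ * P = T⁻¹`
  have hM1 : Pi * st hK T * P = Ti := by
    rw [hT, st_mul, st_st, hTi]
    calc Pi * (P * st hK Pi) * P = (Pi * P) * st hK Pi * P := by simp only [Matrix.mul_assoc]
      _ = st hK Pi * P := by rw [hP2, Matrix.one_mul]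
  -- `T⁻¹` is a polynomial in `T`
  obtain ⟨Y, hY⟩ : ∃ Y : K[X], aeval T Y = Ti := by
    have hTu : IsUnit T := ⟨⟨T, Ti, hT1, hT2⟩, rfl⟩
    obtain ⟨Tu, hTu'⟩ := hTu
    have hfin : IsOfFinOrder Tu := isOfFinOrder_of_finite Tu
    have hpos : 0 < orderOf Tu := hfin.orderOf_pos
    have h1 : T ^ orderOf Tu = 1 := by
      rw [← hTu', ← Units.val_pow_eq_pow_val, pow_orderOf_eq_one, Units.val_one]
    refine ⟨X ^ (orderOf Tu - 1), ?_⟩
    rw [aeval_X_pow]
    have h2 : T * T ^ (orderOf Tu - 1) = 1 := by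
      rw [← pow_succ', Nat.sub_add_cancel hpos, h1]
    calc T ^ (orderOf Tu - 1) = (Ti * T) * T ^ (orderOf Tu - 1) := by rw [hT2, Matrix.one_mul]
      _ = Ti * (T * T ^ (orderOf Tu - 1)) := by rw [Matrix.mul_assoc]
      _ = Ti := by rw [h2, Matrix.mul_one]
  -- the commutative ring `K[T]`
  obtain ⟨φ, hφ⟩ : ∃ φ : K[X] →+* Matrix (Fin n) (Fin n) K, ∀ p, φ p = aeval T p :=
    ⟨(aeval T : K[X] →ₐ[K] Matrix (Fin n) (Fin n) K).toRingHom, fun p => rfl⟩
  obtain ⟨I, hI⟩ : ∃ I : Ideal K[X], I = RingHom.ker φ := ⟨_, rfl⟩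
  have hImem : ∀ p, p ∈ I ↔ aeval T p = 0 := by
    intro p; rw [hI, RingHom.mem_ker, hφ]
  obtain ⟨ev, hev⟩ : ∃ ev : K[X] ⧸ I →+* Matrix (Fin n) (Fin n) K,
      ∀ p, ev (Ideal.Quotient.mk I p) = aeval T p := by
    refine ⟨Ideal.Quotient.lift I φ (fun p hp => by rw [hφ]; exact (hImem p).1 hp), fun p => ?_⟩
    rw [Ideal.Quotient.lift_mk, hφ]
  have hev_inj : Function.Injective ev := by
    rw [injective_iff_map_eq_zero]
    intro x hx
    obtain ⟨p, rfl⟩ := Ideal.Quotient.mk_surjective x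
    rw [hev] at hx
    rw [Ideal.Quotient.eq_zero_iff_mem, hImem]
    exact hx
  have : Finite (K[X] ⧸ I) := Finite.of_injective ev hev_inj
  have hev_comm : ∀ x, Commute (ev x) T := by
    intro x
    obtain ⟨p, rfl⟩ := Ideal.Quotient.mk_surjective x
    rw [hev]
    exact (commute_aeval T T (Commute.refl T) p).symm
  -- the involution
  obtain ⟨f, hf⟩ : ∃ f : K[X] →+* K[X] ⧸ I, ∀ p, ev (f p) = Pi * st hK (aeval T p) * P := by
    refine ⟨Polynomial.eval₂RingHom ((Ideal.Quotient.mk I).comp (C.comp (sig hK : K →+* K)))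
      (Ideal.Quotient.mk I Y), fun p => ?_⟩
    induction p using Polynomial.induction_on' with
    | add p q hp hq =>
      rw [map_add, map_add, hp, hq, map_add, st_add, Matrix.mul_add, Matrix.add_mul]
    | monomial k c =>
      rw [Polynomial.coe_eval₂RingHom, eval₂_monomial, map_mul, map_pow, hev, hY,
        RingHom.comp_apply, RingHom.comp_apply, hev, aeval_C, aeval_monomial,
        Algebra.algebraMap_eq_smul_one, Algebra.algebraMap_eq_smul_one, smul_mul_assoc,
        smul_mul_assoc, Matrix.one_mul, Matrix.one_mul, st_smul, st_pow, Matrix.mul_smul,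
        Matrix.smul_mul, ← conj_pow' P Pi _ hP1, hM1]
      rfl
  obtain ⟨sh, hsh⟩ : ∃ sh : K[X] ⧸ I →+* K[X] ⧸ I, ∀ x, ev (sh x) = Pi * st hK (ev x) * P := by
    refine ⟨Ideal.Quotient.lift I f (fun p hp => ?_), fun x => ?_⟩
    · apply hev_inj
      rw [hf, (hImem p).1 hp, st_zero, Matrix.mul_zero, Matrix.zero_mul, map_zero]
    · obtain ⟨p, rfl⟩ := Ideal.Quotient.mk_surjective x
      rw [Ideal.Quotient.lift_mk, hf, hev]
  have hshsh : ∀ x, sh (sh x) = x := by
    intro x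
    apply hev_inj
    rw [hsh, hsh, st_mul, st_mul, st_st]
    calc Pi * (st hK P * (ev x * st hK Pi)) * P = (Pi * st hK P) * ev x * (st hK Pi * P) := by
          simp only [Matrix.mul_assoc]
      _ = T * ev x * Ti := by rw [← hT, ← hTi]
      _ = ev x * (T * Ti) := by rw [← (hev_comm x).eq, Matrix.mul_assoc]
      _ = ev x := by rw [hT1, Matrix.mul_one]
  -- the element `a`
  obtain ⟨l, hl⟩ := exists_sig_ne hK
  have hl' : l - sig hK l ≠ 0 := fun h => hl (sub_eq_zero.1 h).symm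
  have hshC : ∀ c : K, sh (Ideal.Quotient.mk I (C c)) = Ideal.Quotient.mk I (C (sig hK c)) := by
    intro c
    apply hev_inj
    rw [hsh, hev, hev, aeval_C, aeval_C, Algebra.algebraMap_eq_smul_one,
      Algebra.algebraMap_eq_smul_one, st_smul, st_one, Matrix.mul_smul, Matrix.smul_mul,
      Matrix.mul_one, hP2]
  have ha : IsUnit (Ideal.Quotient.mk I (C l) - sh (Ideal.Quotient.mk I (C l))) := by
    rw [hshC, ← map_sub, ← C_sub]
    refine ⟨⟨Ideal.Quotient.mk I (C (l - sig hK l)), Ideal.Quotient.mk I (C (l - sig hK l)⁻¹),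
      ?_, ?_⟩, rfl⟩
    · rw [← map_mul, ← C_mul, mul_inv_cancel₀ hl', C_1, map_one]
    · rw [← map_mul, ← C_mul, inv_mul_cancel₀ hl', C_1, map_one]
  have hu : Ideal.Quotient.mk I X * sh (Ideal.Quotient.mk I X) = 1 := by
    apply hev_inj
    rw [map_mul, hsh, hev, aeval_X, hM1, hT1, map_one]
  obtain ⟨r, hrunit, hr⟩ := hilbert90 sh hshsh _ ha _ hu
  obtain ⟨R, hR⟩ : ∃ R, R = ev r := ⟨_, rfl⟩
  have hRT : Commute R T := by rw [hR]; exact hev_comm r
  have hRA : Commute A R := by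
    obtain ⟨p, hp⟩ := Ideal.Quotient.mk_surjective r
    rw [hR, ← hp, hev]
    exact commute_aeval A T hTA p
  have hRdet : IsUnit R.det := by
    obtain ⟨ru, hru⟩ := hrunit
    have h1 : R * ev (ru⁻¹ : (K[X] ⧸ I)ˣ) = 1 := by
      rw [hR, ← hru, ← map_mul, Units.mul_inv, map_one]
    have h2 := congrArg det h1
    rw [det_mul, det_one] at h2
    exact IsUnit.of_mul_eq_one _ h2
  have hRR : R = Pi * st hK R * st hK P := by
    have h1 := congrArg ev hr
    rw [mul_comm, map_mul, hsh, hev, aeval_X, ← hR] at h1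
    calc R = Pi * st hK R * P * (Pi * st hK P) := by rw [← hT]; exact h1
      _ = Pi * st hK R * (P * Pi) * st hK P := by
          simp only [Matrix.mul_assoc]
      _ = Pi * st hK R * st hK P := by rw [hP1, Matrix.mul_one]
  refine ⟨P * R, ?_, ?_, ?_⟩
  · rw [st_mul]
    conv_rhs => rw [hRR]
    calc st hK R * st hK P = (P * Pi) * st hK R * st hK P := by rw [hP1, Matrix.one_mul]
      _ = P * (Pi * st hK R * st hK P) := by simp only [Matrix.mul_assoc]
  · rw [det_mul]
    exact hP.mul hRdet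
  · calc st hK A * (P * R) * A = st hK A * P * (R * A) := by simp only [Matrix.mul_assoc]
      _ = (st hK A * P * A) * R := by rw [← hRA.eq]; simp only [Matrix.mul_assoc]
      _ = P * R := by rw [hinv]

/-- `A` preserving a nondegenerate sesquilinear form is similar to a unitary matrix. -/
theorem exists_unitary_similar (hK : Fintype.card K = q ^ 2)
    (A P : Matrix (Fin n) (Fin n) K) (hP : IsUnit P.det) (hinv : st hK A * P * A = P) :
    ∃ C B : Matrix (Fin n) (Fin n) K, IsUnit C.det ∧ IsUnitaryMat q B ∧ C * A = B * C := by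
  obtain ⟨H, hH1, hH2, hH3⟩ := exists_hermitian_of_invariant hK A P hP hinv
  obtain ⟨C, hC, hCdet⟩ := exists_st_mul_self_eq hK H hH1 hH2
  have hCi1 : C * C⁻¹ = 1 := mul_nonsing_inv C hCdet
  have hCi2 : C⁻¹ * C = 1 := nonsing_inv_mul C hCdet
  refine ⟨C, C * A * C⁻¹, hCdet, ?_, ?_⟩
  · rw [isUnitaryMat_iff_st hK, st_mul, st_mul]
    have h1 : st hK C⁻¹ * st hK C = 1 := by rw [← st_mul, hCi1, st_one]
    calc st hK C⁻¹ * (st hK A * st hK C) * (C * A * C⁻¹)
        = st hK C⁻¹ * (st hK A * (st hK C * C) * A) * C⁻¹ := by simp only [Matrix.mul_assoc]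
      _ = st hK C⁻¹ * (st hK C * C) * C⁻¹ := by rw [hC, hH3]
      _ = (st hK C⁻¹ * st hK C) * (C * C⁻¹) := by simp only [Matrix.mul_assoc]
      _ = 1 := by rw [h1, hCi1, Matrix.one_mul]
  · rw [Matrix.mul_assoc, hCi2, Matrix.mul_one]


end Cfsg.Agent.Lib.Helper37.GUSimilar
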