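import Mathlib
import Cfsg.Prelude.Def_GeometricClasses
import Cfsg.Agent.Lib.Helper99.AschDefs
import Cfsg.Agent.Lib.Helper23.AschSpDefs
import Cfsg.Agent.Lib.Helper37.Asch.TensorForm

/-!
# ASCHSP-[TFORM] (helper37): tensor normal form and a symplectic form

`N` in tensor normal form inside the similarity group of a symplectic form `f`: the Gram matrix of `f`
in the adapted coordinates is `J₁ ⊗ C` with one factor alternating and the other symmetric.
-/

set_option autoImplicit false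

namespace Cfsg.Agent.Lib.Helper37.AschSpTform

open Cfsg Cfsg.Geo Cfsg.Agent.Lib.Helper99.Asch Cfsg.Agent.Lib.Helper23.AschSp
open Cfsg.Agent.Lib.Helper37.Asch
open scoped MatrixGroups Matrix Kronecker

variable {F : Type*} [Field F]

theorem formOfGram_single {κ : Type} [Fintype κ] [DecidableEq κ] (G : Matrix κ κ F) (p p' : κ) :
    formOfGram id G (Pi.single p 1) (Pi.single p' 1) = G p p' := by
  unfold formOfGram
  simp [Pi.single_apply]

/-- the symmetry dichotomy for a Kronecker product which is alternating -/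
theorem alt_kronecker_split {d e : Type} [Fintype d] [DecidableEq d] [Fintype e] [DecidableEq e]
    {G₁ : Matrix d d F} {G₂ : Matrix e e F} (hG₁ : G₁ ≠ 0) (hG₂ : G₂ ≠ 0)
    (hskew : ∀ p p', (G₁ ⊗ₖ G₂) p p' = - (G₁ ⊗ₖ G₂) p' p)
    (hdiag : ∀ p, (G₁ ⊗ₖ G₂) p p = 0) :
    (IsAltMat G₁ ∧ G₂ᵀ = G₂) ∨ (G₁ᵀ = G₁ ∧ IsAltMat G₂) := by
  have hT : ((G₁ ⊗ₖ G₂).map (RingEquiv.refl F))ᵀ = (-1 : F) • (G₁ ⊗ₖ G₂) := by
    ext p p'
    rw [Matrix.transpose_apply, Matrix.map_apply, Matrix.smul_apply, hskew p' p]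
    simp
  obtain ⟨c, hc1, hc2⟩ := kronecker_hermitian_split (RingEquiv.refl F) hG₁ hG₂ (-1) hT
  have hc1' : G₁ᵀ = c • G₁ := by
    rw [← hc1]; ext i j; simp
  have hc2' : -G₂ = c • G₂ᵀ := by
    have : (G₂.map (RingEquiv.refl F))ᵀ = G₂ᵀ := by ext i j; simp
    rw [this] at hc2
    rw [← hc2]; simp
  -- c² = 1
  have hcc : c * c = 1 := by
    obtain ⟨i, j, hij⟩ : ∃ i j, G₁ i j ≠ 0 := by
      by_contra hno
      push Not at hno
      exact hG₁ (Matrix.ext hno)
    have h1 : G₁ j i = c * G₁ i j := by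
      have := congrFun (congrFun hc1' i) j
      simpa using this
    have h2 : G₁ i j = c * G₁ j i := by
      have := congrFun (congrFun hc1' j) i
      simpa using this
    rw [h1] at h2
    have h3 : (c * c - 1) * G₁ i j = 0 := by linear_combination -h2
    have := (mul_eq_zero.mp h3).resolve_right hij
    linear_combination this
  have hc : c = 1 ∨ c = -1 := by
    have : (c - 1) * (c + 1) = 0 := by linear_combination hcc
    rcases mul_eq_zero.mp this with h | h
    · left; linear_combination h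
    · right; linear_combination h
  have hdiag' : ∀ i k, G₁ i i * G₂ k k = 0 := by
    intro i k
    have := hdiag (i, k)
    simpa [Matrix.kronecker_apply] using this
  by_cases h2 : (2 : F) = 0
  · -- characteristic 2
    have hneg : ∀ x : F, -x = x := by
      intro x
      have : x + x = 0 := by linear_combination x * h2
      linear_combination -this
    have hnegM : ∀ {κ : Type} (M : Matrix κ κ F), -M = M := by
      intro κ M; ext i j; exact hneg _
    have hone : c = 1 := by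
      rcases hc with h | h
      · exact h
      · rw [h]; exact hneg 1
    have hs1 : G₁ᵀ = G₁ := by rw [hc1', hone, one_smul]
    have hs2 : G₂ᵀ = G₂ := by
      rw [hone, one_smul, hnegM] at hc2'
      exact hc2'.symm
    by_cases hd1 : ∀ i, G₁ i i = 0
    · left
      exact ⟨⟨by rw [hs1, hnegM], hd1⟩, hs2⟩
    · right
      push Not at hd1
      obtain ⟨i, hi⟩ := hd1
      refine ⟨hs1, ⟨by rw [hs2, hnegM], fun k => ?_⟩⟩
      exact (mul_eq_zero.mp (hdiag' i k)).resolve_left hi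
  · rcases hc with h | h
    · right
      have hs1 : G₁ᵀ = G₁ := by rw [hc1', h, one_smul]
      have hs2 : G₂ᵀ = -G₂ := by
        rw [h, one_smul] at hc2'
        exact hc2'.symm
      refine ⟨hs1, hs2, fun k => ?_⟩
      have := congrFun (congrFun hs2 k) k
      simp only [Matrix.transpose_apply, Matrix.neg_apply] at this
      have h3 : (2 : F) * G₂ k k = 0 := by linear_combination this
      exact (mul_eq_zero.mp h3).resolve_left h2
    · left
      have hs1 : G₁ᵀ = -G₁ := by rw [hc1', h, neg_one_smul]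
      have hs2 : G₂ᵀ = G₂ := by
        rw [h, neg_one_smul, neg_inj] at hc2'
        exact hc2'.symm
      refine ⟨⟨hs1, fun i => ?_⟩, hs2⟩
      have := congrFun (congrFun hs1 i) i
      simp only [Matrix.transpose_apply, Matrix.neg_apply] at this
      have h3 : (2 : F) * G₁ i i = 0 := by linear_combination this
      exact (mul_eq_zero.mp h3).resolve_left h2

end Cfsg.Agent.Lib.Helper37.AschSpTform

namespace Cfsg.Agent.Lib.Helper23.AschSp

open Cfsg Cfsg.Geo Cfsg.Agent.Lib.Helper99.Asch Cfsg.Agent.Lib.Helper37.Asch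
open Cfsg.Agent.Lib.Helper37.AschSpTform
open scoped MatrixGroups Matrix Kronecker

variable {n : ℕ} {F : Type*} [Field F] {f : (Fin n → F) → (Fin n → F) → F}

/-- ASCHSP-[TFORM] -/
theorem gram_kronecker_of_tensorNF (hf : IsSymplecticForm f) (N : Subgroup (GL (Fin n) F))
    (hN : N ≤ similarityGroup f) (d e : ℕ) (idx : Fin n ≃ Fin d × Fin e) (B : GL (Fin n) F)
    (hNF : TensorNF N d e idx B) :
    ∃ (J₁ : Matrix (Fin d) (Fin d) F) (C : Matrix (Fin e) (Fin e) F), J₁.det ≠ 0 ∧ C.det ≠ 0 ∧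
      ((IsAltMat J₁ ∧ Cᵀ = C) ∨ (J₁ᵀ = J₁ ∧ IsAltMat C)) ∧
      ∀ x y : Fin d × Fin e → F,
        f (((B⁻¹ : GL (Fin n) F) : Matrix (Fin n) (Fin n) F) *ᵥ (x ∘ idx))
          (((B⁻¹ : GL (Fin n) F) : Matrix (Fin n) (Fin n) F) *ᵥ (y ∘ idx)) = formOfGram id (J₁ ⊗ₖ C) x y := by
  have hsesq : IsSesqForm (RingEquiv.refl F) f := isSesq_of_bilinear hf.bilinear
  rcases Nat.eq_zero_or_pos d with hd | hd
  · -- degenerate: the space is zero
    subst hd
    have : IsEmpty (Fin 0 × Fin e) := inferInstance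
    have : IsEmpty (Fin n) := idx.isEmpty
    refine ⟨0, 1, ?_, ?_, Or.inl ⟨⟨?_, fun i => i.elim0⟩, Matrix.transpose_one⟩, fun x y => ?_⟩
    · rw [Matrix.det_isEmpty]; exact one_ne_zero
    · rw [Matrix.det_one]; exact one_ne_zero
    · ext i; exact i.elim0
    · have h0 : ∀ u : Fin n → F, u = 0 := fun u => Subsingleton.elim _ _
      rw [h0 (_ *ᵥ (x ∘ idx)), hsesq.zero_left]
      unfold formOfGram
      simp
  rcases Nat.eq_zero_or_pos e with he | he
  · subst he
    have : IsEmpty (Fin d × Fin 0) := inferInstance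
    have : IsEmpty (Fin n) := idx.isEmpty
    refine ⟨1, 0, ?_, ?_, Or.inr ⟨Matrix.transpose_one, ⟨?_, fun i => i.elim0⟩⟩, fun x y => ?_⟩
    · rw [Matrix.det_one]; exact one_ne_zero
    · rw [Matrix.det_isEmpty]; exact one_ne_zero
    · ext i; exact i.elim0
    · have h0 : ∀ u : Fin n → F, u = 0 := fun u => Subsingleton.elim _ _
      rw [h0 (_ *ᵥ (x ∘ idx)), hsesq.zero_left]
      unfold formOfGram
      simp
  obtain ⟨G₁, G₂, hu1, hu2, hgram, -⟩ :=
    tensor_gram_of_tensorNF hsesq hf.nondegenerate N hN d e hd he idx B hNF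
  have hgram' : ∀ x y : Fin d × Fin e → F,
      f (((B⁻¹ : GL (Fin n) F) : Matrix (Fin n) (Fin n) F) *ᵥ (x ∘ idx))
        (((B⁻¹ : GL (Fin n) F) : Matrix (Fin n) (Fin n) F) *ᵥ (y ∘ idx)) =
        formOfGram id (G₁ ⊗ₖ G₂) x y := fun x y => hgram x y
  have hd1 : G₁.det ≠ 0 := ((Matrix.isUnit_iff_isUnit_det _).mp hu1).ne_zero
  have hd2 : G₂.det ≠ 0 := ((Matrix.isUnit_iff_isUnit_det _).mp hu2).ne_zero
  have hG₁ : G₁ ≠ 0 := by
    rintro rfl
    have : Nonempty (Fin d) := ⟨⟨0, hd⟩⟩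
    exact hd1 Matrix.det_zero
  have hG₂ : G₂ ≠ 0 := by
    rintro rfl
    have : Nonempty (Fin e) := ⟨⟨0, he⟩⟩
    exact hd2 Matrix.det_zero
  refine ⟨G₁, G₂, hd1, hd2, ?_, hgram'⟩
  apply alt_kronecker_split hG₁ hG₂
  · intro p p'
    rw [← formOfGram_single (G₁ ⊗ₖ G₂) p p', ← formOfGram_single (G₁ ⊗ₖ G₂) p' p, ← hgram', ← hgram']
    exact hf.skew _ _
  · intro p
    rw [← formOfGram_single (G₁ ⊗ₖ G₂) p p, ← hgram']
    exact hf.alternating _

end Cfsg.Agent.Lib.Helper23.AschSp
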