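/-
helper37 library: any two nondegenerate alternating forms on a finite-dimensional space are
isometric (Darboux), from helper13's symplectic coordinates.
-/
import Mathlib
import Cfsg.Agent.Lib.Helper13.SympSplit

set_option autoImplicit false

namespace Cfsg.Agent.Lib.Helper37.AltIso

open Cfsg.Agent.Lib.Helper13

variable {F : Type*} [Field F] {U : Type*} [AddCommGroup U] [Module F U] [FiniteDimensional F U]

theorem exists_finrank_eq_two_mul (B : LinearMap.BilinForm F U) (hA : B.IsAlt)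
    (hnd : ∀ u, (∀ v, B u v = 0) → u = 0) : ∃ k : ℕ, Module.finrank F U = 2 * k := by
  classical
  obtain ⟨m', k', b, h1, h2, h3, h4⟩ := Cfsg.Agent.S0752.result B hA
  have hk' : k' = 0 := by
    by_contra hne
    have hpos : 0 < k' := Nat.pos_of_ne_zero hne
    exact b.ne_zero (Sum.inr ⟨0, hpos⟩) (hnd _ (h4 ⟨0, hpos⟩))
  subst hk'
  refine ⟨m', ?_⟩
  have := Module.finrank_eq_card_basis b
  simp only [Fintype.card_sum, Fintype.card_fin] at this
  omega

theorem exists_isometry_of_alt (B B' : LinearMap.BilinForm F U) (hA : B.IsAlt) (hA' : B'.IsAlt)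
    (hnd : ∀ u, (∀ v, B u v = 0) → u = 0) (hnd' : ∀ u, (∀ v, B' u v = 0) → u = 0) :
    ∃ c : U ≃ₗ[F] U, ∀ x y, B (c x) (c y) = B' x y := by
  obtain ⟨k, hk⟩ := exists_finrank_eq_two_mul B hA hnd
  obtain ⟨ι, hι⟩ := exists_symp_coords B hA hnd k hk
  obtain ⟨ι', hι'⟩ := exists_symp_coords B' hA' hnd' k hk
  refine ⟨ι'.symm.trans ι, fun x y => ?_⟩
  rw [LinearEquiv.trans_apply, LinearEquiv.trans_apply, hι, ← hι', LinearEquiv.apply_symm_apply,
    LinearEquiv.apply_symm_apply]

end Cfsg.Agent.Lib.Helper37.AltIso
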