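import Mathlib
import Cfsg.Prelude.Def_LieClassical
import Cfsg.Agent.Lib.Helper5.UnitarySU

/-!
Elements of `GU_n(q)` whose image under a field automorphism `σ` is a scalar multiple of
themselves: they are the products of a norm-one scalar and a `σ`-fixed unitary matrix.
-/

set_option autoImplicit false

namespace Cfsg.Agent.Lib.Helper37

open Matrix Cfsg Cfsg.Agent.Lib.Helper5

section general
variable {K : Type*} [Field K] [Fintype K] {q n : ℕ}

omit [Fintype K] in
theorem card_eq_mul_of_fiber {α β : Type*} [Finite α] [Finite β] (f : α → β) (k : ℕ)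
    (hk : ∀ b, Nat.card {a // f a = b} = k) : Nat.card α = k * Nat.card β := by
  classical
  have := Fintype.ofFinite β
  rw [Nat.card_congr (Equiv.sigmaFiberEquiv f).symm, Nat.card_sigma]
  simp only [hk]
  rw [Finset.sum_const, Finset.card_univ, smul_eq_mul, mul_comm, Nat.card_eq_fintype_card]

/-- the product of a unitary matrix with a norm-one scalar -/
noncomputable def smulGU (hK : Fintype.card K = q ^ 2) (f : K) (hf : f * f ^ q = 1)
    (g : GU n K q) : GU n K q :=
  GUofPreserves hK (f • g.1.1) (by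
    intro u v
    rw [smul_mulVec, smul_mulVec, hermForm_smul_left, hermForm_smul_right, GU_preserves]
    linear_combination hermForm n K q u v * hf)

theorem smulGU_coe (hK : Fintype.card K = q ^ 2) (f : K) (hf : f * f ^ q = 1) (g : GU n K q) :
    (smulGU hK f hf g).1.1 = f • g.1.1 := rfl

omit [Fintype K] in
theorem GU_ext {g h : GU n K q} (e : g.1.1 = h.1.1) : g = h := by
  apply Subtype.ext
  apply Units.ext
  exact e

omit [Fintype K] in
theorem map_smul_mat (σ : K ≃+* K) (f : K) (M : Matrix (Fin n) (Fin n) K) :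
    (f • M).map σ = σ f • M.map σ := by
  ext i j
  simp

omit [Fintype K] in
theorem GU_exists_entry (hn : 1 ≤ n) (g : GU n K q) : ∃ i j, g.1.1 i j ≠ 0 := by
  by_contra hcon
  simp only [not_exists, not_not] at hcon
  have h0 : g.1.1 = 0 := by
    ext i j
    exact hcon i j
  have h1 := GU_preserves g (Pi.single ⟨0, by omega⟩ 1) (Pi.single ⟨0, by omega⟩ 1)
  rw [h0, zero_mulVec, hermForm_zero_left, hermForm_single_left, one_mul] at h1
  simp at h1

omit [Fintype K] in
/-- a unitary matrix that is a scalar multiple `c • g` of a unitary matrix has `c` of norm one -/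
theorem norm_scalar_eq_one (hn : 1 ≤ n) (g : GU n K q) (c : K)
    (h : ∀ u v, hermForm n K q ((c • g.1.1) *ᵥ u) ((c • g.1.1) *ᵥ v) = hermForm n K q u v) :
    c * c ^ q = 1 := by
  have h1 := h (Pi.single ⟨0, by omega⟩ 1) (Pi.single ⟨0, by omega⟩ 1)
  rw [smul_mulVec, hermForm_smul_left, hermForm_smul_right, GU_preserves, hermForm_single_left,
    one_mul] at h1
  simp only [Pi.single_eq_same, one_pow, mul_one] at h1
  exact h1

omit [Fintype K] in
theorem isUnitaryMat_map (σ : K ≃+* K) (M : Matrix (Fin n) (Fin n) K) (hM : IsUnitaryMat q M) :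
    IsUnitaryMat q (M.map σ) := by
  unfold IsUnitaryMat at hM ⊢
  have h1 : (M.map σ).map (· ^ q) = (M.map (· ^ q)).map σ := by
    ext i j
    simp
  have h2 : (M.map σ)ᵀ = (Mᵀ).map σ := by
    ext i j
    simp
  rw [h1, h2]
  have h3 : (Mᵀ * M.map (· ^ q)).map (σ : K →+* K) =
      (1 : Matrix (Fin n) (Fin n) K).map (σ : K →+* K) := by rw [hM]
  rw [Matrix.map_mul, Matrix.map_one _ (map_zero _) (map_one _)] at h3
  exact h3

end general

section decomp
variable {K : Type*} [Field K] [Fintype K] {q n : ℕ} (σ : K ≃+* K)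

/-- unitary matrices mapped to a scalar multiple of themselves by `σ` -/
abbrev FixCoset (σ : K ≃+* K) (n q : ℕ) : Type _ :=
  {g : GU n K q // ∃ c : K, c ≠ 0 ∧ g.1.1.map σ = c • g.1.1}

/-- unitary matrices fixed by `σ` -/
abbrev FixGU (σ : K ≃+* K) (n q : ℕ) : Type _ := {u : GU n K q // u.1.1.map σ = u.1.1}

/-- scalars of norm one -/
abbrev NormOneK (K : Type*) [Field K] (q : ℕ) : Type _ := {f : K // f * f ^ q = 1}

/-- `σ`-fixed scalars of norm one -/
abbrev FixNormOne (σ : K ≃+* K) (q : ℕ) : Type _ := {z : K // σ z = z ∧ z * z ^ q = 1}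

omit [Fintype K] in
theorem ne_zero_of_norm_one {f : K} (hf : f * f ^ q = 1) : f ≠ 0 := by
  intro h
  rw [h, zero_mul] at hf
  exact zero_ne_one hf

/-- the multiplication map `(f, u) ↦ f u` -/
noncomputable def prodMap (hK : Fintype.card K = q ^ 2) :
    NormOneK K q × FixGU σ n q → FixCoset σ n q := fun p =>
  ⟨smulGU hK p.1.1 p.1.2 p.2.1, σ p.1.1 / p.1.1, by
    have h0 := ne_zero_of_norm_one p.1.2
    exact div_ne_zero (by simpa using h0) h0, by
    have h0 := ne_zero_of_norm_one p.1.2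
    rw [smulGU_coe, map_smul_mat, p.2.2, smul_smul, div_mul_cancel₀ _ h0]⟩

theorem prodMap_coe (hK : Fintype.card K = q ^ 2) (p : NormOneK K q × FixGU σ n q) :
    (prodMap σ hK p).1.1.1 = p.1.1 • p.2.1.1.1 := rfl

theorem prodMap_surjective (hK : Fintype.card K = q ^ 2) (hn : 1 ≤ n)
    (hnorm : ∀ l : K, l ≠ 0 → σ l = l → l ^ q = l → ∃ a : K, σ a = a ∧ a * a ^ q = l) :
    Function.Surjective (prodMap (n := n) σ hK) := by
  rintro ⟨g, c, hc0, hgc⟩
  -- the scalar has norm one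
  have hcc : c * c ^ q = 1 := by
    apply norm_scalar_eq_one hn g c
    rw [← hgc, ← isUnitaryMat_iff_preserves hK]
    apply isUnitaryMat_map
    rw [isUnitaryMat_iff_preserves hK]
    exact GU_preserves g
  obtain ⟨i, j, hij⟩ := GU_exists_entry hn g
  obtain ⟨e, he⟩ : ∃ e : K, e = g.1.1 i j := ⟨_, rfl⟩
  rw [← he] at hij
  have hσe : σ e = c * e := by
    have := congrFun (congrFun hgc i) j
    simp only [Matrix.map_apply, Matrix.smul_apply, smul_eq_mul] at this
    rw [he]; exact this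
  have hN0 : e * e ^ q ≠ 0 := mul_ne_zero hij (pow_ne_zero _ hij)
  have hNσ : σ (e * e ^ q) = e * e ^ q := by
    rw [map_mul, map_pow, hσe, mul_pow]
    linear_combination (e * e ^ q) * hcc
  have hNq : (e * e ^ q) ^ q = e * e ^ q := norm_pow_q hK e
  obtain ⟨a, hσa, ha⟩ := hnorm (e * e ^ q)⁻¹ (inv_ne_zero hN0) (by rw [map_inv₀, hNσ])
    (by rw [inv_pow, hNq])
  have ha0 : a ≠ 0 := by
    intro h
    rw [h, zero_mul] at ha
    exact (inv_ne_zero hN0) ha.symm
  have hf : (e * a) * (e * a) ^ q = 1 := by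
    rw [mul_pow]
    have : e * a * (e ^ q * a ^ q) = (e * e ^ q) * (a * a ^ q) := by ring
    rw [this, ha, mul_inv_cancel₀ hN0]
  have hf0 : e * a ≠ 0 := mul_ne_zero hij ha0
  have hfi : (e * a)⁻¹ * ((e * a)⁻¹) ^ q = 1 := by
    rw [inv_pow, ← mul_inv, hf, inv_one]
  have hσf : σ (e * a) = c * (e * a) := by
    rw [map_mul, hσe, hσa]; ring
  have hfix : (smulGU hK (e * a)⁻¹ hfi g).1.1.map σ = (smulGU hK (e * a)⁻¹ hfi g).1.1 := by
    rw [smulGU_coe, map_smul_mat, hgc, smul_smul, map_inv₀, hσf]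
    congr 1
    field_simp
  refine ⟨(⟨e * a, hf⟩, ⟨smulGU hK (e * a)⁻¹ hfi g, hfix⟩), ?_⟩
  apply Subtype.ext
  apply GU_ext
  rw [prodMap_coe]
  change (e * a) • ((e * a)⁻¹ • g.1.1) = g.1.1
  rw [smul_smul, mul_inv_cancel₀ hf0, one_smul]

theorem card_fiber_prodMap (hK : Fintype.card K = q ^ 2) (hn : 1 ≤ n)
    (p₀ : NormOneK K q × FixGU σ n q) :
    Nat.card {p : NormOneK K q × FixGU σ n q // prodMap σ hK p = prodMap σ hK p₀} =
      Nat.card (FixNormOne σ q) := by
  symm
  apply Nat.card_congr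
  obtain ⟨⟨f₀, hf₀⟩, ⟨u₀, hu₀⟩⟩ := p₀
  have hf₀0 := ne_zero_of_norm_one hf₀
  refine Equiv.ofBijective (fun z => ⟨(⟨f₀ * z.1⁻¹, ?_⟩, ⟨smulGU hK z.1 z.2.2 u₀, ?_⟩), ?_⟩) ⟨?_, ?_⟩
  · have hz := z.2.2
    rw [mul_pow, inv_pow]
    have : f₀ * z.1⁻¹ * (f₀ ^ q * (z.1 ^ q)⁻¹) = (f₀ * f₀ ^ q) * (z.1 * z.1 ^ q)⁻¹ := by
      rw [mul_inv]; ring
    rw [this, hf₀, hz, inv_one, mul_one]
  · rw [smulGU_coe, map_smul_mat, hu₀, z.2.1]
  · apply Subtype.ext
    apply GU_ext
    rw [prodMap_coe, prodMap_coe]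
    change (f₀ * z.1⁻¹) • (z.1 • u₀.1.1) = f₀ • u₀.1.1
    have hz0 := ne_zero_of_norm_one z.2.2
    rw [smul_smul, mul_assoc, inv_mul_cancel₀ hz0, mul_one]
  · intro z z' h
    have h1 := congrArg (fun p => p.1.1.1) h
    simp only at h1
    have h2 : z.1⁻¹ = z'.1⁻¹ := mul_left_cancel₀ hf₀0 h1
    exact Subtype.ext (inv_injective h2)
  · rintro ⟨⟨⟨f, hf⟩, ⟨u, hu⟩⟩, hp⟩
    have hf0 := ne_zero_of_norm_one hf
    have hmat : f • u.1.1 = f₀ • u₀.1.1 := by
      have := congrArg (fun y => y.1.1.1) hp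
      simpa only [prodMap_coe] using this
    have hu' : u.1.1 = (f₀ / f) • u₀.1.1 := by
      have := congrArg (fun M => f⁻¹ • M) hmat
      simp only [smul_smul, inv_mul_cancel₀ hf0, one_smul] at this
      rw [this, div_eq_inv_mul]
    have hzz : (f₀ / f) * (f₀ / f) ^ q = 1 := by
      rw [div_pow]
      have : f₀ / f * (f₀ ^ q / f ^ q) = (f₀ * f₀ ^ q) / (f * f ^ q) := by
        field_simp
      rw [this, hf₀, hf, div_one]
    have hzσ : σ (f₀ / f) = f₀ / f := by
      have h1 := hu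
      rw [hu', map_smul_mat, hu₀] at h1
      obtain ⟨i, j, hij⟩ := GU_exists_entry hn u₀
      have h2 := congrFun (congrFun h1 i) j
      simp only [Matrix.smul_apply, smul_eq_mul] at h2
      exact mul_right_cancel₀ hij h2
    refine ⟨⟨f₀ / f, hzσ, hzz⟩, ?_⟩
    apply Subtype.ext
    apply Prod.ext
    · apply Subtype.ext
      change f₀ * (f₀ / f)⁻¹ = f
      field_simp
    · apply Subtype.ext
      apply GU_ext
      change (f₀ / f) • u₀.1.1 = u.1.1
      exact hu'.symm

/-- the count, in terms of the `σ`-fixed unitary matrices and the `σ`-fixed norm-one scalars -/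
theorem card_fixCoset_mul (hK : Fintype.card K = q ^ 2) (hn : 1 ≤ n)
    (hnorm : ∀ l : K, l ≠ 0 → σ l = l → l ^ q = l → ∃ a : K, σ a = a ∧ a * a ^ q = l) :
    (q + 1) * Nat.card (FixGU σ n q) = Nat.card (FixNormOne σ q) * Nat.card (FixCoset σ n q) := by
  have h1 := card_eq_mul_of_fiber (prodMap (n := n) σ hK) (Nat.card (FixNormOne σ q)) (by
    intro y
    obtain ⟨p₀, rfl⟩ := prodMap_surjective σ hK hn hnorm y
    exact card_fiber_prodMap σ hK hn p₀)
  rw [Nat.card_prod] at h1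
  have hc := card_norm_eq hK (d := (1 : K)) (one_pow q)
  rw [if_neg one_ne_zero] at hc
  rw [hc] at h1
  exact h1

end decomp

section fixedField
variable {K : Type*} [Field K] [Fintype K] (σ : K ≃+* K)

/-- the fixed field of `σ` -/
abbrev fixF (σ : K ≃+* K) : Subfield K := FixedPoints.subfield (Subgroup.zpowers σ) K

omit [Fintype K] in
theorem mem_fixF (x : K) : x ∈ fixF σ ↔ σ x = x := by
  constructor
  · intro h
    exact h ⟨σ, Subgroup.mem_zpowers σ⟩
  · intro h g
    have hinv : σ⁻¹ x = x := by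
      have h2 : σ⁻¹ (σ x) = x := by
        change σ.symm (σ x) = x
        simp
      rw [h] at h2; exact h2
    have key : ∀ k : ℤ, (σ ^ k) x = x := by
      intro k
      induction k using Int.induction_on with
      | zero => simp
      | succ i ih =>
        rw [_root_.zpow_add_one]
        change (σ ^ (i:ℤ)) (σ x) = x
        rw [h]; exact ih
      | pred i ih =>
        rw [_root_.zpow_sub_one]
        change (σ ^ (-(i:ℤ))) (σ⁻¹ x) = x
        rw [hinv]; exact ih
    obtain ⟨g, hg⟩ := g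
    obtain ⟨k, rfl⟩ := Subgroup.mem_zpowers_iff.mp hg
    exact key k

theorem card_fixF_pow (r : ℕ) (hσ : orderOf σ = r) :
    Fintype.card K = Nat.card (fixF σ) ^ r := by
  classical
  have : Finite (K ≃+* K) :=
    Finite.of_injective (fun e : K ≃+* K => (e : K → K)) DFunLike.coe_injective
  have := Fintype.ofFinite (Subgroup.zpowers σ)
  have h1 := FixedPoints.finrank_eq_card (Subgroup.zpowers σ) K
  rw [← Nat.card_eq_fintype_card, Nat.card_zpowers, hσ] at h1
  have := Fintype.ofFinite (fixF σ)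
  rw [Module.card_eq_pow_finrank (K := fixF σ) (V := K), h1,
    Nat.card_eq_fintype_card]

noncomputable instance fixFFintype : Fintype (fixF σ) := Fintype.ofFinite _

theorem card_fixF {q q₀ r : ℕ} (hr0 : r ≠ 0) (hq : q = q₀ ^ r) (hK : Fintype.card K = q ^ 2)
    (hσ : orderOf σ = r) : Fintype.card (fixF σ) = q₀ ^ 2 := by
  have h1 := card_fixF_pow σ r hσ
  rw [hK, hq, ← pow_mul, mul_comm, pow_mul, Nat.card_eq_fintype_card] at h1
  exact (Nat.pow_left_injective hr0 h1).symm

/-- on the fixed field, `x ↦ x ^ q` is `x ↦ x ^ q₀` -/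
theorem pow_q_eq_of_fixed {q q₀ r : ℕ} (hr : Odd r) (hq : q = q₀ ^ r)
    (hK : Fintype.card K = q ^ 2) (hσ : orderOf σ = r) (x : K) (hx : σ x = x) :
    x ^ q = x ^ q₀ := by
  obtain ⟨s, rfl⟩ := hr
  have hK₀ := card_fixF σ (by omega) hq hK hσ
  have h1 : x ^ (q₀ ^ 2) = x := by
    have := FiniteField.pow_card (⟨x, (mem_fixF σ x).2 hx⟩ : fixF σ)
    rw [hK₀] at this
    exact congrArg Subtype.val this
  have h2 : ∀ k : ℕ, x ^ ((q₀ ^ 2) ^ k) = x := by
    intro k
    induction k with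
    | zero => simp
    | succ k ih => rw [pow_succ, pow_mul, ih, h1]
  rw [hq, pow_succ, pow_mul, pow_mul, h2]

end fixedField

section bridge
variable {K : Type*} [Field K] [Fintype K] (σ : K ≃+* K) {q q₀ r n : ℕ}

theorem card_fixNormOne (hr : Odd r) (hq : q = q₀ ^ r) (hK : Fintype.card K = q ^ 2)
    (hσ : orderOf σ = r) : Nat.card (FixNormOne σ q) = q₀ + 1 := by
  have hr0 : r ≠ 0 := by
    rintro rfl
    simp at hr
  have hK₀ := card_fixF σ hr0 hq hK hσ
  have hc := card_norm_eq hK₀ (d := (1 : fixF σ)) (one_pow q₀)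
  rw [if_neg one_ne_zero] at hc
  rw [← hc]
  apply Nat.card_congr
  refine Equiv.ofBijective (fun z => ⟨⟨z.1, (mem_fixF σ z.1).2 z.2.1⟩, ?_⟩) ⟨?_, ?_⟩
  · apply Subtype.ext
    have h1 := z.2.2
    rw [pow_q_eq_of_fixed σ hr hq hK hσ z.1 z.2.1] at h1
    simpa using h1
  · intro z z' h
    have := congrArg (fun y => y.1.1) h
    exact Subtype.ext this
  · rintro ⟨⟨z, hz⟩, hz1⟩
    have hσz := (mem_fixF σ z).1 hz
    refine ⟨⟨z, hσz, ?_⟩, rfl⟩
    rw [pow_q_eq_of_fixed σ hr hq hK hσ z hσz]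
    have := congrArg Subtype.val hz1
    simpa using this

theorem hnorm_of_fixed (hr : Odd r) (hq : q = q₀ ^ r) (hK : Fintype.card K = q ^ 2)
    (hσ : orderOf σ = r) :
    ∀ l : K, l ≠ 0 → σ l = l → l ^ q = l → ∃ a : K, σ a = a ∧ a * a ^ q = l := by
  intro l _ hσl hlq
  have hr0 : r ≠ 0 := by
    rintro rfl
    simp at hr
  have hK₀ := card_fixF σ hr0 hq hK hσ
  rw [pow_q_eq_of_fixed σ hr hq hK hσ l hσl] at hlq
  obtain ⟨x, hx⟩ := exists_norm_eq hK₀ (d := (⟨l, (mem_fixF σ l).2 hσl⟩ : fixF σ))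
    (Subtype.ext (by simpa using hlq))
  have hσx := (mem_fixF σ x.1).1 x.2
  refine ⟨x.1, hσx, ?_⟩
  rw [pow_q_eq_of_fixed σ hr hq hK hσ x.1 hσx]
  have := congrArg Subtype.val hx
  simpa using this


theorem isUnitaryMat_map_subtype (hr : Odd r) (hq : q = q₀ ^ r) (hK : Fintype.card K = q ^ 2)
    (hσ : orderOf σ = r) (M : Matrix (Fin n) (Fin n) (fixF σ)) :
    IsUnitaryMat q (M.map (fixF σ).subtype) ↔ IsUnitaryMat q₀ M := by
  unfold IsUnitaryMat
  have h1 : (M.map (fixF σ).subtype).map (· ^ q) = (M.map (· ^ q₀)).map (fixF σ).subtype := by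
    ext i j
    simp only [Matrix.map_apply, Subfield.coe_subtype, SubmonoidClass.coe_pow]
    exact pow_q_eq_of_fixed σ hr hq hK hσ (M i j).1 ((mem_fixF σ _).1 (M i j).2)
  have h2 : (M.map (fixF σ).subtype)ᵀ = (Mᵀ).map (fixF σ).subtype := by
    ext i j
    simp
  rw [h1, h2, ← Matrix.map_mul]
  have h3 : (1 : Matrix (Fin n) (Fin n) K) = (1 : Matrix (Fin n) (Fin n) (fixF σ)).map
      (fixF σ).subtype := by
    rw [Matrix.map_one _ (map_zero _) (map_one _)]
  rw [h3]
  constructor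
  · intro h
    exact Matrix.map_injective (Subtype.val_injective) h
  · intro h
    rw [h]

/-- the `σ`-fixed unitary matrices are the unitary matrices over the fixed field -/
theorem card_fixGU (hr : Odd r) (hq : q = q₀ ^ r) (hK : Fintype.card K = q ^ 2)
    (hσ : orderOf σ = r) : Nat.card (FixGU σ n q) = Nat.card (GU n (fixF σ) q₀) := by
  have hr0 : r ≠ 0 := by
    rintro rfl
    simp at hr
  have hK₀ := card_fixF σ hr0 hq hK hσ
  symm
  apply Nat.card_congr
  refine Equiv.ofBijective (fun g => ⟨GUofPreserves hK (g.1.1.map (fixF σ).subtype) ?_, ?_⟩)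
    ⟨?_, ?_⟩
  · rw [← isUnitaryMat_iff_preserves hK, isUnitaryMat_map_subtype σ hr hq hK hσ,
      isUnitaryMat_iff_preserves hK₀]
    exact GU_preserves g
  · rw [GUofPreserves_coe]
    ext i j
    simp only [Matrix.map_apply, Subfield.coe_subtype]
    exact (mem_fixF σ _).1 (g.1.1 i j).2
  · intro g g' h
    have h1 := congrArg (fun y => y.1.1.1) h
    simp only [GUofPreserves_coe] at h1
    apply GU_ext
    exact Matrix.map_injective (Subtype.val_injective) h1
  · rintro ⟨u, hu⟩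
    have hmem : ∀ i j, u.1.1 i j ∈ fixF σ := by
      intro i j
      rw [mem_fixF]
      have := congrFun (congrFun hu i) j
      simpa using this
    obtain ⟨M, hM⟩ : ∃ M : Matrix (Fin n) (Fin n) (fixF σ), M.map (fixF σ).subtype = u.1.1 :=
      ⟨fun i j => ⟨u.1.1 i j, hmem i j⟩, by ext i j; rfl⟩
    have hMu : IsUnitaryMat q₀ M := by
      rw [← isUnitaryMat_map_subtype σ hr hq hK hσ, hM, isUnitaryMat_iff_preserves hK]
      exact GU_preserves u
    refine ⟨GUofPreserves hK₀ M ((isUnitaryMat_iff_preserves hK₀ M).1 hMu), ?_⟩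
    apply Subtype.ext
    apply GU_ext
    simp only [GUofPreserves_coe]
    exact hM

end bridge

section final

/-- the order of `GU_n(q)` as an integer product -/
theorem card_GU_int {F : Type*} [Field F] [Fintype F] {q : ℕ} (hF : Fintype.card F = q ^ 2)
    (n : ℕ) : (Nat.card (GU n F q) : ℤ) = (q : ℤ) ^ (n * (n - 1) / 2) *
      ∏ i : Fin n, ((q : ℤ) ^ ((i : ℕ) + 1) - (-1) ^ ((i : ℕ) + 1)) := by
  have hq1 : 1 ≤ q := by
    have := two_le_of_card_eq_sq hF
    omega
  rw [card_GU hF n, Nat.cast_mul, Nat.cast_pow, Nat.cast_prod]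
  congr 1
  rw [← Finset.prod_range (fun i => (q : ℤ) ^ (i + 1) - (-1) ^ (i + 1))]
  apply Finset.prod_congr rfl
  intro i _
  split_ifs with he
  · rw [Odd.neg_one_pow he.add_one]
    push_cast
    ring
  · have he' : Even (i + 1) := by
      rw [Nat.even_add_one]; exact he
    rw [Even.neg_one_pow he', Nat.cast_sub (Nat.one_le_pow _ _ hq1)]
    push_cast
    ring

variable {K : Type*} [Field K] [Fintype K] (σ : K ≃+* K) {q q₀ r n : ℕ}

/-- the number of elements of `GU_n(q)` that a field automorphism of odd prime order `r`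
maps to a scalar multiple of themselves -/
theorem card_fixCoset (hr : Odd r) (hn : 1 ≤ n) (hq : q = q₀ ^ r)
    (hK : Fintype.card K = q ^ 2) (hσ : orderOf σ = r) :
    (Nat.card (FixCoset σ n q) : ℤ) = ((q + 1) / (q₀ + 1) : ℕ) *
      ((q₀ : ℤ) ^ (n * (n - 1) / 2) *
        ∏ i : Fin n, ((q₀ : ℤ) ^ ((i : ℕ) + 1) - (-1) ^ ((i : ℕ) + 1))) := by
  have hr0 : r ≠ 0 := by
    rintro rfl
    simp at hr
  have hK₀ := card_fixF σ hr0 hq hK hσ
  have h1 := card_fixCoset_mul (n := n) σ hK hn (hnorm_of_fixed σ hr hq hK hσ)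
  rw [card_fixNormOne σ hr hq hK hσ, card_fixGU σ hr hq hK hσ] at h1
  have hdvd : q₀ + 1 ∣ q + 1 := by
    have := Odd.nat_add_dvd_pow_add_pow q₀ 1 hr
    rw [one_pow, ← hq] at this
    exact this
  obtain ⟨k, hk⟩ := hdvd
  have hk' : (q + 1) / (q₀ + 1) = k := by
    rw [hk, Nat.mul_div_cancel_left _ (by omega)]
  rw [hk', ← card_GU_int hK₀ n]
  rw [hk, mul_assoc] at h1
  have h2 := Nat.eq_of_mul_eq_mul_left (by omega) h1
  rw [← h2]
  push_cast
  ring

end final

end Cfsg.Agent.Lib.Helper37
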