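/-
helper37 library: surjectivity of the norm `c ↦ c * sh c` onto the fixed units of a finite
commutative ring with involution `sh`, when some `a - sh a` is a unit.  (Counting argument from
`hilbert90`.)
-/
import Mathlib
import Cfsg.Agent.Lib.Helper37.GUSimilar

set_option autoImplicit false

namespace Cfsg.Agent.Lib.Helper37.NormSurj

open Cfsg.Agent.Lib.Helper37.GUSimilar

theorem norm_surjective {𝒜 : Type*} [CommRing 𝒜] [Finite 𝒜] (sh : 𝒜 →+* 𝒜)
    (hsh : ∀ x, sh (sh x) = x) (a : 𝒜) (ha : IsUnit (a - sh a)) (h : 𝒜) (hh : IsUnit h)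
    (hfix : sh h = h) : ∃ c : 𝒜, c * sh c = h := by
  classical
  let shU : 𝒜ˣ →* 𝒜ˣ := Units.map (sh : 𝒜 →* 𝒜)
  have hshU : ∀ x : 𝒜ˣ, ((shU x : 𝒜ˣ) : 𝒜) = sh x := fun x => rfl
  have hshU2 : ∀ x : 𝒜ˣ, shU (shU x) = x := by
    intro x
    apply Units.ext
    rw [hshU, hshU, hsh]
  let N : 𝒜ˣ →* 𝒜ˣ :=
    { toFun := fun c => c * shU c
      map_one' := by rw [map_one, mul_one]
      map_mul' := fun x y => by rw [map_mul]; exact mul_mul_mul_comm x y (shU x) (shU y) }
  let φ : 𝒜ˣ →* 𝒜ˣ :=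
    { toFun := fun c => c * (shU c)⁻¹
      map_one' := by rw [map_one, inv_one, mul_one]
      map_mul' := fun x y => by rw [map_mul, mul_inv]; exact mul_mul_mul_comm x y _ _ }
  have hN : ∀ c, N c = c * shU c := fun c => rfl
  have hφ : ∀ c, φ c = c * (shU c)⁻¹ := fun c => rfl
  have h1 : φ.range = N.ker := by
    ext u
    rw [MonoidHom.mem_range, MonoidHom.mem_ker]
    constructor
    · rintro ⟨r, rfl⟩
      rw [hN, hφ, map_mul, map_inv, hshU2]
      group
    · intro hu
      rw [hN] at hu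
      have hu' : (u : 𝒜) * sh u = 1 := by
        have := congrArg Units.val hu
        rwa [Units.val_mul, hshU, Units.val_one] at this
      obtain ⟨r, hrunit, hr⟩ := hilbert90 sh hsh a ha u hu'
      obtain ⟨ru, rfl⟩ := hrunit
      refine ⟨ru, ?_⟩
      rw [hφ, mul_inv_eq_iff_eq_mul]
      apply Units.ext
      rw [Units.val_mul, hshU]
      exact hr
  have h2 : N.range ≤ φ.ker := by
    rintro x ⟨c, rfl⟩
    rw [MonoidHom.mem_ker, hφ, hN, map_mul, hshU2, mul_comm (shU c) c]
    exact mul_inv_cancel _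
  have h3 : Nat.card N.ker * Nat.card N.range = Nat.card 𝒜ˣ := by
    rw [← Subgroup.index_ker, mul_comm]
    exact Subgroup.index_mul_card _
  have h4 : Nat.card φ.ker * Nat.card φ.range = Nat.card 𝒜ˣ := by
    rw [← Subgroup.index_ker, mul_comm]
    exact Subgroup.index_mul_card _
  have h5 : Nat.card N.range = Nat.card φ.ker := by
    rw [h1] at h4
    have hpos : 0 < Nat.card N.ker := Nat.card_pos
    have : Nat.card N.ker * Nat.card N.range = Nat.card N.ker * Nat.card φ.ker := by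
      rw [h3, mul_comm, h4]
    exact Nat.eq_of_mul_eq_mul_left hpos this
  have h6 : N.range = φ.ker := Subgroup.eq_of_le_of_card_ge h2 h5.ge
  obtain ⟨hu, rfl⟩ := hh
  have h7 : hu ∈ φ.ker := by
    rw [MonoidHom.mem_ker, hφ, mul_inv_eq_one]
    apply Units.ext
    rw [hshU, hfix]
  rw [← h6] at h7
  obtain ⟨c, hc⟩ := h7
  refine ⟨c, ?_⟩
  have := congrArg Units.val hc
  rwa [hN, Units.val_mul, hshU] at this

end Cfsg.Agent.Lib.Helper37.NormSurj
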