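/-
helper37 library: semisimple isometries of odd order of a nondegenerate quadratic space over a
finite field that are conjugate in `GL` are conjugate in the orthogonal group.
-/
import Mathlib
import Cfsg.Agent.Lib.Helper37.FormKey
import Cfsg.Agent.Lib.Helper13.QuadWitt

set_option autoImplicit false

namespace Cfsg.Agent.Lib.Helper37.OrthConj

open Cfsg.Agent.Lib.Helper37.FormKey Cfsg.Agent.Lib.Helper13

variable {F : Type*} [Field F] [Finite F] {V : Type*} [AddCommGroup V] [Module F V]
  [FiniteDimensional F V]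

omit [Finite F] [FiniteDimensional F V] in
theorem polar_map (Q : QuadraticForm F V) (a : V →ₗ[F] V) (ha : ∀ x, Q (a x) = Q x) (x y : V) :
    QuadraticMap.polar Q (a x) (a y) = QuadraticMap.polar Q x y := by
  unfold QuadraticMap.polar
  rw [← map_add, ha, ha, ha]

omit [Finite F] [FiniteDimensional F V] in
theorem Q_add (Q : QuadraticForm F V) (x y : V) :
    Q (x + y) = Q x + Q y + QuadraticMap.polar Q x y := by
  unfold QuadraticMap.polar
  ring

/-- the module-level conjugacy theorem -/
theorem exists_isometry_conj (Q : QuadraticForm F V)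
    (hQ : (QuadraticMap.polarBilin Q).Nondegenerate) (a b : Module.End F V)
    (ha : ∀ x, Q (a x) = Q x) (hb : ∀ x, Q (b x) = Q x) (π : V ≃ₗ[F] V)
    (hπ : ∀ x, π (a x) = b (π x)) (k : ℕ) (hkodd : Odd k) (hk : (k : F) ≠ 0)
    (hak : ∀ x, (a ^ k) x = x) :
    ∃ g : V ≃ₗ[F] V, (∀ v, Q (g v) = Q v) ∧ ∀ v, g (a v) = b (g v) := by
  classical
  set B : LinearMap.BilinForm F V := QuadraticMap.polarBilin Q with hB
  have hBapp : ∀ x y, B x y = QuadraticMap.polar Q x y := fun x y => rfl
  have hBsymm : ∀ x y, B x y = B y x := fun x y => QuadraticMap.polar_comm Q x y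
  have hBa : ∀ x y, B (a x) (a y) = B x y := fun x y => polar_map Q a ha x y
  have hBb : ∀ x y, B (b x) (b y) = B x y := fun x y => polar_map Q b hb x y
  have hndl : ∀ u, (∀ v, B u v = 0) → u = 0 := hQ.1
  have hkpos : 0 < k := hkodd.pos
  -- surjectivity of `a` and `b`
  have hasurj : Function.Surjective a := by
    intro z
    refine ⟨(a ^ (k - 1)) z, ?_⟩
    rw [← Module.End.mul_apply, ← pow_succ', Nat.sub_add_cancel hkpos, hak]
  have hbsurj : Function.Surjective b := by
    intro z
    obtain ⟨y, hy⟩ := hasurj (π.symm z)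
    refine ⟨π y, ?_⟩
    rw [← hπ, hy, LinearEquiv.apply_symm_apply]
  -- the endomorphism `h`
  let h : Module.End F V :=
    (B.toDual hQ).symm.toLinearMap ∘ₗ (B.compl₁₂ π.toLinearMap π.toLinearMap)
  have hform : ∀ x y, B (h x) y = B (π x) (π y) := by
    intro x y
    show B ((B.toDual hQ).symm (B.compl₁₂ π.toLinearMap π.toLinearMap x)) y = _
    rw [LinearMap.BilinForm.apply_toDual_symm_apply]
    rfl
  let D : FData F V :=
    { B := B
      a := a
      h := h
      k := k
      ε := 1
      hε := one_mul 1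
      symm := fun x y => by rw [one_mul]; exact hBsymm x y
      nondeg := hndl
      hk := hk
      hak := hak
      iso := hBa
      comm := by
        intro x
        rw [← sub_eq_zero]
        apply hndl
        intro z
        obtain ⟨y, rfl⟩ := hasurj z
        rw [map_sub, LinearMap.sub_apply, hBa, hform, hform, hπ, hπ, hBb, sub_self]
      self := by
        intro x y
        rw [hform, hBsymm x, hform, hBsymm]
      inj := by
        intro x hx
        have h1 : π x = 0 := by
          apply hndl
          intro z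
          obtain ⟨y, rfl⟩ := π.surjective z
          rw [← hform, hx, map_zero, LinearMap.zero_apply]
        exact π.injective (h1.trans (map_zero π).symm) }
  have hDa : D.a = a := rfl
  have hDB : D.B = B := rfl
  have hDh : D.h = h := rfl
  have hDk : D.k = k := rfl
  -- split off the fixed space
  have hc := D.isCompl_range_ker 1 (one_mul 1) (one_pow _)
  have horth := D.orth_range_ker 1 (one_mul 1)
  set W' := LinearMap.range (D.gmap 1) with hW'
  set W₁ := LinearMap.ker (D.gmap 1) with hW₁
  have hmemW₁ : ∀ x, x ∈ W₁ ↔ a x = x := by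
    intro x
    rw [hW₁, D.mem_ker_gmap, one_smul]
  set D' := D.restrict W' W₁ hc (D.range_a 1) (D.range_h 1) horth with hD'
  have h1 : ∀ x : W', D'.a x = (1 : F) • x → x = 0 :=
    D.restrict_range_inj 1 (one_mul 1) (one_pow _) hc _ _ horth
  have h2 : ∀ x : W', D'.a x = (-1 : F) • x → x = 0 := by
    intro x hx
    by_cases h20 : (2 : F) = 0
    · apply h1
      rw [hx]
      congr 1
      linear_combination -h20
    · have h3 : ∀ j : ℕ, ((D'.a) ^ j) x = ((-1 : F) ^ j) • x := by
        intro j
        induction j with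
        | zero => simp
        | succ j ih => rw [pow_succ, Module.End.mul_apply, hx, map_smul, ih, smul_smul, pow_succ']
      have h4 := D'.hak x
      have hk' : D'.k = k := rfl
      rw [hk', h3, hkodd.neg_one_pow, neg_smul, one_smul] at h4
      have h5 : (2 : F) • x = 0 := by
        rw [two_smul]
        nth_rewrite 1 [← h4]
        exact neg_add_cancel x
      rcases smul_eq_zero.1 h5 with h | h
      · exact absurd h h20
      · exact h
  obtain ⟨c', hc'a, hc'B⟩ := FData.solvable_of_injective D' h1 h2
  have hD'a : ∀ x : W', ((D'.a x : W') : V) = a x := fun x => rfl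
  have hD'B : ∀ x y : W', D'.B x y = B x y := fun x y => rfl
  have hD'h : ∀ x : W', ((D'.h x : W') : V) = h x := fun x => rfl
  have hc'B' : ∀ x y : W', B (c' x) (c' y) = B (π x) (π y) := by
    intro x y
    rw [← hD'B, hc'B, hD'B, hD'h, hform]
  have hc'a' : ∀ x : W', ((c' (D'.a x) : W') : V) = a (c' x) := by
    intro x
    rw [hc'a]
    rfl
  -- the quadratic forms agree
  have hδ : ∀ x : W', Q (c' x) = Q (π x) := by
    let δ : W' → F := fun x => Q (c' x) - Q (π x)
    have hδadd : ∀ x y, δ (x + y) = δ x + δ y := by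
      intro x y
      have e1 : ((c' (x + y) : W') : V) = (c' x : V) + (c' y : V) := by rw [map_add]; rfl
      have e2 : π ((x + y : W') : V) = π x + π y := by rw [Submodule.coe_add, map_add]
      show Q (c' (x + y)) - Q (π ((x + y : W') : V)) = _
      rw [e1, e2, Q_add, Q_add, ← hBapp, ← hBapp, hc'B']
      show _ = (Q (c' x) - Q (π x)) + (Q (c' y) - Q (π y))
      ring
    have hδa : ∀ x, δ (D'.a x) = δ x := by
      intro x
      show Q (c' (D'.a x)) - Q (π ((D'.a x : W') : V)) = Q (c' x) - Q (π x)
      rw [hc'a', hD'a, hπ, ha, hb]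
    have hδ0 : δ 0 = 0 := by
      show Q (c' (0 : W')) - Q (π ((0 : W') : V)) = 0
      rw [map_zero c', Submodule.coe_zero, map_zero π, QuadraticMap.map_zero, sub_self]
    have hsurj : Function.Surjective (D'.a - 1 : Module.End F W') := by
      apply LinearMap.surjective_of_injective
      rw [← LinearMap.ker_eq_bot, LinearMap.ker_eq_bot']
      intro x hx
      apply h1
      rw [LinearMap.sub_apply, Module.End.one_apply, sub_eq_zero] at hx
      rw [hx, one_smul]
    intro x
    obtain ⟨y, rfl⟩ := hsurj x
    have h3 : δ ((D'.a - 1 : Module.End F W') y) = 0 := by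
      rw [LinearMap.sub_apply, Module.End.one_apply, sub_eq_add_neg, hδadd, hδa, ← hδadd,
        add_neg_cancel, hδ0]
    exact sub_eq_zero.1 h3
  -- `c'` is bijective
  have hc'inj : Function.Injective c' := by
    rw [← LinearMap.ker_eq_bot, LinearMap.ker_eq_bot']
    intro x hx
    apply D'.inj
    apply D'.nondeg
    intro y
    rw [← hc'B, hx, map_zero, LinearMap.zero_apply]
  have hc'surj : Function.Surjective c' := LinearMap.surjective_of_injective hc'inj
  let e' : W' ≃ₗ[F] W' := LinearEquiv.ofBijective c' ⟨hc'inj, hc'surj⟩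
  have he' : ∀ x, c' (e'.symm x) = x := fun x => e'.apply_symm_apply x
  let φ : W' ≃ₗ[F] W'.map π.toLinearMap := e'.symm.trans (π.submoduleMap W')
  have hφapp : ∀ x : W', ((φ x : W'.map π.toLinearMap) : V) = π (e'.symm x) := fun x => rfl
  have hφQ : ∀ x : W', Q (φ x : V) = Q (x : V) := by
    intro x
    rw [hφapp, ← hδ, he']
  obtain ⟨g, hgQ, hgφ⟩ := witt_quad Q hQ W' (W'.map π.toLinearMap) φ hφQ
  have hgB : ∀ x y, B (g x) (g y) = B x y := by
    intro x y
    rw [hBapp, hBapp]
    unfold QuadraticMap.polar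
    rw [← map_add, hgQ, hgQ, hgQ]
  have he'a : ∀ x : W', e'.symm (D'.a x) = D'.a (e'.symm x) := by
    intro x
    apply hc'inj
    rw [he', hc'a, he']
  refine ⟨g, hgQ, ?_⟩
  intro v
  obtain ⟨⟨w', w₁⟩, rfl⟩ := (Submodule.prodEquivOfIsCompl W' W₁ hc).surjective v
  rw [Submodule.coe_prodEquivOfIsCompl', map_add, map_add, map_add, map_add]
  congr 1
  · -- on `W'`
    have h3 : a (w' : V) = ((D'.a w' : W') : V) := rfl
    rw [h3, hgφ, hgφ, hφapp, hφapp, he'a, hD'a, hπ]
  · -- on the fixed space
    have h3 : a (w₁ : V) = w₁ := (hmemW₁ _).1 w₁.2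
    rw [h3]
    symm
    rw [← sub_eq_zero]
    apply hndl
    intro z
    obtain ⟨y, rfl⟩ := hbsurj z
    rw [map_sub, LinearMap.sub_apply, hBb, sub_eq_zero]
    -- `B (g w₁) ((b - 1) y) = 0`
    have h4 : B (g (w₁ : V)) (b y - y) = 0 := by
      -- `(b - 1) y = π ((a - 1) (π⁻¹ y))`
      have h5 : b y - y = π (D.gmap 1 (π.symm y)) := by
        rw [D.gmap_apply, one_smul, map_sub, hDa, hπ, LinearEquiv.apply_symm_apply]
      let w : W' := ⟨D.gmap 1 (π.symm y), LinearMap.mem_range_self _ _⟩
      have h6 : π (D.gmap 1 (π.symm y)) = g ((c' w : W') : V) := by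
        rw [hgφ, hφapp]
        have : e'.symm (c' w) = w := e'.symm_apply_apply w
        rw [this]
      rw [h5, h6, hgB]
      have := horth (c' w : V) (c' w).2 (w₁ : V) w₁.2
      rw [hDB] at this
      rw [hBsymm, this]
    rw [map_sub, sub_eq_zero] at h4
    exact h4.symm

end Cfsg.Agent.Lib.Helper37.OrthConj
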