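/-
helper37 library: the monic reciprocal ("dual") polynomial `rdual f = f(0)⁻¹ X^deg f f(1/X)`: multiplicativity,
involutivity, irreducibility, roots, and `charpoly M⁻¹ = rdual (charpoly M)`.
-/
import Mathlib

set_option autoImplicit false

namespace Cfsg.Agent.Lib.Helper37.DualPoly

open Polynomial Matrix

variable {K : Type*} [Field K]

/-- the reciprocal polynomial, normalised to be monic -/
noncomputable def rdual (f : K[X]) : K[X] := C (f.coeff 0)⁻¹ * f.reverse

theorem natTrailingDegree_eq_zero_of_coeff_zero_ne {f : K[X]} (h0 : f.coeff 0 ≠ 0) :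
    f.natTrailingDegree = 0 := by
  have := natTrailingDegree_le_of_ne_zero h0
  omega

theorem rdual_natDegree {f : K[X]} (h0 : f.coeff 0 ≠ 0) : (rdual f).natDegree = f.natDegree := by
  unfold rdual
  rw [natDegree_C_mul (inv_ne_zero h0), reverse_natDegree,
    natTrailingDegree_eq_zero_of_coeff_zero_ne h0, Nat.sub_zero]

theorem rdual_monic {f : K[X]} (h0 : f.coeff 0 ≠ 0) : (rdual f).Monic := by
  unfold rdual Monic
  rw [leadingCoeff_mul, leadingCoeff_C, reverse_leadingCoeff, trailingCoeff,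
    natTrailingDegree_eq_zero_of_coeff_zero_ne h0, inv_mul_cancel₀ h0]

theorem rdual_coeff_zero (f : K[X]) : (rdual f).coeff 0 = (f.coeff 0)⁻¹ * f.leadingCoeff := by
  unfold rdual
  rw [coeff_C_mul, coeff_zero_reverse]

theorem rdual_mul (f g : K[X]) : rdual (f * g) = rdual f * rdual g := by
  unfold rdual
  rw [reverse_mul_of_domain, mul_coeff_zero, _root_.mul_inv, C_mul]
  ring

theorem reverse_reverse_of_coeff_zero_ne {f : K[X]} (h0 : f.coeff 0 ≠ 0) :
    f.reverse.reverse = f := by
  have hnd : f.reverse.natDegree = f.natDegree := by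
    rw [reverse_natDegree, natTrailingDegree_eq_zero_of_coeff_zero_ne h0, Nat.sub_zero]
  ext k
  rw [coeff_reverse, coeff_reverse, hnd, revAt_invol]

theorem rdual_rdual {f : K[X]} (hf : f.Monic) (h0 : f.coeff 0 ≠ 0) : rdual (rdual f) = f := by
  have h1 : (rdual f).coeff 0 = (f.coeff 0)⁻¹ := by
    rw [rdual_coeff_zero, hf.leadingCoeff, mul_one]
  have h2 : (rdual f).reverse = C (f.coeff 0)⁻¹ * f := by
    unfold rdual
    rw [reverse_mul_of_domain, reverse_reverse_of_coeff_zero_ne h0]
    congr 1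
    simp [reverse]
  unfold rdual at h1 h2 ⊢
  rw [h1, h2, inv_inv, ← mul_assoc, ← C_mul, mul_inv_cancel₀ h0, C_1, one_mul]

theorem rdual_map (σ : K →+* K) (f : K[X]) : (rdual f).map σ = rdual (f.map σ) := by
  unfold rdual
  rw [Polynomial.map_mul, map_C, coeff_map, map_inv₀]
  congr 1
  unfold reverse
  rw [natDegree_map, reflect_map]

theorem rdual_X_sub_C {a : K} (ha : a ≠ 0) : rdual (X - C a) = X - C a⁻¹ := by
  unfold rdual
  have h1 : (X - C a : K[X]).reverse = 1 - C a * X := by
    unfold reverse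
    rw [natDegree_X_sub_C, reflect_sub, reflect_C, pow_one]
    congr 1
    have := reflect_monomial (R := K) 1 1
    simp
  rw [h1, coeff_sub, coeff_X_zero, coeff_C_zero, zero_sub, mul_sub, mul_one, ← mul_assoc, ← C_mul,
    inv_neg, neg_mul, inv_mul_cancel₀ ha, C_neg, C_neg, C_1]
  ring

theorem rdual_X_sub_one : rdual (X - 1 : K[X]) = X - 1 := by
  have := rdual_X_sub_C (K := K) (a := 1) one_ne_zero
  rwa [inv_one, C_1] at this

theorem rdual_X_pow_sub_one {r : ℕ} (hr : 0 < r) : rdual (X ^ r - 1 : K[X]) = X ^ r - 1 := by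
  unfold rdual
  have hnd : (X ^ r - 1 : K[X]).natDegree = r := by
    have := natDegree_X_pow_sub_C (R := K) (n := r) (r := 1)
    rwa [C_1] at this
  have h1 : (X ^ r - 1 : K[X]).reverse = 1 - X ^ r := by
    unfold reverse
    rw [hnd, reflect_sub, reflect_monomial, reflect_one, revAt_le le_rfl, Nat.sub_self, pow_zero]
  have h2 : (X ^ r - 1 : K[X]).coeff 0 = -1 := by
    rw [coeff_sub, coeff_X_pow, coeff_one_zero, if_neg (by omega), zero_sub]
  rw [h1, h2, inv_neg, inv_one, C_neg, C_1]
  ring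

theorem rdual_dvd {f g : K[X]} (h : f ∣ g) : rdual f ∣ rdual g := by
  obtain ⟨k, rfl⟩ := h
  rw [rdual_mul]
  exact dvd_mul_right _ _

theorem rdual_irreducible {m : K[X]} (hm : m.Monic) (hirr : Irreducible m) (h0 : m.coeff 0 ≠ 0) :
    Irreducible (rdual m) := by
  have hmon := rdual_monic h0
  rw [irreducible_iff]
  constructor
  · intro hu
    have h1 := natDegree_eq_zero_of_isUnit hu
    rw [rdual_natDegree h0] at h1
    exact hirr.not_isUnit (by
      rw [hm.natDegree_eq_zero.1 h1]; exact isUnit_one)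
  · intro a b hab
    have h2 : m = rdual a * rdual b := by
      rw [← rdual_mul, ← hab, rdual_rdual hm h0]
    have hab0 : (a * b).coeff 0 ≠ 0 := by
      rw [← hab, rdual_coeff_zero, hm.leadingCoeff, mul_one]
      exact inv_ne_zero h0
    rw [mul_coeff_zero] at hab0
    have ha0 : a.coeff 0 ≠ 0 := left_ne_zero_of_mul hab0
    have hb0 : b.coeff 0 ≠ 0 := right_ne_zero_of_mul hab0
    rcases (irreducible_iff.1 hirr).2 h2 with h3 | h3
    · left
      have := natDegree_eq_zero_of_isUnit h3
      rw [rdual_natDegree ha0] at this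
      rw [eq_C_of_natDegree_eq_zero this]
      exact isUnit_C.2 (isUnit_iff_ne_zero.2 ha0)
    · right
      have := natDegree_eq_zero_of_isUnit h3
      rw [rdual_natDegree hb0] at this
      rw [eq_C_of_natDegree_eq_zero this]
      exact isUnit_C.2 (isUnit_iff_ne_zero.2 hb0)

theorem aeval_rdual_eq_zero_iff {L : Type*} [Field L] [Algebra K L] {f : K[X]}
    (h0 : f.coeff 0 ≠ 0) {x : L} (hx : x ≠ 0) : aeval x (rdual f) = 0 ↔ aeval x⁻¹ f = 0 := by
  unfold rdual
  rw [map_mul, aeval_C]
  have hc : algebraMap K L (f.coeff 0)⁻¹ ≠ 0 := by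
    rw [Ne, map_eq_zero]; exact inv_ne_zero h0
  rw [mul_eq_zero, or_iff_right hc]
  have hxi : x⁻¹ ≠ 0 := inv_ne_zero hx
  let _ : Invertible x⁻¹ := invertibleOfNonzero hxi
  have h1 := eval₂_reverse_eq_zero_iff (algebraMap K L) x⁻¹ f
  have h2 : ⅟(x⁻¹) = x := by
    rw [invOf_eq_inv, inv_inv]
  rw [h2] at h1
  exact h1

/-- the characteristic polynomial of the inverse matrix -/
theorem charpoly_inv {n : Type*} [Fintype n] [DecidableEq n] (M : Matrix n n K)
    (hM : IsUnit M.det) : M⁻¹.charpoly = rdual M.charpoly := by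
  have hdet0 : M.det ≠ 0 := hM.ne_zero
  have h1 : M.map C * charmatrix M⁻¹ = -(1 - (X : K[X]) • M.map C) := by
    unfold charmatrix
    rw [mul_sub, neg_sub]
    congr 1
    · rw [scalar_apply, ← smul_eq_mul_diagonal]
    · have := congrArg (fun N : Matrix n n K => N.map C) (mul_nonsing_inv M hM)
      simp only [Matrix.map_mul, Matrix.map_one C C_0 C_1] at this
      exact this
  have h2 := congrArg det h1
  rw [det_mul, det_neg, ← charpolyRev, ← reverse_charpoly] at h2
  have h3 : (M.map C).det = C M.det := by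
    have := (RingHom.map_det (C : K →+* K[X]) M).symm
    simpa using this
  rw [h3] at h2
  have h4 : M.charpoly.coeff 0 = (-1) ^ Fintype.card n * M.det := by
    rw [det_eq_sign_charpoly_coeff, ← mul_assoc, ← mul_pow, neg_one_mul, neg_neg, one_pow, one_mul]
  unfold rdual
  rw [h4]
  change M⁻¹.charpoly = _
  have h5 : C M.det ≠ 0 := by rw [Ne, C_eq_zero]; exact hdet0
  apply mul_left_cancel₀ h5
  rw [show M⁻¹.charpoly = (charmatrix M⁻¹).det from rfl, h2, ← mul_assoc, ← C_mul]
  have h6 : M.det * ((-1) ^ Fintype.card n * M.det)⁻¹ = (-1) ^ Fintype.card n := by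
    rw [_root_.mul_inv, mul_comm, mul_assoc, inv_mul_cancel₀ hdet0, mul_one, ← inv_pow, inv_neg,
      inv_one]
  rw [h6, C_pow, C_neg, C_1]

end Cfsg.Agent.Lib.Helper37.DualPoly
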