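/-
helper37 library: counting multisets invariant under a fixed-point-free involution, and the
correspondence between self-dual monic polynomials with prescribed irreducible factors and invariant
multisets of factors (on top of helper40's `PolyFactorCount`).
-/
import Mathlib
import Cfsg.Agent.Lib.Helper40.PolyFactorCount

set_option autoImplicit false

namespace Cfsg.Agent.Lib.Helper37.InvCount

open Cfsg.Agent.Lib.Helper40

variable {α : Type*} [DecidableEq α]

/-- a fixed-point-free involution on a finite set has a transversal -/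
theorem exists_half (S : Finset α) (D : α → α) (hDS : ∀ m ∈ S, D m ∈ S)
    (hDD : ∀ m ∈ S, D (D m) = m) (hfix : ∀ m ∈ S, D m ≠ m) :
    ∃ S₀ : Finset α, S₀ ⊆ S ∧ (∀ m ∈ S, m ∈ S₀ ↔ D m ∉ S₀) ∧ 2 * S₀.card = S.card := by
  classical
  let e : α → ℕ := fun m => if h : m ∈ S then (S.equivFin ⟨m, h⟩ : ℕ) else 0
  have he_inj : ∀ a ∈ S, ∀ b ∈ S, e a = e b → a = b := by
    intro a ha b hb hab
    simp only [e, dif_pos ha, dif_pos hb] at hab
    have := S.equivFin.injective (Fin.ext hab)
    exact congrArg Subtype.val this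
  let S₀ : Finset α := S.filter (fun m => e m < e (D m))
  have hmem : ∀ m ∈ S, m ∈ S₀ ↔ D m ∉ S₀ := by
    intro m hm
    simp only [S₀, Finset.mem_filter, hm, hDS m hm, true_and, hDD m hm, not_lt]
    have hne : e m ≠ e (D m) := fun h => hfix m hm (he_inj m hm (D m) (hDS m hm) h).symm
    omega
  refine ⟨S₀, Finset.filter_subset _ _, hmem, ?_⟩
  have hcompl : (S \ S₀).card = S₀.card := by
    apply Finset.card_bij (fun m _ => D m)
    · intro m hm
      rw [Finset.mem_sdiff] at hm
      by_contra hcon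
      have h1 := (hmem (D m) (hDS m hm.1)).not.1 hcon
      rw [not_not, hDD m hm.1] at h1
      exact hm.2 h1
    · intro a ha b hb hab
      rw [Finset.mem_sdiff] at ha hb
      rw [← hDD a ha.1, ← hDD b hb.1, hab]
    · intro b hb
      have hbS : b ∈ S := Finset.filter_subset _ _ hb
      refine ⟨D b, ?_, hDD b hbS⟩
      rw [Finset.mem_sdiff]
      exact ⟨hDS b hbS, (hmem b hbS).1 hb⟩
  have hsub : S₀ ⊆ S := Finset.filter_subset _ _
  have h3 : (S \ S₀).card + S₀.card = S.card := Finset.card_sdiff_add_card_eq_card hsub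
  omega

/-- counting multisets invariant under a fixed-point-free involution -/
theorem card_invariant_multisets (S : Finset α) (D : α → α) (hDS : ∀ m ∈ S, D m ∈ S)
    (hDD : ∀ m ∈ S, D (D m) = m) (hfix : ∀ m ∈ S, D m ≠ m) (i n : ℕ) (hi : 0 < i) :
    Nat.card {M : Multiset α // (∀ m ∈ M, m ∈ S) ∧ i * Multiset.card M ≤ n ∧ M.map D = M} =
      (n / (2 * i) + S.card / 2).choose (S.card / 2) := by
  classical
  obtain ⟨S₀, hS₀S, hmem, hcard⟩ := exists_half S D hDS hDD hfix
  have hS₀card : S.card / 2 = S₀.card := by omega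
  rw [hS₀card, ← card_multisets_in S₀ (2 * i) n (by omega)]
  symm
  have key : ∀ M : Multiset α, (∀ m ∈ M, m ∈ S) → M.map D = M →
      M.filter (· ∉ S₀) = (M.filter (· ∈ S₀)).map D := by
    intro M hMS hMD
    have h1 : (M.map D).filter (· ∉ S₀) = (M.filter ((· ∉ S₀) ∘ D)).map D :=
      Multiset.filter_map _ _ _
    rw [hMD] at h1
    rw [h1]
    congr 1
    apply Multiset.filter_congr
    intro m hm
    exact ((hmem m (hMS m hm)).symm)
  refine Nat.card_congr
    { toFun := fun M' => ⟨M'.1 + M'.1.map D, ?_, ?_, ?_⟩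
      invFun := fun M => ⟨M.1.filter (· ∈ S₀), ?_, ?_⟩
      left_inv := ?_
      right_inv := ?_ }
  · intro m hm
    rw [Multiset.mem_add, Multiset.mem_map] at hm
    rcases hm with hm | ⟨a, ha, rfl⟩
    · exact hS₀S (M'.2.1 m hm)
    · exact hDS a (hS₀S (M'.2.1 a ha))
  · rw [Multiset.card_add, Multiset.card_map]
    have := M'.2.2
    nlinarith
  · rw [Multiset.map_add, Multiset.map_map, add_comm]
    congr 1
    conv_rhs => rw [← Multiset.map_id M'.1]
    apply Multiset.map_congr rfl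
    intro m hm
    exact hDD m (hS₀S (M'.2.1 m hm))
  · intro m hm
    exact (Multiset.mem_filter.1 hm).2
  · have h1 := key M.1 M.2.1 M.2.2.2
    have h2 := Multiset.filter_add_not (· ∈ S₀) M.1
    have h3 : Multiset.card M.1 = 2 * Multiset.card (M.1.filter (· ∈ S₀)) := by
      conv_lhs => rw [← h2, h1, Multiset.card_add, Multiset.card_map]
      ring
    have h4 := M.2.2.1
    rw [h3] at h4
    calc 2 * i * Multiset.card (M.1.filter (· ∈ S₀))
        = i * (2 * Multiset.card (M.1.filter (· ∈ S₀))) := by ring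
      _ ≤ n := h4
  · intro M'
    apply Subtype.ext
    show (M'.1 + M'.1.map D).filter (· ∈ S₀) = M'.1
    rw [Multiset.filter_add]
    have h1 : M'.1.filter (· ∈ S₀) = M'.1 := Multiset.filter_eq_self.2 M'.2.1
    have h2 : (M'.1.map D).filter (· ∈ S₀) = 0 := by
      rw [Multiset.filter_eq_nil]
      intro a ha
      obtain ⟨b, hb, rfl⟩ := Multiset.mem_map.1 ha
      exact (hmem b (hS₀S (M'.2.1 b hb))).1 (M'.2.1 b hb)
    rw [h1, h2, add_zero]
  · intro M
    apply Subtype.ext
    show M.1.filter (· ∈ S₀) + (M.1.filter (· ∈ S₀)).map D = M.1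
    rw [← key M.1 M.2.1 M.2.2.2]
    exact Multiset.filter_add_not _ _

open Polynomial


section selfdual

variable {K : Type*} [Field K] [DecidableEq K]

theorem dual_multiset_prod (𝒟 : K[X] → K[X]) (h1 : 𝒟 1 = 1)
    (hmul : ∀ f g, 𝒟 (f * g) = 𝒟 f * 𝒟 g) (M : Multiset K[X]) :
    𝒟 M.prod = (M.map 𝒟).prod := by
  induction M using Multiset.induction_on with
  | empty => simp [h1]
  | cons a M ih => rw [Multiset.prod_cons, hmul, ih, Multiset.map_cons, Multiset.prod_cons]

theorem dual_pow (𝒟 : K[X] → K[X]) (h1 : 𝒟 1 = 1)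
    (hmul : ∀ f g, 𝒟 (f * g) = 𝒟 f * 𝒟 g) (f : K[X]) (k : ℕ) : 𝒟 (f ^ k) = 𝒟 f ^ k := by
  induction k with
  | zero => simp [h1]
  | succ k ih => rw [pow_succ, hmul, ih, pow_succ]

/-- self-dual polynomials with prescribed factors correspond to invariant multisets -/
noncomputable def selfdualEquiv (𝒟 : K[X] → K[X]) (h1 : 𝒟 1 = 1)
    (hmul : ∀ f g, 𝒟 (f * g) = 𝒟 f * 𝒟 g) (S : Finset K[X]) (l : K[X]) (i n : ℕ)
    (hS : ∀ m ∈ S, m.Monic ∧ Irreducible m ∧ m.natDegree = i)
    (hl : l.Monic ∧ Irreducible l ∧ l.natDegree = 1) (hlS : l ∉ S) (hl' : 𝒟 l = l)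
    (hDS : ∀ m ∈ S, 𝒟 m ∈ S) :
    {f : {f : K[X] // f.Monic ∧ f.natDegree = n ∧
      ∀ m : K[X], m.Monic → Irreducible m → m ∣ f → m = l ∨ m ∈ S} // 𝒟 f.1 = f.1} ≃
    {M : Multiset K[X] // (∀ m ∈ M, m ∈ S) ∧ i * Multiset.card M ≤ n ∧ M.map 𝒟 = M} := by
  let E := monicFactorsEquiv S l i n hS hl hlS
  have hEsymm : ∀ M : {M : Multiset K[X] // (∀ m ∈ M, m ∈ S) ∧ i * Multiset.card M ≤ n},
      (E.symm M).1 = l ^ (n - i * Multiset.card M.1) * M.1.prod := fun M => rfl
  have hdual : ∀ M : {M : Multiset K[X] // (∀ m ∈ M, m ∈ S) ∧ i * Multiset.card M ≤ n},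
      𝒟 (E.symm M).1 = l ^ (n - i * Multiset.card M.1) * (M.1.map 𝒟).prod := by
    intro M
    rw [hEsymm, hmul, dual_pow 𝒟 h1 hmul, hl', dual_multiset_prod 𝒟 h1 hmul]
  have hiff : ∀ f : {f : K[X] // f.Monic ∧ f.natDegree = n ∧
      ∀ m : K[X], m.Monic → Irreducible m → m ∣ f → m = l ∨ m ∈ S},
      𝒟 f.1 = f.1 ↔ (E f).1.map 𝒟 = (E f).1 := by
    intro f
    have hf : f = E.symm (E f) := (E.symm_apply_apply f).symm
    constructor
    · intro h
      let M' : {M : Multiset K[X] // (∀ m ∈ M, m ∈ S) ∧ i * Multiset.card M ≤ n} :=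
        ⟨(E f).1.map 𝒟, by
          intro m hm
          obtain ⟨a, ha, rfl⟩ := Multiset.mem_map.1 hm
          exact hDS a ((E f).2.1 a ha), by
          rw [Multiset.card_map]; exact (E f).2.2⟩
      have h2 : (E.symm M').1 = (E.symm (E f)).1 := by
        rw [hEsymm M', ← hf, ← h]
        conv_rhs => rw [hf, hdual]
        show l ^ (n - i * Multiset.card ((E f).1.map 𝒟)) * ((E f).1.map 𝒟).prod = _
        rw [Multiset.card_map]
      have h3 : M' = E f := E.symm.injective (Subtype.ext h2)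
      exact congrArg Subtype.val h3
    · intro h
      conv_lhs => rw [hf, hdual, h, ← hEsymm, ← hf]
  exact
    { toFun := fun f => ⟨(E f.1).1, (E f.1).2.1, (E f.1).2.2, (hiff f.1).1 f.2⟩
      invFun := fun M => ⟨E.symm ⟨M.1, M.2.1, M.2.2.1⟩, by
        rw [hiff, E.apply_symm_apply]
        exact M.2.2.2⟩
      left_inv := fun f => by
        apply Subtype.ext
        show E.symm ⟨(E f.1).1, _⟩ = f.1
        exact E.symm_apply_apply f.1
      right_inv := fun M => by
        apply Subtype.ext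
        show (E (E.symm ⟨M.1, M.2.1, M.2.2.1⟩)).1 = M.1
        rw [E.apply_symm_apply] }

end selfdual

end Cfsg.Agent.Lib.Helper37.InvCount
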