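/-
helper37 library: an invertible matrix `A` over a finite field preserving a nondegenerate bilinear
form `P` (`Aᵀ P A = P`), with `A - A⁻¹` invertible, preserves a nondegenerate alternating form.
-/
import Mathlib
import Cfsg.Agent.Lib.Helper37.GUSimilar

set_option autoImplicit false

namespace Cfsg.Agent.Lib.Helper37.SpExist

open Matrix Polynomial Cfsg.Agent.Lib.Helper37.GUSimilar

variable {F : Type*} [Field F] [Finite F] {n : Type*} [Fintype n] [DecidableEq n]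

omit [Finite F] in
theorem inv_pow_mem_adjoin (S : Set (Matrix n n F)) (T Ti : Matrix n n F) (hT : T ∈ Algebra.adjoin F S)
    (h1 : T * Ti = 1) (k : ℕ) (hk : 0 < k) (hTk : T ^ k = 1) : Ti ∈ Algebra.adjoin F S := by
  have h2 : Ti = T ^ (k - 1) := by
    have h3 : T ^ (k - 1) * T = 1 := by rw [← pow_succ, Nat.sub_add_cancel hk, hTk]
    calc Ti = (T ^ (k - 1) * T) * Ti := by rw [h3, Matrix.one_mul]
      _ = T ^ (k - 1) * (T * Ti) := by rw [Matrix.mul_assoc]
      _ = T ^ (k - 1) := by rw [h1, Matrix.mul_one]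
  rw [h2]
  exact pow_mem hT _

theorem exists_pow_eq_one (T Ti : Matrix n n F) (h1 : T * Ti = 1) : ∃ k : ℕ, 0 < k ∧ T ^ k = 1 := by
  have h2 : Ti * T = 1 := mul_eq_one_comm.1 h1
  let Tu : (Matrix n n F)ˣ := ⟨T, Ti, h1, h2⟩
  have hfin : IsOfFinOrder Tu := isOfFinOrder_of_finite Tu
  refine ⟨orderOf Tu, hfin.orderOf_pos, ?_⟩
  have := congrArg Units.val (pow_orderOf_eq_one Tu)
  rwa [Units.val_pow_eq_pow_val, Units.val_one] at this

/-- symmetrization of an invariant nondegenerate form, then passage to an alternating one -/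
theorem exists_alternating_of_invariant (A Ai P : Matrix n n F) (hAAi : A * Ai = 1)
    (hP : IsUnit P.det) (hinv : Aᵀ * P * A = P) (hinj : ∀ x, A *ᵥ x = Ai *ᵥ x → x = 0) :
    ∃ Q : Matrix n n F, Qᵀ = -Q ∧ (∀ x, x ⬝ᵥ (Q *ᵥ x) = 0) ∧ IsUnit Q.det ∧ Aᵀ * Q * A = Q := by
  classical
  have hAiA : Ai * A = 1 := mul_eq_one_comm.1 hAAi
  obtain ⟨Pi, hPi⟩ : ∃ Pi, Pi = P⁻¹ := ⟨_, rfl⟩
  have hP1 : P * Pi = 1 := by rw [hPi]; exact mul_nonsing_inv P hP
  have hP2 : Pi * P = 1 := by rw [hPi]; exact nonsing_inv_mul P hP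
  have hsP1 : Piᵀ * Pᵀ = 1 := by rw [← transpose_mul, hP1, transpose_one]
  have hsP2 : Pᵀ * Piᵀ = 1 := by rw [← transpose_mul, hP2, transpose_one]
  obtain ⟨T, hT⟩ : ∃ T, T = Pi * Pᵀ := ⟨_, rfl⟩
  obtain ⟨Ti, hTi⟩ : ∃ Ti, Ti = Piᵀ * P := ⟨_, rfl⟩
  have hT1 : T * Ti = 1 := by
    rw [hT, hTi]
    calc Pi * Pᵀ * (Piᵀ * P) = Pi * (Pᵀ * Piᵀ) * P := by simp only [Matrix.mul_assoc]
      _ = 1 := by rw [hsP2, Matrix.mul_one, hP2]
  have hT2 : Ti * T = 1 := mul_eq_one_comm.1 hT1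
  -- `Pi * Aᵀ * P` is the inverse of `A`
  have hA1 : Pi * Aᵀ * P * A = 1 := by
    calc Pi * Aᵀ * P * A = Pi * (Aᵀ * P * A) := by simp only [Matrix.mul_assoc]
      _ = 1 := by rw [hinv, hP2]
  have hAi : Pi * Aᵀ * P = Ai := by
    calc Pi * Aᵀ * P = Pi * Aᵀ * P * (A * Ai) := by rw [hAAi, Matrix.mul_one]
      _ = (Pi * Aᵀ * P * A) * Ai := by simp only [Matrix.mul_assoc]
      _ = Ai := by rw [hA1, Matrix.one_mul]
  have hinv' : Aᵀ * Pᵀ * A = Pᵀ := by
    have := congrArg transpose hinv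
    rw [transpose_mul, transpose_mul, transpose_transpose] at this
    rw [Matrix.mul_assoc]; exact this
  have hA3 : A * Pi * Aᵀ = Pi := by
    calc A * Pi * Aᵀ = A * (Pi * Aᵀ * P) * Pi := by
          simp only [Matrix.mul_assoc]; rw [hP1, Matrix.mul_one]
      _ = Pi := by rw [hAi, hAAi, Matrix.one_mul]
  have hTA : A * T = T * A := by
    rw [hT]
    calc A * (Pi * Pᵀ) = A * Pi * (Aᵀ * Pᵀ * A) := by rw [hinv', Matrix.mul_assoc]
      _ = (A * Pi * Aᵀ) * Pᵀ * A := by simp only [Matrix.mul_assoc]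
      _ = Pi * Pᵀ * A := by rw [hA3]
  -- `Pi * Tᵀ * P = T⁻¹`
  have hM1 : Pi * Tᵀ * P = Ti := by
    rw [hT, transpose_mul, transpose_transpose, hTi]
    calc Pi * (P * Piᵀ) * P = (Pi * P) * Piᵀ * P := by simp only [Matrix.mul_assoc]
      _ = Piᵀ * P := by rw [hP2, Matrix.one_mul]
  -- the commutative algebra
  obtain ⟨S, hS⟩ : ∃ S : Set (Matrix n n F), S = {A, T} := ⟨_, rfl⟩
  have hmemS : ∀ x, x ∈ S ↔ x = A ∨ x = T := by
    intro x; rw [hS]; simp only [Set.mem_insert_iff, Set.mem_singleton_iff]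
  have hcomm : ∀ x ∈ S, ∀ y ∈ S, x * y = y * x := by
    intro x hx y hy
    rw [hmemS] at hx hy
    rcases hx with rfl | rfl <;> rcases hy with rfl | rfl
    · rfl
    · exact hTA
    · exact hTA.symm
    · rfl
  let _ : CommRing (Algebra.adjoin F S) := Algebra.adjoinCommRingOfComm F hcomm
  have hAmem : A ∈ Algebra.adjoin F S := Algebra.subset_adjoin ((hmemS _).2 (Or.inl rfl))
  have hTmem : T ∈ Algebra.adjoin F S := Algebra.subset_adjoin ((hmemS _).2 (Or.inr rfl))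
  have hAimem : Ai ∈ Algebra.adjoin F S := by
    obtain ⟨k, hk, hAk⟩ := exists_pow_eq_one A Ai hAAi
    exact inv_pow_mem_adjoin S A Ai hAmem hAAi k hk hAk
  have hTimem : Ti ∈ Algebra.adjoin F S := by
    obtain ⟨k, hk, hTk⟩ := exists_pow_eq_one T Ti hT1
    exact inv_pow_mem_adjoin S T Ti hTmem hT1 k hk hTk
  have hfinA : Finite (Algebra.adjoin F S) := Subtype.finite
  have hclosed : ∀ x ∈ Algebra.adjoin F S, Pi * xᵀ * P ∈ Algebra.adjoin F S := by
    intro x hx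
    induction hx using Algebra.adjoin_induction with
    | mem x hx =>
      rw [hmemS] at hx
      rcases hx with rfl | rfl
      · rw [hAi]; exact hAimem
      · rw [hM1]; exact hTimem
    | algebraMap c =>
      have : Pi * (algebraMap F (Matrix n n F) c)ᵀ * P = algebraMap F (Matrix n n F) c := by
        rw [Algebra.algebraMap_eq_smul_one, transpose_smul, transpose_one, Matrix.mul_smul,
          Matrix.mul_one, Matrix.smul_mul, hP2]
      rw [this]
      exact Subalgebra.algebraMap_mem _ c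
    | add x y hx hy ihx ihy =>
      rw [transpose_add, Matrix.mul_add, Matrix.add_mul]
      exact add_mem ihx ihy
    | mul x y hx hy ihx ihy =>
      have : Pi * (x * y)ᵀ * P = (Pi * yᵀ * P) * (Pi * xᵀ * P) := by
        rw [transpose_mul]
        calc Pi * (yᵀ * xᵀ) * P = Pi * yᵀ * (P * Pi) * xᵀ * P := by
              rw [hP1, Matrix.mul_one]; simp only [Matrix.mul_assoc]
          _ = (Pi * yᵀ * P) * (Pi * xᵀ * P) := by simp only [Matrix.mul_assoc]
      rw [this]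
      exact mul_mem ihy ihx
  obtain ⟨sh, hsh⟩ : ∃ sh : Algebra.adjoin F S →+* Algebra.adjoin F S,
      ∀ x : Algebra.adjoin F S, ((sh x : Algebra.adjoin F S) : Matrix n n F) = Pi * x.1ᵀ * P := by
    refine ⟨
      { toFun := fun x => ⟨Pi * x.1ᵀ * P, hclosed x.1 x.2⟩
        map_one' := ?_
        map_mul' := ?_
        map_zero' := ?_
        map_add' := ?_ }, fun x => rfl⟩
    · apply Subtype.ext
      show Pi * (1 : Matrix n n F)ᵀ * P = 1
      rw [transpose_one, Matrix.mul_one, hP2]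
    · intro x y
      apply Subtype.ext
      show Pi * (x.1 * y.1)ᵀ * P = (Pi * x.1ᵀ * P) * (Pi * y.1ᵀ * P)
      have hc : (Pi * x.1ᵀ * P) * (Pi * y.1ᵀ * P) = (Pi * y.1ᵀ * P) * (Pi * x.1ᵀ * P) :=
        congrArg Subtype.val (mul_comm (⟨Pi * x.1ᵀ * P, hclosed x.1 x.2⟩ : Algebra.adjoin F S)
          ⟨Pi * y.1ᵀ * P, hclosed y.1 y.2⟩)
      rw [hc, transpose_mul]
      calc Pi * (y.1ᵀ * x.1ᵀ) * P = Pi * y.1ᵀ * (P * Pi) * x.1ᵀ * P := by
            rw [hP1, Matrix.mul_one]; simp only [Matrix.mul_assoc]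
        _ = (Pi * y.1ᵀ * P) * (Pi * x.1ᵀ * P) := by simp only [Matrix.mul_assoc]
    · apply Subtype.ext
      show Pi * (0 : Matrix n n F)ᵀ * P = 0
      rw [transpose_zero, Matrix.mul_zero, Matrix.zero_mul]
    · intro x y
      apply Subtype.ext
      show Pi * (x.1 + y.1)ᵀ * P = (Pi * x.1ᵀ * P) + (Pi * y.1ᵀ * P)
      rw [transpose_add, Matrix.mul_add, Matrix.add_mul]
  let T' : Algebra.adjoin F S := ⟨T, hTmem⟩
  let A' : Algebra.adjoin F S := ⟨A, hAmem⟩
  have hcommT : ∀ x : Algebra.adjoin F S, x.1 * T = T * x.1 := fun x =>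
    congrArg Subtype.val (mul_comm x T')
  have hshsh : ∀ x, sh (sh x) = x := by
    intro x
    apply Subtype.ext
    rw [hsh, hsh, transpose_mul, transpose_mul, transpose_transpose]
    calc Pi * (Pᵀ * (x.1 * Piᵀ)) * P = (Pi * Pᵀ) * x.1 * (Piᵀ * P) := by
          simp only [Matrix.mul_assoc]
      _ = T * x.1 * Ti := by rw [← hT, ← hTi]
      _ = x.1 * (T * Ti) := by rw [← hcommT x, Matrix.mul_assoc]
      _ = x.1 := by rw [hT1, Matrix.mul_one]
  have hunit : ∀ z : Algebra.adjoin F S, (∀ v, z.1 *ᵥ v = 0 → v = 0) → IsUnit z := by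
    intro z hz
    rw [isUnit_iff_mem_nonZeroDivisors_of_finite, mem_nonZeroDivisors_iff_left]
    intro x hx
    apply Subtype.ext
    apply Matrix.toLin'.injective
    apply LinearMap.ext
    intro v
    rw [Matrix.toLin'_apply]
    show x.1 *ᵥ v = (Matrix.toLin' (0 : Matrix n n F)) v
    rw [map_zero, LinearMap.zero_apply]
    apply hz
    rw [mulVec_mulVec]
    have : z.1 * x.1 = 0 := congrArg Subtype.val hx
    rw [this, zero_mulVec]
  have hau : IsUnit (A' - sh A') := by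
    apply hunit
    intro v hv
    have h1 : ((A' - sh A' : Algebra.adjoin F S) : Matrix n n F) = A - Ai := by
      show A - (sh A' : Algebra.adjoin F S).1 = A - Ai
      rw [hsh, hAi]
    rw [h1, sub_mulVec, sub_eq_zero] at hv
    exact hinj v hv
  have hu : T' * sh T' = 1 := by
    apply Subtype.ext
    show T * (sh T' : Algebra.adjoin F S).1 = 1
    rw [hsh, hM1, hT1]
  obtain ⟨r, hrunit, hr⟩ := hilbert90 sh hshsh A' hau T' hu
  obtain ⟨R, hR⟩ : ∃ R : Matrix n n F, R = r.1 := ⟨_, rfl⟩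
  have hRA : A * R = R * A := by
    rw [hR]
    exact congrArg Subtype.val (mul_comm A' r)
  have hRdet : IsUnit R.det := by
    obtain ⟨ru, hru⟩ := hrunit
    have h1 : R * ((ru⁻¹ : (Algebra.adjoin F S)ˣ) : Algebra.adjoin F S).1 = 1 := by
      rw [hR, ← hru]
      exact congrArg Subtype.val (Units.mul_inv ru)
    have h2 := congrArg det h1
    rw [det_mul, det_one] at h2
    exact IsUnit.of_mul_eq_one _ h2
  have hRR : R = Pi * Rᵀ * Pᵀ := by
    have h1 : r.1 = (sh r : Algebra.adjoin F S).1 * T := by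
      have := congrArg Subtype.val hr
      rw [mul_comm] at this
      exact this
    rw [hsh, ← hR] at h1
    calc R = Pi * Rᵀ * P * (Pi * Pᵀ) := by rw [← hT]; exact h1
      _ = Pi * Rᵀ * (P * Pi) * Pᵀ := by simp only [Matrix.mul_assoc]
      _ = Pi * Rᵀ * Pᵀ := by rw [hP1, Matrix.mul_one]
  -- the symmetric form
  obtain ⟨H, hH⟩ : ∃ H : Matrix n n F, H = P * R := ⟨_, rfl⟩
  have hHsymm : Hᵀ = H := by
    rw [hH, transpose_mul]
    conv_rhs => rw [hRR]
    calc Rᵀ * Pᵀ = (P * Pi) * Rᵀ * Pᵀ := by rw [hP1, Matrix.one_mul]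
      _ = P * (Pi * Rᵀ * Pᵀ) := by simp only [Matrix.mul_assoc]
  have hHdet : IsUnit H.det := by
    rw [hH, det_mul]
    exact hP.mul hRdet
  have hHinv : Aᵀ * H * A = H := by
    rw [hH]
    calc Aᵀ * (P * R) * A = Aᵀ * P * (R * A) := by simp only [Matrix.mul_assoc]
      _ = (Aᵀ * P * A) * R := by rw [← hRA]; simp only [Matrix.mul_assoc]
      _ = P * R := by rw [hinv]
  have hH1 : Aᵀ * H = H * Ai := by
    calc Aᵀ * H = Aᵀ * H * (A * Ai) := by rw [hAAi, Matrix.mul_one]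
      _ = (Aᵀ * H * A) * Ai := by simp only [Matrix.mul_assoc]
      _ = H * Ai := by rw [hHinv]
  have hH2 : Aiᵀ * H = H * A := by
    have h1 : Aiᵀ * Aᵀ = 1 := by rw [← transpose_mul, hAAi, transpose_one]
    calc Aiᵀ * H = Aiᵀ * (Aᵀ * H * A) := by rw [hHinv]
      _ = (Aiᵀ * Aᵀ) * H * A := by simp only [Matrix.mul_assoc]
      _ = H * A := by rw [h1, Matrix.one_mul]
  refine ⟨H * (A - Ai), ?_, ?_, ?_, ?_⟩
  · rw [transpose_mul, transpose_sub, Matrix.sub_mul, hHsymm, hH1, hH2, Matrix.mul_sub, neg_sub]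
  · intro x
    rw [Matrix.mul_sub, sub_mulVec, dotProduct_sub, sub_eq_zero]
    have hdot : ∀ (M : Matrix n n F) (u v : n → F), u ⬝ᵥ (Mᵀ *ᵥ v) = (M *ᵥ u) ⬝ᵥ v := by
      intro M u v
      rw [dotProduct_mulVec, vecMul_transpose]
    have h1 : x ⬝ᵥ ((H * Ai) *ᵥ x) = (H *ᵥ x) ⬝ᵥ (A *ᵥ x) := by
      rw [← hH1, ← mulVec_mulVec, hdot, dotProduct_comm]
    have h2 : x ⬝ᵥ ((H * A) *ᵥ x) = (H *ᵥ x) ⬝ᵥ (A *ᵥ x) := by
      rw [← mulVec_mulVec]
      nth_rewrite 1 [← hHsymm]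
      rw [hdot]
    rw [h1, h2]
  · rw [det_mul]
    apply hHdet.mul
    rw [isUnit_iff_ne_zero]
    intro h0
    obtain ⟨v, hv, hv0⟩ := Matrix.exists_mulVec_eq_zero_iff.2 h0
    apply hv
    apply hinj
    rw [sub_mulVec, sub_eq_zero] at hv0
    exact hv0
  · have hAAi' : A * (A - Ai) = (A - Ai) * A := by
      rw [Matrix.mul_sub, Matrix.sub_mul, hAAi, hAiA]
    calc Aᵀ * (H * (A - Ai)) * A = Aᵀ * H * ((A - Ai) * A) := by simp only [Matrix.mul_assoc]
      _ = (Aᵀ * H * A) * (A - Ai) := by rw [← hAAi']; simp only [Matrix.mul_assoc]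
      _ = H * (A - Ai) := by rw [hHinv]

end Cfsg.Agent.Lib.Helper37.SpExist
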