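/-
helper37 library: the key lemma for conjugacy of semisimple elements of the symplectic group.
-/
import Mathlib
import Cfsg.Agent.Lib.Helper37.NormSurj
import Cfsg.Agent.Lib.Helper37.AltIso

set_option autoImplicit false

namespace Cfsg.Agent.Lib.Helper37.SpKey

open Cfsg.Agent.Lib.Helper37.NormSurj Cfsg.Agent.Lib.Helper37.AltIso

/-- an alternating space with an isometry `a` of finite order prime to the characteristic and a
self-adjoint "alternating" injective endomorphism `h` commuting with `a` -/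
structure SpData (K : Type*) [Field K] (V : Type*) [AddCommGroup V] [Module K V] where
  /-- the form -/
  B : LinearMap.BilinForm K V
  /-- the isometry -/
  a : Module.End K V
  /-- the self-adjoint endomorphism -/
  h : Module.End K V
  /-- an exponent of `a` -/
  k : ℕ
  isAlt : ∀ x, B x x = 0
  nondeg : ∀ u, (∀ v, B u v = 0) → u = 0
  hk : (k : K) ≠ 0
  hak : ∀ x, (a ^ k) x = x
  hlam : ∀ l : K, l * l = 1 → l ^ k = 1
  iso : ∀ x y, B (a x) (a y) = B x y
  comm : ∀ x, a (h x) = h (a x)
  self : ∀ x y, B (h x) y = B x (h y)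
  halt : ∀ x, B (h x) x = 0
  inj : ∀ x, h x = 0 → x = 0

variable {K : Type*} [Field K] {V : Type*} [AddCommGroup V] [Module K V]

namespace SpData

/-- the problem: find `c` commuting with `a` with `B (c x) (c y) = B (h x) y` -/
def Solvable (D : SpData K V) : Prop :=
  ∃ c : Module.End K V, (∀ x, c (D.a x) = D.a (c x)) ∧ ∀ x y, D.B (c x) (c y) = D.B (D.h x) y

theorem swap (D : SpData K V) (x y : V) : D.B x y = - D.B y x := by
  have h1 := D.isAlt (x + y)
  rw [map_add, map_add, LinearMap.add_apply, LinearMap.add_apply, D.isAlt, D.isAlt, zero_add,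
    add_zero, add_comm] at h1
  exact eq_neg_of_add_eq_zero_left h1

theorem nondeg' (D : SpData K V) (v : V) (hv : ∀ u, D.B u v = 0) : v = 0 := by
  apply D.nondeg
  intro u
  rw [D.swap, hv, neg_zero]

/-- restriction to an invariant subspace with an invariant orthogonal complement -/
def restrict (D : SpData K V) (W W' : Submodule K V) (hc : IsCompl W W')
    (haW : ∀ x ∈ W, D.a x ∈ W) (hhW : ∀ x ∈ W, D.h x ∈ W)
    (horth : ∀ x ∈ W, ∀ y ∈ W', D.B x y = 0) : SpData K W where
  B := D.B.restrict W
  a := D.a.restrict haW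
  h := D.h.restrict hhW
  k := D.k
  isAlt := fun x => D.isAlt x
  nondeg := by
    intro u hu
    apply Subtype.ext
    apply D.nondeg
    intro v
    obtain ⟨⟨w, w'⟩, rfl⟩ := (Submodule.prodEquivOfIsCompl W W' hc).surjective v
    rw [Submodule.coe_prodEquivOfIsCompl', map_add, horth u u.2 w' w'.2, add_zero]
    exact hu w
  hk := D.hk
  hak := by
    intro x
    rw [Module.End.pow_restrict]
    apply Subtype.ext
    exact D.hak x
  hlam := D.hlam
  iso := fun x y => D.iso x y
  comm := fun x => Subtype.ext (D.comm x)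
  self := fun x y => D.self x y
  halt := fun x => D.halt x
  inj := fun x hx => Subtype.ext (D.inj x (congrArg Subtype.val hx))

theorem restrict_B_apply (D : SpData K V) (W W' : Submodule K V) (hc : IsCompl W W')
    (haW : ∀ x ∈ W, D.a x ∈ W) (hhW : ∀ x ∈ W, D.h x ∈ W)
    (horth : ∀ x ∈ W, ∀ y ∈ W', D.B x y = 0) (x y : W) :
    (D.restrict W W' hc haW hhW horth).B x y = D.B x y := rfl

theorem restrict_a_apply (D : SpData K V) (W W' : Submodule K V) (hc : IsCompl W W')
    (haW : ∀ x ∈ W, D.a x ∈ W) (hhW : ∀ x ∈ W, D.h x ∈ W)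
    (horth : ∀ x ∈ W, ∀ y ∈ W', D.B x y = 0) (x : W) :
    (((D.restrict W W' hc haW hhW horth).a x : W) : V) = D.a x := rfl

theorem restrict_h_apply (D : SpData K V) (W W' : Submodule K V) (hc : IsCompl W W')
    (haW : ∀ x ∈ W, D.a x ∈ W) (hhW : ∀ x ∈ W, D.h x ∈ W)
    (horth : ∀ x ∈ W, ∀ y ∈ W', D.B x y = 0) (x : W) :
    (((D.restrict W W' hc haW hhW horth).h x : W) : V) = D.h x := rfl

theorem orth_symm (D : SpData K V) {W W' : Submodule K V}
    (horth : ∀ x ∈ W, ∀ y ∈ W', D.B x y = 0) : ∀ x ∈ W', ∀ y ∈ W, D.B x y = 0 := by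
  intro x hx y hy
  rw [D.swap, horth y hy x hx, neg_zero]

/-- gluing solutions along an orthogonal invariant decomposition -/
theorem solvable_of_restrict (D : SpData K V) (W W' : Submodule K V) (hc : IsCompl W W')
    (haW : ∀ x ∈ W, D.a x ∈ W) (hhW : ∀ x ∈ W, D.h x ∈ W)
    (haW' : ∀ x ∈ W', D.a x ∈ W') (hhW' : ∀ x ∈ W', D.h x ∈ W')
    (horth : ∀ x ∈ W, ∀ y ∈ W', D.B x y = 0)
    (h1 : (D.restrict W W' hc haW hhW horth).Solvable)
    (h2 : (D.restrict W' W hc.symm haW' hhW' (D.orth_symm horth)).Solvable) : D.Solvable := by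
  obtain ⟨c₁, hc₁a, hc₁B⟩ := h1
  obtain ⟨c₂, hc₂a, hc₂B⟩ := h2
  have horth' := D.orth_symm horth
  let e := Submodule.prodEquivOfIsCompl W W' hc
  let c : Module.End K V := (e : (W × W') →ₗ[K] V) ∘ₗ (c₁.prodMap c₂) ∘ₗ (e.symm : V →ₗ[K] (W × W'))
  have hcapp : ∀ (w : W) (w' : W'), c ((w : V) + (w' : V)) = (c₁ w : V) + (c₂ w' : V) := by
    intro w w'
    have h3 : e.symm ((w : V) + (w' : V)) = (w, w') := by
      rw [LinearEquiv.symm_apply_eq]
      rfl
    show e ((c₁.prodMap c₂) (e.symm ((w : V) + (w' : V)))) = _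
    rw [h3]
    rfl
  have hdec : ∀ x : V, ∃ (w : W) (w' : W'), x = (w : V) + (w' : V) := by
    intro x
    obtain ⟨⟨w, w'⟩, rfl⟩ := e.surjective x
    exact ⟨w, w', rfl⟩
  refine ⟨c, ?_, ?_⟩
  · intro x
    obtain ⟨w, w', rfl⟩ := hdec x
    have h3 : D.a ((w : V) + (w' : V)) =
        (((⟨D.a w, haW w w.2⟩ : W) : V)) + ((⟨D.a w', haW' w' w'.2⟩ : W') : V) := by
      rw [map_add]
    rw [h3, hcapp, hcapp, map_add]
    congr 1
    · exact congrArg Subtype.val (hc₁a w)
    · exact congrArg Subtype.val (hc₂a w')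
  · intro x y
    obtain ⟨w, w', rfl⟩ := hdec x
    obtain ⟨z, z', rfl⟩ := hdec y
    rw [hcapp, hcapp]
    simp only [map_add, LinearMap.add_apply]
    rw [horth _ (c₁ w).2 _ (c₂ z').2, horth' _ (c₂ w').2 _ (c₁ z).2,
      horth _ (hhW w w.2) _ z'.2, horth' _ (hhW' w' w'.2) _ z.2]
    have e1 := hc₁B w z
    have e2 := hc₂B w' z'
    rw [restrict_B_apply, restrict_B_apply, restrict_h_apply] at e1 e2
    rw [e1, e2]

/-- `a - l` -/
def gmap (D : SpData K V) (l : K) : Module.End K V := D.a - algebraMap K (Module.End K V) l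

theorem gmap_apply (D : SpData K V) (l : K) (x : V) : D.gmap l x = D.a x - l • x := by
  rw [gmap, LinearMap.sub_apply, Module.algebraMap_end_apply]

theorem mem_ker_gmap (D : SpData K V) (l : K) (x : V) :
    x ∈ LinearMap.ker (D.gmap l) ↔ D.a x = l • x := by
  rw [LinearMap.mem_ker, gmap_apply, sub_eq_zero]

theorem a_pow_apply_of_eigen (D : SpData K V) (l : K) (x : V) (hx : D.a x = l • x) (i : ℕ) :
    (D.a ^ i) x = l ^ i • x := by
  induction i with
  | zero => simp
  | succ i ih => rw [pow_succ, Module.End.mul_apply, hx, map_smul, ih, smul_smul, pow_succ']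

theorem a_pow_k (D : SpData K V) : D.a ^ D.k = 1 := LinearMap.ext D.hak

theorem disjoint_ker_range (D : SpData K V) (l : K) (hl : l * l = 1) (x : V)
    (h1 : D.a x = l • x) (h2 : x ∈ LinearMap.range (D.gmap l)) : x = 0 := by
  obtain ⟨y, rfl⟩ := h2
  have hl0 : l ≠ 0 := by
    rintro rfl
    rw [mul_zero] at hl
    exact zero_ne_one hl
  set L : Module.End K V := algebraMap K (Module.End K V) l with hL
  set T : Module.End K V := ∑ i ∈ Finset.range D.k, D.a ^ i * L ^ (D.k - 1 - i) with hT
  have hTg : T * D.gmap l = 0 := by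
    rw [hT, gmap, (Algebra.commute_algebraMap_right l D.a).geom_sum₂_mul, D.a_pow_k, ← map_pow,
      D.hlam l hl, map_one, sub_self]
  have h3 : T (D.gmap l y) = 0 := by
    rw [← Module.End.mul_apply, hTg, LinearMap.zero_apply]
  have h4 : T (D.gmap l y) = ((D.k : K) * l ^ (D.k - 1)) • D.gmap l y := by
    rw [hT, LinearMap.sum_apply]
    have : ∀ i ∈ Finset.range D.k, (D.a ^ i * L ^ (D.k - 1 - i)) (D.gmap l y) =
        l ^ (D.k - 1) • D.gmap l y := by
      intro i hi
      rw [Finset.mem_range] at hi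
      rw [Module.End.mul_apply, hL, ← map_pow, Module.algebraMap_end_apply, map_smul,
        D.a_pow_apply_of_eigen l _ h1, smul_smul, ← pow_add]
      congr 2
      omega
    rw [Finset.sum_congr rfl this, Finset.sum_const, Finset.card_range, ← Nat.cast_smul_eq_nsmul K,
      smul_smul]
  rw [h3] at h4
  have h5 := smul_eq_zero.1 h4.symm
  rcases h5 with h5 | h5
  · exact absurd h5 (mul_ne_zero D.hk (pow_ne_zero _ hl0))
  · exact h5

theorem isCompl_range_ker [FiniteDimensional K V] (D : SpData K V) (l : K) (hl : l * l = 1) :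
    IsCompl (LinearMap.range (D.gmap l)) (LinearMap.ker (D.gmap l)) := by
  rw [Submodule.isCompl_iff_disjoint _ _ (LinearMap.finrank_range_add_finrank_ker (D.gmap l)).ge,
    Submodule.disjoint_def]
  intro x hx1 hx2
  exact D.disjoint_ker_range l hl x ((D.mem_ker_gmap l x).1 hx2) hx1

theorem gmap_a (D : SpData K V) (l : K) (x : V) : D.gmap l (D.a x) = D.a (D.gmap l x) := by
  rw [gmap_apply, gmap_apply, map_sub, map_smul]

theorem gmap_h (D : SpData K V) (l : K) (x : V) : D.gmap l (D.h x) = D.h (D.gmap l x) := by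
  rw [gmap_apply, gmap_apply, map_sub, map_smul, D.comm]

theorem range_a (D : SpData K V) (l : K) : ∀ x ∈ LinearMap.range (D.gmap l),
    D.a x ∈ LinearMap.range (D.gmap l) := by
  rintro _ ⟨y, rfl⟩
  exact ⟨D.a y, D.gmap_a l y⟩

theorem range_h (D : SpData K V) (l : K) : ∀ x ∈ LinearMap.range (D.gmap l),
    D.h x ∈ LinearMap.range (D.gmap l) := by
  rintro _ ⟨y, rfl⟩
  exact ⟨D.h y, D.gmap_h l y⟩

theorem ker_a (D : SpData K V) (l : K) : ∀ x ∈ LinearMap.ker (D.gmap l),
    D.a x ∈ LinearMap.ker (D.gmap l) := by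
  intro x hx
  rw [LinearMap.mem_ker] at hx ⊢
  rw [gmap_a, hx, map_zero]

theorem ker_h (D : SpData K V) (l : K) : ∀ x ∈ LinearMap.ker (D.gmap l),
    D.h x ∈ LinearMap.ker (D.gmap l) := by
  intro x hx
  rw [LinearMap.mem_ker] at hx ⊢
  rw [gmap_h, hx, map_zero]

theorem orth_range_ker (D : SpData K V) (l : K) (hl : l * l = 1) :
    ∀ x ∈ LinearMap.range (D.gmap l), ∀ y ∈ LinearMap.ker (D.gmap l), D.B x y = 0 := by
  rintro _ ⟨z, rfl⟩ y hy
  rw [mem_ker_gmap] at hy
  have hy' : y = l • D.a y := by rw [hy, smul_smul, hl, one_smul]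
  have e : D.B (D.a z) y = l * D.B z y := by
    calc D.B (D.a z) y = D.B (D.a z) (l • D.a y) := by rw [← hy']
      _ = l * D.B z y := by rw [map_smul, D.iso, smul_eq_mul]
  rw [gmap_apply, map_sub, LinearMap.sub_apply, map_smul, LinearMap.smul_apply, e, smul_eq_mul,
    sub_self]

/-- the Darboux case: `a` is a scalar -/
theorem solvable_of_scalar [FiniteDimensional K V] (D : SpData K V) (l : K)
    (hal : ∀ x, D.a x = l • x) : D.Solvable := by
  have hA : D.B.IsAlt := D.isAlt
  have hA' : (D.B.comp D.h LinearMap.id).IsAlt := by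
    intro x
    rw [LinearMap.BilinForm.comp_apply]
    exact D.halt x
  have hnd' : ∀ u, (∀ v, D.B.comp D.h LinearMap.id u v = 0) → u = 0 := by
    intro u hu
    apply D.inj
    apply D.nondeg
    intro v
    have := hu v
    rwa [LinearMap.BilinForm.comp_apply] at this
  obtain ⟨c, hc⟩ := exists_isometry_of_alt D.B (D.B.comp D.h LinearMap.id) hA hA' D.nondeg hnd'
  refine ⟨c.toLinearMap, ?_, ?_⟩
  · intro x
    rw [hal, hal, LinearEquiv.coe_coe, map_smul]
  · intro x y
    rw [LinearEquiv.coe_coe, hc, LinearMap.BilinForm.comp_apply]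
    rfl

/-- one splitting step -/
theorem solvable_of_split [FiniteDimensional K V] (D : SpData K V) (l : K) (hl : l * l = 1)
    (hrec : ∀ (hc : IsCompl (LinearMap.range (D.gmap l)) (LinearMap.ker (D.gmap l)))
      (haW : ∀ x ∈ LinearMap.range (D.gmap l), D.a x ∈ LinearMap.range (D.gmap l))
      (hhW : ∀ x ∈ LinearMap.range (D.gmap l), D.h x ∈ LinearMap.range (D.gmap l))
      (horth : ∀ x ∈ LinearMap.range (D.gmap l), ∀ y ∈ LinearMap.ker (D.gmap l), D.B x y = 0),
      (D.restrict _ _ hc haW hhW horth).Solvable) : D.Solvable := by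
  have hc := D.isCompl_range_ker l hl
  have horth := D.orth_range_ker l hl
  apply D.solvable_of_restrict _ _ hc (D.range_a l) (D.range_h l) (D.ker_a l) (D.ker_h l) horth
    (hrec hc _ _ horth)
  apply solvable_of_scalar _ l
  intro x
  apply Subtype.ext
  rw [restrict_a_apply]
  exact (D.mem_ker_gmap l x).1 x.2

theorem restrict_range_inj (D : SpData K V) (l : K) (hl : l * l = 1)
    (hc : IsCompl (LinearMap.range (D.gmap l)) (LinearMap.ker (D.gmap l)))
    (haW : ∀ x ∈ LinearMap.range (D.gmap l), D.a x ∈ LinearMap.range (D.gmap l))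
    (hhW : ∀ x ∈ LinearMap.range (D.gmap l), D.h x ∈ LinearMap.range (D.gmap l))
    (horth : ∀ x ∈ LinearMap.range (D.gmap l), ∀ y ∈ LinearMap.ker (D.gmap l), D.B x y = 0)
    (x : LinearMap.range (D.gmap l)) (hx : (D.restrict _ _ hc haW hhW horth).a x = l • x) :
    x = 0 := by
  apply Subtype.ext
  apply D.disjoint_ker_range l hl x _ x.2
  have := congrArg Subtype.val hx
  rwa [restrict_a_apply] at this

theorem restrict_inj_of_inj (D : SpData K V) (W W' : Submodule K V) (hc : IsCompl W W')
    (haW : ∀ x ∈ W, D.a x ∈ W) (hhW : ∀ x ∈ W, D.h x ∈ W)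
    (horth : ∀ x ∈ W, ∀ y ∈ W', D.B x y = 0) (l : K) (hinj : ∀ x, D.a x = l • x → x = 0)
    (x : W) (hx : (D.restrict W W' hc haW hhW horth).a x = l • x) : x = 0 := by
  apply Subtype.ext
  apply hinj
  have := congrArg Subtype.val hx
  rwa [restrict_a_apply] at this

/-- the case where `a - 1` and `a + 1` are injective: solve the norm equation in `K[a, h]` -/
theorem solvable_of_injective [Finite K] [FiniteDimensional K V] (D : SpData K V)
    (h1 : ∀ x, D.a x = (1 : K) • x → x = 0) (h2 : ∀ x, D.a x = (-1 : K) • x → x = 0) :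
    D.Solvable := by
  classical
  obtain ⟨ai, hai⟩ : ∃ ai : Module.End K V, ai = D.a ^ (D.k - 1) := ⟨_, rfl⟩
  have hk0 : 0 < D.k := by
    rcases Nat.eq_zero_or_pos D.k with h | h
    · exact absurd (by rw [h]; exact Nat.cast_zero) D.hk
    · exact h
  have hai1 : D.a * ai = 1 := by rw [hai, ← pow_succ', Nat.sub_add_cancel hk0, D.a_pow_k]
  have hai2 : ai * D.a = 1 := by rw [hai, ← pow_succ, Nat.sub_add_cancel hk0, D.a_pow_k]
  have hah : Commute D.a D.h := LinearMap.ext (fun x => D.comm x)
  have haih : Commute ai D.h := by rw [hai]; exact hah.pow_left _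
  have haai : Commute D.a ai := by rw [hai]; exact (Commute.refl _).pow_right _
  obtain ⟨S, hS⟩ : ∃ S : Set (Module.End K V), S = {D.a, ai, D.h} := ⟨_, rfl⟩
  have hmemS : ∀ x, x ∈ S ↔ x = D.a ∨ x = ai ∨ x = D.h := by
    intro x; rw [hS]; simp only [Set.mem_insert_iff, Set.mem_singleton_iff]
  have hcomm : ∀ x ∈ S, ∀ y ∈ S, x * y = y * x := by
    intro x hx y hy
    rw [hmemS] at hx hy
    rcases hx with rfl | rfl | rfl <;> rcases hy with rfl | rfl | rfl
    · rfl
    · exact haai.eq
    · exact hah.eq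
    · exact haai.eq.symm
    · rfl
    · exact haih.eq
    · exact hah.eq.symm
    · exact haih.eq.symm
    · rfl
  let _ : CommRing (Algebra.adjoin K S) := Algebra.adjoinCommRingOfComm K hcomm
  have hfinV : Finite V := Module.finite_of_finite K
  have hfinR : Finite (Module.End K V) :=
    Finite.of_injective (fun f : Module.End K V => (f : V → V)) DFunLike.coe_injective
  have hfinA : Finite (Algebra.adjoin K S) := Subtype.finite
  -- existence of adjoints inside the algebra
  have hadj : ∀ x ∈ Algebra.adjoin K S, ∃ y ∈ Algebra.adjoin K S,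
      ∀ u v, D.B (x u) v = D.B u (y v) := by
    intro x hx
    induction hx using Algebra.adjoin_induction with
    | mem x hx =>
      rw [hmemS] at hx
      rcases hx with rfl | rfl | rfl
      · refine ⟨ai, Algebra.subset_adjoin ((hmemS _).2 (Or.inr (Or.inl rfl))), fun u v => ?_⟩
        have : v = D.a (ai v) := by rw [← Module.End.mul_apply, hai1, Module.End.one_apply]
        conv_lhs => rw [this]
        rw [D.iso]
      · refine ⟨D.a, Algebra.subset_adjoin ((hmemS _).2 (Or.inl rfl)), fun u v => ?_⟩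
        have : u = D.a (x u) := by rw [← Module.End.mul_apply, hai1, Module.End.one_apply]
        conv_rhs => rw [this]
        rw [D.iso]
      · exact ⟨D.h, Algebra.subset_adjoin ((hmemS _).2 (Or.inr (Or.inr rfl))), fun u v => D.self u v⟩
    | algebraMap r =>
      refine ⟨algebraMap K _ r, Subalgebra.algebraMap_mem _ r, fun u v => ?_⟩
      rw [Module.algebraMap_end_apply, Module.algebraMap_end_apply, map_smul, map_smul,
        LinearMap.smul_apply]
    | add x y hx hy ihx ihy =>
      obtain ⟨x', hx', hxx⟩ := ihx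
      obtain ⟨y', hy', hyy⟩ := ihy
      refine ⟨x' + y', add_mem hx' hy', fun u v => ?_⟩
      rw [LinearMap.add_apply, LinearMap.add_apply, map_add, map_add, LinearMap.add_apply, hxx, hyy]
    | mul x y hx hy ihx ihy =>
      obtain ⟨x', hx', hxx⟩ := ihx
      obtain ⟨y', hy', hyy⟩ := ihy
      refine ⟨y' * x', mul_mem hy' hx', fun u v => ?_⟩
      rw [Module.End.mul_apply, Module.End.mul_apply, hxx, hyy]
  choose! adj hadjmem hadjspec using hadj
  have huniq : ∀ (x : Module.End K V) (hx : x ∈ Algebra.adjoin K S) (y : Module.End K V),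
      (∀ u v, D.B (x u) v = D.B u (y v)) → adj x = y := by
    intro x hx y hy
    apply LinearMap.ext
    intro v
    rw [← sub_eq_zero]
    apply D.nondeg'
    intro u
    rw [map_sub, ← hadjspec x hx, hy, sub_self]
  obtain ⟨sh, hsh⟩ : ∃ sh : Algebra.adjoin K S →+* Algebra.adjoin K S,
      ∀ x : Algebra.adjoin K S, ((sh x : Algebra.adjoin K S) : Module.End K V) = adj x.1 := by
    refine ⟨
      { toFun := fun x => ⟨adj x.1, hadjmem x.1 x.2⟩
        map_one' := ?_
        map_mul' := ?_
        map_zero' := ?_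
        map_add' := ?_ }, fun x => rfl⟩
    · apply Subtype.ext
      exact huniq _ (one_mem _) 1 (fun u v => rfl)
    · intro x y
      apply Subtype.ext
      show adj (x.1 * y.1) = adj x.1 * adj y.1
      apply huniq _ (mul_mem x.2 y.2)
      intro u v
      have hc : adj x.1 * adj y.1 = adj y.1 * adj x.1 :=
        congrArg Subtype.val (mul_comm (⟨adj x.1, hadjmem x.1 x.2⟩ : Algebra.adjoin K S)
          ⟨adj y.1, hadjmem y.1 y.2⟩)
      rw [hc, Module.End.mul_apply, Module.End.mul_apply, hadjspec x.1 x.2, hadjspec y.1 y.2]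
    · apply Subtype.ext
      exact huniq _ (zero_mem _) 0 (fun u v => by simp)
    · intro x y
      apply Subtype.ext
      show adj (x.1 + y.1) = adj x.1 + adj y.1
      apply huniq _ (add_mem x.2 y.2)
      intro u v
      rw [LinearMap.add_apply, LinearMap.add_apply, map_add, map_add, LinearMap.add_apply,
        hadjspec x.1 x.2, hadjspec y.1 y.2]
  have hshsh : ∀ x, sh (sh x) = x := by
    intro x
    apply Subtype.ext
    rw [hsh]
    apply huniq _ (sh x).2
    intro u v
    rw [hsh, D.swap, ← hadjspec x.1 x.2, ← D.swap]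
  have hunit : ∀ z : Algebra.adjoin K S, (∀ v, z.1 v = 0 → v = 0) → IsUnit z := by
    intro z hz
    rw [isUnit_iff_mem_nonZeroDivisors_of_finite, mem_nonZeroDivisors_iff_left]
    intro x hx
    apply Subtype.ext
    apply LinearMap.ext
    intro v
    apply hz
    have := congrArg (fun y : Algebra.adjoin K S => y.1 v) hx
    exact this
  -- the elements
  let a' : Algebra.adjoin K S := ⟨D.a, Algebra.subset_adjoin ((hmemS _).2 (Or.inl rfl))⟩
  let h' : Algebra.adjoin K S := ⟨D.h, Algebra.subset_adjoin ((hmemS _).2 (Or.inr (Or.inr rfl)))⟩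
  have hsha : ((sh a' : Algebra.adjoin K S) : Module.End K V) = ai := by
    rw [hsh]
    apply huniq _ a'.2
    intro u v
    have : v = D.a (ai v) := by rw [← Module.End.mul_apply, hai1, Module.End.one_apply]
    conv_lhs => rw [this]
    exact D.iso _ _
  have hshh : sh h' = h' := by
    apply Subtype.ext
    rw [hsh]
    exact huniq _ h'.2 _ (fun u v => D.self u v)
  have hau : IsUnit (a' - sh a') := by
    apply hunit
    intro v hv
    have hv' : D.a v - ai v = 0 := by
      have : ((a' - sh a' : Algebra.adjoin K S) : Module.End K V) = D.a - ai := by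
        rw [← hsha]; rfl
      rw [this] at hv
      exact hv
    -- apply `a`: `a² v = v`
    have h3 : D.a (D.a v) = v := by
      have := congrArg D.a hv'
      rw [map_sub, map_zero, ← Module.End.mul_apply D.a ai, hai1, Module.End.one_apply,
        sub_eq_zero] at this
      exact this
    -- `(a + 1) v` is fixed by `a`
    have h4 : D.a v + v = 0 := by
      apply h1
      rw [map_add, h3, one_smul, add_comm]
    apply h2
    rw [neg_smul, one_smul]
    exact eq_neg_of_add_eq_zero_left h4
  have hhu : IsUnit h' := hunit h' D.inj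
  obtain ⟨c, hc⟩ := norm_surjective sh hshsh a' hau h' hhu hshh
  refine ⟨c.1, ?_, ?_⟩
  · intro x
    have := congrArg (fun y : Algebra.adjoin K S => y.1 x) (mul_comm c a')
    exact this
  · intro x y
    have h5 : adj c.1 * c.1 = D.h := by
      have := congrArg Subtype.val hc
      rw [← hsh]
      rw [mul_comm] at this
      exact this
    rw [hadjspec c.1 c.2, ← Module.End.mul_apply, h5, D.self]

/-- the key lemma -/
theorem solvable [Finite K] [FiniteDimensional K V] (D : SpData K V) : D.Solvable := by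
  apply D.solvable_of_split 1 (one_mul 1)
  intro hc haW hhW horth
  have h1 := D.restrict_range_inj 1 (one_mul 1) hc haW hhW horth
  generalize D.restrict _ _ hc haW hhW horth = D1 at h1 ⊢
  apply D1.solvable_of_split (-1) (by ring)
  intro hc' haW' hhW' horth'
  have h2 := D1.restrict_range_inj (-1) (by ring) hc' haW' hhW' horth'
  have h1' := D1.restrict_inj_of_inj _ _ hc' haW' hhW' horth' 1 h1
  exact solvable_of_injective _ h1' h2

end SpData

end Cfsg.Agent.Lib.Helper37.SpKey
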