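/-
helper37 library: semisimple elements of `Sp_2m(F)` (finite `F`) that are conjugate in `GL` are
conjugate in `Sp`.
-/
import Mathlib
import Cfsg.Agent.Lib.Helper37.SpKey
import Cfsg.Agent.Lib.Helper5.Symplectic
import Cfsg.Agent.Lib.Helper13.SympGen

set_option autoImplicit false

namespace Cfsg.Agent.Lib.Helper37.SpConj

open Matrix Cfsg.Agent.Lib.Helper37.SpKey Cfsg.Agent.Lib.Helper13

variable {F : Type*} [Field F] {m : ℕ}

theorem sympForm_mulVec_left (M : Matrix (Fin m ⊕ Fin m) (Fin m ⊕ Fin m) F)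
    (x y : Fin m ⊕ Fin m → F) :
    Cfsg.sympForm m F (M *ᵥ x) y = x ⬝ᵥ ((Mᵀ * J (Fin m) F) *ᵥ y) := by
  unfold Cfsg.sympForm
  rw [← mulVec_mulVec, dotProduct_mulVec x Mᵀ, vecMul_transpose]

theorem sympForm_mulVec_mulVec (M : Matrix (Fin m ⊕ Fin m) (Fin m ⊕ Fin m) F)
    (x y : Fin m ⊕ Fin m → F) :
    Cfsg.sympForm m F (M *ᵥ x) (M *ᵥ y) = x ⬝ᵥ ((Mᵀ * J (Fin m) F * M) *ᵥ y) := by
  rw [sympForm_mulVec_left, ← mulVec_mulVec (M := Mᵀ * J (Fin m) F) (N := M)]

theorem mem_symplecticGroup_iff_sympForm {A : Matrix (Fin m ⊕ Fin m) (Fin m ⊕ Fin m) F} :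
    A ∈ symplecticGroup (Fin m) F ↔
      ∀ u v, Cfsg.sympForm m F (A *ᵥ u) (A *ᵥ v) = Cfsg.sympForm m F u v :=
  Cfsg.Agent.Lib.Helper5.mem_symplecticGroup_iff_form

/-- the main conjugacy theorem at the level of matrices -/
theorem exists_symplectic_conj [Finite F] (A B P Pi : Matrix (Fin m ⊕ Fin m) (Fin m ⊕ Fin m) F)
    (hA : A ∈ symplecticGroup (Fin m) F) (hB : B ∈ symplecticGroup (Fin m) F)
    (hP1 : P * Pi = 1) (hPA : P * A = B * P) (k : ℕ) (hk : (k : F) ≠ 0) (hAk : A ^ k = 1)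
    (hlam : ∀ l : F, l * l = 1 → l ^ k = 1) :
    ∃ Q ∈ symplecticGroup (Fin m) F, Q * A = B * Q := by
  classical
  have hP2 : Pi * P = 1 := mul_eq_one_comm.1 hP1
  rw [mem_symplecticGroup_iff_sympForm] at hA hB
  obtain ⟨H, hH⟩ : ∃ H : Matrix (Fin m ⊕ Fin m) (Fin m ⊕ Fin m) F,
      H = (Pᵀ * J (Fin m) F * P * (-J (Fin m) F))ᵀ := ⟨_, rfl⟩
  have hform : ∀ x y, Cfsg.sympForm m F (H *ᵥ x) y = Cfsg.sympForm m F (P *ᵥ x) (P *ᵥ y) := by
    intro x y
    rw [sympForm_mulVec_left, sympForm_mulVec_mulVec, hH, transpose_transpose, Matrix.mul_assoc,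
      Matrix.neg_mul, J_squared, neg_neg, Matrix.mul_one]
  have hswap : ∀ x y, Cfsg.sympForm m F x y = - Cfsg.sympForm m F y x := fun x y =>
    sympForm_swap x y
  have hPsurj : ∀ z, ∃ y, P *ᵥ y = z := fun z => ⟨Pi *ᵥ z, by rw [mulVec_mulVec, hP1, one_mulVec]⟩
  have hAsurj : ∀ z, ∃ y, A *ᵥ y = z := by
    intro z
    rcases Nat.eq_zero_or_pos k with h0 | h0
    · exact absurd (by rw [h0]; exact Nat.cast_zero) hk
    · refine ⟨A ^ (k - 1) *ᵥ z, ?_⟩
      rw [mulVec_mulVec, ← pow_succ', Nat.sub_add_cancel h0, hAk, one_mulVec]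
  let D : SpData F (Fin m ⊕ Fin m → F) :=
    { B := sympBilin m F
      a := Matrix.toLin' A
      h := Matrix.toLin' H
      k := k
      isAlt := fun x => sympForm_self x
      nondeg := fun u hu => sympForm_left_nondeg u hu
      hk := hk
      hak := by
        intro x
        rw [← Matrix.toLin'_pow, hAk, Matrix.toLin'_one, LinearMap.id_apply]
      hlam := hlam
      iso := fun x y => by
        rw [sympBilin_apply, sympBilin_apply, Matrix.toLin'_apply, Matrix.toLin'_apply, hA]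
      comm := by
        intro x
        rw [Matrix.toLin'_apply, Matrix.toLin'_apply, Matrix.toLin'_apply, Matrix.toLin'_apply]
        rw [← sub_eq_zero]
        apply sympForm_left_nondeg
        intro z
        obtain ⟨y, rfl⟩ := hAsurj z
        rw [sympForm_sub_left, hA, hform, hform, mulVec_mulVec, mulVec_mulVec, hPA,
          ← mulVec_mulVec, ← mulVec_mulVec, hB, sub_self]
      self := by
        intro x y
        rw [sympBilin_apply, sympBilin_apply, Matrix.toLin'_apply, Matrix.toLin'_apply, hform,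
          hswap x, hform, ← hswap]
      halt := by
        intro x
        rw [sympBilin_apply, Matrix.toLin'_apply, hform]
        exact sympForm_self _
      inj := by
        intro x hx
        rw [Matrix.toLin'_apply] at hx
        have h1 : P *ᵥ x = 0 := by
          apply sympForm_left_nondeg
          intro z
          obtain ⟨y, rfl⟩ := hPsurj z
          rw [← hform, hx]
          unfold Cfsg.sympForm
          rw [zero_dotProduct]
        have := congrArg (Pi *ᵥ ·) h1
        simp only [mulVec_mulVec, hP2, one_mulVec, mulVec_zero] at this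
        exact this }
  obtain ⟨c, hca, hcB⟩ := D.solvable
  have hcB' : ∀ x y, Cfsg.sympForm m F (c x) (c y) = Cfsg.sympForm m F (P *ᵥ x) (P *ᵥ y) := by
    intro x y
    have := hcB x y
    change Cfsg.sympForm m F (c x) (c y) = Cfsg.sympForm m F (Matrix.toLin' H x) y at this
    rw [this, Matrix.toLin'_apply, hform]
  have hca' : ∀ x, c (A *ᵥ x) = A *ᵥ c x := by
    intro x
    have := hca x
    change c (Matrix.toLin' A x) = Matrix.toLin' A (c x) at this
    rwa [Matrix.toLin'_apply, Matrix.toLin'_apply] at this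
  -- `c` is bijective
  have hcinj : Function.Injective c := by
    rw [← LinearMap.ker_eq_bot, LinearMap.ker_eq_bot']
    intro x hx
    have h1 : P *ᵥ x = 0 := by
      apply sympForm_left_nondeg
      intro z
      obtain ⟨y, rfl⟩ := hPsurj z
      rw [← hcB', hx]
      unfold Cfsg.sympForm
      rw [zero_dotProduct]
    have := congrArg (Pi *ᵥ ·) h1
    simp only [mulVec_mulVec, hP2, one_mulVec, mulVec_zero] at this
    exact this
  have hcsurj : Function.Surjective c := LinearMap.surjective_of_injective hcinj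
  -- the inverse of `c`
  let ce : (Fin m ⊕ Fin m → F) ≃ₗ[F] (Fin m ⊕ Fin m → F) := LinearEquiv.ofBijective c ⟨hcinj, hcsurj⟩
  have hce : ∀ x, c (ce.symm x) = x := fun x => ce.apply_symm_apply x
  obtain ⟨Q, hQ⟩ : ∃ Q : Matrix (Fin m ⊕ Fin m) (Fin m ⊕ Fin m) F,
      Q = P * LinearMap.toMatrix' (ce.symm : (Fin m ⊕ Fin m → F) →ₗ[F] (Fin m ⊕ Fin m → F)) :=
    ⟨_, rfl⟩
  have hQapp : ∀ x, Q *ᵥ x = P *ᵥ (ce.symm x) := by
    intro x
    rw [hQ, ← mulVec_mulVec, LinearMap.toMatrix'_mulVec]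
    rfl
  refine ⟨Q, ?_, ?_⟩
  · rw [mem_symplecticGroup_iff_sympForm]
    intro u v
    rw [hQapp, hQapp, ← hcB', hce, hce]
  · apply Matrix.toLin'.injective
    apply LinearMap.ext
    intro x
    rw [Matrix.toLin'_apply, Matrix.toLin'_apply, ← mulVec_mulVec, ← mulVec_mulVec, hQapp, hQapp]
    have h1 : ce.symm (A *ᵥ x) = A *ᵥ ce.symm x := by
      apply hcinj
      rw [hce, hca', hce]
    rw [h1, mulVec_mulVec, hPA, ← mulVec_mulVec]

end Cfsg.Agent.Lib.Helper37.SpConj
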