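import Mathlib
import Cfsg.Agent.Lib.Helper37.SpConj
import Cfsg.Agent.Lib.Helper37.AltIso

set_option autoImplicit false

namespace Cfsg.Agent.Lib.Helper37.SpExist

open Matrix Polynomial Cfsg.Agent.Lib.Helper13 Cfsg.Agent.Lib.Helper37.SpConj

variable {F : Type*} [Field F] {n : Type*} [Fintype n] [DecidableEq n]

/-- a matrix preserving a nondegenerate alternating form is conjugate to a symplectic matrix -/
theorem exists_symplectic_of_alternating {m : ℕ} (M Q : Matrix n n F)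
    (hQalt : ∀ x, x ⬝ᵥ (Q *ᵥ x) = 0) (hQdet : IsUnit Q.det) (hinv : Mᵀ * Q * M = Q)
    (hcard : Fintype.card n = 2 * m) :
    ∃ g ∈ symplecticGroup (Fin m) F, g.charpoly = M.charpoly ∧ ∀ k : ℕ, M ^ k = 1 → g ^ k = 1 := by
  classical
  let B : LinearMap.BilinForm F (n → F) := Matrix.toBilin' Q
  have hB : ∀ x y, B x y = x ⬝ᵥ (Q *ᵥ y) := fun x y => Matrix.toBilin'_apply' Q x y
  have hA : B.IsAlt := fun x => by rw [hB]; exact hQalt x
  have hnd : ∀ u, (∀ v, B u v = 0) → u = 0 := by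
    intro u hu
    apply (Matrix.nondegenerate_of_det_ne_zero hQdet.ne_zero).eq_zero_of_ortho
    intro w
    rw [← hB]
    exact hu w
  have hfin : Module.finrank F (n → F) = 2 * m := by
    rw [Module.finrank_fintype_fun_eq_card, hcard]
  obtain ⟨ι, hι⟩ := exists_symp_coords B hA hnd m hfin
  let φ : Module.End F (Fin m ⊕ Fin m → F) := ι.symm.conj (Matrix.toLin' M)
  have hφ : ∀ x, φ x = ι.symm (M *ᵥ ι x) := by
    intro x
    show ι.symm.conj (Matrix.toLin' M) x = _
    rw [LinearEquiv.conj_apply_apply, LinearEquiv.symm_symm, Matrix.toLin'_apply]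
  obtain ⟨g, hg⟩ : ∃ g : Matrix (Fin m ⊕ Fin m) (Fin m ⊕ Fin m) F, g = LinearMap.toMatrix' φ :=
    ⟨_, rfl⟩
  have hgapp : ∀ x, g *ᵥ x = ι.symm (M *ᵥ ι x) := by
    intro x
    rw [hg, LinearMap.toMatrix'_mulVec, hφ]
  have hBM : ∀ x y, B (M *ᵥ x) (M *ᵥ y) = B x y := by
    intro x y
    rw [hB, hB, ← vecMul_transpose, ← dotProduct_mulVec, mulVec_mulVec, mulVec_mulVec, hinv]
  have hgpow : ∀ (k : ℕ) x, (g ^ k) *ᵥ x = ι.symm ((M ^ k) *ᵥ ι x) := by
    intro k
    induction k with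
    | zero => intro x; simp
    | succ k ih =>
      intro x
      rw [pow_succ, ← mulVec_mulVec, ih, hgapp, LinearEquiv.apply_symm_apply, mulVec_mulVec,
        ← pow_succ]
  refine ⟨g, ?_, ?_, ?_⟩
  · rw [mem_symplecticGroup_iff_sympForm]
    intro u v
    rw [hgapp, hgapp, ← hι, LinearEquiv.apply_symm_apply, LinearEquiv.apply_symm_apply, hBM, hι]
  · rw [← Matrix.charpoly_toLin' g, hg, Matrix.toLin'_toMatrix']
    show (ι.symm.conj (Matrix.toLin' M)).charpoly = _
    rw [LinearEquiv.charpoly_conj, Matrix.charpoly_toLin']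
  · intro k hk
    apply Matrix.toLin'.injective
    apply LinearMap.ext
    intro x
    rw [Matrix.toLin'_apply, hgpow, hk, one_mulVec, LinearEquiv.symm_apply_apply,
      Matrix.toLin'_one, LinearMap.id_apply]

end Cfsg.Agent.Lib.Helper37.SpExist
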