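import Mathlib
import Cfsg.Agent.Lib.Helper37.SpExist1
import Cfsg.Agent.Lib.Helper37.SpExist2
import Cfsg.Agent.Lib.Helper37.DualPoly
import Cfsg.Agent.Lib.Helper37.InvCount
import Cfsg.Agent.Lib.Helper40.SemisimpleKill
import Cfsg.Agent.Lib.Helper40.SemisimpleGL

set_option autoImplicit false

namespace Cfsg.Agent.Lib.Helper37.SpExist

open Matrix Polynomial Cfsg.Agent.Lib.Helper13 Cfsg.Agent.Lib.Helper37.SpConj
  Cfsg.Agent.Lib.Helper37.DualPoly Cfsg.Agent.Lib.Helper37.InvCount Cfsg.Agent.Lib.Helper40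
  Cfsg.Agent.Lib.Helper37.AltIso

variable {F : Type*} [Field F] [Fintype F]

omit [Fintype F] in
theorem fromBlocks_diag_pow {a b : Type*} [Fintype a] [Fintype b] [DecidableEq a] [DecidableEq b]
    (A : Matrix a a F) (D : Matrix b b F) (k : ℕ) :
    (fromBlocks A 0 0 D) ^ k = fromBlocks (A ^ k) 0 0 (D ^ k) := by
  induction k with
  | zero => rw [pow_zero, pow_zero, pow_zero, fromBlocks_one]
  | succ k ih =>
    rw [pow_succ, ih, fromBlocks_multiply, pow_succ, pow_succ]
    simp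

/-- a self-dual polynomial of degree `2m` whose irreducible factors divide `X ^ r - 1`
(`r` an odd prime different from the characteristic) is the characteristic polynomial of an
element of `Sp_2m(F)` of order dividing `r` -/
theorem exists_symplectic_charpoly (m r : ℕ) (hr : r.Prime) (hr2 : r ≠ 2) (hrF : (r : F) ≠ 0)
    (f : F[X]) (hf : f.Monic) (hdeg : f.natDegree = 2 * m)
    (hfac : ∀ l : F[X], l.Monic → Irreducible l → l ∣ f → l ∣ X ^ r - 1)
    (hdual : rdual f = f) :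
    ∃ g ∈ symplecticGroup (Fin m) F, g ^ r = 1 ∧ g.charpoly = f := by
  classical
  have hrd1 : rdual (1 : F[X]) = 1 := by
    unfold rdual
    rw [coeff_one_zero, inv_one, C_1, one_mul, ← C_1, reverse_C]
  have hf0 : f ≠ 0 := hf.ne_zero
  obtain ⟨f', hff', hnd⟩ := exists_eq_pow_rootMultiplicity_mul_and_not_dvd f hf0 (1 : F)
  set e := rootMultiplicity (1 : F) f with he
  rw [C_1] at hff' hnd
  have hXm : ((X - 1 : F[X]) ^ e).Monic := by
    have := (monic_X_sub_C (1 : F)).pow e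
    rwa [C_1] at this
  have hf'mon : f'.Monic := by
    rw [hff'] at hf
    exact hXm.of_mul_monic_left hf
  obtain ⟨d, hd⟩ : ∃ d, d = f'.natDegree := ⟨_, rfl⟩
  have hXdeg : ((X - 1 : F[X]) ^ e).natDegree = e := by
    have h1 : (X - 1 : F[X]) = X - C 1 := by rw [C_1]
    rw [h1, (monic_X_sub_C (1 : F)).natDegree_pow, natDegree_X_sub_C, mul_one]
  have hdeg' : e + d = 2 * m := by
    rw [← hdeg, hff', hXm.natDegree_mul hf'mon, hd, hXdeg]
  have hf'dual : rdual f' = f' := by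
    have h1 : rdual f = (X - 1) ^ e * rdual f' := by
      conv_lhs => rw [hff']
      rw [rdual_mul, dual_pow rdual hrd1 rdual_mul, rdual_X_sub_one]
    rw [hdual] at h1
    conv_lhs at h1 => rw [hff']
    exact (mul_left_cancel₀ hXm.ne_zero h1).symm
  have hf'fac : ∀ l : F[X], l.Monic → Irreducible l → l ∣ f' → l ∣ X ^ r - 1 := by
    intro l hl hirr hd'
    apply hfac l hl hirr
    rw [hff']
    exact Dvd.dvd.mul_left hd' _
  obtain ⟨A, hAss, hAchar, hkill⟩ := exists_matrix_semisimple_charpoly_kill d f' hf'mon hd.symm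
  have hAr : A ^ r = 1 := by
    have h1 := hkill (X ^ r - 1) hf'fac
    simp only [map_sub, map_pow, aeval_X, map_one] at h1
    exact sub_eq_zero.mp h1
  obtain ⟨Ai, hAi⟩ : ∃ Ai : Matrix (Fin d) (Fin d) F, Ai = A ^ (r - 1) := ⟨_, rfl⟩
  have hAAi : A * Ai = 1 := by rw [hAi, ← pow_succ', Nat.sub_add_cancel hr.pos, hAr]
  have hAiA : Ai * A = 1 := mul_eq_one_comm.1 hAAi
  have hAir : Ai ^ r = 1 := by rw [hAi, ← pow_mul, mul_comm, pow_mul, hAr, one_pow]
  -- `1` is not an eigenvalue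
  have hinj1 : ∀ x, A *ᵥ x = x → x = 0 := by
    intro x hx
    have hcop : IsCoprime (X - 1 : F[X]) f' := by
      have hirr : Irreducible (X - 1 : F[X]) := by
        have := irreducible_X_sub_C (1 : F)
        rwa [C_1] at this
      exact (Irreducible.coprime_iff_not_dvd hirr).2 hnd
    obtain ⟨u, v, huv⟩ := hcop
    have h1 : aeval A (u * (X - 1) + v * f') = 1 := by rw [huv, map_one]
    have h2 : aeval A f' = 0 := by rw [← hAchar]; exact aeval_self_charpoly A
    rw [map_add, map_mul, map_mul, h2, mul_zero, add_zero, map_sub, aeval_X, map_one] at h1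
    have h3 : (aeval A u * (A - 1)) *ᵥ x = x := by rw [h1, one_mulVec]
    rw [← mulVec_mulVec, sub_mulVec, one_mulVec, hx, sub_self, mulVec_zero] at h3
    exact h3.symm
  have hinj : ∀ x, A *ᵥ x = Ai *ᵥ x → x = 0 := by
    intro x hx
    apply hinj1
    -- `A² x = x`
    have h2 : (A ^ 2) *ᵥ x = x := by
      rw [pow_two, ← mulVec_mulVec, hx, mulVec_mulVec, hAAi, one_mulVec]
    obtain ⟨j, hj⟩ : ∃ j, r = 2 * j + 1 := by
      rcases hr.eq_two_or_odd with h | h
      · exact absurd h hr2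
      · exact ⟨r / 2, by omega⟩
    have h3 : ∀ j : ℕ, (A ^ (2 * j)) *ᵥ x = x := by
      intro j
      induction j with
      | zero => simp
      | succ j ih =>
        rw [mul_add, mul_one, pow_add, ← mulVec_mulVec, h2, ih]
    have h4 : (A ^ r) *ᵥ x = A *ᵥ x := by
      rw [hj, pow_succ', ← mulVec_mulVec, h3]
    rw [hAr, one_mulVec] at h4
    exact h4.symm
  -- the invariant form
  have hrF' : (r : F) ≠ 0 := hrF
  have hAiTss : Module.End.IsSemisimple (Matrix.toLin' Aiᵀ) := by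
    apply isSemisimple_toLin'_of_pow_eq_one Aiᵀ r hrF
    rw [← transpose_pow, hAir, transpose_one]
  have hAdet : IsUnit A.det := by
    have h2 := congrArg det hAAi
    rw [det_mul, det_one] at h2
    exact IsUnit.of_mul_eq_one _ h2
  have hAiTchar : Aiᵀ.charpoly = A.charpoly := by
    rw [charpoly_transpose, ← Matrix.inv_eq_right_inv hAAi, charpoly_inv A hAdet, hAchar, hf'dual]
  obtain ⟨P, hP⟩ := exists_gl_conj_of_charpoly_eq A Aiᵀ hAss hAiTss hAiTchar.symm
  have hPdet : IsUnit (P : Matrix (Fin d) (Fin d) F).det :=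
    (Matrix.isUnit_iff_isUnit_det _).1 P.isUnit
  have hinv : Aᵀ * (P : Matrix (Fin d) (Fin d) F) * A = (P : Matrix (Fin d) (Fin d) F) := by
    rw [Matrix.mul_assoc, hP, ← Matrix.mul_assoc, ← transpose_mul, hAiA, transpose_one,
      Matrix.one_mul]
  obtain ⟨Q', hQ'skew, hQ'alt, hQ'det, hQ'inv⟩ :=
    exists_alternating_of_invariant A Ai _ hAAi hPdet hinv hinj
  -- `d` is even
  obtain ⟨b, hb⟩ : ∃ b, d = 2 * b := by
    have h1 : (Matrix.toBilin' Q').IsAlt := fun x => by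
      rw [Matrix.toBilin'_apply']; exact hQ'alt x
    have h2 : ∀ u, (∀ v, Matrix.toBilin' Q' u v = 0) → u = 0 := by
      intro u hu
      apply (Matrix.nondegenerate_of_det_ne_zero hQ'det.ne_zero).eq_zero_of_ortho
      intro w
      rw [← Matrix.toBilin'_apply']
      exact hu w
    obtain ⟨b, hb⟩ := exists_finrank_eq_two_mul (Matrix.toBilin' Q') h1 h2
    rw [Module.finrank_fintype_fun_eq_card, Fintype.card_fin] at hb
    exact ⟨b, hb⟩
  obtain ⟨a, ha⟩ : ∃ a, e = 2 * a := ⟨m - b, by omega⟩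
  -- assemble
  obtain ⟨M, hM⟩ : ∃ M : Matrix ((Fin a ⊕ Fin a) ⊕ Fin d) ((Fin a ⊕ Fin a) ⊕ Fin d) F,
      M = fromBlocks 1 0 0 A := ⟨_, rfl⟩
  obtain ⟨Q, hQ⟩ : ∃ Q : Matrix ((Fin a ⊕ Fin a) ⊕ Fin d) ((Fin a ⊕ Fin a) ⊕ Fin d) F,
      Q = fromBlocks (J (Fin a) F) 0 0 Q' := ⟨_, rfl⟩
  have hQalt : ∀ x, x ⬝ᵥ (Q *ᵥ x) = 0 := by
    intro x
    rw [hQ, fromBlocks_mulVec]
    simp only [zero_mulVec, add_zero, zero_add]
    rw [dotProduct, Fintype.sum_sum_type]
    simp only [Sum.elim_inl, Sum.elim_inr]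
    have h1 : ∑ i, x (Sum.inl i) * (J (Fin a) F *ᵥ (x ∘ Sum.inl)) i = 0 :=
      sympForm_self (x ∘ Sum.inl)
    have h2 : ∑ i, x (Sum.inr i) * (Q' *ᵥ (x ∘ Sum.inr)) i = 0 := hQ'alt (x ∘ Sum.inr)
    rw [h1, h2, add_zero]
  have hQdet : IsUnit Q.det := by
    rw [hQ, det_fromBlocks_zero₁₂]
    exact (isUnit_det_J (Fin a) F).mul hQ'det
  have hMinv : Mᵀ * Q * M = Q := by
    rw [hM, hQ, fromBlocks_transpose, fromBlocks_multiply, fromBlocks_multiply]
    simp only [transpose_zero, transpose_one, Matrix.one_mul, Matrix.mul_one, Matrix.zero_mul,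
      Matrix.mul_zero, add_zero, zero_add]
    rw [hQ'inv]
  have hcard : Fintype.card ((Fin a ⊕ Fin a) ⊕ Fin d) = 2 * m := by
    simp only [Fintype.card_sum, Fintype.card_fin]
    omega
  obtain ⟨g, hg, hgchar, hgpow⟩ := exists_symplectic_of_alternating M Q hQalt hQdet hMinv hcard
  refine ⟨g, hg, ?_, ?_⟩
  · apply hgpow
    rw [hM, fromBlocks_diag_pow, one_pow, hAr, fromBlocks_one]
  · rw [hgchar, hM, charpoly_fromBlocks_zero₁₂, charpoly_one, hAchar, hff']
    congr 2
    simp only [Fintype.card_sum, Fintype.card_fin]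
    omega

end Cfsg.Agent.Lib.Helper37.SpExist
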