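/-
helper37 library: the orthogonal group of the standard odd-dimensional quadratic form
`x₀² + Σ x_i y_i` (odd characteristic): self-reciprocity of characteristic polynomials,
conjugacy of odd-order semisimple isometries from `GL`-conjugacy (general index type), and
existence of isometries of order dividing an odd prime `r` with prescribed self-reciprocal
characteristic polynomial.
-/
import Mathlib
import Cfsg.Prelude.Def_LieClassical
import Cfsg.Agent.S2618
import Cfsg.Agent.Lib.Helper37.OrthIso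
import Cfsg.Agent.Lib.Helper37.SpExist3
import Cfsg.Agent.Lib.Helper37.OrthConj

set_option autoImplicit false

namespace Cfsg.Agent.Lib.Helper37.OrthOdd

open Matrix Polynomial Cfsg.Agent.Lib.Helper37.DualPoly Cfsg.Agent.Lib.Helper37.InvCount
  Cfsg.Agent.Lib.Helper40 Cfsg.Agent.Lib.Helper37.SpExist

section oddqf
variable (m : ℕ) (F : Type*) [Field F]

/-- the form `x₀² + Σ x_i y_i` as a `QuadraticForm` -/
noncomputable def oddQ : QuadraticForm F (Unit ⊕ (Fin m ⊕ Fin m) → F) :=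
  QuadraticMap.proj (Sum.inl ()) (Sum.inl ()) +
    ∑ i : Fin m, QuadraticMap.proj (Sum.inr (Sum.inl i)) (Sum.inr (Sum.inr i))

theorem oddQ_coe : ⇑(oddQ m F) = Cfsg.quadFormOdd m F := by
  funext v
  unfold oddQ Cfsg.quadFormOdd
  rw [QuadraticMap.add_apply, QuadraticMap.sum_apply]
  simp [sq]

theorem oddQ_polar (u v : Unit ⊕ (Fin m ⊕ Fin m) → F) :
    QuadraticMap.polar (⇑(oddQ m F)) u v = 2 * u (Sum.inl ()) * v (Sum.inl ()) +
      ∑ i : Fin m, (u (Sum.inr (Sum.inl i)) * v (Sum.inr (Sum.inr i)) +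
        v (Sum.inr (Sum.inl i)) * u (Sum.inr (Sum.inr i))) := by
  rw [oddQ_coe]
  unfold QuadraticMap.polar Cfsg.quadFormOdd
  have : ∀ a b c d e f : F, (a + b) - (c + d) - (e + f) = (a - c - e) + (b - d - f) := by
    intros; ring
  rw [this, ← Finset.sum_sub_distrib, ← Finset.sum_sub_distrib]
  congr 1
  · simp only [Pi.add_apply]; ring
  · apply Finset.sum_congr rfl
    intro i _
    simp only [Pi.add_apply]
    ring

theorem oddQ_nondeg (h2 : (2 : F) ≠ 0) : (QuadraticMap.polarBilin (oddQ m F)).Nondegenerate := by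
  classical
  have hleft : ∀ x : Unit ⊕ (Fin m ⊕ Fin m) → F,
      (∀ y, QuadraticMap.polar (⇑(oddQ m F)) x y = 0) → x = 0 := by
    intro x hx
    funext j
    rcases j with ⟨⟩ | j | j
    · have h := hx (Pi.single (Sum.inl ()) 1)
      rw [oddQ_polar] at h
      simp at h
      exact h.resolve_left h2
    · have h := hx (Pi.single (Sum.inr (Sum.inr j)) 1)
      rw [oddQ_polar, Finset.sum_eq_single j] at h
      · simpa using h
      · intro i _ hij
        simp [hij]
      · intro h'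
        exact absurd (Finset.mem_univ j) h'
    · have h := hx (Pi.single (Sum.inr (Sum.inl j)) 1)
      rw [oddQ_polar, Finset.sum_eq_single j] at h
      · simpa using h
      · intro i _ hij
        simp [hij]
      · intro h'
        exact absurd (Finset.mem_univ j) h'
  constructor
  · intro x hx
    exact hleft x hx
  · intro y hy
    apply hleft y
    intro x
    rw [QuadraticMap.polar_comm]
    exact hy x

/-- values of the standard form on the standard basis -/
theorem oddQ_single (k : Unit ⊕ (Fin m ⊕ Fin m)) :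
    oddQ m F (Pi.single k 1) = if k = Sum.inl () then 1 else 0 := by
  classical
  have h := congrFun (oddQ_coe m F) (Pi.single k 1)
  rw [h]
  unfold Cfsg.quadFormOdd
  rcases k with ⟨⟩ | k | k
  · simp
  · simp
  · simp

end oddqf


section transfer
variable {F : Type*} [Field F]

/-- the Gram data of a parabolic basis -/
def gramP (m : ℕ) (F : Type*) [Field F] : (Unit ⊕ (Fin m ⊕ Fin m)) → (Unit ⊕ (Fin m ⊕ Fin m)) → F
  | Sum.inl _, Sum.inl _ => 2
  | Sum.inr (Sum.inl i), Sum.inr (Sum.inr j) => if i = j then 1 else 0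
  | Sum.inr (Sum.inr i), Sum.inr (Sum.inl j) => if i = j then 1 else 0
  | _, _ => 0

theorem oddQ_polar_single (m : ℕ) (k l : Unit ⊕ (Fin m ⊕ Fin m)) :
    QuadraticMap.polar (⇑(oddQ m F)) (Pi.single k 1) (Pi.single l 1) = gramP m F k l := by
  classical
  rw [oddQ_polar]
  rcases k with ⟨⟩ | k | k <;> rcases l with ⟨⟩ | l | l
  · simp [gramP]
  · simp [gramP]
  · simp [gramP]
  · simp [gramP]
  · simp [gramP]
  · simp [gramP, Pi.single_apply, eq_comm]
  · simp [gramP]
  · simp [gramP, Pi.single_apply, eq_comm]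
  · simp [gramP]

end transfer


section model
variable {F : Type*} [Field F]

/-- transfer of an isometry of a symmetric matrix model to the standard odd form -/
theorem exists_isometry_of_model [Finite F] (h2 : (2 : F) ≠ 0) (m : ℕ) {κ : Type*} [Fintype κ]
    [DecidableEq κ] (hκ : Fintype.card κ = 2 * m + 1) (M B : Matrix κ κ F) (hBsymm : Bᵀ = B)
    (hBdet : IsUnit B.det) (hinv : Mᵀ * B * M = B) (r : ℕ) (hr : 0 < r) (hM : M ^ r = 1) :
    ∃ g : GL (Unit ⊕ (Fin m ⊕ Fin m)) F, g ∈ Cfsg.isometryGroup F (Cfsg.quadFormOdd m F) ∧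
      g ^ r = 1 ∧ (g : Matrix (Unit ⊕ (Fin m ⊕ Fin m)) (Unit ⊕ (Fin m ⊕ Fin m)) F).charpoly =
        M.charpoly := by
  classical
  let QB : QuadraticForm F (κ → F) := LinearMap.BilinMap.toQuadraticMap (Matrix.toBilin' B)
  have hQB : ∀ v, QB v = v ⬝ᵥ B *ᵥ v := by
    intro v
    show (Matrix.toBilin' B) v v = _
    rw [Matrix.toBilin'_apply']
  have hBsw : ∀ u v : κ → F, v ⬝ᵥ B *ᵥ u = u ⬝ᵥ B *ᵥ v := by
    intro u v
    have h1 : u ⬝ᵥ Bᵀ *ᵥ v = (B *ᵥ u) ⬝ᵥ v := by rw [dotProduct_mulVec, vecMul_transpose]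
    rw [hBsymm] at h1
    rw [h1, dotProduct_comm]
  have hpol : ∀ u v, QuadraticMap.polar QB u v = 2 * (u ⬝ᵥ B *ᵥ v) := by
    intro u v
    show QuadraticMap.polar (LinearMap.BilinMap.toQuadraticMap (Matrix.toBilin' B)) u v = _
    rw [LinearMap.BilinMap.polar_toQuadraticMap, Matrix.toBilin'_apply', Matrix.toBilin'_apply',
      hBsw u v]
    ring
  have hBnd : ∀ u : κ → F, (∀ v, u ⬝ᵥ B *ᵥ v = 0) → u = 0 := by
    intro u hu
    have h1 : B *ᵥ u = 0 := by
      funext k
      have := hu (Pi.single k 1)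
      rw [← hBsw, single_dotProduct, one_mul] at this
      exact this
    have h3 : B⁻¹ *ᵥ (B *ᵥ u) = u := by
      rw [mulVec_mulVec, nonsing_inv_mul B hBdet, one_mulVec]
    rw [← h3, h1, mulVec_zero]
  have hnd : (QuadraticMap.polarBilin QB).Nondegenerate := by
    have hleft : ∀ x : κ → F, (∀ y, QuadraticMap.polar QB x y = 0) → x = 0 := by
      intro x hx
      apply hBnd
      intro v
      have := hx v
      rw [hpol] at this
      exact (mul_eq_zero.1 this).resolve_left h2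
    constructor
    · intro x hx
      exact hleft x hx
    · intro y hy
      apply hleft y
      intro x
      rw [QuadraticMap.polar_comm]
      exact hy x
  have hfin : Module.finrank F (κ → F) = 2 * m + 1 := by
    rw [Module.finrank_fintype_fun_eq_card, hκ]
  obtain ⟨b, hc, hxe, hQef, hef, hee⟩ := Cfsg.Agent.S2618.result hfin QB hnd
  obtain ⟨c, hcdef⟩ : ∃ c, c = QB (b (Sum.inl ())) := ⟨_, rfl⟩
  have hc0 : c ≠ 0 := by rw [hcdef]; exact hc
  let w : Unit ⊕ (Fin m ⊕ Fin m) → Fˣ := fun k =>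
    match k with
    | Sum.inr (Sum.inl _) => Units.mk0 c hc0
    | _ => 1
  let b₁ : Module.Basis (Unit ⊕ (Fin m ⊕ Fin m)) F (κ → F) := b.unitsSMul w
  have hb₁ : ∀ k, b₁ k = (w k : F) • b k := fun k => by
    show (b.unitsSMul w) k = _
    rw [Module.Basis.unitsSMul_apply]
    rfl
  let Q₁ : QuadraticForm F (κ → F) := c⁻¹ • QB
  have hQ₁ : ∀ v, Q₁ v = c⁻¹ * QB v := fun v => rfl
  have hpolQ₁ : ∀ u v, QuadraticMap.polar Q₁ u v = c⁻¹ * QuadraticMap.polar QB u v := by
    intro u v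
    unfold QuadraticMap.polar
    rw [hQ₁, hQ₁, hQ₁]
    ring
  let b₀ : Module.Basis (Unit ⊕ (Fin m ⊕ Fin m)) F (Unit ⊕ (Fin m ⊕ Fin m) → F) :=
    Pi.basisFun F (Unit ⊕ (Fin m ⊕ Fin m))
  have hb₀ : ∀ k, b₀ k = Pi.single k 1 := fun k => Pi.basisFun_apply F _ k
  have hQ1 : ∀ k, Q₁ (b₁ k) = oddQ m F (b₀ k) := by
    intro k
    rw [hb₀, oddQ_single, hb₁, hQ₁, QuadraticMap.map_smul, smul_eq_mul]
    rcases k with ⟨⟩ | k | k
    · show c⁻¹ * ((1 : F) * 1 * QB (b (Sum.inl ()))) = _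
      rw [← hcdef, if_pos rfl, one_mul, one_mul, inv_mul_cancel₀ hc0]
    · rw [(hQef k).1, mul_zero, mul_zero, if_neg (by simp)]
    · rw [(hQef k).2, mul_zero, mul_zero, if_neg (by simp)]
  have hpolself : QuadraticMap.polar QB (b (Sum.inl ())) (b (Sum.inl ())) = 2 * c := by
    rw [QuadraticMap.polar_self, hcdef, two_smul, two_mul]
  have hpol1 : ∀ k l, QuadraticMap.polar Q₁ (b₁ k) (b₁ l) =
      QuadraticMap.polar (oddQ m F) (b₀ k) (b₀ l) := by
    intro k l
    rw [hb₀, hb₀, oddQ_polar_single, hpolQ₁, hb₁, hb₁, QuadraticMap.polar_smul_left,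
      QuadraticMap.polar_smul_right, smul_eq_mul, smul_eq_mul]
    rcases k with ⟨⟩ | k | k <;> rcases l with ⟨⟩ | l | l
    · show c⁻¹ * ((1 : F) * ((1 : F) * _)) = 2
      rw [hpolself, one_mul, one_mul, mul_comm 2 c, ← mul_assoc, inv_mul_cancel₀ hc0, one_mul]
    · rw [(hxe l).1]; simp [gramP]
    · rw [(hxe l).2]; simp [gramP]
    · rw [QuadraticMap.polar_comm, (hxe k).1]; simp [gramP]
    · rw [(hee k l).1]; simp [gramP]
    · show c⁻¹ * (c * ((1 : F) * _)) = _
      rw [hef k l, one_mul, ← mul_assoc, inv_mul_cancel₀ hc0, one_mul]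
      simp [gramP]
    · rw [QuadraticMap.polar_comm, (hxe k).2]; simp [gramP]
    · show c⁻¹ * ((1 : F) * (c * _)) = _
      rw [QuadraticMap.polar_comm, hef l k, one_mul, ← mul_assoc, inv_mul_cancel₀ hc0, one_mul]
      simp [gramP, eq_comm]
    · rw [(hee k l).2]; simp [gramP]
  let T : (κ → F) ≃ₗ[F] (Unit ⊕ (Fin m ⊕ Fin m) → F) := b₁.equiv b₀ (Equiv.refl _)
  have hT : ∀ v, oddQ m F (T v) = Q₁ v :=
    Cfsg.Agent.Lib.Helper37.OrthIso.isometry_of_bases Q₁ (oddQ m F) b₁ b₀ hQ1 hpol1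
  have hQBM : ∀ v, QB (M *ᵥ v) = QB v := by
    intro v
    rw [hQB, hQB]
    have h1 : (M *ᵥ v) ⬝ᵥ B *ᵥ (M *ᵥ v) = v ⬝ᵥ (Mᵀ * B * M) *ᵥ v := by
      rw [← mulVec_mulVec, ← mulVec_mulVec, dotProduct_mulVec v Mᵀ, vecMul_transpose]
    rw [h1, hinv]
  let φ : Module.End F (κ → F) := Matrix.toLin' M
  let gl : Module.End F (Unit ⊕ (Fin m ⊕ Fin m) → F) := T.conj φ
  have hgl_app : ∀ u, gl u = T (M *ᵥ (T.symm u)) := fun u => by
    show T (φ (T.symm u)) = _
    rw [Matrix.toLin'_apply]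
  have hglQ : ∀ u, oddQ m F (gl u) = oddQ m F u := by
    intro u
    rw [hgl_app, hT, hQ₁, hQBM, ← hQ₁, ← hT, LinearEquiv.apply_symm_apply]
  have hφr : φ ^ r = 1 := by
    show (Matrix.toLin' M) ^ r = 1
    rw [← Matrix.toLin'_pow, hM, Matrix.toLin'_one]
    rfl
  have hglr : gl ^ r = 1 := by
    have h1 : gl = T.conjRingEquiv φ := rfl
    rw [h1, ← map_pow, hφr, map_one]
  let G : Matrix (Unit ⊕ (Fin m ⊕ Fin m)) (Unit ⊕ (Fin m ⊕ Fin m)) F := LinearMap.toMatrix' gl
  have hGr : G ^ r = 1 := by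
    have h1 : G = LinearMap.toMatrixAlgEquiv' gl := rfl
    rw [h1, ← map_pow, hglr, map_one]
  obtain ⟨r', hr'⟩ : ∃ r', r = r' + 1 := ⟨r - 1, by omega⟩
  have hG1 : G * G ^ r' = 1 := by rw [← pow_succ', ← hr', hGr]
  have hG2 : G ^ r' * G = 1 := by rw [← pow_succ, ← hr', hGr]
  let g : GL (Unit ⊕ (Fin m ⊕ Fin m)) F := ⟨G, G ^ r', hG1, hG2⟩
  have hGapp : ∀ u, G *ᵥ u = gl u := fun u => LinearMap.toMatrix'_mulVec gl u
  refine ⟨g, ?_, ?_, ?_⟩
  · intro u v
    show Cfsg.quadFormOdd m F (G *ᵥ u) = Cfsg.quadFormOdd m F u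
    rw [← oddQ_coe, hGapp]
    exact hglQ u
  · apply Units.ext
    rw [Units.val_pow_eq_pow_val, Units.val_one]
    exact hGr
  · show G.charpoly = M.charpoly
    have h1 : G = LinearMap.toMatrix (Pi.basisFun F _) (Pi.basisFun F _) gl := by
      rw [LinearMap.toMatrix_eq_toMatrix']
    rw [h1, LinearMap.charpoly_toMatrix, LinearEquiv.charpoly_conj, Matrix.charpoly_toLin']

end model

section model1
variable {F : Type*} [Field F] [Fintype F]

/-- a symmetric-form model for a self-dual polynomial whose irreducible factors divide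
`X ^ r - 1`, `r` an odd prime different from the characteristic -/
theorem exists_model (N r : ℕ) (hr : r.Prime) (hr2 : r ≠ 2) (hrF : (r : F) ≠ 0)
    (f : F[X]) (hf : f.Monic) (hdeg : f.natDegree = N)
    (hfac : ∀ l : F[X], l.Monic → Irreducible l → l ∣ f → l ∣ X ^ r - 1)
    (hdual : rdual f = f) :
    ∃ (e d : ℕ) (M B : Matrix (Fin e ⊕ Fin d) (Fin e ⊕ Fin d) F), e + d = N ∧ Bᵀ = B ∧
      IsUnit B.det ∧ Mᵀ * B * M = B ∧ M ^ r = 1 ∧ M.charpoly = f := by
  classical
  have hrd1 : rdual (1 : F[X]) = 1 := by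
    unfold rdual
    rw [coeff_one_zero, inv_one, C_1, one_mul, ← C_1, reverse_C]
  have hf0 : f ≠ 0 := hf.ne_zero
  obtain ⟨f', hff', hnd⟩ := exists_eq_pow_rootMultiplicity_mul_and_not_dvd f hf0 (1 : F)
  set e := rootMultiplicity (1 : F) f with he
  rw [C_1] at hff' hnd
  have hXm : ((X - 1 : F[X]) ^ e).Monic := by
    have := (monic_X_sub_C (1 : F)).pow e
    rwa [C_1] at this
  have hf'mon : f'.Monic := by
    rw [hff'] at hf
    exact hXm.of_mul_monic_left hf
  obtain ⟨d, hd⟩ : ∃ d, d = f'.natDegree := ⟨_, rfl⟩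
  have hXdeg : ((X - 1 : F[X]) ^ e).natDegree = e := by
    have h1 : (X - 1 : F[X]) = X - C 1 := by rw [C_1]
    rw [h1, (monic_X_sub_C (1 : F)).natDegree_pow, natDegree_X_sub_C, mul_one]
  have hdeg' : e + d = N := by
    rw [← hdeg, hff', hXm.natDegree_mul hf'mon, hd, hXdeg]
  have hf'dual : rdual f' = f' := by
    have h1 : rdual f = (X - 1) ^ e * rdual f' := by
      conv_lhs => rw [hff']
      rw [rdual_mul, dual_pow rdual hrd1 rdual_mul, rdual_X_sub_one]
    rw [hdual] at h1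
    conv_lhs at h1 => rw [hff']
    exact (mul_left_cancel₀ hXm.ne_zero h1).symm
  have hf'fac : ∀ l : F[X], l.Monic → Irreducible l → l ∣ f' → l ∣ X ^ r - 1 := by
    intro l hl hirr hd'
    apply hfac l hl hirr
    rw [hff']
    exact Dvd.dvd.mul_left hd' _
  obtain ⟨A, hAss, hAchar, hkill⟩ := exists_matrix_semisimple_charpoly_kill d f' hf'mon hd.symm
  have hAr : A ^ r = 1 := by
    have h1 := hkill (X ^ r - 1) hf'fac
    simp only [map_sub, map_pow, aeval_X, map_one] at h1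
    exact sub_eq_zero.mp h1
  obtain ⟨Ai, hAi⟩ : ∃ Ai : Matrix (Fin d) (Fin d) F, Ai = A ^ (r - 1) := ⟨_, rfl⟩
  have hAAi : A * Ai = 1 := by rw [hAi, ← pow_succ', Nat.sub_add_cancel hr.pos, hAr]
  have hAiA : Ai * A = 1 := mul_eq_one_comm.1 hAAi
  have hAir : Ai ^ r = 1 := by rw [hAi, ← pow_mul, mul_comm, pow_mul, hAr, one_pow]
  have hcommA : A * Ai = Ai * A := by rw [hAAi, hAiA]
  -- `1` is not an eigenvalue
  have hinj1 : ∀ x, A *ᵥ x = x → x = 0 := by
    intro x hx
    have hcop : IsCoprime (X - 1 : F[X]) f' := by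
      have hirr : Irreducible (X - 1 : F[X]) := by
        have := irreducible_X_sub_C (1 : F)
        rwa [C_1] at this
      exact (Irreducible.coprime_iff_not_dvd hirr).2 hnd
    obtain ⟨u, v, huv⟩ := hcop
    have h1 : aeval A (u * (X - 1) + v * f') = 1 := by rw [huv, map_one]
    have h2 : aeval A f' = 0 := by rw [← hAchar]; exact aeval_self_charpoly A
    rw [map_add, map_mul, map_mul, h2, mul_zero, add_zero, map_sub, aeval_X, map_one] at h1
    have h3 : (aeval A u * (A - 1)) *ᵥ x = x := by rw [h1, one_mulVec]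
    rw [← mulVec_mulVec, sub_mulVec, one_mulVec, hx, sub_self, mulVec_zero] at h3
    exact h3.symm
  have hinj : ∀ x, A *ᵥ x = Ai *ᵥ x → x = 0 := by
    intro x hx
    apply hinj1
    have h2 : (A ^ 2) *ᵥ x = x := by
      rw [pow_two, ← mulVec_mulVec, hx, mulVec_mulVec, hAAi, one_mulVec]
    obtain ⟨j, hj⟩ : ∃ j, r = 2 * j + 1 := by
      rcases hr.eq_two_or_odd with h | h
      · exact absurd h hr2
      · exact ⟨r / 2, by omega⟩
    have h3 : ∀ j : ℕ, (A ^ (2 * j)) *ᵥ x = x := by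
      intro j
      induction j with
      | zero => simp
      | succ j ih =>
        rw [mul_add, mul_one, pow_add, ← mulVec_mulVec, h2, ih]
    have h4 : (A ^ r) *ᵥ x = A *ᵥ x := by
      rw [hj, pow_succ', ← mulVec_mulVec, h3]
    rw [hAr, one_mulVec] at h4
    exact h4.symm
  have hAiTss : Module.End.IsSemisimple (Matrix.toLin' Aiᵀ) := by
    apply isSemisimple_toLin'_of_pow_eq_one Aiᵀ r hrF
    rw [← transpose_pow, hAir, transpose_one]
  have hAdet : IsUnit A.det := by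
    have h2 := congrArg det hAAi
    rw [det_mul, det_one] at h2
    exact IsUnit.of_mul_eq_one _ h2
  have hAiTchar : Aiᵀ.charpoly = A.charpoly := by
    rw [charpoly_transpose, ← Matrix.inv_eq_right_inv hAAi, charpoly_inv A hAdet, hAchar, hf'dual]
  obtain ⟨P, hP⟩ := exists_gl_conj_of_charpoly_eq A Aiᵀ hAss hAiTss hAiTchar.symm
  have hPdet : IsUnit (P : Matrix (Fin d) (Fin d) F).det :=
    (Matrix.isUnit_iff_isUnit_det _).1 P.isUnit
  have hinv : Aᵀ * (P : Matrix (Fin d) (Fin d) F) * A = (P : Matrix (Fin d) (Fin d) F) := by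
    rw [Matrix.mul_assoc, hP, ← Matrix.mul_assoc, ← transpose_mul, hAiA, transpose_one,
      Matrix.one_mul]
  obtain ⟨Q', hQ'skew, hQ'alt, hQ'det, hQ'inv⟩ :=
    exists_alternating_of_invariant A Ai _ hAAi hPdet hinv hinj
  -- the symmetric form
  have h1 : Aᵀ * Q' = Q' * Ai := by
    calc Aᵀ * Q' = Aᵀ * Q' * (A * Ai) := by rw [hAAi, Matrix.mul_one]
      _ = (Aᵀ * Q' * A) * Ai := by simp only [Matrix.mul_assoc]
      _ = Q' * Ai := by rw [hQ'inv]
  have h2 : Aiᵀ * Q' = Q' * A := by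
    calc Aiᵀ * Q' = Aiᵀ * (Aᵀ * Q' * A) := by rw [hQ'inv]
      _ = (A * Ai)ᵀ * Q' * A := by rw [transpose_mul]; simp only [Matrix.mul_assoc]
      _ = Q' * A := by rw [hAAi, transpose_one, Matrix.one_mul]
  obtain ⟨S', hS'⟩ : ∃ S', S' = Q' * (A - Ai) := ⟨_, rfl⟩
  have hS'symm : S'ᵀ = S' := by
    rw [hS', transpose_mul, transpose_sub, hQ'skew, Matrix.sub_mul, Matrix.mul_neg, Matrix.mul_neg,
      h1, h2, Matrix.mul_sub]
    abel
  have hAmAi : IsUnit (A - Ai).det := by
    rw [← Matrix.isUnit_iff_isUnit_det, ← Matrix.mulVec_injective_iff_isUnit]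
    intro x y hxy
    have : (A - Ai) *ᵥ (x - y) = 0 := by rw [mulVec_sub, hxy, sub_self]
    rw [sub_mulVec, sub_eq_zero] at this
    exact sub_eq_zero.1 (hinj _ this)
  have hS'det : IsUnit S'.det := by
    rw [hS', det_mul]
    exact hQ'det.mul hAmAi
  have hS'inv : Aᵀ * S' * A = S' := by
    rw [hS']
    calc Aᵀ * (Q' * (A - Ai)) * A = (Aᵀ * Q') * ((A - Ai) * A) := by simp only [Matrix.mul_assoc]
      _ = Q' * (Ai * ((A - Ai) * A)) := by rw [h1]; simp only [Matrix.mul_assoc]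
      _ = Q' * (A - Ai) := by
          congr 1
          rw [Matrix.sub_mul, Matrix.mul_sub, ← Matrix.mul_assoc, hAiA,
            Matrix.one_mul, Matrix.mul_one]
  refine ⟨e, d, fromBlocks 1 0 0 A, fromBlocks 1 0 0 S', hdeg', ?_, ?_, ?_, ?_, ?_⟩
  · rw [fromBlocks_transpose, transpose_one, transpose_zero, transpose_zero, hS'symm]
  · rw [det_fromBlocks_zero₁₂, det_one, one_mul]
    exact hS'det
  · rw [fromBlocks_transpose, fromBlocks_multiply, fromBlocks_multiply]
    simp only [transpose_one, transpose_zero, Matrix.mul_zero, Matrix.zero_mul, add_zero, zero_add,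
      Matrix.mul_one]
    rw [hS'inv]
  · rw [fromBlocks_diag_pow, one_pow, hAr, fromBlocks_one]
  · rw [charpoly_fromBlocks_zero₁₂, charpoly_one, hAchar, Fintype.card_fin, hff']

end model1

section general
variable {F : Type*} [Field F] {ι : Type} [Fintype ι] [DecidableEq ι]

/-- the characteristic polynomial of an isometry of a non-degenerate quadratic form is
self-reciprocal -/
theorem rdual_charpoly_of_isometry (Q : QuadraticForm F (ι → F))
    (hQ : (QuadraticMap.polarBilin Q).Nondegenerate) (g : Matrix ι ι F) (hgdet : IsUnit g.det)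
    (hg : ∀ u, Q (g *ᵥ u) = Q u) : rdual g.charpoly = g.charpoly := by
  set Bf : LinearMap.BilinForm F (ι → F) := QuadraticMap.polarBilin Q with hBf
  set B : Matrix ι ι F := LinearMap.BilinForm.toMatrix' Bf with hB
  have hBdet : IsUnit B.det := by
    rw [isUnit_iff_ne_zero, ← Matrix.nondegenerate_iff_det_ne_zero, hB,
      LinearMap.BilinForm.nondegenerate_toMatrix'_iff]
    exact hQ
  have hcomp : Bf.comp (Matrix.toLin' g) (Matrix.toLin' g) = Bf := by
    apply LinearMap.ext₂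
    intro u v
    rw [LinearMap.BilinForm.comp_apply, Matrix.toLin'_apply, Matrix.toLin'_apply]
    show QuadraticMap.polar Q (g *ᵥ u) (g *ᵥ v) = QuadraticMap.polar Q u v
    unfold QuadraticMap.polar
    rw [← mulVec_add, hg, hg, hg]
  have hinv : gᵀ * B * g = B := by
    have := congrArg LinearMap.BilinForm.toMatrix' hcomp
    rw [LinearMap.BilinForm.toMatrix'_comp, LinearMap.toMatrix'_toLin'] at this
    exact this
  -- `g⁻¹ = B⁻¹ gᵀ B`
  have hginv : g⁻¹ = B⁻¹ * gᵀ * B := by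
    apply Matrix.inv_eq_left_inv
    rw [Matrix.mul_assoc, Matrix.mul_assoc, ← Matrix.mul_assoc gᵀ, hinv, nonsing_inv_mul B hBdet]
  rw [← charpoly_inv g hgdet, hginv]
  have hBidet : IsUnit (B⁻¹).det := by
    rw [det_nonsing_inv]
    exact hBdet.ringInverse
  obtain ⟨V, hV⟩ := (Matrix.isUnit_iff_isUnit_det _).2 hBidet
  have h1 : B⁻¹ * gᵀ * B = V.val * gᵀ * (V.val)⁻¹ := by
    rw [hV, Matrix.nonsing_inv_nonsing_inv B hBdet]
  rw [h1, Matrix.charpoly_units_conj, charpoly_transpose]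


/-- conjugacy in the isometry group from conjugacy in `GL` (general index type) -/
theorem isConj_of_GL [Finite F] (Q : QuadraticForm F (ι → F))
    (hQ : (QuadraticMap.polarBilin Q).Nondegenerate) (A B : ↥(Cfsg.isometryGroup F ⇑Q))
    (P : GL ι F) (hPA : (P : Matrix ι ι F) * A.1.1 = B.1.1 * P) (k : ℕ) (hkodd : Odd k)
    (hkF : (k : F) ≠ 0) (hApow : (A.1.1 : Matrix ι ι F) ^ k = 1) : IsConj A B := by
  classical
  have hPi1 : (P : Matrix ι ι F) * (P⁻¹ : (Matrix ι ι F)ˣ).val = 1 := by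
    rw [← Units.val_mul, mul_inv_cancel, Units.val_one]
  have hPi2 : (P⁻¹ : (Matrix ι ι F)ˣ).val * (P : Matrix ι ι F) = 1 := by
    rw [← Units.val_mul, inv_mul_cancel, Units.val_one]
  let π : (ι → F) ≃ₗ[F] (ι → F) :=
    LinearEquiv.ofLinearMap (Matrix.toLin' P.val) (Matrix.toLin' (P⁻¹ : (Matrix ι ι F)ˣ).val)
      (by rw [← Matrix.toLin'_mul, hPi1, Matrix.toLin'_one])
      (by rw [← Matrix.toLin'_mul, hPi2, Matrix.toLin'_one])
  have hπapp : ∀ x, π x = P.val *ᵥ x := fun x => Matrix.toLin'_apply _ x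
  have hAQ : ∀ x, Q (A.1.1 *ᵥ x) = Q x := fun x => A.2 x x
  have hBQ : ∀ x, Q (B.1.1 *ᵥ x) = Q x := fun x => B.2 x x
  obtain ⟨g, hgQ, hga⟩ := Cfsg.Agent.Lib.Helper37.OrthConj.exists_isometry_conj Q hQ
    (Matrix.toLin' A.1.1) (Matrix.toLin' B.1.1)
    (fun x => by rw [Matrix.toLin'_apply]; exact hAQ x)
    (fun x => by rw [Matrix.toLin'_apply]; exact hBQ x) π
    (fun x => by
      rw [hπapp, hπapp, Matrix.toLin'_apply, Matrix.toLin'_apply, Matrix.mulVec_mulVec,
        Matrix.mulVec_mulVec, hPA])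
    k hkodd hkF
    (fun x => by rw [← Matrix.toLin'_pow, hApow, Matrix.toLin'_one, LinearMap.id_apply])
  have hG1 : LinearMap.toMatrix' (g : (ι → F) →ₗ[F] (ι → F)) *
      LinearMap.toMatrix' (g.symm : (ι → F) →ₗ[F] (ι → F)) = 1 := by
    rw [← LinearMap.toMatrix'_comp]
    simp
  have hG2 : LinearMap.toMatrix' (g.symm : (ι → F) →ₗ[F] (ι → F)) *
      LinearMap.toMatrix' (g : (ι → F) →ₗ[F] (ι → F)) = 1 := by
    rw [← LinearMap.toMatrix'_comp]
    simp
  let G : Matrix.GeneralLinearGroup ι F :=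
    ⟨LinearMap.toMatrix' (g : (ι → F) →ₗ[F] (ι → F)),
      LinearMap.toMatrix' (g.symm : (ι → F) →ₗ[F] (ι → F)), hG1, hG2⟩
  have hGapp : ∀ x, G.1 *ᵥ x = g x := by
    intro x
    show LinearMap.toMatrix' (g : (ι → F) →ₗ[F] (ι → F)) *ᵥ x = g x
    rw [LinearMap.toMatrix'_mulVec]
    rfl
  have hGmem : G ∈ Cfsg.isometryGroup F ⇑Q := by
    intro u v
    show Q (G.1 *ᵥ u) = Q u
    rw [hGapp, hgQ]
  rw [isConj_iff]
  refine ⟨⟨G, hGmem⟩, ?_⟩
  rw [mul_inv_eq_iff_eq_mul]
  apply Subtype.ext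
  apply Units.ext
  show G.1 * A.1.1 = B.1.1 * G.1
  apply Matrix.toLin'.injective
  apply LinearMap.ext
  intro x
  rw [Matrix.toLin'_apply, Matrix.toLin'_apply, ← Matrix.mulVec_mulVec, ← Matrix.mulVec_mulVec,
    hGapp, hGapp]
  have := hga x
  rwa [Matrix.toLin'_apply, Matrix.toLin'_apply] at this

/-- variant of `isConj_of_GL` for a bare function equal to a quadratic form -/
theorem isConj_of_GL' [Finite F] (Qf : (ι → F) → F) (Q : QuadraticForm F (ι → F))
    (hQf : ⇑Q = Qf) (hQ : (QuadraticMap.polarBilin Q).Nondegenerate)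
    (A B : ↥(Cfsg.isometryGroup F Qf)) (P : GL ι F)
    (hPA : (P : Matrix ι ι F) * A.1.1 = B.1.1 * P) (k : ℕ) (hkodd : Odd k) (hkF : (k : F) ≠ 0)
    (hApow : (A.1.1 : Matrix ι ι F) ^ k = 1) : IsConj A B := by
  subst hQf
  exact isConj_of_GL Q hQ A B P hPA k hkodd hkF hApow

end general

section final
variable {F : Type*} [Field F] [Fintype F]

/-- every self-reciprocal monic polynomial of degree `2m+1` whose irreducible factors divide
`X ^ r - 1` is the characteristic polynomial of an isometry of order dividing `r` of the standard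
odd-dimensional form -/
theorem exists_isometry_charpoly_odd (h2 : (2 : F) ≠ 0) (m r : ℕ) (hr : r.Prime) (hr2 : r ≠ 2)
    (hrF : (r : F) ≠ 0) (f : F[X]) (hf : f.Monic) (hdeg : f.natDegree = 2 * m + 1)
    (hfac : ∀ l : F[X], l.Monic → Irreducible l → l ∣ f → l ∣ X ^ r - 1)
    (hdual : rdual f = f) :
    ∃ g : GL (Unit ⊕ (Fin m ⊕ Fin m)) F, g ∈ Cfsg.isometryGroup F (Cfsg.quadFormOdd m F) ∧
      g ^ r = 1 ∧ (g : Matrix (Unit ⊕ (Fin m ⊕ Fin m)) (Unit ⊕ (Fin m ⊕ Fin m)) F).charpoly =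
        f := by
  obtain ⟨e, d, M, B, hed, hBs, hBd, hinv, hMr, hMc⟩ :=
    exists_model (2 * m + 1) r hr hr2 hrF f hf hdeg hfac hdual
  obtain ⟨g, hg1, hg2, hg3⟩ := exists_isometry_of_model h2 m (κ := Fin e ⊕ Fin d)
    (by rw [Fintype.card_sum, Fintype.card_fin, Fintype.card_fin, hed]) M B hBs hBd hinv r
    hr.pos hMr
  exact ⟨g, hg1, hg2, hg3.trans hMc⟩

end final

end Cfsg.Agent.Lib.Helper37.OrthOdd
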