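/-
helper37 library: Sylow r-subgroups of Sp_{2n}(q) for odd primes r > n, r ∤ q.
Builds on helper40's `SylowTorus` (torus construction for GL) and helper5's `card_symplecticGroup`.
-/
import Mathlib
import Cfsg.Agent.Lib.Helper40.SylowTorus
import Cfsg.Agent.Lib.Helper5.SymplecticOrder

set_option autoImplicit false

namespace Cfsg.Agent.Lib.Helper37.SpSylow

open Cfsg.Agent.Lib.Helper40

section arith
open Finset

variable {r : ℕ} [hr : Fact r.Prime] {q : ℕ}

theorem orderOf_pos_of_not_dvd (hrq : ¬ r ∣ q) : 1 ≤ orderOf (q : ZMod r) := by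
  have hrp : r.Prime := hr.out
  have hunit : IsUnit (q : ZMod r) := by
    rw [ZMod.isUnit_iff_coprime]
    exact ((Nat.Prime.coprime_iff_not_dvd hrp).2 hrq).symm
  have : IsOfFinOrder (q : ZMod r) := by
    obtain ⟨u, hu⟩ := hunit
    rw [← hu, Units.isOfFinOrder_val]
    exact isOfFinOrder_of_finite u
  exact this.orderOf_pos

/-- `v_r(q^(dk) - 1) = v_r(q^d - 1)` when `r ∣ q^d - 1` and `r ∤ k`. -/
theorem val_pow_mul' (hq : 2 ≤ q) (d k : ℕ) (hd : 1 ≤ d) (hdvd : r ∣ q ^ d - 1) (hk : 1 ≤ k)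
    (hkr : ¬ r ∣ k) :
    padicValNat r (q ^ (d * k) - 1) = padicValNat r (q ^ d - 1) := by
  have hx : 1 ≤ q ^ d := Nat.one_le_pow _ _ (by omega)
  have hx2 : 2 ≤ q ^ d := le_trans hq (Nat.le_self_pow (by omega) q)
  rw [pow_mul, ← geom_aux (q ^ d) k hx]
  have hS : ¬ r ∣ ∑ i ∈ range k, (q ^ d) ^ i := by
    rw [← ZMod.natCast_eq_zero_iff]
    have h1 : ((q ^ d : ℕ) : ZMod r) = 1 := by
      have := (ZMod.natCast_eq_zero_iff (q ^ d - 1) r).2 hdvd
      rw [Nat.cast_sub hx, sub_eq_zero] at this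
      simpa using this
    push_cast at h1 ⊢
    simp only [h1, one_pow, sum_const, card_range, nsmul_eq_mul, mul_one]
    rw [ZMod.natCast_eq_zero_iff]
    exact hkr
  have hS0 : (∑ i ∈ range k, (q ^ d) ^ i) ≠ 0 := fun h => hS (h ▸ dvd_zero r)
  rw [padicValNat.mul (by omega) hS0, padicValNat.eq_zero_of_not_dvd hS, add_zero]

/-- valuation of a single factor `q^j - 1`. -/
theorem val_factor (hq : 2 ≤ q) (hrq : ¬ r ∣ q) (j : ℕ) (hj : 1 ≤ j)
    (hjr : ∀ k, j = orderOf (q : ZMod r) * k → ¬ r ∣ k) :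
    (q ^ j - 1).factorization r =
      if orderOf (q : ZMod r) ∣ j then padicValNat r (q ^ orderOf (q : ZMod r) - 1) else 0 := by
  have hrp : r.Prime := hr.out
  have hq1 : 1 ≤ q := by omega
  have hd1 := orderOf_pos_of_not_dvd (r := r) hrq
  rw [Nat.factorization_def _ hrp]
  split_ifs with hdvd
  · obtain ⟨k, hk⟩ := hdvd
    have hk1 : 1 ≤ k := by
      rcases Nat.eq_zero_or_pos k with h | h
      · rw [h, mul_zero] at hk; omega
      · exact h
    rw [hk]
    exact val_pow_mul' hq _ k hd1 ((dvd_pow_sub_one_iff hq1 _).2 dvd_rfl) hk1 (hjr k hk)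
  · exact padicValNat.eq_zero_of_not_dvd (fun h => hdvd ((dvd_pow_sub_one_iff hq1 _).1 h))

/-- The `r`-adic valuation of `|GL_n(q)|`, under the weaker hypothesis `n / d < r`. -/
theorem val_GL_card' (hq : 2 ≤ q) (hrq : ¬ r ∣ q) (n : ℕ) (hnr : n / orderOf (q : ZMod r) < r) :
    (∏ i : Fin n, (q ^ n - q ^ (i : ℕ))).factorization r =
      (n / orderOf (q : ZMod r)) * padicValNat r (q ^ orderOf (q : ZMod r) - 1) := by
  set d := orderOf (q : ZMod r) with hd
  have hq1 : 1 ≤ q := by omega
  have hrp : r.Prime := hr.out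
  have hd1 : 1 ≤ d := orderOf_pos_of_not_dvd hrq
  rw [Fin.prod_univ_eq_prod_range (fun i => q ^ n - q ^ i) n]
  have hne : ∀ i ∈ range n, q ^ n - q ^ i ≠ 0 := by
    intro i hi
    rw [mem_range] at hi
    have : q ^ i < q ^ n := Nat.pow_lt_pow_right (by omega) hi
    omega
  rw [Nat.factorization_prod_apply hne]
  have hterm : ∀ i ∈ range n, (q ^ n - q ^ i).factorization r =
      if d ∣ n - i then padicValNat r (q ^ d - 1) else 0 := by
    intro i hi
    rw [mem_range] at hi
    have h1 : q ^ n - q ^ i = q ^ i * (q ^ (n - i) - 1) := by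
      rw [Nat.mul_sub, mul_one, ← pow_add, Nat.add_sub_cancel' hi.le]
    have h2 : q ^ (n - i) - 1 ≠ 0 := by
      have : 1 < q ^ (n - i) := Nat.one_lt_pow (by omega) (by omega)
      omega
    rw [h1, Nat.factorization_mul (by positivity) h2, Finsupp.add_apply,
      Nat.factorization_eq_zero_of_not_dvd (fun h => hrq (hrp.dvd_of_dvd_pow h)), zero_add]
    apply val_factor hq hrq (n - i) (by omega)
    intro k hk hrk
    have hk1 : 1 ≤ k := by
      rcases Nat.eq_zero_or_pos k with h | h
      · rw [h, mul_zero] at hk; omega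
      · exact h
    have hkr : r ≤ k := Nat.le_of_dvd hk1 hrk
    have hkn : k ≤ n / d := by
      rw [Nat.le_div_iff_mul_le (by omega)]
      calc k * d = d * k := mul_comm _ _
        _ = n - i := hk.symm
        _ ≤ n := Nat.sub_le _ _
    omega
  rw [sum_congr rfl hterm, sum_ite, sum_const_zero, add_zero, sum_const, smul_eq_mul]
  congr 1
  rw [← Nat.card_multiples n d]
  apply card_bij (fun i _ => n - 1 - i)
  · intro i hi
    rw [mem_filter, mem_range] at hi ⊢
    refine ⟨by omega, ?_⟩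
    have : n - 1 - i + 1 = n - i := by omega
    rw [this]; exact hi.2
  · intro i hi j hj h
    rw [mem_filter, mem_range] at hi hj
    omega
  · intro j hj
    rw [mem_filter, mem_range] at hj
    refine ⟨n - 1 - j, ?_, by omega⟩
    rw [mem_filter, mem_range]
    refine ⟨by omega, ?_⟩
    have : n - (n - 1 - j) = j + 1 := by omega
    rw [this]; exact hj.2

/-- The `r`-adic valuation of `|Sp_{2n}(q)|` for an odd prime `r > n`, `r ∤ q`. -/
theorem val_Sp_card (hq : 2 ≤ q) (hrq : ¬ r ∣ q) (hr2 : r ≠ 2) (n : ℕ) (hnr : n < r) :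
    (q ^ (n ^ 2) * ∏ i ∈ range n, (q ^ (2 * (i + 1)) - 1)).factorization r =
      #{i ∈ Icc 1 n | orderOf (q : ZMod r) ∣ 2 * i} *
        padicValNat r (q ^ orderOf (q : ZMod r) - 1) := by
  set d := orderOf (q : ZMod r) with hd
  have hq1 : 1 ≤ q := by omega
  have hrp : r.Prime := hr.out
  have hne : ∀ i ∈ range n, q ^ (2 * (i + 1)) - 1 ≠ 0 := by
    intro i _
    have : 1 < q ^ (2 * (i + 1)) := Nat.one_lt_pow (by omega) (by omega)
    omega
  have hne' : ∏ i ∈ range n, (q ^ (2 * (i + 1)) - 1) ≠ 0 := Finset.prod_ne_zero_iff.2 hne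
  rw [Nat.factorization_mul (by positivity) hne', Finsupp.add_apply,
    Nat.factorization_eq_zero_of_not_dvd (fun h => hrq (hrp.dvd_of_dvd_pow h)), zero_add,
    Nat.factorization_prod_apply hne]
  have hterm : ∀ i ∈ range n, (q ^ (2 * (i + 1)) - 1).factorization r =
      if d ∣ 2 * (i + 1) then padicValNat r (q ^ d - 1) else 0 := by
    intro i hi
    rw [mem_range] at hi
    apply val_factor hq hrq (2 * (i + 1)) (by omega)
    intro k hk hrk
    have h1 : r ∣ 2 * (i + 1) := by rw [hk]; exact Dvd.dvd.mul_left hrk _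
    rcases (Nat.Prime.dvd_mul hrp).1 h1 with h2 | h2
    · exact hr2 ((Nat.prime_dvd_prime_iff_eq hrp Nat.prime_two).1 h2)
    · have := Nat.le_of_dvd (by omega) h2
      omega
  rw [sum_congr rfl hterm, sum_ite, sum_const_zero, add_zero, sum_const, smul_eq_mul]
  congr 1
  apply card_bij (fun i _ => i + 1)
  · intro i hi
    rw [mem_filter, mem_range] at hi
    rw [mem_filter, mem_Icc]
    exact ⟨⟨by omega, by omega⟩, hi.2⟩
  · intro i _ j _ h
    omega
  · intro j hj
    rw [mem_filter, mem_Icc] at hj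
    refine ⟨j - 1, ?_, by omega⟩
    rw [mem_filter, mem_range]
    refine ⟨by omega, ?_⟩
    have : j - 1 + 1 = j := by omega
    rw [this]; exact hj.2

/-- count of `i ∈ [1,n]` with `d ∣ 2i`, `d` even. -/
theorem count_even (n d : ℕ) (hd : Even d) (hd1 : 1 ≤ d) :
    #{i ∈ Icc 1 n | d ∣ 2 * i} = (2 * n) / d := by
  obtain ⟨e, he⟩ := hd
  have he1 : 1 ≤ e := by omega
  have h2 : d = 2 * e := by omega
  have : (2 * n) / d = n / e := by
    rw [h2, Nat.mul_div_mul_left _ _ (by omega : 0 < 2)]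
  rw [this, ← Nat.Ioc_filter_dvd_card_eq_div n e]
  congr 1
  ext i
  simp only [mem_filter, mem_Icc, mem_Ioc]
  rw [h2, Nat.mul_dvd_mul_iff_left (by omega : 0 < 2)]
  constructor
  · rintro ⟨⟨h1, h2⟩, h3⟩; exact ⟨⟨by omega, h2⟩, h3⟩
  · rintro ⟨⟨h1, h2⟩, h3⟩; exact ⟨⟨by omega, h2⟩, h3⟩

/-- count of `i ∈ [1,n]` with `d ∣ 2i`, `d` odd. -/
theorem count_odd (n d : ℕ) (hd : Odd d) :
    #{i ∈ Icc 1 n | d ∣ 2 * i} = n / d := by
  rw [← Nat.Ioc_filter_dvd_card_eq_div n d]
  congr 1
  ext i
  simp only [mem_filter, mem_Icc, mem_Ioc]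
  have hcop : Nat.Coprime d 2 := Nat.Coprime.symm (Nat.coprime_two_left.2 hd)
  rw [Nat.Coprime.dvd_mul_left hcop]
  constructor
  · rintro ⟨⟨h1, h2⟩, h3⟩; exact ⟨⟨by omega, h2⟩, h3⟩
  · rintro ⟨⟨h1, h2⟩, h3⟩; exact ⟨⟨by omega, h2⟩, h3⟩

end arith

section gen

/-- If `G` embeds in `H` and the `r`-parts of their orders agree, Sylow `r`-subgroups are
isomorphic. -/
theorem sylow_iso_of_injective {G H : Type*} [Group G] [Group H] [Finite G] [Finite H] {r : ℕ}
    [Fact r.Prime] (f : G →* H) (hf : Function.Injective f)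
    (hval : (Nat.card G).factorization r = (Nat.card H).factorization r)
    (P : Sylow r G) (Q : Sylow r H) :
    Nonempty (↥(P : Subgroup G) ≃* ↥(Q : Subgroup H)) := by
  have e := Subgroup.equivMapOfInjective (P : Subgroup G) f hf
  have hcard : Nat.card ((P : Subgroup G).map f) = r ^ (Nat.card H).factorization r := by
    rw [← Nat.card_congr e.toEquiv, Sylow.card_eq_multiplicity, hval]
  let Q' : Sylow r H := Sylow.ofCard ((P : Subgroup G).map f) hcard
  exact ⟨e.trans (Sylow.equiv Q' Q)⟩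

end gen

open Matrix

section levi

variable {l : Type*} [DecidableEq l] [Fintype l] {F : Type*} [Field F]

theorem levi_mem (g : GL l F) :
    fromBlocks (g : Matrix l l F) 0 0 ((g⁻¹ : GL l F) : Matrix l l F)ᵀ ∈ symplecticGroup l F := by
  rw [SymplecticGroup.mem_iff, Matrix.J, fromBlocks_transpose, fromBlocks_multiply,
    fromBlocks_multiply]
  have h1 : (g : Matrix l l F) * ((g⁻¹ : GL l F) : Matrix l l F) = 1 := by
    rw [← Units.val_mul, mul_inv_cancel, Units.val_one]
  have h2 : (((g⁻¹ : GL l F) : Matrix l l F))ᵀ * (g : Matrix l l F)ᵀ = 1 := by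
    rw [← Matrix.transpose_mul, h1, Matrix.transpose_one]
  simp only [Matrix.zero_mul, Matrix.mul_zero, add_zero, zero_add, Matrix.mul_one,
    Matrix.neg_mul, Matrix.mul_neg, h1, h2, neg_zero, Matrix.transpose_zero,
    Matrix.transpose_transpose]

/-- The Levi embedding `GL_n → Sp_{2n}`, `g ↦ diag(g, g⁻ᵀ)`. -/
noncomputable def leviHom : GL l F →* symplecticGroup l F where
  toFun g := ⟨fromBlocks (g : Matrix l l F) 0 0 ((g⁻¹ : GL l F) : Matrix l l F)ᵀ, levi_mem g⟩
  map_one' := by
    apply Subtype.ext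
    simp [fromBlocks_one]
  map_mul' g h := by
    apply Subtype.ext
    change fromBlocks _ _ _ _ = fromBlocks _ _ _ _ * fromBlocks _ _ _ _
    rw [fromBlocks_multiply]
    simp [_root_.mul_inv_rev, Matrix.transpose_mul]

theorem leviHom_injective : Function.Injective (leviHom (l := l) (F := F)) := by
  intro g h hgh
  have := congrArg (fun x : symplecticGroup l F => (x : Matrix (l ⊕ l) (l ⊕ l) F).toBlocks₁₁) hgh
  apply Units.ext
  simpa [leviHom] using this

/-- The inclusion `Sp_{2n} → GL_{2n}` (reindexed). -/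
noncomputable def toGL (n : ℕ) : symplecticGroup (Fin n) F →* GL (Fin (2 * n)) F :=
  (Units.mapEquiv (Matrix.reindexAlgEquiv F F
    (finSumFinEquiv.trans (finCongr (two_mul n).symm))).toMulEquiv).toMonoidHom.comp
    (MonoidHom.toHomUnits (symplecticGroup (Fin n) F).subtype)

theorem toGL_injective (n : ℕ) : Function.Injective (toGL (F := F) n) := by
  unfold toGL
  rw [MonoidHom.coe_comp]
  refine Function.Injective.comp (MulEquiv.injective _) ?_
  intro a b hab
  have := congrArg Units.val hab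
  simp only [MonoidHom.coe_toHomUnits, Submonoid.coe_subtype] at this
  exact Subtype.ext this

end levi

open scoped MatrixGroups

/-- **Sylow `r`-subgroups of `Sp_{2n}(q)`**, `r` odd, `r > n`, `r ∤ q`. -/
theorem Sp_sylow {F : Type*} [Field F] [Fintype F] {q : ℕ} (hq : Fintype.card F = q) (n : ℕ)
    (r : ℕ) [Fact r.Prime] (hr2 : r ≠ 2) (hrn : n < r) (hrq : ¬ r ∣ q)
    (P : Sylow r ↥(Matrix.symplecticGroup (Fin n) F)) :
    Nonempty (↥(P : Subgroup ↥(Matrix.symplecticGroup (Fin n) F)) ≃*
      (Fin ((Finset.Icc 1 n).filter (fun i => orderOf (q : ZMod r) ∣ 2 * i)).card →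
        Multiplicative (ZMod (r ^ padicValNat r (q ^ orderOf (q : ZMod r) - 1))))) := by
  have hq2 : 2 ≤ q := by rw [← hq]; exact Fintype.one_lt_card
  have hrp : r.Prime := Fact.out
  have hd1 : 1 ≤ orderOf (q : ZMod r) := orderOf_pos_of_not_dvd hrq
  have hSp : (Nat.card ↥(Matrix.symplecticGroup (Fin n) F)).factorization r =
      ((Finset.Icc 1 n).filter (fun i => orderOf (q : ZMod r) ∣ 2 * i)).card *
        padicValNat r (q ^ orderOf (q : ZMod r) - 1) := by
    rw [Cfsg.Agent.Lib.Helper5.card_symplecticGroup, hq]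
    exact val_Sp_card hq2 hrq hr2 n hrn
  rcases Nat.even_or_odd (orderOf (q : ZMod r)) with hev | hodd
  · -- d even: P is a Sylow subgroup of GL_{2n}(q)
    have hcount := count_even n _ hev hd1
    have hlt : 2 * n / orderOf (q : ZMod r) < r := by
      have hd2 : 2 ≤ orderOf (q : ZMod r) := by
        obtain ⟨e, he⟩ := hev
        omega
      have : 2 * n / orderOf (q : ZMod r) ≤ n := by
        calc 2 * n / orderOf (q : ZMod r) ≤ 2 * n / 2 := Nat.div_le_div_left hd2 (by omega)
          _ = n := by omega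
      omega
    have hGL : (Nat.card (GL (Fin (2 * n)) F)).factorization r =
        (2 * n / orderOf (q : ZMod r)) * padicValNat r (q ^ orderOf (q : ZMod r) - 1) := by
      rw [Matrix.card_GL_field, hq]
      exact val_GL_card' hq2 hrq (2 * n) hlt
    rw [hcount] at hSp ⊢
    obtain ⟨Q⟩ : Nonempty (Sylow r (GL (Fin (2 * n)) F)) := inferInstance
    obtain ⟨e1⟩ := sylow_iso_of_injective (toGL (F := F) n) (toGL_injective n)
      (hSp.trans hGL.symm) P Q
    -- Q is homocyclic by the torus construction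
    obtain ⟨e2⟩ : Nonempty (↥(Q : Subgroup (GL (Fin (2 * n)) F)) ≃*
        (Fin (2 * n / orderOf (q : ZMod r)) →
          Multiplicative (ZMod (r ^ padicValNat r (q ^ orderOf (q : ZMod r) - 1))))) := by
      obtain ⟨p, hp⟩ := CharP.exists F
      have : Fact p.Prime := ⟨CharP.char_is_prime F p⟩
      set d := orderOf (q : ZMod r) with hd
      have : NeZero d := ⟨by omega⟩
      let E := FiniteField.Extension F p d
      set a := (2 * n) / d with ha
      set b := (2 * n) % d with hb
      have hab : a * d + b = 2 * n := Nat.div_add_mod' (2 * n) d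
      have hfr : Module.finrank F E = d := FiniteField.finrank_extension F p d
      have hV : Module.finrank F ((Fin a → E) × (Fin b → F)) = 2 * n := by
        rw [finrank_torus a b d hfr, hab]
      set e := padicValNat r (q ^ d - 1) with he
      have hcardE : Nat.card Eˣ = q ^ d - 1 := by
        rw [Nat.card_units, FiniteField.natCard_extension, Nat.card_eq_fintype_card, hq]
      have hdvd : r ^ e ∣ Nat.card Eˣ := by
        rw [hcardE]; exact pow_padicValNat_dvd
      obtain ⟨f, hf⟩ := cyclic_embed Eˣ (r ^ e) hdvd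
      let χ : (Fin a → Multiplicative (ZMod (r ^ e))) →* GL (Fin (2 * n)) F :=
        (torusGL (F := F) (E := E) a b (2 * n) hV).comp
          (MonoidHom.pi fun i => f.comp (Pi.evalMonoidHom _ i))
      have hχ : Function.Injective χ := by
        refine (torusGL_injective a b (2 * n) hV).comp ?_
        intro x y hxy
        funext i
        apply hf
        exact congrFun hxy i
      apply sylow_iso_of_embedding _ χ hχ
      have hne : NeZero (r ^ e) := ⟨pow_ne_zero _ hrp.ne_zero⟩
      rw [Nat.card_fun, Nat.card_eq_fintype_card (α := Fin a), Fintype.card_fin,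
        Nat.card_congr (Multiplicative.toAdd (α := ZMod (r ^ e))), Nat.card_zmod,
        hGL, ← pow_mul, mul_comm]
    exact ⟨e1.trans e2⟩
  · -- d odd: a Sylow subgroup of the Levi subgroup GL_n(q) is Sylow in Sp_{2n}(q)
    have hcount := count_odd n _ hodd
    rw [hcount] at hSp ⊢
    have hGL : (Nat.card (GL (Fin n) F)).factorization r =
        (n / orderOf (q : ZMod r)) * padicValNat r (q ^ orderOf (q : ZMod r) - 1) := by
      rw [Matrix.card_GL_field, hq]
      exact val_GL_card hq2 hrq n hrn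
    obtain ⟨Q⟩ : Nonempty (Sylow r (GL (Fin n) F)) := inferInstance
    obtain ⟨e1⟩ := sylow_iso_of_injective (leviHom (l := Fin n) (F := F)) leviHom_injective
      (hGL.trans hSp.symm) Q P
    obtain ⟨e2⟩ := GL_sylow hq n r hrn hrq Q
    exact ⟨e1.symm.trans e2⟩

end Cfsg.Agent.Lib.Helper37.SpSylow
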