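import Cfsg.Agent.Lib.Helper37.Suz2B1

/-!
# SUZ2-[B3] (helper37): facts on pure elements
-/

set_option autoImplicit false

namespace Cfsg.Agent.Lib.Helper37.Suz2

open Cfsg.Agent.Lib.Helper19.Suz Cfsg.Agent.Lib.Helper85.Suz2

universe u

variable {P : Type u} [Group P] {Y : Subgroup (MulAut P)}
variable {F : Type} [Field F] [Fintype F] {aZ : P → F} {κ : MulAut P → F}
  {σ : MulAut P → (F ≃+* F)} {c : (F ≃+* F) → P → F}

/-- `aZ` is injective on `Z0 P` -/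
theorem ZCoord.aZ_eq (zc : ZCoord P Y F aZ κ σ) {z w : P} (hz : z ∈ Z0 P) (hw : w ∈ Z0 P)
    (h : aZ z = aZ w) : z = w := by
  have := zc.char2
  have h1 : aZ (z * w) = 0 := by
    rw [zc.aZ_mul z hz w hw, h]
    exact CharTwo.add_self_eq_zero _
  have h2 := zc.aZ_inj (z * w) (Subgroup.mul_mem _ hz hw) h1
  have h3 : w * w = 1 := hw.2
  calc z = z * (w * w) := by rw [h3, mul_one]
    _ = z * w * w := by group
    _ = w := by rw [h2, one_mul]

/-- purity collapses the expansion to one term -/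
theorem CHyp.expand_pure (H : CHyp P Y F aZ κ σ c) {τ : F ≃+* F} {g : P} (hp : IsPure c τ g)
    (a : P) (ha : a ∈ Nsub P) : aZ (a⁻¹ * g⁻¹ * a * g) = c τ g * τ (aZ (a * a)) := by
  classical
  rw [H.expand g a ha]
  rw [Finset.sum_eq_single τ]
  · intro τ' _ hτ'
    rw [hp τ' hτ', zero_mul]
  · intro h
    exact absurd (Finset.mem_univ τ) h

/-- (i-a): an element of `Nsub P` commuting with a pure element (nonzero coordinate) is in `Z0 P` -/
theorem CHyp.pure_cent_N (H : CHyp P Y F aZ κ σ c) {τ : F ≃+* F} {g : P} (hp : IsPure c τ g)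
    (hne : c τ g ≠ 0) (a : P) (ha : a ∈ Nsub P) (hag : a * g = g * a) : a * a = 1 := by
  have h1 := CHyp.expand_pure H hp a ha
  have h2 : a⁻¹ * g⁻¹ * a * g = 1 := by
    calc a⁻¹ * g⁻¹ * a * g = a⁻¹ * g⁻¹ * (a * g) := by group
      _ = a⁻¹ * g⁻¹ * (g * a) := by rw [hag]
      _ = 1 := by group
  rw [h2, ZCoord.aZ_one H.zc] at h1
  have h3 : τ (aZ (a * a)) = 0 := by
    rcases mul_eq_zero.mp h1.symm with h | h
    · exact absurd h hne
    · exact h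
  have h4 : aZ (a * a) = 0 := by
    have := (map_eq_zero_iff τ τ.injective).mp h3
    exact this
  exact H.zc.aZ_inj _ (mem_Nsub.mp ha).1 h4

/-- (i) -/
theorem CHyp.pure_cent (H : CHyp P Y F aZ κ σ c) {τ : F ≃+* F} {g : P} (hp : IsPure c τ g)
    (hne : c τ g ≠ 0) (x : P) (hx : ∀ a ∈ Nsub P, a * x = x * a) (hxg : x * g = g * x) :
    x ∈ Z0 P := by
  have := H.suz.fin
  by_contra hxZ
  have hx2 : x * x ≠ 1 := fun h => hxZ (H.suz.mem_Z0_iff.mpr h)
  obtain ⟨k, hk1, hk2⟩ := exists_pow_involution H.suz.pgrp hx2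
  -- y := x ^ k
  have hyy : x ^ k * x ^ k = (x * x) ^ k := by
    rw [← pow_add, ← two_mul, pow_mul, pow_two]
  have hy2 : x ^ k * x ^ k ≠ 1 := by rw [hyy]; exact hk1
  have hy4 : (x ^ k * x ^ k) * (x ^ k * x ^ k) = 1 := by rw [hyy]; exact hk2
  have hyZ : x ^ k * x ^ k ∈ Z0 P := H.suz.mem_Z0_iff.mpr hy4
  have hyE : ∀ a ∈ Nsub P, a * x ^ k = x ^ k * a := by
    intro a ha
    exact ((Commute.pow_right (hx a ha) k : Commute a (x ^ k))).eq
  have hyg : x ^ k * g = g * x ^ k :=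
    ((Commute.pow_left (hxg : Commute x g) k : Commute (x ^ k) g)).eq
  obtain ⟨a, ha, hau⟩ := H.α_surj (aZ (x ^ k * x ^ k))
  have haa : a * a = x ^ k * x ^ k := ZCoord.aZ_eq H.zc (mem_Nsub.mp ha).1 hyZ hau
  have hcomm : a * x ^ k = x ^ k * a := hyE a ha
  have hsq : (x ^ k * a⁻¹) * (x ^ k * a⁻¹) = 1 := by
    have hc' : a⁻¹ * x ^ k = x ^ k * a⁻¹ := by
      calc a⁻¹ * x ^ k = a⁻¹ * (x ^ k * a) * a⁻¹ := by group
        _ = a⁻¹ * (a * x ^ k) * a⁻¹ := by rw [hcomm]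
        _ = x ^ k * a⁻¹ := by group
    calc (x ^ k * a⁻¹) * (x ^ k * a⁻¹) = x ^ k * (a⁻¹ * x ^ k) * a⁻¹ := by group
      _ = x ^ k * (x ^ k * a⁻¹) * a⁻¹ := by rw [hc']
      _ = (x ^ k * x ^ k) * (a * a)⁻¹ := by group
      _ = 1 := by rw [haa, mul_inv_cancel]
  have hyaZ : x ^ k * a⁻¹ ∈ Z0 P := H.suz.mem_Z0_iff.mpr hsq
  have hyN : x ^ k ∈ Nsub P := by
    have : x ^ k = (x ^ k * a⁻¹) * a := by group
    rw [this]
    exact Subgroup.mul_mem _ (Z0_le_Nsub hyaZ) ha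
  exact hy2 (CHyp.pure_cent_N H hp hne (x ^ k) hyN hyg)

/-- (ii) -/
theorem CHyp.pure_sq (H : CHyp P Y F aZ κ σ c) {τ : F ≃+* F} {g : P} (hp : IsPure c τ g)
    (hne : c τ g ≠ 0) : g * g ∈ Z0 P := by
  have := H.zc.char2
  apply CHyp.pure_cent H hp hne (g * g) _ (mul_assoc g g g)
  rw [← CHyp.coord_zero_iff H]
  intro τ'
  rw [H.c_mul]
  exact CharTwo.add_self_eq_zero _

/-- (iii) -/
theorem CHyp.pure_sing (H : CHyp P Y F aZ κ σ c) {τ : F ≃+* F} {g : P} (hp : IsPure c τ g)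
    (hne : c τ g ≠ 0) : ∃ v : F, v ≠ 0 ∧ c τ g * τ v = v := by
  have hch := H.zc.char2
  by_contra hno
  push Not at hno
  -- the map `v ↦ v + c τ g * τ v` is injective, hence onto
  have hinj : Function.Injective (fun v : F => v + c τ g * τ v) := by
    intro v w hvw
    have hvw' : v + c τ g * τ v = w + c τ g * τ w := hvw
    by_contra hne'
    have hd : v - w ≠ 0 := sub_ne_zero.mpr hne'
    apply hno (v - w) hd
    rw [map_sub, mul_sub]
    have e1 : c τ g * τ v = w + c τ g * τ w - v := by rw [← hvw']; ring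
    rw [e1]
    have h2 : ∀ t : F, -t = t := fun t => CharTwo.neg_eq t
    have : w + c τ g * τ w - v - c τ g * τ w = w - v := by ring
    rw [this, ← neg_sub, h2]
  have hsurj := Finite.injective_iff_surjective.mp hinj
  have hgg : g * g ∈ Z0 P := CHyp.pure_sq H hp hne
  obtain ⟨u, hu⟩ := hsurj (aZ (g * g))
  have hu' : u + c τ g * τ u = aZ (g * g) := hu
  obtain ⟨a, ha, hau⟩ := H.α_surj u
  have haa : a * a ∈ Z0 P := (mem_Nsub.mp ha).1
  have hcomZ : a⁻¹ * g⁻¹ * a * g ∈ Z0 P := (mem_Nsub.mp ha).2 g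
  have hcen := (Subgroup.mem_center_iff.mp hcomZ.1)
  -- `(g a)² = g² a² [a,g]`
  have hsq : (g * a) * (g * a) = (g * g) * ((a * a) * (a⁻¹ * g⁻¹ * a * g)) := by
    have e1 : (g * a) * (g * a) = g * g * (a * ((a⁻¹ * g⁻¹ * a * g) * a)) := by group
    rw [e1, ← hcen a]
    group
  have hval : aZ ((g * a) * (g * a)) = 0 := by
    rw [hsq, H.zc.aZ_mul _ hgg _ (Subgroup.mul_mem _ haa hcomZ), H.zc.aZ_mul _ haa _ hcomZ,
      CHyp.expand_pure H hp a ha, hau, hu', CharTwo.add_self_eq_zero]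
  have hmem : (g * a) * (g * a) ∈ Z0 P := by
    rw [hsq]
    exact Subgroup.mul_mem _ hgg (Subgroup.mul_mem _ haa hcomZ)
  have hga : g * a ∈ Z0 P := H.suz.mem_Z0_iff.mpr (H.zc.aZ_inj _ hmem hval)
  have hgN : g ∈ Nsub P := by
    have : g = (g * a) * a⁻¹ := by group
    rw [this]
    exact Subgroup.mul_mem _ (Z0_le_Nsub hga) (Subgroup.inv_mem _ ha)
  have hall : ∀ b ∈ Nsub P, b * g = g * b := fun b hb => H.Eab b hb g hgN
  exact hne ((CHyp.coord_zero_iff H g).mpr hall τ)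

/-- [B3] -/
theorem CHyp.pure_facts (H : CHyp P Y F aZ κ σ c)
    {τ : F ≃+* F} {g : P} (hp : IsPure c τ g) (hne : c τ g ≠ 0) :
    (∀ x : P, (∀ a ∈ Nsub P, a * x = x * a) → x * g = g * x → x ∈ Z0 P) ∧
    g * g ∈ Z0 P ∧
    ∃ v : F, v ≠ 0 ∧ c τ g * τ v = v :=
  ⟨CHyp.pure_cent H hp hne, CHyp.pure_sq H hp hne, CHyp.pure_sing H hp hne⟩

end Cfsg.Agent.Lib.Helper37.Suz2
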