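import Mathlib

/-!
# Project ASCH, [DESCENT], abstract core (helper37)

`A` a subring of `End_F(V)` (`V` a finite set) acting irreducibly, whose central elements are
`F₀`-scalars.  Then `V` has an `F`-basis in which every element of `A` has coordinates in `F₀`.
Proof: a minimal `A`-submodule `V₀`, Schur + little Wedderburn + Jacobson density.
-/

set_option autoImplicit false

namespace Cfsg.Agent.Lib.Helper37.AschDescent

open Module

universe u

/-- over a division ring, a vector outside a subspace is separated from it by an endomorphism -/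
theorem exists_end_of_notMem {D M : Type*} [DivisionRing D] [AddCommGroup M] [Module D M]
    (U : Submodule D M) (w : M) (hw : w ∉ U) :
    ∃ g : M →ₗ[D] M, (∀ x ∈ U, g x = 0) ∧ g w ≠ 0 := by
  obtain ⟨U', hU'⟩ := Submodule.exists_isCompl U
  refine ⟨U'.subtype.comp (Submodule.projectionOnto U' U hU'.symm), ?_, ?_⟩
  · intro x hx
    show ((Submodule.projectionOnto U' U hU'.symm x : U') : M) = 0
    rw [(Submodule.projectionOnto_apply_eq_zero_iff hU'.symm).mpr hx]
    rfl
  · intro h0
    apply hw
    have : (Submodule.projectionOnto U' U hU'.symm w : U') = 0 := Subtype.ext h0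
    exact (Submodule.projectionOnto_apply_eq_zero_iff hU'.symm).mp this

theorem descent_core {F : Type*} {V : Type u} [Field F] [AddCommGroup V] [Module F V] [Finite V]
    [Nontrivial V] (A : Subring (Module.End F V))
    (hirr : ∀ W : Submodule F V, (∀ a ∈ A, ∀ w ∈ W, a w ∈ W) → W = ⊥ ∨ W = ⊤)
    (F₀ : Subfield F)
    (hcent : ∀ r ∈ A, (∀ a ∈ A, r * a = a * r) → ∃ c ∈ F₀, ∀ v, r v = c • v) :
    ∃ (J : Type u) (_ : Fintype J) (v : Basis J F V), ∀ a ∈ A, ∀ j, ∃ c : J → F₀,
      a (v j) = ∑ i, (c i : F) • v i := by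
  classical
  -- a minimal submodule
  obtain ⟨V₀, hV₀atom, -⟩ :=
    (eq_bot_or_exists_atom_le (⊤ : Submodule A V)).resolve_left top_ne_bot
  have : IsSimpleModule A V₀ := isSimpleModule_iff_isAtom.mpr hV₀atom
  have hact : ∀ (a : A) (w : V₀), ((a • w : V₀) : V) = (a : Module.End F V) (w : V) := fun a w => rfl
  -- its `F`-span is everything
  have hspan : Submodule.span F (V₀ : Set V) = ⊤ := by
    have hinv : ∀ a ∈ A, ∀ w ∈ Submodule.span F (V₀ : Set V), a w ∈ Submodule.span F (V₀ : Set V) := by
      intro a ha w hw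
      induction hw using Submodule.span_induction with
      | mem x hx =>
        apply Submodule.subset_span
        exact V₀.smul_mem (⟨a, ha⟩ : A) hx
      | zero => rw [map_zero]; exact Submodule.zero_mem _
      | add x y _ _ hx hy => rw [map_add]; exact Submodule.add_mem _ hx hy
      | smul c x _ hx => rw [map_smul]; exact Submodule.smul_mem _ c hx
    rcases hirr _ hinv with h | h
    · exfalso
      apply hV₀atom.1
      rw [eq_bot_iff]
      intro x hx
      have : x ∈ Submodule.span F (V₀ : Set V) := Submodule.subset_span hx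
      rw [h] at this
      exact this
    · exact h
  -- the endomorphism ring of `V₀`
  have hEfin : Finite (Module.End A V₀) :=
    Finite.of_injective (fun f : Module.End A V₀ => (f : V₀ → V₀)) DFunLike.coe_injective
  have hEcomm : ∀ ε ε' : Module.End A V₀, ε * ε' = ε' * ε := by
    intro ε ε'
    let _ := littleWedderburn (Module.End A V₀)
    exact mul_comm ε ε'
  let _ : Fintype V₀ := Fintype.ofFinite _
  -- an element of `A` vanishing on `V₀` vanishes
  have hzero : ∀ g h : Module.End F V, (∀ w : V₀, g (w : V) = h (w : V)) → g = h := by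
    intro g h hgh
    apply LinearMap.ext_on hspan
    intro x hx
    exact hgh ⟨x, hx⟩
  -- (c) endomorphisms are `F₀`-scalars
  have hEsc : ∀ ε : Module.End A V₀, ∃ c ∈ F₀, ∀ w : V₀, ((ε w : V₀) : V) = c • (w : V) := by
    intro ε
    let f : Module.End (Module.End A V₀) V₀ :=
      { toFun := ε
        map_add' := ε.map_add
        map_smul' := by
          intro ε' w
          show ε (ε' w) = ε' (ε w)
          have := congrArg (fun g : Module.End A V₀ => g w) (hEcomm ε ε')
          simpa [Module.End.mul_apply] using this }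
    obtain ⟨r, hr⟩ := jacobson_density (R := A) (M := V₀) f Finset.univ
    have hr' : ∀ w : V₀, ε w = r • w := fun w => hr w (Finset.mem_univ w)
    have hcen : ∀ a ∈ A, (r : Module.End F V) * a = a * (r : Module.End F V) := by
      intro a ha
      apply hzero
      intro w
      rw [Module.End.mul_apply, Module.End.mul_apply]
      have h1 : a (w : V) = (((⟨a, ha⟩ : A) • w : V₀) : V) := rfl
      rw [h1, ← hact r, ← hr', map_smul, hact, hr' w, hact]
    obtain ⟨c, hc, hcv⟩ := hcent r r.2 hcen
    refine ⟨c, hc, fun w => ?_⟩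
    rw [hr' w, hact, hcv]
  -- an `F`-basis inside `V₀`
  obtain ⟨J, v, hvV₀⟩ : ∃ (J : Type u) (v : Basis J F V), ∀ j, v j ∈ V₀ :=
    ⟨_, Basis.ofSpan hspan.ge, fun j => Basis.ofSpan_subset hspan.ge ⟨j, rfl⟩⟩
  have : Finite J := Module.Finite.finite_basis v
  let _ : Fintype J := Fintype.ofFinite _
  let v' : J → V₀ := fun j => ⟨v j, hvV₀ j⟩
  -- (d) `V₀` is the span of the basis over the endomorphism ring
  have hU : Submodule.span (Module.End A V₀) (Set.range v') = ⊤ := by
    by_contra hne
    obtain ⟨w₀, hw₀⟩ : ∃ w₀ : V₀, w₀ ∉ Submodule.span (Module.End A V₀) (Set.range v') := by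
      by_contra hno
      push Not at hno
      exact hne (eq_top_iff.mpr fun x _ => hno x)
    obtain ⟨g, hgker, hgw⟩ := exists_end_of_notMem (D := Module.End A V₀) (M := V₀)
      (Submodule.span (Module.End A V₀) (Set.range v')) w₀ hw₀
    obtain ⟨r, hr⟩ := jacobson_density (R := A) (M := V₀) g Finset.univ
    have hr' : ∀ w : V₀, g w = r • w := fun w => hr w (Finset.mem_univ w)
    have hr0 : (r : Module.End F V) = 0 := by
      apply v.ext
      intro j
      have h1 := hr' (v' j)
      rw [hgker _ (Submodule.subset_span ⟨j, rfl⟩)] at h1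
      have h2 := congrArg (fun w : V₀ => (w : V)) h1
      simp only [hact] at h2
      rw [LinearMap.zero_apply]
      exact h2.symm
    apply hgw
    rw [hr' w₀]
    apply Subtype.ext
    rw [hact, hr0, LinearMap.zero_apply]
    rfl
  refine ⟨J, inferInstance, v, ?_⟩
  intro a ha j
  have hmem : ((⟨a, ha⟩ : A) • v' j : V₀) ∈ Submodule.span (Module.End A V₀) (Set.range v') := by
    rw [hU]; exact Submodule.mem_top
  obtain ⟨ε, hε⟩ := (Submodule.mem_span_range_iff_exists_fun _).mp hmem
  choose c hc hcv using hEsc
  refine ⟨fun i => ⟨c (ε i), hc (ε i)⟩, ?_⟩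
  have h1 := congrArg (fun w : V₀ => (w : V)) hε
  simp only [hact] at h1
  show a (v j) = _
  have h2 : (v' j : V) = v j := rfl
  rw [h2] at h1
  rw [← h1]
  rw [Submodule.coe_sum]
  refine Finset.sum_congr rfl fun i _ => ?_
  show ((ε i (v' i) : V₀) : V) = _
  rw [hcv]
end Cfsg.Agent.Lib.Helper37.AschDescent
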