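import Mathlib
import Cfsg.Prelude.Def_GeometricClasses
import Cfsg.Agent.Lib.Helper99.AschDefs
import Cfsg.Agent.Lib.Helper39.AschBurnside

/-!
# Project ASCH, [DESCENT], step D1 (helper37): trace coordinates

If `S` is absolutely irreducible with all traces in the subfield `F₀`, there is an `F`-basis of the
matrix algebra consisting of elements of `S` such that every element of `S` has its coordinates
in `F₀`.
-/

set_option autoImplicit false

namespace Cfsg.Agent.Lib.Helper37.AschDescent

open Cfsg Cfsg.Geo Matrix Cfsg.Agent.Lib.Helper99.Asch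
open scoped MatrixGroups

variable {n : ℕ} {F : Type*} [Field F]

/-- the trace form of the matrix algebra is non-degenerate -/
theorem eq_zero_of_trace_mul_eq_zero (X : Matrix (Fin n) (Fin n) F)
    (h : ∀ N : Matrix (Fin n) (Fin n) F, Matrix.trace (X * N) = 0) : X = 0 := by
  ext i j
  have := h (Matrix.single j i 1)
  rw [Matrix.trace_mul_single] at this
  simpa using this

theorem matrixSet_mul_mem (S : Subgroup (GL (Fin n) F)) {x y : Matrix (Fin n) (Fin n) F}
    (hx : x ∈ matrixSet S) (hy : y ∈ matrixSet S) : x * y ∈ matrixSet S := by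
  obtain ⟨a, ha, rfl⟩ := hx
  obtain ⟨b, hb, rfl⟩ := hy
  exact ⟨a * b, S.mul_mem ha hb, by simp⟩

theorem matrixSet_one_mem (S : Subgroup (GL (Fin n) F)) : (1 : Matrix (Fin n) (Fin n) F) ∈ matrixSet S :=
  ⟨1, S.one_mem, by simp⟩

/-- coordinates with respect to a basis inside `S` lie in `F₀` -/
theorem repr_mem_of_basis {I : Type*} [Fintype I] [DecidableEq I] (S : Subgroup (GL (Fin n) F))
    (F₀ : Subfield F) (htr' : ∀ x ∈ matrixSet S, Matrix.trace x ∈ F₀)
    (b : Module.Basis I F (Matrix (Fin n) (Fin n) F)) (hb : ∀ i, b i ∈ matrixSet S) :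
    ∀ x ∈ matrixSet S, ∀ i, b.repr x i ∈ F₀ := by
  -- the Gram matrix of the trace form over `F₀`
  let T₀ : Matrix I I F₀ := fun i j => ⟨Matrix.trace (b i * b j),
    htr' _ (matrixSet_mul_mem S (hb i) (hb j))⟩
  let T : Matrix I I F := T₀.map F₀.subtype
  have hT : ∀ i j, T i j = Matrix.trace (b i * b j) := fun i j => rfl
  -- `c ᵥ* T` computes the traces against the basis
  have hvm : ∀ (c : I → F) (j : I), (c ᵥ* T) j = Matrix.trace ((∑ i, c i • b i) * b j) := by
    intro c j
    rw [Finset.sum_mul, Matrix.trace_sum]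
    simp only [Matrix.vecMul, dotProduct, hT, Matrix.smul_mul, Matrix.trace_smul, smul_eq_mul]
  have hTinj : ∀ c : I → F, c ᵥ* T = 0 → c = 0 := by
    intro c hc
    have hX : (∑ i, c i • b i) = 0 := by
      apply eq_zero_of_trace_mul_eq_zero
      intro N
      have hN : N ∈ Submodule.span F (Set.range b) := by rw [b.span_eq]; exact Submodule.mem_top
      induction hN using Submodule.span_induction with
      | mem y hy =>
        obtain ⟨j, rfl⟩ := hy
        rw [← hvm, hc]; rfl
      | zero => simp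
      | add y z _ _ hy hz => rw [Matrix.mul_add, Matrix.trace_add, hy, hz, add_zero]
      | smul a y _ hy => rw [Matrix.mul_smul, Matrix.trace_smul, hy, smul_zero]
    have := Fintype.linearIndependent_iff.mp b.linearIndependent c hX
    exact funext this
  have hT₀unit : IsUnit T₀ := by
    rw [← Matrix.vecMul_injective_iff_isUnit]
    intro c c' hcc
    have h0 : (c - c') ᵥ* T₀ = 0 := by
      rw [Matrix.sub_vecMul]; exact sub_eq_zero.mpr hcc
    have h1 : (F₀.subtype ∘ (c - c')) ᵥ* T = 0 := by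
      ext j
      rw [← RingHom.map_vecMul, h0]
      simp
    have h2 := hTinj _ h1
    have h3 : c - c' = 0 := by
      ext i
      have := congrFun h2 i
      simpa using this
    exact sub_eq_zero.mp h3
  -- coordinates
  intro x hx i
  set c : I → F := fun i => b.repr x i with hc
  have hxsum : (∑ i, c i • b i) = x := b.sum_repr x
  let τ₀ : I → F₀ := fun j => ⟨Matrix.trace (x * b j), htr' _ (matrixSet_mul_mem S hx (hb j))⟩
  let c₀ : I → F₀ := τ₀ ᵥ* T₀⁻¹
  have hc₀ : c₀ ᵥ* T₀ = τ₀ := by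
    show (τ₀ ᵥ* T₀⁻¹) ᵥ* T₀ = τ₀
    rw [Matrix.vecMul_vecMul, Matrix.nonsing_inv_mul _ ((Matrix.isUnit_iff_isUnit_det _).mp hT₀unit),
      Matrix.vecMul_one]
  have h1 : (F₀.subtype ∘ c₀) ᵥ* T = c ᵥ* T := by
    ext j
    rw [← RingHom.map_vecMul, hc₀, hvm, hxsum]
    rfl
  have h2 : (F₀.subtype ∘ c₀) - c = 0 := by
    apply hTinj
    rw [Matrix.sub_vecMul, h1, sub_self]
  have h3 : c i = F₀.subtype (c₀ i) := by
    have := congrFun h2 i
    simp only [Pi.sub_apply, Function.comp_apply, Pi.zero_apply] at this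
    exact (sub_eq_zero.mp this).symm
  show c i ∈ F₀
  rw [h3]
  exact (c₀ i).2

/-- **D1.** -/
theorem exists_basis_repr_mem [Fintype F] (S : Subgroup (GL (Fin n) F))
    (hS : ActsAbsolutelyIrreducibly (matrixSet S)) (F₀ : Subfield F)
    (htr : ∀ x ∈ S, Matrix.trace (x : Matrix (Fin n) (Fin n) F) ∈ F₀) :
    ∃ (I : Type) (_ : Fintype I) (b : Module.Basis I F (Matrix (Fin n) (Fin n) F)),
      (∀ i, b i ∈ matrixSet S) ∧ ∀ x ∈ matrixSet S, ∀ i, b.repr x i ∈ F₀ := by
  classical
  have hspan : Submodule.span F (matrixSet S) = ⊤ := span_eq_top_of_absIrred S hS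
  have htr' : ∀ x ∈ matrixSet S, Matrix.trace x ∈ F₀ := by
    rintro _ ⟨x, hx, rfl⟩
    exact htr x hx
  obtain ⟨J, b₁, hb₁⟩ : ∃ (J : Type _) (b : Module.Basis J F (Matrix (Fin n) (Fin n) F)),
      ∀ i, b i ∈ matrixSet S :=
    ⟨_, Module.Basis.ofSpan hspan.ge, fun i => Module.Basis.ofSpan_subset hspan.ge ⟨i, rfl⟩⟩
  have : Finite J := Module.Finite.finite_basis b₁
  let _ : Fintype J := Fintype.ofFinite _
  let b := b₁.reindex (Fintype.equivFin J)
  have hb : ∀ i, b i ∈ matrixSet S := by
    intro i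
    rw [Module.Basis.reindex_apply]
    exact hb₁ _
  exact ⟨Fin (Fintype.card J), inferInstance, b, hb, repr_mem_of_basis S F₀ htr' b hb⟩

end Cfsg.Agent.Lib.Helper37.AschDescent
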