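import Mathlib
import Cfsg.Prelude.Def_GeometricClasses
import Cfsg.Agent.Lib.Helper99.AschDefs
import Cfsg.Agent.Lib.Helper37.AschDescentD1
import Cfsg.Agent.Lib.Helper37.AschDescentCore

/-!
# Project ASCH: module [DESCENT] (helper37, hedge)

An absolutely irreducible group with all traces in a subfield `F₀` (of a finite field) is realisable
over `F₀`.
-/

set_option autoImplicit false

namespace Cfsg.Agent.Lib.Helper37.AschDescent

open Cfsg Cfsg.Geo Matrix Module Cfsg.Agent.Lib.Helper99.Asch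
open scoped MatrixGroups

variable {n : ℕ} {F : Type*} [Field F]

/-- products of matrices with `F₀`-coordinates have `F₀`-coordinates -/
theorem repr_mul_mem {I : Type*} [Fintype I] (F₀ : Subfield F)
    (b : Basis I F (Matrix (Fin n) (Fin n) F))
    (hbb : ∀ i j k, b.repr (b i * b j) k ∈ F₀) {M N : Matrix (Fin n) (Fin n) F}
    (hM : ∀ i, b.repr M i ∈ F₀) (hN : ∀ i, b.repr N i ∈ F₀) (k : I) : b.repr (M * N) k ∈ F₀ := by
  have h1 : M * N = ∑ i, ∑ j, (b.repr M i * b.repr N j) • (b i * b j) := by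
    conv_lhs => rw [← b.sum_repr M, ← b.sum_repr N]
    rw [Finset.sum_mul]
    refine Finset.sum_congr rfl fun i _ => ?_
    rw [Finset.mul_sum]
    refine Finset.sum_congr rfl fun j _ => ?_
    rw [smul_mul_smul_comm]
  rw [h1]
  simp only [map_sum, map_smul, Finsupp.coe_finsetSum, Finsupp.coe_smul, Finset.sum_apply,
    Pi.smul_apply, smul_eq_mul]
  exact Subfield.sum_mem _ fun i _ => Subfield.sum_mem _ fun j _ =>
    F₀.mul_mem (F₀.mul_mem (hM i) (hN j)) (hbb i j k)

/-- the subring of `End_F(F^n)` of the endomorphisms whose matrix has `F₀`-coordinates -/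
def coordSubring {I : Type*} [Fintype I] (F₀ : Subfield F)
    (b : Basis I F (Matrix (Fin n) (Fin n) F))
    (hbb : ∀ i j k, b.repr (b i * b j) k ∈ F₀) (h1 : ∀ k, b.repr 1 k ∈ F₀) :
    Subring (Module.End F (Fin n → F)) where
  carrier := {g | ∀ i, b.repr (LinearMap.toMatrix' g) i ∈ F₀}
  mul_mem' := by
    intro g h hg hh k
    show b.repr (LinearMap.toMatrix' (g * h)) k ∈ F₀
    rw [LinearMap.toMatrix'_mul]
    exact repr_mul_mem F₀ b hbb hg hh k
  one_mem' := by
    intro k
    show b.repr (LinearMap.toMatrix' (1 : Module.End F (Fin n → F))) k ∈ F₀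
    rw [LinearMap.toMatrix'_one]
    exact h1 k
  add_mem' := by
    intro g h hg hh k
    show b.repr (LinearMap.toMatrix' (g + h)) k ∈ F₀
    rw [map_add, map_add, Finsupp.add_apply]
    exact F₀.add_mem (hg k) (hh k)
  zero_mem' := by
    intro k
    show b.repr (LinearMap.toMatrix' (0 : Module.End F (Fin n → F))) k ∈ F₀
    rw [map_zero, map_zero, Finsupp.zero_apply]
    exact F₀.zero_mem
  neg_mem' := by
    intro g hg k
    show b.repr (LinearMap.toMatrix' (-g)) k ∈ F₀
    rw [map_neg, map_neg, Finsupp.neg_apply]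
    exact F₀.neg_mem (hg k)

variable [Fintype F]

/-- ASCH-[DESCENT], second proof (helper83's `Cfsg.Agent.Lib.Helper99.Asch.realisable_of_trace_mem`
landed first; this one goes through `descent_core`: minimal submodule + Jacobson density, no
Wedderburn–Artin, no Skolem–Noether) -/
theorem realisable_of_trace_mem_alt (S : Subgroup (GL (Fin n) F))
    (hS : ActsAbsolutelyIrreducibly (matrixSet S)) (F₀ : Subfield F)
    (htr : ∀ x ∈ S, Matrix.trace (x : Matrix (Fin n) (Fin n) F) ∈ F₀) :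
    RealisableOver F₀ (matrixSet S) := by
  classical
  rcases Nat.eq_zero_or_pos n with hn0 | hn
  · subst hn0
    exact ⟨1, fun s _ i => i.elim0⟩
  have : Nonempty (Fin n) := ⟨⟨0, hn⟩⟩
  obtain ⟨I, hI, b, hb, hrepr⟩ := exists_basis_repr_mem S hS F₀ htr
  have hbb : ∀ i j k, b.repr (b i * b j) k ∈ F₀ := fun i j k =>
    hrepr _ (matrixSet_mul_mem S (hb i) (hb j)) k
  have h1 : ∀ k, b.repr 1 k ∈ F₀ := fun k => hrepr _ (matrixSet_one_mem S) k
  let A := coordSubring F₀ b hbb h1
  have hSA : ∀ s ∈ matrixSet S, Matrix.toLin' s ∈ A := by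
    intro s hs k
    show b.repr (LinearMap.toMatrix' (Matrix.toLin' s)) k ∈ F₀
    rw [LinearMap.toMatrix'_toLin']
    exact hrepr s hs k
  have hirr : ∀ W : Submodule F (Fin n → F), (∀ a ∈ A, ∀ w ∈ W, a w ∈ W) → W = ⊥ ∨ W = ⊤ := by
    intro W hW
    apply hS.1 W
    intro s hs
    rintro _ ⟨w, hw, rfl⟩
    exact hW _ (hSA s hs) w hw
  have hcent : ∀ r ∈ A, (∀ a ∈ A, r * a = a * r) → ∃ c ∈ F₀, ∀ v, r v = c • v := by
    intro r hr hcomm
    obtain ⟨c, hc⟩ := hS.2 (LinearMap.toMatrix' r) (by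
      intro s hs
      have h2 := hcomm _ (hSA s hs)
      have h3 := congrArg LinearMap.toMatrix' h2
      rw [LinearMap.toMatrix'_mul, LinearMap.toMatrix'_mul, LinearMap.toMatrix'_toLin'] at h3
      exact h3)
    have hc0 : c ∈ F₀ := by
      obtain ⟨k, hk⟩ : ∃ k, b.repr 1 k ≠ 0 := by
        by_contra hno
        push Not at hno
        have : b.repr (1 : Matrix (Fin n) (Fin n) F) = 0 := Finsupp.ext hno
        have h10 : (1 : Matrix (Fin n) (Fin n) F) = 0 := by
          have := congrArg b.repr.symm this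
          simp at this
        exact one_ne_zero h10
      have h2 := hr k
      rw [hc, map_smul, Finsupp.smul_apply, smul_eq_mul] at h2
      have h3 : c = (c * b.repr 1 k) * (b.repr 1 k)⁻¹ := by
        rw [mul_assoc, mul_inv_cancel₀ hk, mul_one]
      rw [h3]
      exact F₀.mul_mem h2 (F₀.inv_mem (h1 k))
    refine ⟨c, hc0, fun v => ?_⟩
    have h4 : r = Matrix.toLin' (c • (1 : Matrix (Fin n) (Fin n) F)) := by
      rw [← hc, Matrix.toLin'_toMatrix']
    rw [h4]
    simp
  obtain ⟨J, hJ, v, hv⟩ := descent_core A hirr F₀ hcent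
  -- reindex by `Fin n`
  have hcard : Fintype.card J = n := by
    rw [← Module.finrank_eq_card_basis v, Module.finrank_fin_fun]
  let e : J ≃ Fin n := Fintype.equivFinOfCardEq hcard
  let v₁ : Basis (Fin n) F (Fin n → F) := v.reindex e
  let st : Basis (Fin n) F (Fin n → F) := Pi.basisFun F (Fin n)
  have hCC : v₁.toMatrix st * st.toMatrix v₁ = 1 := Basis.toMatrix_mul_toMatrix_flip v₁ st
  have hCC' : st.toMatrix v₁ * v₁.toMatrix st = 1 := Basis.toMatrix_mul_toMatrix_flip st v₁
  refine ⟨⟨v₁.toMatrix st, st.toMatrix v₁, hCC, hCC'⟩, ?_⟩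
  rintro _ ⟨x, hx, rfl⟩ i j
  have hinv : ((⟨v₁.toMatrix st, st.toMatrix v₁, hCC, hCC'⟩ : GL (Fin n) F)⁻¹ : GL (Fin n) F).val =
      st.toMatrix v₁ := rfl
  rw [hinv]
  show (v₁.toMatrix st * (x : Matrix (Fin n) (Fin n) F) * st.toMatrix v₁) i j ∈ F₀
  have hx' : (x : Matrix (Fin n) (Fin n) F) =
      LinearMap.toMatrix st st (Matrix.toLin' (x : Matrix (Fin n) (Fin n) F)) := by
    rw [LinearMap.toMatrix_eq_toMatrix', LinearMap.toMatrix'_toLin']
  rw [hx', basis_toMatrix_mul_linearMap_toMatrix_mul_basis_toMatrix, LinearMap.toMatrix_apply]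
  obtain ⟨c, hc⟩ := hv _ (hSA _ ⟨x, hx, rfl⟩) (e.symm j)
  have h5 : Matrix.toLin' (x : Matrix (Fin n) (Fin n) F) (v₁ j) =
      ∑ k : Fin n, ((c (e.symm k) : F₀) : F) • v₁ k := by
    have : v₁ j = v (e.symm j) := by simp [v₁, Basis.reindex_apply]
    rw [this, hc]
    rw [← Equiv.sum_comp e.symm]
    refine Finset.sum_congr rfl fun k _ => ?_
    simp [v₁, Basis.reindex_apply]
  rw [h5, Basis.repr_sum_self]
  exact (c (e.symm i)).2

end Cfsg.Agent.Lib.Helper37.AschDescent
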