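import Mathlib
import Cfsg.Prelude.Def_GeometricClasses
import Cfsg.Agent.Lib.Helper99.AschDefs
import Cfsg.Agent.Lib.Helper54.SkolemNoether
import Cfsg.Agent.Lib.Helper39.AschBurnside
import Cfsg.Agent.Lib.Helper47.AschBasis

/-!
# Project ASCH: module [UNIQMOD]

A homomorphism `ρ : S → GL_n(F)` from an absolutely irreducible group `S` with scalar commutators
which is the identity on the scalars of `S` is conjugation by a matrix.
-/

set_option autoImplicit false

namespace Cfsg.Agent.Lib.Helper99.Asch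

open Cfsg Cfsg.Geo
open scoped MatrixGroups Matrix

variable {n : ℕ} {F : Type*} [Field F] [Fintype F]

/-- ASCH-[UNIQMOD] -/
theorem conj_of_agree_on_scalars (S : Subgroup (GL (Fin n) F))
    (hS : ActsAbsolutelyIrreducibly (matrixSet S)) (hc : CommScalar S)
    (ρ : S →* GL (Fin n) F)
    (hρ : ∀ x : S, (x : GL (Fin n) F) ∈ scalars (Fin n) F → ρ x = x) :
    ∃ B : GL (Fin n) F, ∀ x : S, ρ x = B * x * B⁻¹ := by
  classical
  rcases Nat.eq_zero_or_pos n with hn0 | hn
  · subst hn0
    exact ⟨1, fun x => Units.ext (Subsingleton.elim _ _)⟩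
  have hspan : Submodule.span F (matrixSet S) = ⊤ := span_eq_top_of_absIrred S hS
  obtain ⟨I, b, hbsub⟩ : ∃ (I : Type _) (b : Module.Basis I F (Matrix (Fin n) (Fin n) F)),
      Set.range b ⊆ matrixSet S :=
    ⟨_, Module.Basis.ofSpan hspan.ge, Module.Basis.ofSpan_subset hspan.ge⟩
  have hbS : ∀ i, ∃ g : S, ((g : GL (Fin n) F) : Matrix (Fin n) (Fin n) F) = b i := by
    intro i
    obtain ⟨g, hg, hgi⟩ := hbsub ⟨i, rfl⟩
    exact ⟨⟨g, hg⟩, hgi⟩
  choose g hg using hbS
  let Φ : Matrix (Fin n) (Fin n) F →ₗ[F] Matrix (Fin n) (Fin n) F :=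
    b.constr F (fun i => ((ρ (g i) : GL (Fin n) F) : Matrix (Fin n) (Fin n) F))
  have hΦb : ∀ i, Φ (b i) = ((ρ (g i) : GL (Fin n) F) : Matrix (Fin n) (Fin n) F) :=
    fun i => b.constr_basis F _ i
  -- every element of `S` is a scalar multiple of some `g i`
  have hex : ∀ s : S, ∃ i, ((g i : GL (Fin n) F))⁻¹ * (s : GL (Fin n) F) ∈ scalars (Fin n) F := by
    intro s
    by_contra hno
    push Not at hno
    let t : Option I → GL (Fin n) F := fun o => o.elim (s : GL (Fin n) F) (fun i => (g i : GL (Fin n) F))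
    have htS : ∀ o, t o ∈ S := by
      rintro (_ | i)
      · exact s.2
      · exact (g i).2
    have ht : ∀ o o', o ≠ o' → (t o)⁻¹ * t o' ∉ scalars (Fin n) F := by
      rintro (_ | i) (_ | j) hne
      · exact absurd rfl hne
      · intro hmem
        apply hno j
        have := (scalars (Fin n) F).inv_mem hmem
        simpa [t, mul_inv_rev] using this
      · exact hno i
      · intro hmem
        have hij : i ≠ j := fun h => hne (by rw [h])
        obtain ⟨c, hcm⟩ := (mem_scalars_iff _).mp hmem
        have h1 : b j = (c : F) • b i := by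
          rw [← hg i, ← hg j]
          have : ((g j : GL (Fin n) F) : Matrix (Fin n) (Fin n) F) =
              ((g i : GL (Fin n) F) : Matrix (Fin n) (Fin n) F) *
                (((g i : GL (Fin n) F)⁻¹ * (g j : GL (Fin n) F) : GL (Fin n) F) :
                  Matrix (Fin n) (Fin n) F) := by
            rw [← Units.val_mul, mul_inv_cancel_left]
          rw [this]
          show _ * ((t (some i))⁻¹ * t (some j) : GL (Fin n) F).val = _
          rw [hcm, Matrix.mul_smul, Matrix.mul_one]
        have h2 := congrArg (fun M => b.repr M j) h1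
        simp only [Module.Basis.repr_self, map_smul, Finsupp.smul_apply,
          Finsupp.single_eq_same, Finsupp.single_eq_of_ne hij.symm, smul_eq_mul, mul_zero] at h2
        exact one_ne_zero h2
    have hli := linearIndependent_of_inequivalent hn S hS hc t htS ht
    have hnot := hli.notMem_span_image (s := Set.range some) (x := none) (by simp)
    apply hnot
    have himg : (fun o => ((t o : GL (Fin n) F) : Matrix (Fin n) (Fin n) F)) '' (Set.range some) =
        Set.range b := by
      ext M
      constructor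
      · rintro ⟨_, ⟨i, rfl⟩, rfl⟩
        exact ⟨i, (hg i).symm⟩
      · rintro ⟨i, rfl⟩
        exact ⟨some i, ⟨i, rfl⟩, hg i⟩
    rw [himg, b.span_eq]
    exact Submodule.mem_top
  -- `Φ` agrees with `ρ` on `S`
  have key : ∀ s : S, Φ ((s : GL (Fin n) F) : Matrix (Fin n) (Fin n) F) =
      ((ρ s : GL (Fin n) F) : Matrix (Fin n) (Fin n) F) := by
    intro s
    obtain ⟨i, hi⟩ := hex s
    set z : S := (g i)⁻¹ * s with hz
    have hzmem : (z : GL (Fin n) F) ∈ scalars (Fin n) F := by
      simpa [hz] using hi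
    obtain ⟨c, hcm⟩ := (mem_scalars_iff _).mp hzmem
    have hs : s = g i * z := by rw [hz, mul_inv_cancel_left]
    have hρz : ρ z = z := hρ z hzmem
    have e1 : ((s : GL (Fin n) F) : Matrix (Fin n) (Fin n) F) = (c : F) • b i := by
      rw [hs, Subgroup.coe_mul, Units.val_mul, hcm, Matrix.mul_smul, Matrix.mul_one, hg]
    have e2 : ((ρ s : GL (Fin n) F) : Matrix (Fin n) (Fin n) F) =
        (c : F) • ((ρ (g i) : GL (Fin n) F) : Matrix (Fin n) (Fin n) F) := by
      rw [hs, map_mul, hρz, Units.val_mul, hcm, Matrix.mul_smul, Matrix.mul_one]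
    rw [e1, e2, map_smul, hΦb]
  have hSmem : ∀ M ∈ matrixSet S, ∃ s : S, ((s : GL (Fin n) F) : Matrix (Fin n) (Fin n) F) = M := by
    rintro M ⟨x, hx, rfl⟩
    exact ⟨⟨x, hx⟩, rfl⟩
  -- multiplicativity
  have hmul1 : ∀ s : S, ∀ y : Matrix (Fin n) (Fin n) F,
      Φ (((s : GL (Fin n) F) : Matrix (Fin n) (Fin n) F) * y) =
        ((ρ s : GL (Fin n) F) : Matrix (Fin n) (Fin n) F) * Φ y := by
    intro s
    have : Φ.comp (LinearMap.mulLeft F ((s : GL (Fin n) F) : Matrix (Fin n) (Fin n) F)) =
        (LinearMap.mulLeft F ((ρ s : GL (Fin n) F) : Matrix (Fin n) (Fin n) F)).comp Φ := by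
      apply LinearMap.ext_on hspan
      intro M hM
      obtain ⟨s', rfl⟩ := hSmem M hM
      simp only [LinearMap.comp_apply, LinearMap.mulLeft_apply]
      have h3 := key (s * s')
      rw [key s']
      simpa only [Subgroup.coe_mul, map_mul, Units.val_mul] using h3
    intro y
    exact LinearMap.congr_fun this y
  have hmul : ∀ x y : Matrix (Fin n) (Fin n) F, Φ (x * y) = Φ x * Φ y := by
    intro x y
    have : Φ.comp (LinearMap.mulRight F y) = (LinearMap.mulRight F (Φ y)).comp Φ := by
      apply LinearMap.ext_on hspan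
      intro M hM
      obtain ⟨s, rfl⟩ := hSmem M hM
      simp only [LinearMap.comp_apply, LinearMap.mulRight_apply]
      rw [hmul1, key]
    exact LinearMap.congr_fun this x
  have hone : Φ 1 = 1 := by
    have := key 1
    simpa using this
  let φ : Matrix (Fin n) (Fin n) F →ₐ[F] Matrix (Fin n) (Fin n) F := AlgHom.ofLinearMap Φ hone hmul
  obtain ⟨T, hT⟩ := Cfsg.Agent.Lib.Helper54.SkolemNoether.exists_conj_of_algHom φ
  refine ⟨T, fun x => Units.ext ?_⟩
  rw [← key x]
  exact hT _

end Cfsg.Agent.Lib.Helper99.Asch
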