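import Mathlib
import Cfsg.Prelude.Def_GeometricClasses
import Cfsg.Agent.Lib.Helper99.AschDefs
import Cfsg.Agent.Lib.Helper37.Asch.FormKit2
import Cfsg.Agent.Lib.Helper37.AschUniqmod

/-!
# Project ASCH: modules [DUALFORM-U], [DUALFORM-B]

A symplectic-type group whose scalars are inverted by `σ` fixes a non-degenerate `σ`-hermitian
(resp. symmetric or alternating) form.
-/

set_option autoImplicit false

namespace Cfsg.Agent.Lib.Helper37.AschDualform

open Cfsg Cfsg.Geo Matrix Cfsg.Agent.Lib.Helper99.Asch Cfsg.Agent.Lib.Helper37.Asch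
open scoped MatrixGroups

variable {n : ℕ} {F : Type*} [Field F] [Fintype F]

omit [Fintype F] in
theorem map_map_self (σ : F ≃+* F) (hinv : ∀ a, σ (σ a) = a) (A : Matrix (Fin n) (Fin n) F) :
    (A.map σ).map σ = A := by
  ext i j; simp [hinv]

omit [Fintype F] in
theorem map_smul_one (σ : F ≃+* F) (c : F) :
    ((c • (1 : Matrix (Fin n) (Fin n) F)).map σ) = σ c • (1 : Matrix (Fin n) (Fin n) F) := by
  ext i j
  by_cases hij : i = j
  · subst hij; simp
  · simp [hij]

/-- the invariant Gram matrix produced by [UNIQMOD] -/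
theorem exists_invariant_gram (hn : 0 < n) (σ : F ≃+* F) (hinv : ∀ a, σ (σ a) = a)
    (R : Subgroup (GL (Fin n) F)) (hS : ActsAbsolutelyIrreducibly (matrixSet R))
    (hc : CommScalar R)
    (hsc : ∀ x ∈ R, ∀ c : Fˣ, (x : Matrix (Fin n) (Fin n) F) = (c : F) • 1 → σ c * c = 1) :
    ∃ (J : Matrix (Fin n) (Fin n) F) (c : F), IsUnit J ∧
      (∀ x ∈ R, (x : Matrix (Fin n) (Fin n) F)ᵀ * J * (x : Matrix (Fin n) (Fin n) F).map σ = J) ∧
      (J.map σ)ᵀ = c • J ∧ σ c * c = 1 := by
  have hmm := map_map_self (n := n) σ hinv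
  let ρ : R →* GL (Fin n) F := (dualHom σ).comp R.subtype
  have hρ : ∀ x : R, (x : GL (Fin n) F) ∈ scalars (Fin n) F → ρ x = x := by
    intro x hx
    obtain ⟨c, hcx⟩ := (mem_scalars_iff _).mp hx
    have h1 := hsc x x.2 c hcx
    have hxinv : (((x : GL (Fin n) F)⁻¹ : GL (Fin n) F) : Matrix (Fin n) (Fin n) F) =
        ((c⁻¹ : Fˣ) : F) • 1 := by
      have : (x : GL (Fin n) F) * (Units.map (Matrix.scalar (Fin n) : F →+* _).toMonoidHom c⁻¹) = 1 := by
        apply Units.ext
        rw [Units.val_mul, hcx]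
        simp [Matrix.smul_one_eq_diagonal]
      rw [inv_eq_of_mul_eq_one_right this]
      simp [Matrix.smul_one_eq_diagonal]
    apply Units.ext
    show ((dualHom σ (x : GL (Fin n) F) : GL (Fin n) F) : Matrix (Fin n) (Fin n) F) = _
    rw [dualHom_val, hxinv, map_smul_one, Matrix.transpose_smul, Matrix.transpose_one, hcx]
    congr 1
    rw [Units.val_inv_eq_inv_val, map_inv₀]
    exact inv_eq_of_mul_eq_one_right h1
  obtain ⟨B, hB⟩ := conj_of_agree_on_scalars R hS hc ρ hρ
  -- `σ(x)ᵀ B x = B`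
  have hE : ∀ x ∈ R, ((x : Matrix (Fin n) (Fin n) F).map σ)ᵀ * (B : Matrix (Fin n) (Fin n) F) *
      (x : Matrix (Fin n) (Fin n) F) = (B : Matrix (Fin n) (Fin n) F) := by
    intro x hx
    have h1 := congrArg (fun g : GL (Fin n) F => (g : Matrix (Fin n) (Fin n) F))
      (hB ⟨x⁻¹, R.inv_mem hx⟩)
    simp only [ρ, MonoidHom.comp_apply, Subgroup.subtype_apply, dualHom_val, inv_inv,
      Units.val_mul] at h1
    rw [h1]
    have h2 : (B * x⁻¹ * B⁻¹ * B * x : GL (Fin n) F) = B := by group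
    have h3 := congrArg (fun g : GL (Fin n) F => (g : Matrix (Fin n) (Fin n) F)) h2
    simpa only [Units.val_mul] using h3
  set J : Matrix (Fin n) (Fin n) F := (B : Matrix (Fin n) (Fin n) F).map σ with hJdef
  have hJunit : IsUnit J := (Matrix.isUnit_iff_isUnit_det _).mpr (Matrix.isUnit_det_of_left_inverse (map_mul_map_inv σ B))
  have hfix : ∀ x ∈ R, (x : Matrix (Fin n) (Fin n) F)ᵀ * J *
      (x : Matrix (Fin n) (Fin n) F).map σ = J := by
    intro x hx
    have := congrArg (fun A : Matrix (Fin n) (Fin n) F => A.map σ) (hE x hx)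
    simp only [Matrix.map_mul, Matrix.transpose_map, hmm] at this
    exact this
  have hfix' : ∀ x ∈ R, (x : Matrix (Fin n) (Fin n) F)ᵀ * (J.map σ)ᵀ *
      (x : Matrix (Fin n) (Fin n) F).map σ = (J.map σ)ᵀ := by
    intro x hx
    have := congrArg (fun A : Matrix (Fin n) (Fin n) F => (A.map σ)ᵀ) (hfix x hx)
    simp only [Matrix.map_mul, Matrix.transpose_mul, Matrix.transpose_map, hmm,
      Matrix.transpose_transpose] at this
    rw [← Matrix.mul_assoc] at this
    simpa only [Matrix.transpose_map] using this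
  obtain ⟨c, hcJ⟩ := gram_proportional σ R hS.2 J ((J.map σ)ᵀ) hJunit hfix hfix'
  refine ⟨J, c, hJunit, hfix, hcJ, ?_⟩
  -- `J = (J*)* = σ(c) c J`
  have h2 : J = (σ c * c) • J := by
    have h3 : (((J.map σ)ᵀ).map σ)ᵀ = J := by
      rw [Matrix.transpose_map, Matrix.transpose_transpose, hmm]
    conv_lhs => rw [← h3, hcJ]
    rw [Matrix.map_smul' (σ : F → F) c J (fun a b => by simp), Matrix.transpose_smul, hcJ, smul_smul]
  obtain ⟨Ju, hJu⟩ := hJunit
  have h4 : (1 : Matrix (Fin n) (Fin n) F) = (σ c * c) • 1 := by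
    have := congrArg (fun A => A * (↑Ju⁻¹ : Matrix (Fin n) (Fin n) F)) h2
    simp only [Matrix.smul_mul] at this
    rwa [← hJu, Ju.mul_inv] at this
  have h5 := congrFun (congrFun h4 ⟨0, hn⟩) ⟨0, hn⟩
  simp only [Matrix.one_apply_eq, Matrix.smul_apply, smul_eq_mul, mul_one] at h5
  exact h5.symm

omit [Fintype F] in
theorem scalar_pow_eq_one (hn : 0 < n) (x : GL (Fin n) F) (c : Fˣ) (z : ℕ)
    (hcx : (x : Matrix (Fin n) (Fin n) F) = (c : F) • 1) (h1 : x ^ z = 1) : (c : F) ^ z = 1 := by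
  have h2 := congrArg (fun g : GL (Fin n) F => (g : Matrix (Fin n) (Fin n) F)) h1
  simp only [Units.val_pow_eq_pow_val, hcx, Units.val_one] at h2
  rw [smul_pow, one_pow] at h2
  have h3 := congrFun (congrFun h2 ⟨0, hn⟩) ⟨0, hn⟩
  simpa using h3

omit [Fintype F] in
theorem isUnit_smul {l : F} (hl0 : l ≠ 0) {J : Matrix (Fin n) (Fin n) F} (hJ : IsUnit J) :
    IsUnit (l • J) := by
  rw [Matrix.isUnit_iff_isUnit_det, Matrix.det_smul]
  exact ((IsUnit.mk0 l hl0).pow _).mul ((Matrix.isUnit_iff_isUnit_det _).mp hJ)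

end Cfsg.Agent.Lib.Helper37.AschDualform

namespace Cfsg.Agent.Lib.Helper99.Asch

open Cfsg Cfsg.Geo Matrix Cfsg.Agent.Lib.Helper37.Asch Cfsg.Agent.Lib.Helper37.AschDualform
open scoped MatrixGroups

variable {n : ℕ} {F : Type*} [Field F] [Fintype F]

/-- ASCH-[DUALFORM-U] -/
theorem fixes_unitary_of_sympOut (hn : 3 ≤ n) (H R : Subgroup (GL (Fin n) F)) (r z : ℕ)
    (hR : SympOut H R r z) (σ : F ≃+* F) (hσ : σ ≠ RingEquiv.refl F) (hinv : ∀ a, σ (σ a) = a)
    (hz : ∀ c : F, c ^ z = 1 → σ c * c = 1) :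
    ∃ f : (Fin n → F) → (Fin n → F) → F, IsUnitaryForm σ f ∧ FixesForm (matrixSet R) f := by
  have hn0 : 0 < n := by omega
  have hsc : ∀ x ∈ R, ∀ c : Fˣ, (x : Matrix (Fin n) (Fin n) F) = (c : F) • 1 → σ c * c = 1 := by
    intro x hx c hcx
    apply hz
    exact scalar_pow_eq_one hn0 x c z hcx (hR.scalar_pow x hx ((mem_scalars_iff _).mpr ⟨c, hcx⟩))
  obtain ⟨J, c, hJ, hfix, hcJ, hcc⟩ :=
    exists_invariant_gram hn0 σ hinv R hR.absIrred hR.commScalar hsc
  obtain ⟨l, hl0, hl⟩ : ∃ l : F, l ≠ 0 ∧ σ l * c = l := by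
    by_cases hc1 : 1 + c = 0
    · have hcm : c = -1 := by linear_combination hc1
      obtain ⟨a, ha⟩ : ∃ a, σ a ≠ a := by
        by_contra hno
        push Not at hno
        exact hσ (RingEquiv.ext hno)
      refine ⟨a - σ a, fun h => ha (sub_eq_zero.mp h).symm, ?_⟩
      rw [map_sub, hinv, hcm]; ring
    · refine ⟨1 + c, hc1, ?_⟩
      rw [map_add, map_one, add_mul, one_mul, hcc]; ring
  have hJ'herm : ((l • J).map σ)ᵀ = l • J := by
    rw [Matrix.map_smul' (σ : F → F) l J (fun a b => by simp), Matrix.transpose_smul, hcJ, smul_smul,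
      hl]
  refine ⟨formOf σ (l • J), ⟨hσ, hinv, (isSesq_formOf σ (l • J)).add_left,
    (isSesq_formOf σ (l • J)).smul_left, ?_, ?_⟩, ?_⟩
  · intro v w
    rw [formOf_swap σ hinv, hJ'herm]
  · exact nondegenerate_formOf σ (isUnit_smul hl0 hJ)
  · rintro s ⟨x, hx, rfl⟩ u v
    rw [formOf_mulVec]
    congr 1
    rw [Matrix.mul_smul, Matrix.smul_mul, hfix x hx]

/-- ASCH-[DUALFORM-B] -/
theorem fixes_bilinear_of_sympOut (hn : 3 ≤ n) (H R : Subgroup (GL (Fin n) F))
    (hR : SympOut H R 2 2) :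
    (∃ f : (Fin n → F) → (Fin n → F) → F, IsSymplecticForm f ∧ FixesForm (matrixSet R) f) ∨
    (∃ Q : (Fin n → F) → F, IsNondegenerateQuadraticForm Q ∧ FixesQuadForm (matrixSet R) Q) := by
  have hn0 : 0 < n := by omega
  have h2 : (2 : F) ≠ 0 := by
    intro h2
    apply hR.coprime
    have hch : ringChar F = 2 := CharP.ringChar_of_prime_eq_zero Nat.prime_two (by exact_mod_cast h2)
    exact Nat.dvd_of_mod_eq_zero (FiniteField.even_card_iff_char_two.mp hch)
  set σ : F ≃+* F := RingEquiv.refl F with hσdef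
  have hinv : ∀ a, σ (σ a) = a := fun a => rfl
  have hsc : ∀ x ∈ R, ∀ c : Fˣ, (x : Matrix (Fin n) (Fin n) F) = (c : F) • 1 → σ c * c = 1 := by
    intro x hx c hcx
    have := scalar_pow_eq_one hn0 x c 2 hcx (hR.scalar_pow x hx ((mem_scalars_iff _).mpr ⟨c, hcx⟩))
    show (c : F) * c = 1
    rw [← this]; ring
  obtain ⟨J, c, hJ, hfix, hcJ, hcc⟩ :=
    exists_invariant_gram hn0 σ hinv R hR.absIrred hR.commScalar hsc
  have hsesq := isSesq_formOf σ J
  have hbil : IsBilinearForm (formOf σ J) :=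
    ⟨hsesq.add_left, hsesq.smul_left, hsesq.add_right, hsesq.smul_right⟩
  have hnd := nondegenerate_formOf σ hJ
  have hswap : ∀ u v, formOf σ J u v = c * formOf σ J v u := by
    intro u v
    have := formOf_swap σ hinv J u v
    rw [hcJ, formOf_smul] at this
    exact this
  have hfixf : FixesForm (matrixSet R) (formOf σ J) := by
    rintro s ⟨x, hx, rfl⟩ u v
    rw [formOf_mulVec, hfix x hx]
  have hc2 : c = 1 ∨ c = -1 := mul_self_eq_one_iff.mp hcc
  rcases hc2 with hc1 | hc1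
  · -- symmetric: quadratic form
    right
    have hsym : ∀ u v, formOf σ J u v = formOf σ J v u := by
      intro u v; rw [hswap u v, hc1, one_mul]
    have hpolar : QuadraticMap.polar (fun v => formOf σ J v v) = fun u v => 2 * formOf σ J u v := by
      funext u v
      unfold QuadraticMap.polar
      show formOf σ J (u + v) (u + v) - formOf σ J u u - formOf σ J v v = 2 * formOf σ J u v
      rw [hbil.add_left, hbil.add_right, hbil.add_right, hsym v u]
      ring
    refine ⟨fun v => formOf σ J v v, ⟨?_, ?_, ?_⟩, ?_⟩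
    · intro a v
      show formOf σ J (a • v) (a • v) = a ^ 2 * formOf σ J v v
      rw [hbil.smul_left, hbil.smul_right]; ring
    · rw [hpolar]
      refine ⟨fun x y v => ?_, fun a x v => ?_, fun v x y => ?_, fun a v x => ?_⟩
      · rw [hbil.add_left]; ring
      · rw [hbil.smul_left]; ring
      · rw [hbil.add_right]; ring
      · rw [hbil.smul_right]; ring
    · rw [hpolar]
      intro v hv
      obtain ⟨⟨x, hx⟩, ⟨y, hy⟩⟩ := hnd v hv
      exact ⟨⟨x, mul_ne_zero h2 hx⟩, ⟨y, mul_ne_zero h2 hy⟩⟩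
    · intro s hs v
      exact hfixf s hs v v
  · -- skew: symplectic form
    left
    have hskew : ∀ u v, formOf σ J u v = - formOf σ J v u := by
      intro u v; rw [hswap u v, hc1, neg_one_mul]
    refine ⟨formOf σ J, ⟨hbil, hskew, ?_, hnd⟩, hfixf⟩
    intro v
    have h3 := hskew v v
    have h4 : (2 : F) * formOf σ J v v = 0 := by linear_combination h3
    exact (mul_eq_zero.mp h4).resolve_left h2

end Cfsg.Agent.Lib.Helper99.Asch
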