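/-
helper37 library: any two anisotropic binary quadratic forms `z₁² + a z₁ z₂ + c z₂²` over a finite
field are isometric; consequently the standard elliptic forms with different anisotropic binary
parts are isometric.
-/
import Mathlib
import Cfsg.Agent.Lib.Helper37.OrthEvenType

set_option autoImplicit false

namespace Cfsg.Agent.Lib.Helper37.OrthEven

open Cfsg.Agent.Lib.Helper5 Matrix

section solve
variable {F : Type*} [Field F] [Fintype F]

/-- characteristic two: the Artin–Schreier map has image of index two -/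
theorem exists_AS_of_char_two (h2 : (2 : F) = 0) (ζ ζ' : F) (hζ : ∀ t : F, t ^ 2 + t + ζ ≠ 0)
    (hζ' : ∀ t : F, t ^ 2 + t + ζ' ≠ 0) : ∃ α : F, α ^ 2 + α = ζ - ζ' := by
  classical
  let P : F →+ F :=
    { toFun := fun t => t ^ 2 + t
      map_zero' := by simp
      map_add' := fun s t => by linear_combination (s * t) * h2 }
  have hPapp : ∀ t, P t = t ^ 2 + t := fun t => rfl
  have hneg : ∀ t : F, -t = t := by
    intro t
    linear_combination (-t) * h2
  have hker : Nat.card P.ker = 2 := by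
    rw [Nat.card_eq_two_iff]
    refine ⟨⟨0, by rw [AddMonoidHom.mem_ker, map_zero]⟩,
      ⟨1, by rw [AddMonoidHom.mem_ker, hPapp]; linear_combination h2⟩, ?_, ?_⟩
    · intro h
      have := congrArg Subtype.val h
      exact zero_ne_one this
    · ext t
      simp only [Set.mem_insert_iff, Set.mem_singleton_iff, Set.mem_univ, iff_true]
      have h1 := t.2
      rw [AddMonoidHom.mem_ker, hPapp] at h1
      have h3 : (t : F) * ((t : F) + 1) = 0 := by linear_combination h1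
      rcases mul_eq_zero.1 h3 with h | h
      · left; exact Subtype.ext h
      · right
        apply Subtype.ext
        show (t : F) = 1
        have := eq_neg_of_add_eq_zero_left h
        rw [this, hneg]
  have h1 := AddSubgroup.card_mul_index P.ker
  rw [AddSubgroup.index_ker, hker] at h1
  have h3 := AddSubgroup.card_mul_index P.range
  have hpos : 0 < Nat.card P.range := Nat.card_pos
  have hidx : P.range.index = 2 := by
    have : Nat.card P.range * P.range.index = Nat.card P.range * 2 := by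
      rw [h3, ← h1, mul_comm]
    exact Nat.eq_of_mul_eq_mul_left hpos this
  obtain ⟨a₀, ha₀⟩ := AddSubgroup.index_eq_two_iff.1 hidx
  have hnot : ∀ z : F, (∀ t : F, t ^ 2 + t + z ≠ 0) → z ∉ P.range := by
    intro z hz hmem
    obtain ⟨t, ht⟩ := hmem
    apply hz t
    rw [hPapp] at ht
    rw [ht]
    linear_combination z * h2
  have hx1 : ζ + a₀ ∈ P.range := by
    rcases ha₀ ζ with h | h
    · exact h.1
    · exact absurd h.1 (hnot ζ hζ)
  have hx2 : ζ' + a₀ ∈ P.range := by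
    rcases ha₀ ζ' with h | h
    · exact h.1
    · exact absurd h.1 (hnot ζ' hζ')
  have hx3 : ζ - ζ' ∈ P.range := by
    have := P.range.sub_mem hx1 hx2
    have h4 : ζ + a₀ - (ζ' + a₀) = ζ - ζ' := by ring
    rwa [h4] at this
  obtain ⟨α, hα⟩ := hx3
  exact ⟨α, hα⟩

/-- odd characteristic: the ratio of the two (non-square) discriminants is a square -/
theorem exists_sqrt_of_char_odd (h2 : (2 : F) ≠ 0) (ζ ζ' : F) (hζ : ∀ t : F, t ^ 2 + t + ζ ≠ 0)
    (hζ' : ∀ t : F, t ^ 2 + t + ζ' ≠ 0) :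
    ∃ α : F, (4 * ζ' - 1) * (α ^ 2 + α) = ζ - ζ' := by
  classical
  have h4 : (4 : F) ≠ 0 := by
    have : (4 : F) = 2 * 2 := by norm_num
    rw [this]
    exact mul_ne_zero h2 h2
  have hns : ∀ z : F, (∀ t : F, t ^ 2 + t + z ≠ 0) → ¬ IsSquare (1 - 4 * z) := by
    intro z hz hsq
    obtain ⟨s, hs⟩ := hsq
    apply hz ((-1 + s) / 2)
    field_simp
    linear_combination (-1 : F) * hs
  have hD := hns ζ hζ
  have hD' := hns ζ' hζ'
  rw [← quadraticChar_neg_one_iff_not_isSquare] at hD hD'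
  have hD'0 : (1 - 4 * ζ') ≠ 0 := by
    intro h
    rw [h, quadraticChar_zero] at hD'
    norm_num at hD'
  have hprod : quadraticChar F ((1 - 4 * ζ) * (1 - 4 * ζ')⁻¹) = 1 := by
    rw [map_mul, hD]
    have h1 : quadraticChar F ((1 - 4 * ζ')⁻¹) * quadraticChar F (1 - 4 * ζ') = 1 := by
      rw [← map_mul, inv_mul_cancel₀ hD'0, map_one]
    rw [hD'] at h1
    have h5 : quadraticChar F ((1 - 4 * ζ')⁻¹) = -1 := by linarith
    rw [h5]
    norm_num
  have hD0 : (1 - 4 * ζ) ≠ 0 := by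
    intro h
    rw [h, quadraticChar_zero] at hD
    norm_num at hD
  have hne : (1 - 4 * ζ) * (1 - 4 * ζ')⁻¹ ≠ 0 := mul_ne_zero hD0 (inv_ne_zero hD'0)
  obtain ⟨s, hs⟩ := (quadraticChar_one_iff_isSquare hne).1 hprod
  refine ⟨(s - 1) / 2, ?_⟩
  have hs' : (1 - 4 * ζ) = s * s * (1 - 4 * ζ') := by
    rw [← hs, mul_assoc, inv_mul_cancel₀ hD'0, mul_one]
  field_simp
  linear_combination hs'

/-- the key equation is solvable -/
theorem exists_alpha (ζ ζ' : F) (hζ : ∀ t : F, t ^ 2 + t + ζ ≠ 0)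
    (hζ' : ∀ t : F, t ^ 2 + t + ζ' ≠ 0) :
    ∃ α : F, (4 * ζ' - 1) * (α ^ 2 + α) = ζ - ζ' := by
  by_cases h2 : (2 : F) = 0
  · obtain ⟨α, hα⟩ := exists_AS_of_char_two h2 ζ ζ' hζ hζ'
    refine ⟨α, ?_⟩
    have h4 : (4 : F) = 0 := by
      have : (4 : F) = 2 * 2 := by norm_num
      rw [this, h2, mul_zero]
    rw [h4, zero_mul, zero_sub, neg_one_mul, hα]
    linear_combination (-(ζ - ζ')) * h2
  · exact exists_sqrt_of_char_odd h2 ζ ζ' hζ hζ'

end solve

section iso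
variable {F : Type*} [Field F] [Fintype F]

/-- `z₁² + z₁z₂ + ζ' z₂²` and `z₁² + z₁z₂ + ζ z₂²` are isometric when both are anisotropic -/
theorem exists_binForm_iso_std (ζ ζ' : F) (hζ : ∀ t : F, t ^ 2 + t + ζ ≠ 0)
    (hζ' : ∀ t : F, t ^ 2 + t + ζ' ≠ 0) :
    ∃ S : (Fin 2 → F) ≃ₗ[F] (Fin 2 → F), ∀ z, binForm 1 ζ' (S z) = binForm 1 ζ z := by
  obtain ⟨α, hα⟩ := exists_alpha ζ ζ' hζ hζ'
  let L : (Fin 2 → F) →ₗ[F] (Fin 2 → F) := Matrix.toLin' !![1, -α; 0, 1 + 2 * α]
  have hL0 : ∀ z, L z 0 = z 0 - α * z 1 := by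
    intro z
    show (Matrix.toLin' !![1, -α; 0, 1 + 2 * α]) z 0 = _
    rw [Matrix.toLin'_apply]
    simp [Matrix.mulVec, dotProduct, Fin.sum_univ_two]
    ring
  have hL1 : ∀ z, L z 1 = (1 + 2 * α) * z 1 := by
    intro z
    show (Matrix.toLin' !![1, -α; 0, 1 + 2 * α]) z 1 = _
    rw [Matrix.toLin'_apply]
    simp [Matrix.mulVec, dotProduct, Fin.sum_univ_two]
  have hiso : ∀ z, binForm 1 ζ' (L z) = binForm 1 ζ z := by
    intro z
    rw [binForm_apply, binForm_apply, hL0, hL1]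
    linear_combination (z 1) ^ 2 * hα
  have hinj : Function.Injective L := by
    rw [injective_iff_map_eq_zero]
    intro z hz
    have := hiso z
    rw [hz, map_zero] at this
    exact binForm_aniso (aniso_of_irred ζ hζ) z this.symm
  exact ⟨LinearEquiv.ofInjectiveEndo L hinj, hiso⟩

/-- any anisotropic binary form `z₁² + a z₁z₂ + c z₂²` is isometric to any `z₁² + z₁z₂ + ζ z₂²`
with `t² + t + ζ` without roots -/
theorem exists_binForm_iso (a c : F)
    (hac : ∀ z₁ z₂ : F, z₁ ^ 2 + a * z₁ * z₂ + c * z₂ ^ 2 = 0 → z₁ = 0 ∧ z₂ = 0)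
    (ζ : F) (hζ : ∀ t : F, t ^ 2 + t + ζ ≠ 0) :
    ∃ S : (Fin 2 → F) ≃ₗ[F] (Fin 2 → F), ∀ z, binForm a c (S z) = binForm 1 ζ z := by
  classical
  have hV : Module.finrank F (Fin 2 → F) = 2 * 1 := by
    rw [Module.finrank_fintype_fun_eq_card, Fintype.card_fin]
  have hnd := nondeg_of_exists (binForm a c) (binForm_nondeg hac)
  rcases exists_std_iso 1 hV (binForm a c) hnd with ⟨T, hT⟩ | ⟨-, ζ', hζ', T, hT⟩
  · exfalso
    have h1 := hT (T.symm (Pi.single (Sum.inl 0) 1))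
    rw [LinearEquiv.apply_symm_apply] at h1
    have h2 : Cfsg.quadFormPlus 1 F (Pi.single (Sum.inl 0) 1) = 0 := by
      unfold Cfsg.quadFormPlus
      simp
    rw [h2] at h1
    have h3 := binForm_aniso hac _ h1.symm
    have h4 : T (T.symm (Pi.single (Sum.inl 0) 1)) = 0 := by rw [h3, map_zero]
    rw [LinearEquiv.apply_symm_apply] at h4
    have h5 := congrFun h4 (Sum.inl 0)
    simp at h5
  · let S₁ : (Fin 2 → F) ≃ₗ[F] (Fin 2 → F) := T.trans (minusZeroEquiv F).symm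
    have hS₁ : ∀ v, binForm 1 ζ' (S₁ v) = binForm a c v := by
      intro v
      rw [← tailForm_minusZeroEquiv 1 ζ' (S₁ v)]
      show tailForm 0 (binForm 1 ζ') ((minusZeroEquiv F) ((minusZeroEquiv F).symm (T v))) = _
      rw [LinearEquiv.apply_symm_apply, tailForm_binForm]
      exact hT v
    obtain ⟨S₂, hS₂⟩ := exists_binForm_iso_std ζ ζ' hζ hζ'
    refine ⟨S₂.trans S₁.symm, ?_⟩
    intro z
    rw [← hS₂ z, ← hS₁ (S₂.trans S₁.symm z)]
    show binForm 1 ζ' (S₁ (S₁.symm (S₂ z))) = _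
    rw [LinearEquiv.apply_symm_apply]

/-- the standard elliptic forms with different anisotropic binary parts are isometric -/
theorem exists_minus_iso (n : ℕ) (a c : F)
    (hac : ∀ z₁ z₂ : F, z₁ ^ 2 + a * z₁ * z₂ + c * z₂ ^ 2 = 0 → z₁ = 0 ∧ z₂ = 0)
    (ζ : F) (hζ : ∀ t : F, t ^ 2 + t + ζ ≠ 0) :
    ∃ T : ((Fin n ⊕ Fin n) ⊕ Fin 2 → F) ≃ₗ[F] ((Fin n ⊕ Fin n) ⊕ Fin 2 → F),
      ∀ v, Cfsg.quadFormMinus n F a c (T v) = Cfsg.quadFormMinus n F 1 ζ v := by
  obtain ⟨S, hS⟩ := exists_binForm_iso a c hac ζ hζ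
  let E := LinearEquiv.sumArrowLequivProdArrow (Fin n ⊕ Fin n) (Fin 2) F F
  let T : ((Fin n ⊕ Fin n) ⊕ Fin 2 → F) ≃ₗ[F] ((Fin n ⊕ Fin n) ⊕ Fin 2 → F) :=
    E.trans ((LinearEquiv.prodCongr (LinearEquiv.refl F _) S).trans E.symm)
  have hTl : ∀ v k, T v (Sum.inl k) = v (Sum.inl k) := fun v k => rfl
  have hTr : ∀ v, (T v) ∘ Sum.inr = S (v ∘ Sum.inr) := fun v => rfl
  refine ⟨T, ?_⟩
  intro v
  rw [← tailForm_binForm, ← tailForm_binForm, tailForm_apply, tailForm_apply, hTr, hS]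
  simp only [hTl]

end iso

end Cfsg.Agent.Lib.Helper37.OrthEven
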