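/-
helper37 library: irreducible factors of cyclotomic polynomials over finite fields and the
(unitary) dual polynomial: roots in the root field, self-duality criterion, and the arithmetic of
`-q` modulo `r`.
-/
import Mathlib
import Cfsg.Agent.Lib.Helper37.DualPoly
import Cfsg.Agent.Lib.Helper37.GUConj

set_option autoImplicit false

namespace Cfsg.Agent.Lib.Helper37.CycloDual

open Polynomial Cfsg.Agent.Lib.Helper37.DualPoly

theorem pow_eq_pow_iff_mod {M : Type*} [Monoid M] (x : M) (hpos : 0 < orderOf x) (a b : ℕ) :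
    x ^ a = x ^ b ↔ a ≡ b [MOD orderOf x] := by
  constructor
  · intro h
    rw [← pow_mod_orderOf x a, ← pow_mod_orderOf x b] at h
    exact pow_injOn_Iio_orderOf (Nat.mod_lt _ hpos) (Nat.mod_lt _ hpos) h
  · intro h
    rw [← pow_mod_orderOf x a, ← pow_mod_orderOf x b, h]

section roots

variable {K : Type*} [Field K] [Fintype K]

/-- evaluation at a `#K`-th power -/
theorem aeval_pow_card {L : Type*} [Field L] [Algebra K L] (g : K[X]) (y : L) :
    aeval (y ^ Fintype.card K) g = (aeval y g) ^ Fintype.card K := by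
  rw [← expand_aeval, FiniteField.expand_card, map_pow]

theorem aeval_pow_card_pow {L : Type*} [Field L] [Algebra K L] (g : K[X]) (y : L) (k : ℕ) :
    aeval (y ^ (Fintype.card K ^ k)) g = (aeval y g) ^ (Fintype.card K ^ k) := by
  induction k generalizing y with
  | zero => simp
  | succ k ih =>
    rw [pow_succ, pow_mul, aeval_pow_card, ih, ← pow_mul]

variable {r : ℕ} (hr : r.Prime) {m : K[X]} (hm : m.Monic) (hirr : Irreducible m)
  (hdvd : m ∣ X ^ r - 1) (hne : m ≠ X - 1)
  (hdeg : m.natDegree = orderOf ((Fintype.card K : ℕ) : ZMod r))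

include hr hm hirr hdvd hne hdeg in
/-- the roots of an irreducible factor of the `r`-th cyclotomic polynomial in its root field are
the `Q^k`-th powers of one root -/
theorem aeval_root_pow_eq_zero_iff (e : ℕ) :
    aeval ((AdjoinRoot.root m) ^ e) m = 0 ↔
      ∃ k : ℕ, (e : ZMod r) = ((Fintype.card K : ℕ) : ZMod r) ^ k := by
  classical
  have : Fact (Irreducible m) := ⟨hirr⟩
  have : Fact r.Prime := ⟨hr⟩
  set ζ : AdjoinRoot m := AdjoinRoot.root m with hζ
  set Q := Fintype.card K with hQ
  have hζm : aeval ζ m = 0 := by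
    rw [AdjoinRoot.aeval_eq, AdjoinRoot.mk_self]
  have hζr : ζ ^ r = 1 := by
    obtain ⟨c, hc⟩ := hdvd
    have := congrArg (aeval ζ) hc
    rw [map_mul, hζm, zero_mul, map_sub, map_pow, aeval_X, map_one] at this
    exact sub_eq_zero.1 this
  have hζ1 : ζ ≠ 1 := by
    intro h1
    have h2 : aeval ζ (X - 1 : K[X]) = 0 := by
      rw [map_sub, aeval_X, map_one, h1, sub_self]
    rw [AdjoinRoot.aeval_eq, AdjoinRoot.mk_eq_zero] at h2
    apply hne
    have hmon1 : (X - 1 : K[X]).Monic := by simpa using monic_X_sub_C (1 : K)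
    have hirr1 : Irreducible (X - 1 : K[X]) := by simpa using irreducible_X_sub_C (1 : K)
    exact eq_of_monic_of_associated hm hmon1 (hirr.associated_of_dvd hirr1 h2)
  have hord : orderOf ζ = r := orderOf_eq_prime hζr hζ1
  -- the known roots
  have hroot : ∀ k : ℕ, aeval (ζ ^ (Q ^ k)) m = 0 := by
    intro k
    rw [aeval_pow_card_pow, hζm, zero_pow (pow_ne_zero _ Fintype.card_ne_zero)]
  have hm0 : m.map (algebraMap K (AdjoinRoot m)) ≠ 0 :=
    (hm.map _).ne_zero
  set d := orderOf ((Q : ℕ) : ZMod r) with hd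
  let R₀ : Finset (AdjoinRoot m) := (Finset.range d).image (fun k => ζ ^ (Q ^ k))
  have hinj : Set.InjOn (fun k => ζ ^ (Q ^ k)) (Finset.range d : Set ℕ) := by
    intro a ha b hb hab
    have h1 : ζ ^ (Q ^ a) = ζ ^ (Q ^ b) := hab
    rw [pow_eq_pow_iff_mod ζ (by rw [hord]; exact hr.pos), hord, ← ZMod.natCast_eq_natCast_iff,
      Nat.cast_pow, Nat.cast_pow] at h1
    have ha' : a < d := Finset.mem_range.1 ha
    have hb' : b < d := Finset.mem_range.1 hb
    exact pow_injOn_Iio_orderOf ha' hb' h1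
  have hR₀card : R₀.card = d := by
    rw [Finset.card_image_of_injOn hinj, Finset.card_range]
  have hR₀sub : R₀ ⊆ (m.map (algebraMap K (AdjoinRoot m))).roots.toFinset := by
    intro y hy
    obtain ⟨k, _, rfl⟩ := Finset.mem_image.1 hy
    rw [Multiset.mem_toFinset, mem_roots hm0, IsRoot, eval_map_algebraMap]
    exact hroot k
  have hR₀eq : R₀ = (m.map (algebraMap K (AdjoinRoot m))).roots.toFinset := by
    apply Finset.eq_of_subset_of_card_le hR₀sub
    calc (m.map (algebraMap K (AdjoinRoot m))).roots.toFinset.card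
        ≤ Multiset.card (m.map (algebraMap K (AdjoinRoot m))).roots := Multiset.toFinset_card_le _
      _ ≤ (m.map (algebraMap K (AdjoinRoot m))).natDegree := card_roots' _
      _ = d := by rw [natDegree_map, hdeg]
      _ = R₀.card := hR₀card.symm
  constructor
  · intro h
    have hmem : ζ ^ e ∈ R₀ := by
      rw [hR₀eq, Multiset.mem_toFinset, mem_roots hm0, IsRoot, eval_map_algebraMap]
      exact h
    obtain ⟨k, _, hk⟩ := Finset.mem_image.1 hmem
    refine ⟨k, ?_⟩
    have h1 : ζ ^ (Q ^ k) = ζ ^ e := hk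
    rw [pow_eq_pow_iff_mod ζ (by rw [hord]; exact hr.pos), hord, ← ZMod.natCast_eq_natCast_iff,
      Nat.cast_pow] at h1
    exact h1.symm
  · rintro ⟨k, hk⟩
    have h1 : ζ ^ e = ζ ^ (Q ^ k) := by
      rw [pow_eq_pow_iff_mod ζ (by rw [hord]; exact hr.pos), hord, ← ZMod.natCast_eq_natCast_iff,
        Nat.cast_pow]
      exact hk
    rw [h1]
    exact hroot k

end roots

section unitary

open Cfsg.Agent.Lib.Helper5 Cfsg.Agent.Lib.Helper37.GUConj Cfsg.Agent.Lib.Helper37.NormEq

variable {K : Type*} [Field K] [Fintype K] {q : ℕ}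

/-- the unitary dual of a polynomial -/
noncomputable def udual (hK : Fintype.card K = q ^ 2) (f : K[X]) : K[X] := rdual (f.map (sig hK : K →+* K))

theorem map_sig_map_sig (hK : Fintype.card K = q ^ 2) (f : K[X]) :
    (f.map (sig hK : K →+* K)).map (sig hK : K →+* K) = f := by
  ext k
  rw [coeff_map, coeff_map]
  exact sig_sig hK _

theorem map_sig_monic (hK : Fintype.card K = q ^ 2) {f : K[X]} (hf : f.Monic) :
    (f.map (sig hK : K →+* K)).Monic := hf.map _

theorem map_sig_irreducible (hK : Fintype.card K = q ^ 2) {f : K[X]} (hf : Irreducible f) :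
    Irreducible (f.map (sig hK : K →+* K)) := by
  have := (MulEquiv.irreducible_iff (Polynomial.mapEquiv (sig hK)).toMulEquiv).2 hf
  exact this

theorem map_sig_coeff_zero_ne (hK : Fintype.card K = q ^ 2) {f : K[X]} (h0 : f.coeff 0 ≠ 0) :
    (f.map (sig hK : K →+* K)).coeff 0 ≠ 0 := by
  rw [coeff_map]
  exact (map_ne_zero_iff _ (sig hK).injective).2 h0

theorem udual_monic (hK : Fintype.card K = q ^ 2) {f : K[X]} (h0 : f.coeff 0 ≠ 0) :
    (udual hK f).Monic := rdual_monic (map_sig_coeff_zero_ne hK h0)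

theorem udual_natDegree (hK : Fintype.card K = q ^ 2) {f : K[X]} (h0 : f.coeff 0 ≠ 0) :
    (udual hK f).natDegree = f.natDegree := by
  unfold udual
  rw [rdual_natDegree (map_sig_coeff_zero_ne hK h0), natDegree_map]

theorem udual_mul (hK : Fintype.card K = q ^ 2) (f g : K[X]) :
    udual hK (f * g) = udual hK f * udual hK g := by
  unfold udual
  rw [Polynomial.map_mul, rdual_mul]

theorem udual_udual (hK : Fintype.card K = q ^ 2) {f : K[X]} (hf : f.Monic) (h0 : f.coeff 0 ≠ 0) :
    udual hK (udual hK f) = f := by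
  unfold udual
  rw [rdual_map, map_sig_map_sig, rdual_rdual hf h0]

theorem udual_irreducible (hK : Fintype.card K = q ^ 2) {m : K[X]} (hm : m.Monic)
    (hirr : Irreducible m) (h0 : m.coeff 0 ≠ 0) : Irreducible (udual hK m) :=
  rdual_irreducible (map_sig_monic hK hm) (map_sig_irreducible hK hirr)
    (map_sig_coeff_zero_ne hK h0)

theorem udual_dvd (hK : Fintype.card K = q ^ 2) {f g : K[X]} (h : f ∣ g) :
    udual hK f ∣ udual hK g :=
  rdual_dvd (Polynomial.map_dvd _ h)

theorem udual_X_sub_one (hK : Fintype.card K = q ^ 2) : udual hK (X - 1 : K[X]) = X - 1 := by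
  unfold udual
  rw [Polynomial.map_sub, map_X, Polynomial.map_one, rdual_X_sub_one]

theorem udual_X_pow_sub_one (hK : Fintype.card K = q ^ 2) {r : ℕ} (hr : 0 < r) :
    udual hK (X ^ r - 1 : K[X]) = X ^ r - 1 := by
  unfold udual
  rw [Polynomial.map_sub, Polynomial.map_pow, map_X, Polynomial.map_one, rdual_X_pow_sub_one hr]

/-- the characteristic polynomial of the inverse conjugate transpose -/
theorem charpoly_st_inv (hK : Fintype.card K = q ^ 2) {n : ℕ} (A : Matrix (Fin n) (Fin n) K)
    (hA : IsUnit A.det) : ((st hK A)⁻¹).charpoly = udual hK A.charpoly := by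
  have h1 : (st hK A).charpoly = A.charpoly.map (sig hK : K →+* K) := by
    unfold st
    rw [Matrix.charpoly_transpose]
    exact Matrix.charpoly_map A (sig hK : K →+* K)
  have hdet : IsUnit (st hK A).det := by
    unfold st
    rw [Matrix.det_transpose]
    have : (A.map (sig hK)).det = sig hK A.det := by
      have := (RingHom.map_det (sig hK : K →+* K) A).symm
      simpa using this
    rw [this]
    exact hA.map _
  rw [charpoly_inv _ hdet, h1]
  rfl

/-- an irreducible factor of the `r`-th cyclotomic polynomial over `F_{q²}` is self-dual for the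
unitary duality iff `-q` is a power of `q²` modulo `r` -/
theorem udual_eq_self_iff (hK : Fintype.card K = q ^ 2) {r : ℕ} (hr : r.Prime) {m : K[X]}
    (hm : m.Monic) (hirr : Irreducible m) (hdvd : m ∣ X ^ r - 1) (hne : m ≠ X - 1)
    (hdeg : m.natDegree = orderOf (((q ^ 2 : ℕ) : ℕ) : ZMod r)) :
    udual hK m = m ↔ ∃ k : ℕ, -(q : ZMod r) = ((q ^ 2 : ℕ) : ZMod r) ^ k := by
  classical
  have : Fact (Irreducible m) := ⟨hirr⟩
  have : Fact r.Prime := ⟨hr⟩
  have hdeg' : m.natDegree = orderOf ((Fintype.card K : ℕ) : ZMod r) := by rw [hK]; exact hdeg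
  set ζ : AdjoinRoot m := AdjoinRoot.root m with hζ
  have hζm : aeval ζ m = 0 := by
    rw [AdjoinRoot.aeval_eq, AdjoinRoot.mk_self]
  have hζr : ζ ^ r = 1 := by
    obtain ⟨c, hc⟩ := hdvd
    have := congrArg (aeval ζ) hc
    rw [map_mul, hζm, zero_mul, map_sub, map_pow, aeval_X, map_one] at this
    exact sub_eq_zero.1 this
  have hζ0 : ζ ≠ 0 := by
    intro h0
    rw [h0, zero_pow hr.ne_zero] at hζr
    exact zero_ne_one hζr
  have hm0 : m.coeff 0 ≠ 0 := by
    intro h0
    have h1 : (X : K[X]) ∣ X ^ r - 1 := (X_dvd_iff.2 h0).trans hdvd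
    rw [X_dvd_iff, coeff_sub, coeff_X_pow, coeff_one_zero, if_neg hr.ne_zero.symm, zero_sub] at h1
    exact one_ne_zero (neg_eq_zero.1 h1)
  have hμmon : (udual hK m).Monic := udual_monic hK hm0
  have hμirr : Irreducible (udual hK m) := udual_irreducible hK hm hirr hm0
  -- step 1: reduce to a root condition
  have step1 : udual hK m = m ↔ aeval ζ (udual hK m) = 0 := by
    constructor
    · intro h; rw [h]; exact hζm
    · intro h
      rw [AdjoinRoot.aeval_eq, AdjoinRoot.mk_eq_zero] at h
      exact (eq_of_monic_of_associated hm hμmon (hirr.associated_of_dvd hμirr h)).symm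
  -- step 2: the Frobenius `y ↦ y ^ q` of the root field
  obtain ⟨p', k, hp', hchar', hqk⟩ := exists_prime_pow_eq hK
  have : Fact p'.Prime := ⟨hp'⟩
  have : CharP K p' := hchar'
  have : CharP (AdjoinRoot m) p' :=
    charP_of_injective_algebraMap (algebraMap K (AdjoinRoot m)).injective p'
  let φ : AdjoinRoot m →+* AdjoinRoot m := iterateFrobenius (AdjoinRoot m) p' k
  have hφ : ∀ y, φ y = y ^ q := by
    intro y
    rw [hqk]
    exact iterateFrobenius_def p' k y
  have hφinj : Function.Injective φ := RingHom.injective φ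
  have hcomp : (algebraMap K (AdjoinRoot m)).comp (sig hK : K →+* K) =
      φ.comp (algebraMap K (AdjoinRoot m)) := by
    ext x
    simp only [RingHom.comp_apply, hφ]
    rw [← map_pow]
    rfl
  have step2 : aeval ζ (udual hK m) = 0 ↔ aeval ((ζ⁻¹) ^ q) m = 0 := by
    unfold udual
    rw [aeval_rdual_eq_zero_iff (map_sig_coeff_zero_ne hK hm0) hζ0]
    have h1 := map_aeval_eq_aeval_map hcomp (m.map (sig hK : K →+* K)) ζ⁻¹
    rw [map_sig_map_sig, hφ, hφ] at h1
    rw [← h1]
    constructor
    · intro h; rw [h, zero_pow]; rw [hqk]; exact pow_ne_zero _ hp'.ne_zero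
    · intro h; exact pow_eq_zero_iff (by rw [hqk]; exact pow_ne_zero _ hp'.ne_zero) |>.1 h
  have hζinv : ζ⁻¹ = ζ ^ (r - 1) := by
    apply inv_eq_of_mul_eq_one_right
    rw [← pow_succ', Nat.sub_add_cancel hr.one_lt.le, hζr]
  rw [step1, step2, hζinv, ← pow_mul,
    aeval_root_pow_eq_zero_iff hr hm hirr hdvd hne hdeg' ((r - 1) * q), hK]
  have hcast : (((r - 1) * q : ℕ) : ZMod r) = -(q : ZMod r) := by
    rw [Nat.cast_mul, Nat.cast_sub hr.one_lt.le, ZMod.natCast_self, Nat.cast_one, zero_sub,
      neg_one_mul]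
  rw [hcast]

end unitary

/-- `-q` is a power of `q²` modulo an odd prime `r` iff the order of `q` is `≡ 2 (mod 4)` -/
theorem exists_neg_eq_sq_pow_iff {r q : ℕ} (hr : r.Prime) (hr2 : r ≠ 2) (hq : (q : ZMod r) ≠ 0) :
    (∃ k : ℕ, -(q : ZMod r) = ((q ^ 2 : ℕ) : ZMod r) ^ k) ↔ orderOf (q : ZMod r) % 4 = 2 := by
  have : Fact r.Prime := ⟨hr⟩
  set x : ZMod r := (q : ZMod r) with hx
  have hcast : ((q ^ 2 : ℕ) : ZMod r) = x ^ 2 := by rw [Nat.cast_pow]
  rw [hcast]
  have hne1 : (-1 : ZMod r) ≠ 1 := by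
    intro h
    have h2 : (2 : ZMod r) = 0 := by
      have : (1 : ZMod r) + 1 = 0 := by
        nth_rewrite 1 [← h]; ring
      rw [← this]; norm_num
    have h3 : ((2 : ℕ) : ZMod r) = 0 := by exact_mod_cast h2
    rw [ZMod.natCast_eq_zero_iff] at h3
    have := (Nat.prime_dvd_prime_iff_eq hr Nat.prime_two).1 h3
    exact hr2 this
  have hipos : 0 < orderOf x := by
    apply orderOf_pos_iff.2
    exact isOfFinOrder_iff_pow_eq_one.2 ⟨r - 1, by have := hr.two_le; omega,
      ZMod.pow_card_sub_one_eq_one hq⟩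
  constructor
  · rintro ⟨k, hk⟩
    rcases Nat.eq_zero_or_pos k with rfl | hkpos
    · rw [pow_zero] at hk
      have hx1 : x = -1 := by rw [← hk, neg_neg]
      rw [hx1, orderOf_neg_one, ringChar.eq (ZMod r) r, if_neg hr2]
    · have hxe : x ^ (2 * k - 1) = -1 := by
        have h1 : x * x ^ (2 * k - 1) = x * (-1) := by
          rw [← pow_succ', Nat.sub_add_cancel (by omega), mul_neg_one, hk, ← pow_mul]
        exact mul_left_cancel₀ hq h1
      set e := 2 * k - 1 with he
      have hodd : Odd e := ⟨k - 1, by omega⟩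
      have h2e : x ^ (2 * e) = 1 := by
        rw [mul_comm, pow_mul, hxe, neg_one_sq]
      have hd1 : orderOf x ∣ 2 * e := orderOf_dvd_of_pow_eq_one h2e
      have hd2 : ¬ orderOf x ∣ e := by
        rw [orderOf_dvd_iff_pow_eq_one, hxe]
        exact hne1
      have heven : Even (orderOf x) := by
        by_contra hno
        rw [Nat.not_even_iff_odd] at hno
        have hcop : Nat.Coprime (orderOf x) 2 := Nat.Coprime.symm (Nat.coprime_two_left.2 hno)
        exact hd2 (hcop.dvd_of_dvd_mul_left hd1)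
      obtain ⟨i', hi'⟩ := heven
      have hi'' : orderOf x = 2 * i' := by omega
      rw [hi''] at hd1
      have hd3 : i' ∣ e := (Nat.mul_dvd_mul_iff_left (by norm_num)).1 hd1
      have hi'odd : Odd i' := Odd.of_dvd_nat hodd hd3
      obtain ⟨t, ht⟩ := hi'odd
      omega
  · intro h
    obtain ⟨j, hj⟩ : ∃ j, orderOf x = 4 * j + 2 := ⟨orderOf x / 4, by omega⟩
    set y := x ^ (2 * j + 1) with hy
    have hy2 : y ^ 2 = 1 := by
      rw [hy, ← pow_mul]
      have : (2 * j + 1) * 2 = orderOf x := by omega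
      rw [this, pow_orderOf_eq_one]
    have hy1 : y ≠ 1 := by
      rw [hy]
      exact pow_ne_one_of_lt_orderOf (by omega) (by omega)
    have hym : y = -1 := by
      have h3 : (y - 1) * (y + 1) = 0 := by ring_nf; rw [hy2]; ring
      rcases mul_eq_zero.1 h3 with h4 | h4
      · exact absurd (sub_eq_zero.1 h4) hy1
      · exact eq_neg_of_add_eq_zero_left h4
    refine ⟨j + 1, ?_⟩
    rw [← pow_mul, show 2 * (j + 1) = (2 * j + 1) + 1 by ring, pow_succ, ← hy, hym, neg_one_mul]

end Cfsg.Agent.Lib.Helper37.CycloDual
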