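/-
helper37 library: a similitude with multiplier `μ` of a nondegenerate alternating form on a
space of dimension `2M` has determinant `μ ^ M`.
-/
import Mathlib
import Cfsg.Agent.Lib.Helper13.SympSplit

set_option autoImplicit false

namespace Cfsg.Agent.Lib.Helper37.FuseAlt

open Matrix Cfsg.Agent.Lib.Helper13

variable {F : Type*} [Field F]

theorem eq_of_forall_dot {n : Type*} [Fintype n] [DecidableEq n] (A B : Matrix n n F)
    (h : ∀ a a' : n → F, a ⬝ᵥ (A *ᵥ a') = a ⬝ᵥ (B *ᵥ a')) : A = B := by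
  ext i j
  have := h (Pi.single i 1) (Pi.single j 1)
  simpa using this

/-- matrix version -/
theorem det_of_J_similitude (M : ℕ) (C : Matrix (Fin M ⊕ Fin M) (Fin M ⊕ Fin M) F) (μ : F)
    (hμ : μ ≠ 0) (hC : Cᵀ * J (Fin M) F * C = μ • J (Fin M) F) : C.det = μ ^ M := by
  classical
  set d : Fin M ⊕ Fin M → F := Sum.elim (fun _ => μ⁻¹) (fun _ => 1) with hd
  set D : Matrix (Fin M ⊕ Fin M) (Fin M ⊕ Fin M) F := diagonal d with hD
  have hDJD : D * J (Fin M) F * D = μ⁻¹ • J (Fin M) F := by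
    ext i j
    rw [hD, Matrix.mul_diagonal, Matrix.diagonal_mul, Matrix.smul_apply, smul_eq_mul]
    rcases i with i | i <;> rcases j with j | j <;>
      simp [hd, J, Matrix.fromBlocks_apply₁₁, Matrix.fromBlocks_apply₁₂,
        Matrix.fromBlocks_apply₂₁, Matrix.fromBlocks_apply₂₂, mul_comm]
  have hmem : (C * D)ᵀ ∈ symplecticGroup (Fin M) F := by
    rw [SymplecticGroup.mem_iff, Matrix.transpose_transpose, Matrix.transpose_mul,
      Matrix.diagonal_transpose]
    calc D * Cᵀ * J (Fin M) F * (C * D) = D * (Cᵀ * J (Fin M) F * C) * D := by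
          simp only [Matrix.mul_assoc]
      _ = μ • (D * J (Fin M) F * D) := by
          rw [hC, Matrix.mul_smul, Matrix.smul_mul]
      _ = J (Fin M) F := by
          rw [hDJD, smul_smul, mul_inv_cancel₀ hμ, one_smul]
  have hdet := SymplecticGroup.det_eq_one hmem
  rw [Matrix.det_transpose, Matrix.det_mul] at hdet
  have hdetD : D.det = (μ⁻¹) ^ M := by
    rw [hD, Matrix.det_diagonal, Fintype.prod_sum_type]
    simp [hd]
  rw [hdetD] at hdet
  have h1 : (μ⁻¹) ^ M * μ ^ M = 1 := by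
    rw [← mul_pow, inv_mul_cancel₀ hμ, one_pow]
  calc C.det = C.det * ((μ⁻¹) ^ M * μ ^ M) := by rw [h1, mul_one]
    _ = (C.det * (μ⁻¹) ^ M) * μ ^ M := by ring
    _ = μ ^ M := by rw [hdet, one_mul]

variable {V : Type*} [AddCommGroup V] [Module F V] [FiniteDimensional F V]

/-- determinant of a similitude of a nondegenerate alternating form -/
theorem det_of_alt_similitude (ω : LinearMap.BilinForm F V) (hA : ω.IsAlt)
    (hnd : ∀ u, (∀ v, ω u v = 0) → u = 0) (M : ℕ) (hM : Module.finrank F V = 2 * M)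
    (c : V ≃ₗ[F] V) (μ : F) (hμ : μ ≠ 0) (hc : ∀ x y, ω (c x) (c y) = μ * ω x y) :
    LinearMap.det (c : V →ₗ[F] V) = μ ^ M := by
  classical
  obtain ⟨ι, hι⟩ := exists_symp_coords ω hA hnd M hM
  set c' : (Fin M ⊕ Fin M → F) →ₗ[F] (Fin M ⊕ Fin M → F) :=
    (ι.symm : V →ₗ[F] _) ∘ₗ (c : V →ₗ[F] V) ∘ₗ (ι : _ →ₗ[F] V) with hc'
  have hc'app : ∀ a, ι (c' a) = c (ι a) := by
    intro a
    rw [hc']
    simp
  have hdet : LinearMap.det (c : V →ₗ[F] V) = LinearMap.det c' := by
    rw [hc']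
    have := LinearMap.det_conj (c : V →ₗ[F] V) ι.symm
    rw [← this]
    congr 1
  rw [hdet, ← LinearMap.det_toMatrix']
  apply det_of_J_similitude M _ μ hμ
  apply eq_of_forall_dot
  intro a a'
  have h1 := hc (ι a) (ι a')
  rw [← hc'app, ← hc'app, hι, hι] at h1
  unfold Cfsg.sympForm at h1
  have e1 : ∀ b, c' b = LinearMap.toMatrix' c' *ᵥ b := by
    intro b
    rw [← Matrix.toLin'_apply, Matrix.toLin'_toMatrix']
  rw [e1 a, e1 a'] at h1
  rw [Matrix.smul_mulVec, dotProduct_smul, smul_eq_mul, ← h1, ← Matrix.mulVec_mulVec,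
    ← Matrix.mulVec_mulVec, Matrix.dotProduct_mulVec a, Matrix.vecMul_transpose,
    dotProduct_comm]

end Cfsg.Agent.Lib.Helper37.FuseAlt
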