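/-
helper37 library: class fusion for semisimple isometries of odd prime order in even-dimensional
orthogonal groups over finite fields of odd characteristic (module level).

If `g` is an isometry with `g ^ r = 1` (`r` an odd prime different from the characteristic) and
`d` is a similitude with multiplier `μ` and `det d = μ ^ M` (`dim V = 2M`), then `d g d⁻¹` is
conjugate to `g` under the commutator subgroup `Ω`.
-/
import Mathlib
import Cfsg.Agent.Lib.Helper37.FuseAlt
import Cfsg.Agent.Lib.Helper37.FuseFree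
import Cfsg.Agent.Lib.Helper37.OrthConj
import Cfsg.Agent.Lib.Helper13.SOTransfer

set_option autoImplicit false

namespace Cfsg.Agent.Lib.Helper37.FuseMain

open Cfsg.Agent.Lib.Helper13 Cfsg.Agent.Lib.Helper37.FuseFree

section General

variable {F : Type*} [Field F] [Fintype F] [DecidableEq F] {V : Type*} [AddCommGroup V]
  [Module F V] [FiniteDimensional F V]

theorem polar_iso (Q : QuadraticForm F V) (g : V ≃ₗ[F] V) (hg : ∀ v, Q (g v) = Q v) (a b : V) :
    QuadraticMap.polar Q (g a) (g b) = QuadraticMap.polar Q a b := by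
  unfold QuadraticMap.polar
  rw [← map_add, hg, hg, hg]

/-- the restriction of the form to the fixed space of an isometry of order prime to the
characteristic is nondegenerate -/
theorem fix_nondeg (Q : QuadraticForm F V) (hQ : (QuadraticMap.polarBilin Q).Nondegenerate)
    (g : V ≃ₗ[F] V) (hg : ∀ v, Q (g v) = Q v) {r : ℕ} (hrF : (r : F) ≠ 0) (hgr : g ^ r = 1) :
    (QuadraticMap.polarBilin (Q.comp (fixSub g).subtype)).Nondegenerate := by
  have hgn : ∀ (n : ℕ) v, Q ((g ^ n) v) = Q v := by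
    intro n
    induction n with
    | zero => intro v; rfl
    | succ n ih => intro v; rw [pow_succ, LinearEquiv.mul_apply, ih, hg]
  have hfixn : ∀ (n : ℕ) w, g w = w → (g ^ n) w = w := by
    intro n w hw
    induction n with
    | zero => rfl
    | succ n ih => rw [pow_succ, LinearEquiv.mul_apply, hw, ih]
  have hsumfix : ∀ v, g (∑ i ∈ Finset.range r, (g ^ i) v) = ∑ i ∈ Finset.range r, (g ^ i) v := by
    intro v
    rw [map_sum]
    have h1 : ∀ i ∈ Finset.range r, g ((g ^ i) v) = (g ^ (i + 1)) v := by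
      intro i _
      rw [pow_succ', LinearEquiv.mul_apply]
    rw [Finset.sum_congr rfl h1]
    have h2 := Finset.sum_range_succ' (fun i => (g ^ i) v) r
    have h3 := Finset.sum_range_succ (fun i => (g ^ i) v) r
    beta_reduce at h2 h3
    rw [h3, hgr] at h2
    have h4 : (g ^ 0) v = v := rfl
    have h5 : (1 : V ≃ₗ[F] V) v = v := rfl
    rw [h4, h5] at h2
    exact (add_right_cancel h2).symm
  have hleft : ∀ w : ↥(fixSub g),
      (∀ w', QuadraticMap.polar (Q.comp (fixSub g).subtype) w w' = 0) → w = 0 := by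
    intro w hw
    have hw1 : g (w : V) = w := (mem_fixSub g _).1 w.2
    apply Subtype.ext
    rw [Submodule.coe_zero]
    apply hQ.1
    intro v
    have hmem : (∑ i ∈ Finset.range r, (g ^ i) v) ∈ fixSub g := by
      rw [mem_fixSub]
      exact hsumfix v
    have h1 := hw ⟨_, hmem⟩
    have h2 : QuadraticMap.polar (Q.comp (fixSub g).subtype) w ⟨_, hmem⟩ =
        QuadraticMap.polar Q (w : V) (∑ i ∈ Finset.range r, (g ^ i) v) := rfl
    rw [h2] at h1
    have h3 : QuadraticMap.polar Q (w : V) (∑ i ∈ Finset.range r, (g ^ i) v) =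
        ∑ i ∈ Finset.range r, QuadraticMap.polar Q (w : V) ((g ^ i) v) :=
      map_sum (QuadraticMap.polarBilin Q (w : V)) _ _
    rw [h3] at h1
    have h4 : ∀ i ∈ Finset.range r, QuadraticMap.polar Q (w : V) ((g ^ i) v) =
        QuadraticMap.polar Q (w : V) v := by
      intro i _
      nth_rewrite 1 [← hfixn i (w : V) hw1]
      exact polar_iso Q (g ^ i) (hgn i) _ _
    rw [Finset.sum_congr rfl h4, Finset.sum_const, Finset.card_range, nsmul_eq_mul] at h1
    rcases mul_eq_zero.1 h1 with h | h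
    · exact absurd h hrF
    · exact h
  constructor
  · intro w hw
    exact hleft w hw
  · intro w hw
    apply hleft w
    intro w'
    rw [QuadraticMap.polar_comm]
    exact hw w'

/-- Case I: `g` has a nonzero fixed vector -/
theorem fix_case (Q : QuadraticForm F V) (hQ : (QuadraticMap.polarBilin Q).Nondegenerate)
    (h2 : (2 : F) ≠ 0) (hev : Even (Module.finrank F V)) (g : V ≃ₗ[F] V)
    (hg : ∀ v, Q (g v) = Q v) {r : ℕ} (hro : Odd r) (hrF : (r : F) ≠ 0) (hgr : g ^ r = 1)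
    (hfix : ∃ v, v ≠ 0 ∧ g v = v) (k : V ≃ₗ[F] V) (hk : ∀ v, Q (k v) = Q v) :
    ∃ s : V ≃ₗ[F] V, (∀ v, Q (s v) = Q v) ∧ (∀ v, s (g v) = g (s v)) ∧ par (k * s) = 0 ∧
      spin Q (k * s) = 1 := by
  classical
  have hF : (∀ a b : F, ∃ x : F, x ≠ a ∧ x ≠ b) ∨ Module.finrank F V ≠ 4 :=
    Or.inl (exists_ne_ne_of_two_ne_zero h2)
  have hgiso : g ∈ isoGroup Q := hg
  have hkiso : k ∈ isoGroup Q := hk
  obtain ⟨hparg, -⟩ := FuseOdd.par_spin_of_odd_pow Q hQ h2 g hgiso r hro hgr
  -- the fixed space has even dimension at least two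
  have hdim1 : 2 ≤ Module.finrank F ↥(fixSub g) := by
    unfold par at hparg
    have hV0 : ((Module.finrank F V : ℕ) : ZMod 2) = 0 :=
      (ZMod.natCast_eq_zero_iff_even).2 hev
    rw [hV0, add_zero, ZMod.natCast_eq_zero_iff_even] at hparg
    have hpos : 0 < Module.finrank F ↥(fixSub g) := by
      obtain ⟨v, hv0, hv⟩ := hfix
      have : Nontrivial ↥(fixSub g) :=
        ⟨⟨⟨v, (mem_fixSub g v).2 hv⟩, 0, fun h => hv0 (congrArg Subtype.val h)⟩⟩
      exact Module.finrank_pos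
    obtain ⟨m, hm⟩ := hparg
    omega
  have hQ₁ := fix_nondeg Q hQ g hg hrF hgr
  have hchar : ringChar F ≠ 2 := by
    intro h
    apply h2
    have : ((2 : ℕ) : F) = 0 := by
      rw [← h]; exact ringChar.Nat.cast_ringChar
    exact_mod_cast this
  obtain ⟨η, hη⟩ := FiniteField.exists_nonsquare hchar
  have hη0 : η ≠ 0 := by
    rintro rfl
    exact hη IsSquare.zero
  obtain ⟨w₁, hw₁⟩ := exists_Q_eq (Q.comp (fixSub g).subtype) hQ₁ h2 hdim1 1 one_ne_zero
  obtain ⟨w₂, hw₂⟩ := exists_Q_eq (Q.comp (fixSub g).subtype) hQ₁ h2 hdim1 η hη0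
  have hv₁ : Q (w₁ : V) = 1 := hw₁
  have hv₂ : Q (w₂ : V) = η := hw₂
  have hv₁0 : Q (w₁ : V) ≠ 0 := by rw [hv₁]; exact one_ne_zero
  have hv₂0 : Q (w₂ : V) ≠ 0 := by rw [hv₂]; exact hη0
  have hgw₁ : g (w₁ : V) = w₁ := (mem_fixSub g _).1 w₁.2
  have hgw₂ : g (w₂ : V) = w₂ := (mem_fixSub g _).1 w₂.2
  obtain ⟨T₁, hT₁⟩ := exists_equiv_of_isom Q hQ (reflLin Q (w₁ : V)) (reflLin_isom Q _ hv₁0)
  obtain ⟨T₂, hT₂⟩ := exists_equiv_of_isom Q hQ (reflLin Q (w₂ : V)) (reflLin_isom Q _ hv₂0)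
  have hT₁set : T₁ ∈ reflSet Q := ⟨_, hv₁0, hT₁⟩
  have hT₂set : T₂ ∈ reflSet Q := ⟨_, hv₂0, hT₂⟩
  have hT₁r : T₁ ∈ reflGroup Q := Subgroup.subset_closure hT₁set
  have hT₂r : T₂ ∈ reflGroup Q := Subgroup.subset_closure hT₂set
  have hT₁mem : T₁ ∈ isoGroup Q := reflGroup_le_isoGroup Q hT₁r
  have hT₂mem : T₂ ∈ isoGroup Q := reflGroup_le_isoGroup Q hT₂r
  have hcommT : ∀ (T : V ≃ₗ[F] V) (w : V), g w = w → (∀ z, T z = reflLin Q w z) →
      ∀ v, T (g v) = g (T v) := by
    intro T w hw hT v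
    rw [hT, hT, reflLin_apply, reflLin_apply, map_sub, map_smul, hw]
    congr 3
    nth_rewrite 1 [← hw]
    exact polar_iso Q g hg _ _
  have hpT₁ : par T₁ = 1 := par_refl Q hQ T₁ hT₁set
  have hpT₂ : par T₂ = 1 := par_refl Q hQ T₂ hT₂set
  have hsT₁ : spin Q T₁ = 1 := by
    rw [spin_refl Q hQ _ hv₁0 T₁ hT₁, hv₁]
    exact map_one (quadraticChar F)
  have hsT₂ : spin Q T₂ = -1 := by
    rw [spin_refl Q hQ _ hv₂0 T₂ hT₂, hv₂]
    exact quadraticChar_neg_one_iff_not_isSquare.2 hη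
  have hkr : k ∈ reflGroup Q := isoGroup_le_reflGroup Q hQ hF hkiso
  have hparmul : ∀ s ∈ isoGroup Q, par (k * s) = par k + par s := fun s hs =>
    par_mul Q hQ k hkr s hs
  have hspinmul : ∀ s ∈ isoGroup Q, spin Q (k * s) = spin Q k * spin Q s := fun s hs =>
    spin_mul' Q hQ hF hkiso hs
  have hpk : par k = 0 ∨ par k = 1 := by
    have : ∀ x : ZMod 2, x = 0 ∨ x = 1 := by decide
    exact this _
  have hsk := spin_eq_one_or Q hQ hF hkiso
  rcases hpk with hp | hp <;> rcases hsk with hs | hs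
  · refine ⟨1, fun v => rfl, fun v => rfl, ?_, ?_⟩
    · rw [mul_one, hp]
    · rw [mul_one, hs]
  · have h12 : T₁ * T₂ ∈ isoGroup Q := Subgroup.mul_mem _ hT₁mem hT₂mem
    refine ⟨T₁ * T₂, h12, ?_, ?_, ?_⟩
    · intro v
      rw [LinearEquiv.mul_apply, LinearEquiv.mul_apply, hcommT T₂ _ hgw₂ hT₂,
        hcommT T₁ _ hgw₁ hT₁]
    · rw [hparmul _ h12, hp, par_mul Q hQ T₁ hT₁r T₂ hT₂mem, hpT₁, hpT₂]
      decide
    · rw [hspinmul _ h12, hs, spin_mul' Q hQ hF hT₁mem hT₂mem, hsT₁, hsT₂]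
      norm_num
  · refine ⟨T₁, hT₁mem, hcommT T₁ _ hgw₁ hT₁, ?_, ?_⟩
    · rw [hparmul _ hT₁mem, hp, hpT₁]
      decide
    · rw [hspinmul _ hT₁mem, hs, hsT₁]
      norm_num
  · refine ⟨T₂, hT₂mem, hcommT T₂ _ hgw₂ hT₂, ?_, ?_⟩
    · rw [hparmul _ hT₂mem, hp, hpT₂]
      decide
    · rw [hspinmul _ hT₂mem, hs, hsT₂]
      norm_num

/-- a similitude commuting with a fixed-point-free isometry of odd order has determinant
`μ ^ M` -/
theorem det_centralizer (Q : QuadraticForm F V) (hQ : (QuadraticMap.polarBilin Q).Nondegenerate)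
    (M : ℕ) (hM : Module.finrank F V = 2 * M) (g : V ≃ₗ[F] V) (hg : ∀ v, Q (g v) = Q v)
    {r : ℕ} (hro : Odd r) (hgr : g ^ r = 1) (hfix : ∀ v, g v = v → v = 0)
    (c : V ≃ₗ[F] V) (μ : F) (hμ : μ ≠ 0) (hc : ∀ v, Q (c v) = μ * Q v)
    (hcg : ∀ v, c (g v) = g (c v)) : LinearMap.det (c : V →ₗ[F] V) = μ ^ M := by
  set N : V →ₗ[F] V := (g : V →ₗ[F] V) - (g.symm : V →ₗ[F] V) with hN
  have hNapp : ∀ v, N v = g v - g.symm v := fun v => rfl
  set ω : LinearMap.BilinForm F V :=
    LinearMap.BilinForm.compLeft (QuadraticMap.polarBilin Q) N with hω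
  have hωapp : ∀ x y, ω x y = QuadraticMap.polar Q (N x) y := fun x y => rfl
  have hpolc : ∀ a b, QuadraticMap.polar Q (c a) (c b) = μ * QuadraticMap.polar Q a b := by
    intro a b
    unfold QuadraticMap.polar
    rw [← map_add, hc, hc, hc]
    ring
  have hcg' : ∀ v, c (g.symm v) = g.symm (c v) := by
    intro v
    apply g.injective
    rw [← hcg, LinearEquiv.apply_symm_apply, LinearEquiv.apply_symm_apply]
  apply FuseAlt.det_of_alt_similitude ω ?_ ?_ M hM c μ hμ ?_
  · intro x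
    rw [hωapp, hNapp, QuadraticMap.polar_sub_left]
    have h1 : QuadraticMap.polar Q (g.symm x) x = QuadraticMap.polar Q x (g x) := by
      rw [← polar_iso Q g hg (g.symm x) x, LinearEquiv.apply_symm_apply]
    rw [h1, QuadraticMap.polar_comm Q x (g x), sub_self]
  · intro u hu
    have h1 : N u = 0 := by
      apply hQ.1
      intro v
      exact hu v
    rw [hNapp, sub_eq_zero] at h1
    have h2 : (g ^ 2) u = u := by
      rw [pow_two, LinearEquiv.mul_apply, h1, LinearEquiv.apply_symm_apply]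
    apply hfix
    obtain ⟨m, hm⟩ := hro
    have h3 : ∀ n : ℕ, ((g ^ 2) ^ n) u = u := by
      intro n
      induction n with
      | zero => rfl
      | succ n ih => rw [pow_succ, LinearEquiv.mul_apply, h2, ih]
    have h4 : g ^ (r + 1) = g := by rw [pow_succ, hgr, one_mul]
    have h5 : g ^ (r + 1) = (g ^ 2) ^ (m + 1) := by
      rw [← pow_mul]
      congr 1
      omega
    rw [← h4, h5]
    exact h3 _
  · intro x y
    rw [hωapp, hωapp]
    have : N (c x) = c (N x) := by
      rw [hNapp, hNapp, map_sub, hcg, hcg']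
    rw [this, hpolc]

end General

section Pi

variable {ι : Type} [Fintype ι] [DecidableEq ι] {F : Type*} [Field F] [Fintype F] [DecidableEq F]

/-- conjugacy under the isometry group (any similitude) -/
theorem exists_iso_conj (Q : QuadraticForm F (ι → F))
    (hQ : (QuadraticMap.polarBilin Q).Nondegenerate) (g : (ι → F) ≃ₗ[F] (ι → F))
    (hg : ∀ v, Q (g v) = Q v) {r : ℕ} (hro : Odd r) (hrF : (r : F) ≠ 0) (hgr : g ^ r = 1)
    (d : (ι → F) ≃ₗ[F] (ι → F)) (μ : F) (hμ : μ ≠ 0) (hd : ∀ v, Q (d v) = μ * Q v) :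
    ∃ k : (ι → F) ≃ₗ[F] (ι → F), (∀ v, Q (k v) = Q v) ∧
      ∀ v, k (g v) = d (g (d.symm (k v))) := by
  have hdsymm : ∀ v, Q (d.symm v) = μ⁻¹ * Q v := by
    intro v
    have := hd (d.symm v)
    rw [LinearEquiv.apply_symm_apply] at this
    rw [this, inv_mul_cancel_left₀ hμ]
  obtain ⟨k, hk1, hk2⟩ := OrthConj.exists_isometry_conj Q hQ
    ((g : (ι → F) →ₗ[F] (ι → F)) : Module.End F (ι → F))
    (((d : (ι → F) →ₗ[F] (ι → F)) ∘ₗ (g : (ι → F) →ₗ[F] (ι → F)) ∘ₗ
      (d.symm : (ι → F) →ₗ[F] (ι → F)) : (ι → F) →ₗ[F] (ι → F)) : Module.End F (ι → F))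
    hg
    (by
      intro x
      show Q (d (g (d.symm x))) = Q x
      rw [hd, hg, hdsymm, mul_inv_cancel_left₀ hμ])
    d
    (by
      intro x
      show d (g x) = d (g (d.symm (d x)))
      rw [LinearEquiv.symm_apply_apply])
    r hro hrF
    (by
      intro x
      rw [end_pow_apply, hgr]
      rfl)
  exact ⟨k, hk1, fun v => hk2 v⟩

/-- the main theorem: conjugacy under `Ω` -/
theorem exists_omega_conj (Q : QuadraticForm F (ι → F))
    (hQ : (QuadraticMap.polarBilin Q).Nondegenerate) (h2 : (2 : F) ≠ 0) (M : ℕ)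
    (hM : Fintype.card ι = 2 * M) (hdim : 2 ≤ Fintype.card ι)
    (g : (ι → F) ≃ₗ[F] (ι → F)) (hg : ∀ v, Q (g v) = Q v) {r : ℕ} (hr : r.Prime) (hro : Odd r)
    (hrF : (r : F) ≠ 0) (hgr : g ^ r = 1) (d : (ι → F) ≃ₗ[F] (ι → F)) (μ : F) (hμ : μ ≠ 0)
    (hd : ∀ v, Q (d v) = μ * Q v)
    (hdet : LinearMap.det (d : (ι → F) →ₗ[F] (ι → F)) = μ ^ M) :
    ∃ t : (ι → F) ≃ₗ[F] (ι → F), (∀ v, Q (t v) = Q v) ∧ par t = 0 ∧ spin Q t = 1 ∧
      ∀ v, t (g v) = d (g (d.symm (t v))) := by
  classical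
  have hfr : Module.finrank F (ι → F) = 2 * M := by
    rw [Module.finrank_fintype_fun_eq_card, hM]
  have hF : (∀ a b : F, ∃ x : F, x ≠ a ∧ x ≠ b) ∨ Module.finrank F (ι → F) ≠ 4 :=
    Or.inl (exists_ne_ne_of_two_ne_zero h2)
  obtain ⟨k, hk1, hk2⟩ := exists_iso_conj Q hQ g hg hro hrF hgr d μ hμ hd
  have key : ∃ s : (ι → F) ≃ₗ[F] (ι → F), (∀ v, Q (s v) = Q v) ∧ (∀ v, s (g v) = g (s v)) ∧
      par (k * s) = 0 ∧ spin Q (k * s) = 1 := by
    by_cases hfix : ∃ v, v ≠ 0 ∧ g v = v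
    · exact fix_case Q hQ h2 (by rw [hfr]; exact even_two_mul M) g hg hro hrF hgr hfix k hk1
    · push Not at hfix
      have hfix' : ∀ v, g v = v → v = 0 := by
        intro v hv
        by_contra hne
        exact hfix v hne hv
      -- `c₀ = k⁻¹ d` centralizes `g`
      set c₀ : (ι → F) ≃ₗ[F] (ι → F) := k⁻¹ * d with hc₀
      have hc₀app : ∀ v, c₀ v = k.symm (d v) := fun v => rfl
      have hksymm : ∀ v, Q (k.symm v) = Q v := by
        intro v
        have := hk1 (k.symm v)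
        rw [LinearEquiv.apply_symm_apply] at this
        exact this.symm
      have hc₀Q : ∀ v, Q (c₀ v) = μ * Q v := by
        intro v
        rw [hc₀app, hksymm, hd]
      have hc₀g : ∀ v, c₀ (g v) = g (c₀ v) := by
        intro v
        rw [hc₀app, hc₀app]
        apply k.injective
        rw [LinearEquiv.apply_symm_apply, hk2, LinearEquiv.apply_symm_apply,
          LinearEquiv.symm_apply_apply]
      have hdetc := det_centralizer Q hQ M hfr g hg hro hgr hfix' c₀ μ hμ hc₀Q hc₀g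
      have hdk : d = k * c₀ := by rw [hc₀, mul_inv_cancel_left]
      have hdetk : LinearMap.det (k : (ι → F) →ₗ[F] (ι → F)) = 1 := by
        have h1 : LinearMap.det (d : (ι → F) →ₗ[F] (ι → F)) =
            LinearMap.det (k : (ι → F) →ₗ[F] (ι → F)) *
              LinearMap.det (c₀ : (ι → F) →ₗ[F] (ι → F)) := by
          rw [← LinearMap.det_comp, hdk]
          rfl
        rw [hdet, hdetc] at h1
        have hne : μ ^ M ≠ 0 := pow_ne_zero _ hμ
        have h3 : 1 * μ ^ M = LinearMap.det (k : (ι → F) →ₗ[F] (ι → F)) * μ ^ M := by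
          rw [one_mul]; exact h1
        exact (mul_right_cancel₀ hne h3).symm
      have hkiso : k ∈ isoGroup Q := hk1
      have hpk : par k = 0 := by
        rcases det_par_of_mem_reflGroup Q hQ (isoGroup_le_reflGroup Q hQ hF hkiso) with h | h
        · exact h.2
        · exfalso
          rw [hdetk] at h
          apply h2
          have : (1 : F) + 1 = 0 := by
            nth_rewrite 1 [h.1]
            ring
          rw [← this]
          ring
      rcases spin_eq_one_or Q hQ hF hkiso with hs | hs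
      · refine ⟨1, fun v => rfl, fun v => rfl, ?_, ?_⟩
        · rw [mul_one, hpk]
        · rw [mul_one, hs]
      · have hV : ∃ v : ι → F, v ≠ 0 := by
          have : 0 < Module.finrank F (ι → F) := by
            rw [Module.finrank_fintype_fun_eq_card]; omega
          haveI := Module.finrank_pos_iff (R := F) (M := ι → F) |>.1 this
          exact exists_ne 0
        obtain ⟨c, hc1, hc2, hc3, hc4⟩ := exists_centralizer_spin_neg Q hQ h2 g hg hr hro hrF hgr
          hfix' hV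
        have hciso : c ∈ isoGroup Q := hc1
        refine ⟨c, hc1, hc2, ?_, ?_⟩
        · rw [par_mul Q hQ k (isoGroup_le_reflGroup Q hQ hF hkiso) c hciso, hpk, hc3, add_zero]
        · rw [spin_mul' Q hQ hF hkiso hciso, hs, hc4]
          norm_num
  obtain ⟨s, hs1, hs2, hs3, hs4⟩ := key
  refine ⟨k * s, ?_, hs3, hs4, ?_⟩
  · intro v
    rw [LinearEquiv.mul_apply, hk1, hs1]
  · intro v
    rw [LinearEquiv.mul_apply, LinearEquiv.mul_apply, hs2, hk2]

end Pi

end Cfsg.Agent.Lib.Helper37.FuseMain
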