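/-
helper37 library: class fusion of automorphisms of `PΩ` of odd prime order induced by
similarities (even dimension, odd characteristic): the classes under `Inn`, under the image of
`SO` and under the inner-diagonal group coincide, and the `PO`-class is the `PGO`-class.
-/
import Mathlib
import Cfsg.Agent.Lib.Helper37.FuseMain
import Cfsg.Agent.Lib.Helper36.InndiagPlus2
import Cfsg.Agent.Lib.Helper36.InndiagMinus
import Cfsg.Agent.Lib.Helper36.PsoInn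
import Cfsg.Agent.Lib.Helper36.PgoInn

set_option autoImplicit false

namespace Cfsg.Agent.Lib.Helper37.FuseAut

open Cfsg.Agent.Lib.Helper13 Cfsg.Agent.Lib.Helper36 Matrix

variable {ι : Type} [Fintype ι] [DecidableEq ι] {F : Type*} [Field F]

theorem scalar_mulVec (w : Fˣ) (v : ι → F) :
    ((Matrix.GeneralLinearGroup.scalar ι w : GL ι F) : Matrix ι ι F) *ᵥ v = (w : F) • v := by
  rw [Matrix.GeneralLinearGroup.coe_scalar, Matrix.scalar_apply, ← Matrix.smul_one_eq_diagonal,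
    Matrix.smul_mulVec, Matrix.one_mulVec]

theorem scalar_mem (Q : QuadraticForm F (ι → F)) (w : Fˣ) :
    Matrix.GeneralLinearGroup.scalar ι w ∈ Cfsg.Geo.quadSimilarityGroup (⇑Q) := by
  refine ⟨w * w, fun v => ?_⟩
  rw [scalar_mulVec, QuadraticMap.map_smul, smul_eq_mul, Units.val_mul]

variable [Fintype F] [DecidableEq F]

/-- an automorphism of odd order induced by a similarity is induced by an isometry of the same
order -/
theorem lift_isometry (Q : QuadraticForm F (ι → F))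
    (hQ : (QuadraticMap.polarBilin Q).Nondegenerate) (h2 : (2 : F) ≠ 0)
    (hdim : 5 ≤ Fintype.card ι) (v₀ : ι → F) (hv₀ : Q v₀ ≠ 0)
    (g₀ : ↥(Cfsg.Geo.quadSimilarityGroup (⇑Q))) {r : ℕ} (hro : Odd r)
    (hx : simAut (⇑Q) g₀ ^ r = 1) :
    ∃ g : ↥(Cfsg.Geo.quadSimilarityGroup (⇑Q)), simAut (⇑Q) g = simAut (⇑Q) g₀ ∧
      (g : GL ι F) ∈ Cfsg.isometryGroup F (⇑Q) ∧ g ^ r = 1 := by
  have h1 : simAut (⇑Q) (g₀ ^ r) = 1 := by rw [map_pow, hx]
  obtain ⟨c, hc⟩ := scalar_of_normAut_eq_one Q hQ h2 hdim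
    (Subgroup.inclusion (similarity_le_normalizer (⇑Q)) (g₀ ^ r)) h1
  have hc' : ∀ v : ι → F, (((g₀ : GL ι F) ^ r : GL ι F) : Matrix ι ι F) *ᵥ v = c • v := by
    intro v
    have := hc v
    rw [Subgroup.coe_inclusion, Subgroup.coe_pow] at this
    exact this
  set lam : Fˣ := mult Q v₀ hv₀ g₀ with hlam
  have hlamr : ∀ v, Q ((((g₀ : GL ι F) ^ r : GL ι F) : Matrix ι ι F) *ᵥ v) =
      ((lam ^ r : Fˣ) : F) * Q v := by
    intro v
    have := mult_spec Q v₀ hv₀ (g₀ ^ r) v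
    rw [map_pow, Subgroup.coe_pow] at this
    exact this
  have hc0 : c ≠ 0 := by
    rintro rfl
    have h3 := hlamr v₀
    rw [hc', zero_smul, map_zero] at h3
    exact (mul_ne_zero (Units.ne_zero _) hv₀) h3.symm
  have hcc : c * c = ((lam : Fˣ) : F) ^ r := by
    have h3 := hlamr v₀
    rw [hc', QuadraticMap.map_smul, smul_eq_mul, Units.val_pow_eq_pow_val] at h3
    exact mul_right_cancel₀ hv₀ h3
  obtain ⟨s, hs⟩ := hro
  have hlam0 : ((lam : Fˣ) : F) ≠ 0 := Units.ne_zero _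
  set wF : F := ((lam : Fˣ) : F) ^ s * c⁻¹ with hwF
  have hwF0 : wF ≠ 0 := mul_ne_zero (pow_ne_zero _ hlam0) (inv_ne_zero hc0)
  have hw1 : wF * wF * ((lam : Fˣ) : F) = 1 := by
    have : wF * wF * ((lam : Fˣ) : F) = ((lam : Fˣ) : F) ^ (2 * s + 1) * (c * c)⁻¹ := by
      rw [hwF, mul_inv]
      ring
    rw [this, ← hs, ← hcc, mul_inv_cancel₀ (mul_ne_zero hc0 hc0)]
  have hw2 : wF ^ r * c = 1 := by
    have hcc' : c * c = ((lam : Fˣ) : F) ^ (2 * s + 1) := by rw [hcc, hs]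
    have e1 : (c⁻¹) ^ (2 * s + 1) * c = ((c * c) ^ s)⁻¹ := by
      rw [pow_succ, mul_assoc, inv_mul_cancel₀ hc0, mul_one, inv_pow, ← pow_two, ← pow_mul]
    have e2 : (((lam : Fˣ) : F) ^ s) ^ (2 * s + 1) = (((lam : Fˣ) : F) ^ (2 * s + 1)) ^ s := by
      rw [← pow_mul, ← pow_mul, mul_comm]
    rw [hwF, hs, mul_pow, mul_assoc, e1, e2, ← hcc',
      mul_inv_cancel₀ (pow_ne_zero _ (mul_ne_zero hc0 hc0))]
  set w : Fˣ := Units.mk0 wF hwF0 with hw
  set S : ↥(Cfsg.Geo.quadSimilarityGroup (⇑Q)) :=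
    ⟨Matrix.GeneralLinearGroup.scalar ι w, scalar_mem Q w⟩ with hS
  refine ⟨S * g₀, ?_, ?_, ?_⟩
  · exact simAut_eq_of_scalar_mul (⇑Q) (S * g₀) g₀ w rfl
  · rw [mem_isometryGroup_iff']
    intro v
    rw [Subgroup.coe_mul, Units.val_mul, ← Matrix.mulVec_mulVec, scalar_mulVec,
      QuadraticMap.map_smul, smul_eq_mul, mult_spec Q v₀ hv₀ g₀ v, ← mul_assoc, ← hlam]
    show wF * wF * ((lam : Fˣ) : F) * Q v = Q v
    rw [hw1, one_mul]
  · apply Subtype.ext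
    rw [Subgroup.coe_pow, Subgroup.coe_mul, Subgroup.coe_one]
    show (Matrix.GeneralLinearGroup.scalar ι w * (g₀ : GL ι F)) ^ r = 1
    have hcomm : Commute (Matrix.GeneralLinearGroup.scalar ι w) (g₀ : GL ι F) :=
      Matrix.GeneralLinearGroup.scalar_commute w _
    rw [hcomm.mul_pow, ← map_pow]
    apply Units.ext
    apply matrix_eq_of_mulVec
    intro v
    rw [Units.val_mul, ← Matrix.mulVec_mulVec, hc', scalar_mulVec, Units.val_one,
      Matrix.one_mulVec, smul_smul, Units.val_pow_eq_pow_val]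
    show (wF ^ r * c) • v = v
    rw [hw2, one_smul]

omit [Fintype F] [DecidableEq F] in
/-- transfer of a conjugation relation from linear equivalences to `GL` -/
theorem conj_transfer (g d : GL ι F) (t : (ι → F) ≃ₗ[F] (ι → F))
    (h : ∀ v, t (glLinEquiv ι F g v) =
      glLinEquiv ι F d (glLinEquiv ι F g ((glLinEquiv ι F d).symm (t v)))) :
    (glLinEquiv ι F).symm t * g * ((glLinEquiv ι F).symm t)⁻¹ = d * g * d⁻¹ := by
  have h1 : t * glLinEquiv ι F g =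
      glLinEquiv ι F d * glLinEquiv ι F g * (glLinEquiv ι F d)⁻¹ * t := by
    apply LinearEquiv.ext
    intro v
    exact h v
  have h3 := congrArg (glLinEquiv ι F).symm h1
  rw [map_mul, map_mul, map_mul, map_mul, map_inv, MulEquiv.symm_apply_apply,
    MulEquiv.symm_apply_apply] at h3
  rw [h3, mul_inv_cancel_right]

omit [Fintype F] [DecidableEq F] in
theorem det_glLinEquiv (d : GL ι F) :
    LinearMap.det ((glLinEquiv ι F d : (ι → F) ≃ₗ[F] (ι → F)) : (ι → F) →ₗ[F] (ι → F)) =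
      (d : Matrix ι ι F).det := by
  rw [glLinEquiv_coe, ← Matrix.toLin'_apply', LinearMap.det_toLin']

theorem isConjUnder_mono {X : Type*} [Group X] {H H' : Subgroup X} (h : H ≤ H') {x y : X}
    (hxy : Cfsg.IsConjUnder H x y) : Cfsg.IsConjUnder H' x y := by
  obtain ⟨k, hk, hy⟩ := hxy
  exact ⟨k, h hk, hy⟩

/-- the two hard implications -/
theorem fusion (Q : QuadraticForm F (ι → F)) (hQ : (QuadraticMap.polarBilin Q).Nondegenerate)
    (h2 : (2 : F) ≠ 0) (M : ℕ) (hcard : Fintype.card ι = 2 * M) (hdim : 5 ≤ Fintype.card ι)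
    (v₀ : ι → F) (hv₀ : Q v₀ ≠ 0) (x : MulAut (Cfsg.POmega F (⇑Q)))
    (hx : x ∈ Cfsg.pgoAut F (⇑Q)) {r : ℕ} (hr : r.Prime) (hro : Odd r) (hrF : (r : F) ≠ 0)
    (hxr : orderOf x = r) :
    (∀ y, Cfsg.IsConjUnder ((psi2 Q v₀ hv₀ M hQ h2 hcard).ker.map (simAut (⇑Q))) x y →
      Cfsg.IsConjUnder (Cfsg.Inn (Cfsg.POmega F (⇑Q))) x y) ∧
    (∀ y, Cfsg.IsConjUnder (Cfsg.pgoAut F (⇑Q)) x y →
      Cfsg.IsConjUnder (Cfsg.poAut F (⇑Q)) x y) := by
  rw [pgoAut_eq] at hx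
  obtain ⟨g₀, hg₀⟩ := hx
  have hx' : simAut (⇑Q) g₀ ^ r = 1 := by
    rw [hg₀, ← hxr]
    exact pow_orderOf_eq_one x
  obtain ⟨g, hgx, hgiso, hgr⟩ := lift_isometry Q hQ h2 hdim v₀ hv₀ g₀ hro hx'
  have hxg : x = simAut (⇑Q) g := by rw [hgx, hg₀]
  have hGiso : ∀ v, Q (glLinEquiv ι F (g : GL ι F) v) = Q v :=
    (mem_isometryGroup_iff_isoGroup Q (g : GL ι F)).1 hgiso
  have hGr : (glLinEquiv ι F (g : GL ι F)) ^ r = 1 := by
    rw [← map_pow, ← Subgroup.coe_pow, hgr, Subgroup.coe_one, map_one]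
  have hdim2 : 2 ≤ Fintype.card ι := by omega
  constructor
  · rintro y ⟨h, ⟨d, hd, rfl⟩, hy⟩
    rw [SetLike.mem_coe, MonoidHom.mem_ker, psi2_eq_one_iff, deltaHom_apply, mul_inv_eq_one] at hd
    have hD : ∀ v, Q (glLinEquiv ι F (d : GL ι F) v) = ((mult Q v₀ hv₀ d : Fˣ) : F) * Q v :=
      fun v => mult_spec Q v₀ hv₀ d v
    have hdetD : LinearMap.det ((glLinEquiv ι F (d : GL ι F) : (ι → F) ≃ₗ[F] (ι → F)) :
        (ι → F) →ₗ[F] (ι → F)) = ((mult Q v₀ hv₀ d : Fˣ) : F) ^ M := by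
      rw [det_glLinEquiv, ← Matrix.GeneralLinearGroup.val_det_apply, hd, Units.val_pow_eq_pow_val]
    obtain ⟨t, ht1, ht2, ht3, ht4⟩ := FuseMain.exists_omega_conj Q hQ h2 M hcard hdim2
      (glLinEquiv ι F (g : GL ι F)) hGiso hr hro hrF hGr (glLinEquiv ι F (d : GL ι F))
      ((mult Q v₀ hv₀ d : Fˣ) : F) (Units.ne_zero _) hD hdetD
    have hTiso : (glLinEquiv ι F).symm t ∈ Cfsg.isometryGroup F (⇑Q) := by
      rw [mem_isometryGroup_iff_isoGroup, MulEquiv.apply_symm_apply]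
      exact ht1
    have hTΩ : (glLinEquiv ι F).symm t ∈ OmegaGL (⇑Q) := by
      rw [mem_OmegaGL_iff]
      refine ⟨hTiso, ?_⟩
      rw [mem_Omega_iff_par_spin Q hQ h2 hdim2]
      show par (glLinEquiv ι F ((glLinEquiv ι F).symm t)) = 0 ∧
        spin Q (glLinEquiv ι F ((glLinEquiv ι F).symm t)) = 1
      rw [MulEquiv.apply_symm_apply]
      exact ⟨ht2, ht3⟩
    set T : ↥(Cfsg.Geo.quadSimilarityGroup (⇑Q)) :=
      ⟨(glLinEquiv ι F).symm t, isometryGroup_le_similarity (⇑Q) hTiso⟩ with hT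
    have hconj : T * g * T⁻¹ = d * g * d⁻¹ := by
      apply Subtype.ext
      rw [Subgroup.coe_mul, Subgroup.coe_mul, Subgroup.coe_inv, Subgroup.coe_mul,
        Subgroup.coe_mul, Subgroup.coe_inv]
      exact conj_transfer (g : GL ι F) (d : GL ι F) t ht4
    refine ⟨simAut (⇑Q) T, ?_, ?_⟩
    · rw [Inn_eq]
      exact ⟨T, Subgroup.mem_subgroupOf.2 hTΩ, rfl⟩
    · rw [hy, hxg, ← map_inv, ← map_mul, ← map_mul, ← map_inv, ← map_mul, ← map_mul, hconj]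
  · rintro y ⟨h, hh, hy⟩
    rw [pgoAut_eq] at hh
    obtain ⟨d, rfl⟩ := hh
    have hD : ∀ v, Q (glLinEquiv ι F (d : GL ι F) v) = ((mult Q v₀ hv₀ d : Fˣ) : F) * Q v :=
      fun v => mult_spec Q v₀ hv₀ d v
    obtain ⟨k, hk1, hk2⟩ := FuseMain.exists_iso_conj Q hQ (glLinEquiv ι F (g : GL ι F)) hGiso hro
      hrF hGr (glLinEquiv ι F (d : GL ι F)) ((mult Q v₀ hv₀ d : Fˣ) : F) (Units.ne_zero _) hD
    have hKiso : (glLinEquiv ι F).symm k ∈ Cfsg.isometryGroup F (⇑Q) := by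
      rw [mem_isometryGroup_iff_isoGroup, MulEquiv.apply_symm_apply]
      exact hk1
    set T : ↥(Cfsg.Geo.quadSimilarityGroup (⇑Q)) :=
      ⟨(glLinEquiv ι F).symm k, isometryGroup_le_similarity (⇑Q) hKiso⟩ with hT
    have hconj : T * g * T⁻¹ = d * g * d⁻¹ := by
      apply Subtype.ext
      rw [Subgroup.coe_mul, Subgroup.coe_mul, Subgroup.coe_inv, Subgroup.coe_mul,
        Subgroup.coe_mul, Subgroup.coe_inv]
      exact conj_transfer (g : GL ι F) (d : GL ι F) k hk2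
    refine ⟨simAut (⇑Q) T, ?_, ?_⟩
    · rw [poAut_eq]
      exact ⟨T, Subgroup.mem_subgroupOf.2 hKiso, rfl⟩
    · rw [hy, hxg, ← map_inv, ← map_mul, ← map_mul, ← map_inv, ← map_mul, ← map_mul, hconj]

/-- the full statement for a bundled quadratic form -/
theorem fusion_full (Q : QuadraticForm F (ι → F))
    (hQ : (QuadraticMap.polarBilin Q).Nondegenerate) (h2 : (2 : F) ≠ 0) (M : ℕ)
    (hcard : Fintype.card ι = 2 * M) (hdim : 5 ≤ Fintype.card ι) (v₀ : ι → F) (hv₀ : Q v₀ ≠ 0)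
    (Dg : Subgroup (MulAut (Cfsg.POmega F (⇑Q))))
    (hDg : Dg = (psi2 Q v₀ hv₀ M hQ h2 hcard).ker.map (simAut (⇑Q)))
    (x : MulAut (Cfsg.POmega F (⇑Q))) (hx : x ∈ Cfsg.pgoAut F (⇑Q)) {r : ℕ} (hr : r.Prime)
    (hro : Odd r) (hrF : (r : F) ≠ 0) (hxr : orderOf x = r) :
    (∀ y, (Cfsg.IsConjUnder (Cfsg.Inn (Cfsg.POmega F (⇑Q))) x y ↔ Cfsg.IsConjUnder Dg x y) ∧
      (Cfsg.IsConjUnder (Cfsg.psoAut F (⇑Q)) x y ↔ Cfsg.IsConjUnder Dg x y)) ∧
    (∀ y, Cfsg.IsConjUnder (Cfsg.poAut F (⇑Q)) x y ↔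
      Cfsg.IsConjUnder (Cfsg.pgoAut F (⇑Q)) x y) := by
  obtain ⟨f1, f2⟩ := fusion Q hQ h2 M hcard hdim v₀ hv₀ x hx hr hro hrF hxr
  have hle1 : Cfsg.Inn (Cfsg.POmega F (⇑Q)) ≤ Cfsg.psoAut F (⇑Q) := Inn_le_psoAut (⇑Q)
  have hle2 : Cfsg.psoAut F (⇑Q) ≤ Dg := by
    rw [hDg, psoAut_eq_map_ker_psi Q v₀ hv₀ M hQ h2 hcard]
    apply Subgroup.map_mono
    intro g hg
    rw [MonoidHom.mem_ker] at hg ⊢
    exact ((psi_eq_one_iff _ _ _ _ _ _ _ _).mp hg).2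
  have hle3 : Cfsg.poAut F (⇑Q) ≤ Cfsg.pgoAut F (⇑Q) := by
    rw [poAut_eq, pgoAut_eq]
    rintro _ ⟨g, -, rfl⟩
    exact ⟨g, rfl⟩
  refine ⟨fun y => ⟨⟨fun h => isConjUnder_mono (hle1.trans hle2) h, fun h => ?_⟩,
    ⟨fun h => isConjUnder_mono hle2 h, fun h => ?_⟩⟩,
    fun y => ⟨fun h => isConjUnder_mono hle3 h, fun h => f2 y h⟩⟩
  · rw [hDg] at h
    exact f1 y h
  · rw [hDg] at h
    exact isConjUnder_mono hle1 (f1 y h)

end Cfsg.Agent.Lib.Helper37.FuseAut
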