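/-
helper37 library: vectors killed by an irreducible polynomial in an endomorphism `g` of finite
order prime to the characteristic span the space; the cyclic module generated by such a vector
is a copy of the field `AdjoinRoot f`.
-/
import Mathlib

set_option autoImplicit false

namespace Cfsg.Agent.Lib.Helper37.FuseCyc

open Polynomial

variable {F : Type*} [Field F] {V : Type*} [AddCommGroup V] [Module F V]

/-- vectors killed by an irreducible polynomial in `g` -/
def irrSet (g : Module.End F V) : Set V := {y | ∃ f : F[X], Irreducible f ∧ aeval g f y = 0}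

theorem mem_span_irrSet (g : Module.End F V) (m : F[X]) :
    m ≠ 0 → Squarefree m → ∀ v, aeval g m v = 0 → v ∈ Submodule.span F (irrSet g) := by
  induction m using UniqueFactorizationMonoid.induction_on_prime with
  | h₁ => intro h; exact absurd rfl h
  | h₂ x hx =>
    intro _ _ v hv
    have h1 : IsUnit (aeval g x) := hx.map (aeval g)
    have h2 : v = 0 := by
      obtain ⟨u, hu⟩ := h1
      have : (u⁻¹ : (Module.End F V)ˣ).val (u.val v) = v := by
        rw [← Module.End.mul_apply, Units.inv_mul]
        rfl
      rw [hu, hv, map_zero] at this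
      exact this.symm
    rw [h2]
    exact Submodule.zero_mem _
  | h₃ a p ha hp ih =>
    intro _ hsq v hv
    have hsqa : Squarefree a := hsq.of_mul_right
    have hnd : ¬ p ∣ a := by
      rintro ⟨b, rfl⟩
      have : IsUnit p := hsq p ⟨b, by ring⟩
      exact hp.not_isUnit this
    have hcop : IsCoprime p a := (hp.irreducible.coprime_iff_not_dvd).2 hnd
    obtain ⟨s, t, hst⟩ := hcop
    have hv1 : v = aeval g (s * p) v + aeval g (t * a) v := by
      rw [← LinearMap.add_apply, ← map_add, hst, map_one]
      rfl
    rw [hv1]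
    apply Submodule.add_mem
    · apply ih ha hsqa
      rw [← Module.End.mul_apply, ← map_mul]
      have : a * (s * p) = s * (p * a) := by ring
      rw [this, map_mul, Module.End.mul_apply, hv, map_zero]
    · apply Submodule.subset_span
      refine ⟨p, hp.irreducible, ?_⟩
      rw [← Module.End.mul_apply, ← map_mul]
      have : p * (t * a) = t * (p * a) := by ring
      rw [this, map_mul, Module.End.mul_apply, hv, map_zero]

theorem span_irrSet_eq_top (g : Module.End F V) (r : ℕ) (hr : 0 < r) (hrF : (r : F) ≠ 0)
    (hg : g ^ r = 1) : Submodule.span F (irrSet g) = ⊤ := by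
  rw [eq_top_iff]
  intro v _
  have hsep : (X ^ r - C (1 : F)).Separable := separable_X_pow_sub_C (1 : F) hrF one_ne_zero
  apply mem_span_irrSet g (X ^ r - C (1 : F)) (X_pow_sub_C_ne_zero hr 1) hsep.squarefree
  rw [map_sub, map_pow, aeval_X, aeval_C, hg, map_one, sub_self]
  rfl

section Phi

variable (g : Module.End F V) (f : F[X]) (x : V)

/-- `p ↦ p(g) x` -/
noncomputable def lin0 : F[X] →ₗ[F] V :=
  (LinearMap.applyₗ x).comp (aeval g).toLinearMap

theorem lin0_apply (p : F[X]) : lin0 g x p = aeval g p x := rfl

variable (hx : aeval g f x = 0)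

include hx in
theorem le_ker_lin0 : (Ideal.span {f}).restrictScalars F ≤ LinearMap.ker (lin0 g x) := by
  intro p hp
  rw [Submodule.restrictScalars_mem, Ideal.mem_span_singleton] at hp
  obtain ⟨q, rfl⟩ := hp
  rw [LinearMap.mem_ker, lin0_apply, mul_comm, map_mul, Module.End.mul_apply, hx, map_zero]

/-- the map `AdjoinRoot f → V`, `p(root) ↦ p(g) x` -/
noncomputable def phi : AdjoinRoot f →ₗ[F] V :=
  (((Ideal.span {f}).restrictScalars F).liftQ (lin0 g x) (le_ker_lin0 g f x hx)).comp
    (Submodule.Quotient.restrictScalarsEquiv F (Ideal.span {f})).symm.toLinearMap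

theorem phi_mk (p : F[X]) : phi g f x hx (AdjoinRoot.mk f p) = aeval g p x := by
  rfl

theorem phi_mk_mul (p : F[X]) (β : AdjoinRoot f) :
    phi g f x hx (AdjoinRoot.mk f p * β) = aeval g p (phi g f x hx β) := by
  induction β using AdjoinRoot.induction_on with
  | ih q =>
    rw [← map_mul, phi_mk, phi_mk, map_mul, Module.End.mul_apply]

theorem phi_root_mul (β : AdjoinRoot f) :
    phi g f x hx (AdjoinRoot.root f * β) = g (phi g f x hx β) := by
  have := phi_mk_mul g f x hx X β
  rw [AdjoinRoot.mk_X, aeval_X] at this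
  exact this

theorem phi_one : phi g f x hx 1 = x := by
  have h := phi_mk g f x hx 1
  rw [map_one (AdjoinRoot.mk f), map_one (aeval g)] at h
  exact h

theorem gen_root (β : AdjoinRoot f) : ∃ p : F[X], aeval (AdjoinRoot.root f) p = β := by
  obtain ⟨p, rfl⟩ := AdjoinRoot.mk_surjective β
  exact ⟨p, AdjoinRoot.aeval_eq p⟩

theorem phi_injective [Fact (Irreducible f)] (hx0 : x ≠ 0) :
    Function.Injective (phi g f x hx) := by
  rw [← LinearMap.ker_eq_bot, Submodule.eq_bot_iff]
  intro β hβ
  rw [LinearMap.mem_ker] at hβ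
  by_contra hne
  obtain ⟨p, hp⟩ := AdjoinRoot.mk_surjective β⁻¹
  have h1 := phi_mk_mul g f x hx p β
  rw [hp, inv_mul_cancel₀ hne, phi_one, hβ, map_zero] at h1
  exact hx0 h1

end Phi

theorem finite_adjoinRoot [Finite F] (f : F[X]) (hf : f ≠ 0) : Finite (AdjoinRoot f) := by
  have : Module.Finite F (AdjoinRoot f) := (AdjoinRoot.powerBasis hf).finite
  exact Module.finite_of_finite F

end Cfsg.Agent.Lib.Helper37.FuseCyc
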