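/-
helper37 library: an isometry `u` of a nondegenerate quadratic space `U` embedded isometrically
in `V` extends by the identity on the orthogonal complement, keeping parity and spinor norm, and
commuting with any isometry of `V` that restricts to something commuting with `u`.
-/
import Mathlib
import Cfsg.Agent.Lib.Helper36.OrthSumOdd

set_option autoImplicit false

namespace Cfsg.Agent.Lib.Helper37.FuseExt

open Cfsg.Agent.Lib.Helper13 Cfsg.Agent.Lib.Helper36

variable {F V U : Type*} [Field F] [AddCommGroup V] [Module F V] [AddCommGroup U] [Module F U]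

/-- the orthogonal complement of the image of `ψ` -/
def perp (Q : QuadraticForm F V) (ψ : U →ₗ[F] V) : Submodule F V where
  carrier := {v | ∀ z, QuadraticMap.polar Q (ψ z) v = 0}
  add_mem' := by
    intro a b ha hb z
    rw [QuadraticMap.polar_add_right, ha, hb, add_zero]
  zero_mem' := by
    intro z
    exact QuadraticMap.polar_zero_right _ _
  smul_mem' := by
    intro c a ha z
    rw [QuadraticMap.polar_smul_right, ha, smul_zero]

theorem mem_perp (Q : QuadraticForm F V) (ψ : U →ₗ[F] V) (v : V) :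
    v ∈ perp Q ψ ↔ ∀ z, QuadraticMap.polar Q (ψ z) v = 0 := Iff.rfl

theorem polar_map (Q : QuadraticForm F V) (QU : QuadraticForm F U) (ψ : U →ₗ[F] V)
    (hψ : ∀ z, Q (ψ z) = QU z) (z z' : U) :
    QuadraticMap.polar Q (ψ z) (ψ z') = QuadraticMap.polar QU z z' := by
  unfold QuadraticMap.polar
  rw [← map_add, hψ, hψ, hψ]

variable [Fintype F] [DecidableEq F] [FiniteDimensional F V] [FiniteDimensional F U]

theorem extend (Q : QuadraticForm F V) (hQ : (QuadraticMap.polarBilin Q).Nondegenerate)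
    (h2 : (2 : F) ≠ 0) (QU : QuadraticForm F U)
    (hQU : (QuadraticMap.polarBilin QU).Nondegenerate) (ψ : U →ₗ[F] V)
    (hψ : ∀ z, Q (ψ z) = QU z) (g : V ≃ₗ[F] V) (hg : ∀ v, Q (g v) = Q v) (gU : U ≃ₗ[F] U)
    (hgU : ∀ z, g (ψ z) = ψ (gU z)) (u : U ≃ₗ[F] U) (hu : ∀ z, QU (u z) = QU z)
    (hcomm : ∀ z, u (gU z) = gU (u z)) :
    ∃ c : V ≃ₗ[F] V, (∀ v, Q (c v) = Q v) ∧ (∀ v, c (g v) = g (c v)) ∧ par c = par u ∧
      spin Q c = spin QU u := by
  classical
  have hpolψ := polar_map Q QU ψ hψ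
  have hpolg : ∀ a b, QuadraticMap.polar Q (g a) (g b) = QuadraticMap.polar Q a b := by
    intro a b
    unfold QuadraticMap.polar
    rw [← map_add, hg, hg, hg]
  set P : Submodule F V := perp Q ψ with hP
  set Ψ : U × ↥P →ₗ[F] V := ψ.coprod P.subtype with hΨ
  have hΨapp : ∀ z (w : ↥P), Ψ (z, w) = ψ z + (w : V) := by
    intro z w
    rw [hΨ, LinearMap.coprod_apply]
    rfl
  have hinj : Function.Injective Ψ := by
    rw [← LinearMap.ker_eq_bot, Submodule.eq_bot_iff]
    rintro ⟨z, w⟩ hzw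
    rw [LinearMap.mem_ker, hΨapp] at hzw
    have h1 : ψ z = -(w : V) := eq_neg_of_add_eq_zero_left hzw
    have hz : z = 0 := by
      apply hQU.2
      intro z'
      show QuadraticMap.polar QU z' z = 0
      rw [← hpolψ, h1, QuadraticMap.polar_neg_right, w.2 z', neg_zero]
    have hw : (w : V) = 0 := by
      rw [hz, map_zero] at h1
      rw [← neg_eq_zero, ← h1]
    rw [hz, Subtype.ext (hw.trans (Submodule.coe_zero (p := P)).symm)]
    rfl
  have hsurj : Function.Surjective Ψ := by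
    intro v
    set ℓ : Module.Dual F U := ((QuadraticMap.polarBilin Q).flip v).comp ψ with hℓ
    have hℓapp : ∀ z', ℓ z' = QuadraticMap.polar Q (ψ z') v := fun z' => rfl
    obtain ⟨z, hz⟩ : ∃ z : U, z =
        (LinearMap.BilinForm.toDual (QuadraticMap.polarBilin QU) hQU).symm ℓ := ⟨_, rfl⟩
    have hzz : ∀ z', QuadraticMap.polar QU z z' = ℓ z' := by
      intro z'
      have := LinearMap.BilinForm.apply_toDual_symm_apply (B := QuadraticMap.polarBilin QU)
        (hB := hQU) ℓ z'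
      rw [← hz] at this
      exact this
    have hw : v - ψ z ∈ P := by
      intro z'
      rw [QuadraticMap.polar_sub_right, hpolψ, QuadraticMap.polar_comm QU z' z, hzz, hℓapp,
        sub_self]
    refine ⟨(z, ⟨v - ψ z, hw⟩), ?_⟩
    rw [hΨapp]
    exact add_sub_cancel _ _
  set e : V ≃ₗ[F] U × ↥P := (LinearEquiv.ofBijective Ψ ⟨hinj, hsurj⟩).symm with he
  have heΨ : ∀ z (w : ↥P), e (ψ z + (w : V)) = (z, w) := by
    intro z w
    rw [← hΨapp, he]
    exact (LinearEquiv.ofBijective Ψ ⟨hinj, hsurj⟩).symm_apply_apply (z, w)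
  have hesymm : ∀ z (w : ↥P), e.symm (z, w) = ψ z + (w : V) := by
    intro z w
    rw [← heΨ, LinearEquiv.symm_apply_apply]
  set Q₂ : QuadraticForm F ↥P := Q.comp P.subtype with hQ₂
  have hQe : ∀ v, Q v = QU (e v).1 + Q₂ (e v).2 := by
    intro v
    obtain ⟨⟨z, w⟩, rfl⟩ := hsurj v
    rw [hΨapp, heΨ]
    show Q (ψ z + (w : V)) = QU z + Q (w : V)
    have h1 : Q (ψ z + (w : V)) = Q (ψ z) + Q (w : V) + QuadraticMap.polar Q (ψ z) (w : V) := by
      unfold QuadraticMap.polar
      ring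
    rw [h1, w.2 z, add_zero, hψ]
  have hF : (∀ a b : F, ∃ x : F, x ≠ a ∧ x ≠ b) ∨ Module.finrank F U ≠ 4 :=
    Or.inl (exists_ne_ne_of_two_ne_zero h2)
  have hurefl : u ∈ reflGroup QU := isoGroup_le_reflGroup QU hQU hF hu
  obtain ⟨hpar, hspin⟩ := inv_inlE e Q QU Q₂ hQe hQ hQU u hurefl
  have hcapp : ∀ z (w : ↥P), inlE e u (ψ z + (w : V)) = ψ (u z) + (w : V) := by
    intro z w
    rw [inlE_apply, heΨ, hesymm]
  refine ⟨inlE e u, inlE_mem_isoGroup e Q QU Q₂ hQe u hu, ?_, hpar, hspin⟩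
  intro v
  obtain ⟨⟨z, w⟩, rfl⟩ := hsurj v
  rw [hΨapp]
  have hgw : g (w : V) ∈ P := by
    intro z'
    have h1 : ψ z' = g (ψ (gU.symm z')) := by
      rw [hgU, LinearEquiv.apply_symm_apply]
    rw [h1, hpolg]
    exact w.2 _
  have h3 : g (ψ z + (w : V)) = ψ (gU z) + ((⟨g (w : V), hgw⟩ : ↥P) : V) := by
    rw [map_add, hgU]
  rw [h3, hcapp, hcapp, map_add, hgU, hcomm]

end Cfsg.Agent.Lib.Helper37.FuseExt
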