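/-
helper37 library: finite-field facts for the spinor norm of torus elements.
`K = F[ρ]` a finite field of even degree `2k` over `F`, `ρ` of prime order `r`:
then `ρ ^ (q^k + 1) = 1`; and there is `ζ` of order `q^k + 1` with
`χ_F (N (1 - ζ)) * χ_F (N (1 - ζ²)) = -1`.
-/
import Mathlib

set_option autoImplicit false

namespace Cfsg.Agent.Lib.Helper37.FuseField

open Polynomial

variable {F K : Type*} [Field F] [Fintype F] [Field K] [Fintype K] [Algebra F K]

/-- the `q^k`-power map as an `F`-algebra endomorphism -/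
noncomputable def frobPow (F : Type*) {K : Type*} [Field F] [Fintype F] [Field K] [Algebra F K]
    (k : ℕ) : K →ₐ[F] K := (FiniteField.frobeniusAlgHom F K) ^ k

theorem frobPow_apply (k : ℕ) (x : K) : frobPow F k x = x ^ (Fintype.card F ^ k) := by
  unfold frobPow
  rw [AlgHom.coe_pow, FiniteField.coe_frobeniusAlgHom, pow_iterate]

theorem frobPow_aeval (k : ℕ) (ρ : K) (p : F[X]) :
    frobPow F k (aeval ρ p) = aeval (ρ ^ (Fintype.card F ^ k)) p := by
  rw [← Polynomial.aeval_algHom_apply, frobPow_apply]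

theorem card_K_eq {k : ℕ} (hk : Module.finrank F K = 2 * k) :
    Fintype.card K = Fintype.card F ^ k * Fintype.card F ^ k := by
  rw [Module.card_eq_pow_finrank (K := F) (V := K), hk, two_mul, pow_add]

theorem exists_gen (K : Type*) [Field K] [Fintype K] :
    ∃ γ : Kˣ, orderOf γ = Fintype.card K - 1 := by
  classical
  obtain ⟨γ, hγ⟩ := IsCyclic.exists_generator (α := Kˣ)
  refine ⟨γ, ?_⟩
  rw [orderOf_eq_card_of_forall_mem_zpowers hγ, Nat.card_eq_fintype_card, Fintype.card_units]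

theorem mul_self_sub_one (Q : ℕ) (h : 1 ≤ Q) : Q * Q - 1 = (Q - 1) * (Q + 1) := by
  obtain ⟨t, rfl⟩ : ∃ t, Q = t + 1 := ⟨Q - 1, by omega⟩
  simp only [Nat.add_sub_cancel]
  have : (t + 1) * (t + 1) = t * (t + 1 + 1) + 1 := by ring
  rw [this, Nat.add_sub_cancel]

theorem one_lt_Q {k : ℕ} (hk : Module.finrank F K = 2 * k) : 1 < Fintype.card F ^ k := by
  have hq : 1 < Fintype.card F := Fintype.one_lt_card
  have hpos : 0 < Module.finrank F K := Module.finrank_pos
  have hk0 : k ≠ 0 := by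
    rintro rfl
    omega
  exact Nat.one_lt_pow hk0 hq

/-- the key number-theoretic fact -/
theorem pow_succ_eq_one (ρ : K) (hgen : ∀ β : K, ∃ p : F[X], aeval ρ p = β)
    {r : ℕ} (hr : r.Prime) (hρr : ρ ^ r = 1) (hρ1 : ρ ≠ 1) {k : ℕ}
    (hk : Module.finrank F K = 2 * k) :
    ρ ^ (Fintype.card F ^ k + 1) = 1 := by
  set Q := Fintype.card F ^ k with hQ
  have hQ1 : 1 < Q := one_lt_Q hk
  have hcard : Fintype.card K = Q * Q := card_K_eq hk
  have hρ0 : ρ ≠ 0 := by
    rintro rfl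
    rw [zero_pow hr.ne_zero] at hρr
    exact zero_ne_one hρr
  haveI : Fact r.Prime := ⟨hr⟩
  have hord : orderOf ρ = r := orderOf_eq_prime hρr hρ1
  have h1 : ρ ^ (Q * Q - 1) = 1 := by
    rw [← hcard]
    exact FiniteField.pow_card_sub_one_eq_one ρ hρ0
  have hdvd : r ∣ Q * Q - 1 := by
    rw [← hord]
    exact orderOf_dvd_of_pow_eq_one h1
  have hfac : Q * Q - 1 = (Q - 1) * (Q + 1) := mul_self_sub_one Q hQ1.le
  rw [hfac] at hdvd
  rcases (Nat.Prime.dvd_mul hr).1 hdvd with h | h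
  · exfalso
    have h2 : ρ ^ (Q - 1) = 1 := by
      rw [← hord] at h
      exact orderOf_dvd_iff_pow_eq_one.1 h
    have h3 : ρ ^ Q = ρ := by
      have : Q = (Q - 1) + 1 := by omega
      rw [this, pow_succ, h2, one_mul]
    have hfix : ∀ β : K, β ^ Q = β := by
      intro β
      obtain ⟨p, rfl⟩ := hgen β
      rw [← frobPow_apply (F := F), frobPow_aeval, ← hQ, h3]
    obtain ⟨γ, hγ⟩ := exists_gen K
    have h4 : (γ : K) ^ Q = γ := hfix _
    have h5 : γ ^ (Q - 1) = 1 := by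
      apply Units.ext
      rw [Units.val_pow_eq_pow_val, Units.val_one]
      have h6 : (γ : K) ^ (Q - 1) * γ = 1 * γ := by
        rw [← pow_succ, one_mul]
        have : Q - 1 + 1 = Q := by omega
        rw [this, h4]
      exact mul_right_cancel₀ γ.ne_zero h6
    have h7 := orderOf_dvd_of_pow_eq_one h5
    rw [hγ, hcard] at h7
    have h8 := Nat.le_of_dvd (by omega) h7
    have : Q * Q ≥ 2 * Q := Nat.mul_le_mul_right Q hQ1
    omega
  · rw [← hord] at h
    exact orderOf_dvd_iff_pow_eq_one.1 h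

theorem two_ne_zero_K (h2 : (2 : F) ≠ 0) : (2 : K) ≠ 0 := by
  have : (2 : K) = algebraMap F K 2 := by rw [map_ofNat]
  rw [this]
  intro h
  exact h2 ((map_eq_zero (algebraMap F K)).1 h)

/-- for a norm-one-type element `β ≠ 1`: `(1 - β)^(Q-1) * β = -1` -/
theorem one_sub_pow_mul (k : ℕ) (β : K) (hβ : β ^ (Fintype.card F ^ k + 1) = 1) (hβ1 : β ≠ 1) :
    (1 - β) ^ (Fintype.card F ^ k - 1) * β = -1 := by
  set Q := Fintype.card F ^ k with hQ
  have hQpos : 0 < Q := pow_pos Fintype.card_pos k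
  have h1 : (1 - β) ^ Q = 1 - β ^ Q := by
    rw [← frobPow_apply (F := F), map_sub, map_one, frobPow_apply]
  have h2 : β ^ Q * β = 1 := by rw [← pow_succ]; exact hβ
  have h3 : (1 - β) ^ Q * β = -(1 - β) := by
    rw [h1, sub_mul, one_mul, h2]
    ring
  have hne : 1 - β ≠ 0 := by
    intro h
    apply hβ1
    exact (sub_eq_zero.1 h).symm
  have h4 : (1 - β) ^ Q = (1 - β) ^ (Q - 1) * (1 - β) := by
    rw [← pow_succ]
    congr 1
    omega
  rw [h4] at h3
  have h5 : ((1 - β) ^ (Q - 1) * β) * (1 - β) = (-1) * (1 - β) := by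
    rw [neg_one_mul, ← h3]
    ring
  exact mul_right_cancel₀ hne h5

variable [DecidableEq F]

theorem exists_zeta (h2 : (2 : F) ≠ 0) {k : ℕ} (hk : Module.finrank F K = 2 * k) :
    ∃ ζ : K, ζ ^ (Fintype.card F ^ k + 1) = 1 ∧ ζ ≠ 1 ∧ ζ ^ 2 ≠ 1 ∧
      quadraticChar F (Algebra.norm F (1 - ζ)) *
        quadraticChar F (Algebra.norm F (1 - ζ ^ 2)) = -1 := by
  have hF2 : ringChar F ≠ 2 := by
    intro h
    apply h2
    have := ringChar.Nat.cast_ringChar (R := F)
    rw [h] at this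
    exact_mod_cast this
  set q := Fintype.card F with hq
  have hqodd : q % 2 = 1 := FiniteField.odd_card_of_char_ne_two hF2
  set Q := q ^ k with hQ
  have hQ1 : 1 < Q := one_lt_Q hk
  have hQodd : Q % 2 = 1 := by
    rw [hQ, Nat.pow_mod, hqodd, one_pow]
    rfl
  have hcard : Fintype.card K = Q * Q := card_K_eq hk
  obtain ⟨h, hh⟩ : ∃ h, Q + 1 = 2 * h := ⟨(Q + 1) / 2, by omega⟩
  set H := (Q - 1) * h with hH
  have h2H : 2 * H = Q * Q - 1 := by
    rw [mul_self_sub_one Q hQ1.le, hH, hh]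
    ring
  have h2K : (2 : K) ≠ 0 := two_ne_zero_K h2
  have hneg1 : (-1 : K) ≠ 1 := by
    intro hc
    apply h2K
    have : (2 : K) = 1 - (-1) := by ring
    rw [this, hc, sub_self]
  obtain ⟨γ, hγ⟩ := exists_gen K
  rw [hcard] at hγ
  have hQQ : 3 ≤ Q * Q - 1 := by
    have : Q * Q ≥ 2 * Q := Nat.mul_le_mul_right Q hQ1
    omega
  set ζu : Kˣ := γ ^ (Q - 1) with hζu
  -- (a)
  have ha : ζu ^ (Q + 1) = 1 := by
    rw [hζu, ← pow_mul, ← mul_self_sub_one Q hQ1.le, ← hγ]
    exact pow_orderOf_eq_one γ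
  -- (b)
  have hb : (ζu : K) ^ h = -1 := by
    have hs2 : ((γ ^ H : Kˣ) : K) * ((γ ^ H : Kˣ) : K) = 1 := by
      rw [← Units.val_mul, ← pow_add, ← two_mul, h2H, ← hγ, pow_orderOf_eq_one, Units.val_one]
    have hs1 : ((γ ^ H : Kˣ) : K) ≠ 1 := by
      intro hc
      have hc' : γ ^ H = 1 := Units.ext (by rw [hc, Units.val_one])
      have hlt : H < orderOf γ := by
        rw [hγ]
        omega
      have hpos : 0 < H := by
        rcases Nat.eq_zero_or_pos H with h0 | h0
        · rw [h0] at h2H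
          omega
        · exact h0
      exact pow_ne_one_of_lt_orderOf hpos.ne' hlt hc'
    have : (ζu : K) ^ h = ((γ ^ H : Kˣ) : K) := by
      rw [hζu, ← Units.val_pow_eq_pow_val, ← pow_mul]
    rw [this]
    have h3 : (((γ ^ H : Kˣ) : K) - 1) * (((γ ^ H : Kˣ) : K) + 1) = 0 := by
      linear_combination hs2
    rcases mul_eq_zero.1 h3 with h4 | h4
    · exact absurd (sub_eq_zero.1 h4) hs1
    · exact eq_neg_of_add_eq_zero_left h4
  -- (c)
  have hc1 : (ζu : K) ≠ 1 := by
    intro hc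
    rw [hc, one_pow] at hb
    exact hneg1 hb.symm
  -- (d)
  have hd : (ζu : K) ^ 2 ≠ 1 := by
    intro hc
    have hc' : γ ^ ((Q - 1) * 2) = 1 := by
      apply Units.ext
      rw [pow_mul, ← hζu, Units.val_pow_eq_pow_val, hc, Units.val_one]
    have h7 := orderOf_dvd_of_pow_eq_one hc'
    rw [hγ, mul_self_sub_one Q hQ1.le] at h7
    have h8 := Nat.le_of_dvd (by omega) h7
    have h9 : (Q - 1) * (Q + 1) ≥ (Q - 1) * 3 := Nat.mul_le_mul_left _ (by omega)
    have h10 : 0 < Q - 1 := by omega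
    nlinarith
  have haK : (ζu : K) ^ (Q + 1) = 1 := by
    rw [← Units.val_pow_eq_pow_val, ha, Units.val_one]
  have ha2 : ((ζu : K) ^ 2) ^ (Q + 1) = 1 := by
    rw [← pow_mul, mul_comm, pow_mul, haK, one_pow]
  have e1 := one_sub_pow_mul (F := F) k (ζu : K) haK hc1
  have e2 := one_sub_pow_mul (F := F) k ((ζu : K) ^ 2) ha2 hd
  rw [← hq, ← hQ] at e1 e2
  -- raise to the power h
  have f1 : (1 - (ζu : K)) ^ H = -(-1) ^ h := by
    have := congrArg (fun t => t ^ h) e1
    simp only [mul_pow] at this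
    rw [← pow_mul, ← hH, hb] at this
    linear_combination -this
  have f2 : (1 - (ζu : K) ^ 2) ^ H = (-1) ^ h := by
    have := congrArg (fun t => t ^ h) e2
    simp only [mul_pow] at this
    rw [← pow_mul, ← hH, ← pow_mul, ← hh, haK, mul_one] at this
    exact this
  have f3 : ((1 - (ζu : K)) * (1 - (ζu : K) ^ 2)) ^ H = -1 := by
    rw [mul_pow, f1, f2, neg_mul, ← mul_pow]
    norm_num
  refine ⟨(ζu : K), haK, hc1, hd, ?_⟩
  rw [← map_mul, ← map_mul]
  set a : K := (1 - (ζu : K)) * (1 - (ζu : K) ^ 2) with ha'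
  rw [quadraticChar_neg_one_iff_not_isSquare]
  intro hsq
  have ha0 : a ≠ 0 := by
    intro h0
    rw [h0, zero_pow] at f3
    · exact (neg_ne_zero.2 one_ne_zero) f3.symm
    · intro hH0
      rw [hH0] at h2H
      omega
  have hN0 : Algebra.norm F a ≠ 0 := by
    rw [Ne, Algebra.norm_eq_zero_iff]
    exact ha0
  rw [FiniteField.isSquare_iff hF2 hN0] at hsq
  have h11 := congrArg (algebraMap F K) hsq
  rw [map_pow, map_one, FiniteField.algebraMap_norm_eq_pow, Nat.card_eq_fintype_card,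
    Nat.card_eq_fintype_card, hcard, ← pow_mul] at h11
  have hdvd : q - 1 ∣ Q * Q - 1 := by
    have := Nat.sub_one_dvd_pow_sub_one q (k + k)
    rw [pow_add] at this
    exact this
  obtain ⟨D, hD⟩ := hdvd
  have hq1 : 0 < q - 1 := by
    have : 1 < q := Fintype.one_lt_card
    omega
  have hDdiv : (Q * Q - 1) / (q - 1) = D := by
    rw [hD, Nat.mul_div_cancel_left _ hq1]
  have hexp : (Q * Q - 1) / (q - 1) * (q / 2) = H := by
    rw [hDdiv]
    have h12 : q - 1 = 2 * (q / 2) := by omega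
    have h13 : 2 * (D * (q / 2)) = 2 * H := by
      rw [h2H, hD, h12]
      ring
    omega
  rw [← hq, hexp, f3] at h11
  exact hneg1 h11

end Cfsg.Agent.Lib.Helper37.FuseField
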