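/-
helper37 library: isometries of odd order have even parity and trivial spinor norm.
-/
import Mathlib
import Cfsg.Agent.Lib.Helper13.SOIndexTwo
import Cfsg.Agent.Lib.Helper13.SpinorIndex

set_option autoImplicit false

namespace Cfsg.Agent.Lib.Helper37.FuseOdd

open Cfsg.Agent.Lib.Helper13

theorem hom_eq_one_of_odd_pow {G A : Type*} [Group G] [Monoid A] (χ : G →* A)
    (hA : ∀ a : A, a * a = 1) (g : G) (r : ℕ) (hr : Odd r) (hg : g ^ r = 1) : χ g = 1 := by
  obtain ⟨s, rfl⟩ := hr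
  have h1 : χ g ^ (2 * s + 1) = 1 := by rw [← map_pow, hg, map_one]
  have h2 : χ g ^ (2 * s) = 1 := by
    rw [pow_mul, pow_two, hA, one_pow]
  rw [pow_succ, h2, one_mul] at h1
  exact h1

variable {F V : Type*} [Field F] [Fintype F] [DecidableEq F] [AddCommGroup V] [Module F V]
  [FiniteDimensional F V]

theorem par_spin_of_odd_pow (Q : QuadraticForm F V)
    (hQ : (QuadraticMap.polarBilin Q).Nondegenerate) (h2 : (2 : F) ≠ 0) (g : V ≃ₗ[F] V)
    (hg : g ∈ isoGroup Q) (r : ℕ) (hr : Odd r) (hgr : g ^ r = 1) :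
    par g = 0 ∧ spin Q g = 1 := by
  have hF : (∀ a b : F, ∃ x : F, x ≠ a ∧ x ≠ b) ∨ Module.finrank F V ≠ 4 :=
    Or.inl (exists_ne_ne_of_two_ne_zero h2)
  have hgr' : (⟨g, hg⟩ : ↥(isoGroup Q)) ^ r = 1 := by
    apply Subtype.ext
    rw [Subgroup.coe_pow]
    exact hgr
  constructor
  · have h1 := hom_eq_one_of_odd_pow (parHom Q hQ hF) (by
      intro a
      have : Multiplicative.toAdd (a * a) = 0 := by
        rw [toAdd_mul]
        exact CharTwo.add_self_eq_zero _
      exact Multiplicative.toAdd.injective this) ⟨g, hg⟩ r hr hgr'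
    rw [parHom_apply] at h1
    exact Multiplicative.ofAdd.injective h1
  · have h1 := hom_eq_one_of_odd_pow (spinHom Q hQ hF) (fun a => Int.units_mul_self a) ⟨g, hg⟩ r hr
      hgr'
    have h3 := congrArg Units.val h1
    rw [spinHom_coe] at h3
    exact h3

end Cfsg.Agent.Lib.Helper37.FuseOdd
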