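/-
helper37 library: the spinor norm (helper13's Wall-form definition) of a fixed-point-free
isometry `u` of a quadratic space with basis `w`:
`spin u * χ (det (1 - u)) = χ (det Gram_w)`.
-/
import Mathlib
import Cfsg.Agent.Lib.Helper13.Spinor

set_option autoImplicit false

namespace Cfsg.Agent.Lib.Helper37.FuseWall

open Cfsg.Agent.Lib.Helper13 Module

variable {F U : Type*} [Field F] [Fintype F] [DecidableEq F] [AddCommGroup U] [Module F U]
  [FiniteDimensional F U]

/-- Wall's formula for a fixed-point-free isometry. -/
theorem spin_mul_char_det (Q : QuadraticForm F U) (u : U ≃ₗ[F] U) (hu : ∀ z, Q (u z) = Q z)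
    (hfix : ∀ z, u z = z → z = 0) {n : ℕ} (w : Basis (Fin n) F U) :
    spin Q u * quadraticChar F (LinearMap.det (LinearMap.id - (u : U →ₗ[F] U))) =
      quadraticChar F (Matrix.det (LinearMap.BilinForm.toMatrix w (QuadraticMap.polarBilin Q))) := by
  classical
  set A : U →ₗ[F] U := LinearMap.id - (u : U →ₗ[F] U) with hA
  have hAapp : ∀ z, A z = z - u z := fun z => rfl
  have hAinj : Function.Injective A := by
    rw [← LinearMap.ker_eq_bot, LinearMap.ker_eq_bot']
    intro z hz
    apply hfix
    rw [hAapp, sub_eq_zero] at hz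
    exact hz.symm
  have hAsurj : Function.Surjective A := LinearMap.surjective_of_injective hAinj
  let E : U ≃ₗ[F] U := LinearEquiv.ofBijective A ⟨hAinj, hAsurj⟩
  have hE : ∀ z, A (E.symm z) = z := fun z => E.apply_symm_apply z
  set N : U →ₗ[F] U := (E.symm : U →ₗ[F] U) with hN
  have hNapp : ∀ z, N z = E.symm z := fun z => rfl
  have hdet : LinearMap.det N * LinearMap.det A = 1 := by
    rw [← LinearMap.det_comp]
    have : N ∘ₗ A = LinearMap.id := by
      apply LinearMap.ext
      intro z
      rw [LinearMap.comp_apply, hNapp]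
      exact E.symm_apply_apply z
    rw [this, LinearMap.det_id]
  have hwall : IsWall Q u n (quadraticChar F (Matrix.det
      (Matrix.of fun i j => QuadraticMap.polar (⇑Q) (N (w i)) (w j)))) := by
    refine ⟨fun i => w i, fun i => N (w i), w.linearIndependent, ?_, ?_, rfl⟩
    · rw [w.span_eq]
      symm
      rw [eq_top_iff]
      intro z _
      obtain ⟨y, hy⟩ := hAsurj (-z)
      refine ⟨y, ?_⟩
      rw [LinearMap.sub_apply, LinearMap.id_apply, LinearEquiv.coe_coe]
      rw [hAapp] at hy
      have : u y - y = -(y - u y) := by abel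
      rw [this, hy, neg_neg]
    · intro i
      have := hE (w i)
      rw [hAapp] at this
      exact this
  have hs := spin_eq Q u hu hwall
  rw [hs]
  have hmat : (Matrix.of fun i j => QuadraticMap.polar (⇑Q) (N (w i)) (w j)) =
      LinearMap.BilinForm.toMatrix w (LinearMap.BilinForm.compLeft (QuadraticMap.polarBilin Q) N) := by
    ext i j
    rw [Matrix.of_apply, LinearMap.BilinForm.toMatrix_apply, LinearMap.BilinForm.compLeft_apply]
    rfl
  rw [hmat, LinearMap.BilinForm.toMatrix_compLeft, Matrix.det_mul, Matrix.det_transpose,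
    LinearMap.det_toMatrix, ← map_mul, mul_comm (LinearMap.det N), mul_assoc, hdet, mul_one]

end Cfsg.Agent.Lib.Helper37.FuseWall
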