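/-
helper37 library: "Case N".  `K = F[ρ]` a finite field, `ρ` of odd prime order, carrying an
`F`-quadratic form invariant under multiplication by `ρ` and not identically zero.  Then the form
is nondegenerate, `[K:F]` is even and some multiplication `β ↦ ζβ` is an isometry of even parity
and spinor norm `-1`.
-/
import Mathlib
import Cfsg.Agent.Lib.Helper37.FuseWall
import Cfsg.Agent.Lib.Helper37.FuseField
import Cfsg.Agent.Lib.Helper37.FuseOdd
import Cfsg.Agent.Lib.Helper37.FuseExt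

set_option autoImplicit false

namespace Cfsg.Agent.Lib.Helper37.FuseN

open Polynomial Cfsg.Agent.Lib.Helper13 Cfsg.Agent.Lib.Helper37.FuseField

section LMul

variable {F : Type*} [Field F] {K : Type*} [Field K] [Algebra F K]

/-- multiplication by a nonzero element as an `F`-linear equivalence -/
noncomputable def lmulE (ζ : K) (hζ : ζ ≠ 0) : K ≃ₗ[F] K :=
  LinearEquiv.ofLinearMap (LinearMap.mulLeft F ζ) (LinearMap.mulLeft F ζ⁻¹)
    (by
      apply LinearMap.ext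
      intro β
      simp [mul_inv_cancel_left₀ hζ])
    (by
      apply LinearMap.ext
      intro β
      simp [inv_mul_cancel_left₀ hζ])

theorem lmulE_apply (ζ : K) (hζ : ζ ≠ 0) (β : K) : (lmulE ζ hζ : K ≃ₗ[F] K) β = ζ * β := rfl

theorem lmulE_pow_apply (ζ : K) (hζ : ζ ≠ 0) (n : ℕ) (β : K) :
    ((lmulE ζ hζ : K ≃ₗ[F] K) ^ n) β = ζ ^ n * β := by
  induction n generalizing β with
  | zero => simp
  | succ n ih =>
    rw [pow_succ, LinearEquiv.mul_apply, ih, lmulE_apply, pow_succ, mul_assoc]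

theorem id_sub_lmulE (ζ : K) (hζ : ζ ≠ 0) :
    LinearMap.id - ((lmulE ζ hζ : K ≃ₗ[F] K) : K →ₗ[F] K) = Algebra.lmul F K (1 - ζ) := by
  apply LinearMap.ext
  intro β
  rw [LinearMap.sub_apply, LinearMap.id_apply, LinearEquiv.coe_coe, lmulE_apply]
  show β - ζ * β = (1 - ζ) * β
  ring

theorem det_id_sub_lmulE (ζ : K) (hζ : ζ ≠ 0) :
    LinearMap.det (LinearMap.id - ((lmulE ζ hζ : K ≃ₗ[F] K) : K →ₗ[F] K)) =
      Algebra.norm F (1 - ζ) := by
  rw [id_sub_lmulE, Algebra.norm_apply]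

theorem fix_lmulE (ζ : K) (hζ : ζ ≠ 0) (hζ1 : ζ ≠ 1) (β : K)
    (h : (lmulE ζ hζ : K ≃ₗ[F] K) β = β) : β = 0 := by
  rw [lmulE_apply] at h
  have h1 : (ζ - 1) * β = 0 := by rw [sub_mul, one_mul, h, sub_self]
  rcases mul_eq_zero.1 h1 with h2 | h2
  · exact absurd (sub_eq_zero.1 h2) hζ1
  · exact h2

end LMul

variable {F : Type*} [Field F] [Fintype F] [DecidableEq F] {K : Type*} [Field K] [Fintype K]
  [Algebra F K]

theorem par_lmulE (ζ : K) (hζ : ζ ≠ 0) (hζ1 : ζ ≠ 1) :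
    par (lmulE ζ hζ : K ≃ₗ[F] K) = (Module.finrank F K : ZMod 2) := by
  unfold par
  have : fixSub (lmulE ζ hζ : K ≃ₗ[F] K) = ⊥ := by
    rw [Submodule.eq_bot_iff]
    intro β hβ
    rw [mem_fixSub] at hβ
    exact fix_lmulE ζ hζ hζ1 β hβ
  rw [this, finrank_bot, Nat.cast_zero, zero_add]

/-- the field-level statement -/
theorem caseN_field (QK : QuadraticForm F K) (h2 : (2 : F) ≠ 0) (ρ : K)
    (hgen : ∀ β : K, ∃ p : F[X], aeval ρ p = β) {r : ℕ} (hr : r.Prime) (hro : Odd r)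
    (hρr : ρ ^ r = 1) (hρ1 : ρ ≠ 1) (hρiso : ∀ β, QK (ρ * β) = QK β)
    (hns : ∃ β, QK β ≠ 0) :
    (QuadraticMap.polarBilin QK).Nondegenerate ∧
    ∃ (ζ : K) (hζ : ζ ≠ 0), (∀ β, QK (ζ * β) = QK β) ∧
      par (lmulE ζ hζ : K ≃ₗ[F] K) = 0 ∧ spin QK (lmulE ζ hζ : K ≃ₗ[F] K) = -1 := by
  classical
  have hρ0 : ρ ≠ 0 := by
    rintro rfl
    rw [zero_pow hr.ne_zero] at hρr
    exact zero_ne_one hρr
  have hBiso : ∀ β γ, QuadraticMap.polar QK (ρ * β) (ρ * γ) = QuadraticMap.polar QK β γ := by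
    intro β γ
    unfold QuadraticMap.polar
    rw [← mul_add, hρiso, hρiso, hρiso]
  have hBadj : ∀ β γ, QuadraticMap.polar QK (ρ * β) γ = QuadraticMap.polar QK β (ρ⁻¹ * γ) := by
    intro β γ
    rw [← hBiso β (ρ⁻¹ * γ), mul_inv_cancel_left₀ hρ0]
  have hsmulL : ∀ (a : F) β γ, QuadraticMap.polar QK (algebraMap F K a * β) γ =
      a * QuadraticMap.polar QK β γ := by
    intro a β γ
    rw [← Algebra.smul_def, QuadraticMap.polar_smul_left, smul_eq_mul]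
  have hsmulR : ∀ (a : F) β γ, QuadraticMap.polar QK β (algebraMap F K a * γ) =
      a * QuadraticMap.polar QK β γ := by
    intro a β γ
    rw [← Algebra.smul_def, QuadraticMap.polar_smul_right, smul_eq_mul]
  -- the radical is an ideal
  have hrad : ∀ p : F[X], ∀ β, (∀ γ, QuadraticMap.polar QK β γ = 0) →
      ∀ γ, QuadraticMap.polar QK (aeval ρ p * β) γ = 0 := by
    intro p
    induction p using Polynomial.induction_on with
    | C a =>
      intro β hβ γ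
      rw [aeval_C, hsmulL, hβ, mul_zero]
    | add p q hp hq =>
      intro β hβ γ
      rw [map_add, add_mul, QuadraticMap.polar_add_left, hp β hβ, hq β hβ, add_zero]
    | monomial n a ih =>
      intro β hβ γ
      have : aeval ρ (C a * X ^ (n + 1)) * β = ρ * (aeval ρ (C a * X ^ n) * β) := by
        rw [map_mul, map_mul, map_pow, map_pow, aeval_X, pow_succ]
        ring
      rw [this, hBadj]
      exact ih β hβ _
  have h2Q : ∀ β, QuadraticMap.polar QK β β = 2 * QK β := by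
    intro β
    rw [QuadraticMap.polar_self, two_smul, two_mul]
  have hnd : ∀ β, (∀ γ, QuadraticMap.polar QK β γ = 0) → β = 0 := by
    intro β hβ
    by_contra hne
    obtain ⟨β₀, hβ₀⟩ := hns
    obtain ⟨p, hp⟩ := hgen (β₀ * β⁻¹)
    have h1 := hrad p β hβ β₀
    rw [hp, inv_mul_cancel_right₀ hne, h2Q] at h1
    rcases mul_eq_zero.1 h1 with h | h
    · exact h2 h
    · exact hβ₀ h
  have hQK : (QuadraticMap.polarBilin QK).Nondegenerate := by
    constructor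
    · intro β hβ
      exact hnd β hβ
    · intro γ hγ
      apply hnd γ
      intro β
      rw [QuadraticMap.polar_comm]
      exact hγ β
  refine ⟨hQK, ?_⟩
  -- the isometry `g_K`
  have hgKiso : (lmulE ρ hρ0 : K ≃ₗ[F] K) ∈ isoGroup QK := fun β => hρiso β
  have hgKr : (lmulE ρ hρ0 : K ≃ₗ[F] K) ^ r = 1 := by
    apply LinearEquiv.ext
    intro β
    rw [lmulE_pow_apply, hρr, one_mul]
    rfl
  obtain ⟨hparg, hsping⟩ := FuseOdd.par_spin_of_odd_pow QK hQK h2 _ hgKiso r hro hgKr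
  rw [par_lmulE ρ hρ0 hρ1, ZMod.natCast_eq_zero_iff_even] at hparg
  obtain ⟨k, hk⟩ := hparg
  rw [← two_mul] at hk
  -- Frobenius
  have hρQ : ρ ^ (Fintype.card F ^ k + 1) = 1 := pow_succ_eq_one ρ hgen hr hρr hρ1 hk
  have hσρ : frobPow F k ρ = ρ⁻¹ := by
    rw [frobPow_apply]
    apply eq_inv_of_mul_eq_one_left
    rw [← pow_succ]
    exact hρQ
  have hadj : ∀ p : F[X], ∀ β γ, QuadraticMap.polar QK (aeval ρ p * β) γ =
      QuadraticMap.polar QK β (frobPow F k (aeval ρ p) * γ) := by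
    intro p
    induction p using Polynomial.induction_on with
    | C a =>
      intro β γ
      rw [aeval_C, AlgHom.commutes, hsmulL, hsmulR]
    | add p q hp hq =>
      intro β γ
      rw [map_add, map_add, add_mul, add_mul, QuadraticMap.polar_add_left,
        QuadraticMap.polar_add_right, hp, hq]
    | monomial n a ih =>
      intro β γ
      have h1 : aeval ρ (C a * X ^ (n + 1)) = ρ * aeval ρ (C a * X ^ n) := by
        rw [map_mul, map_mul, map_pow, map_pow, aeval_X, pow_succ]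
        ring
      obtain ⟨α, hα⟩ : ∃ α, α = aeval ρ (C a * X ^ n) := ⟨_, rfl⟩
      rw [← hα] at ih h1
      rw [h1, mul_assoc, hBadj, ih, map_mul (frobPow F k), hσρ]
      congr 1
      ring
  have hisoζ : ∀ ζ : K, ζ ^ (Fintype.card F ^ k + 1) = 1 → ∀ β, QK (ζ * β) = QK β := by
    intro ζ hζ β
    obtain ⟨p, hp⟩ := hgen ζ
    have h1 := hadj p β (ζ * β)
    rw [hp, frobPow_apply, ← mul_assoc, ← pow_succ, hζ, one_mul, h2Q, h2Q] at h1
    exact mul_left_cancel₀ h2 h1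
  -- Wall comparison
  have hwall : ∀ (ζ : K) (hζ0 : ζ ≠ 0), ζ ^ (Fintype.card F ^ k + 1) = 1 → ζ ≠ 1 →
      spin QK (lmulE ζ hζ0 : K ≃ₗ[F] K) * quadraticChar F (Algebra.norm F (1 - ζ)) =
        quadraticChar F (Algebra.norm F (1 - ρ)) := by
    intro ζ hζ0 hζ hζ1
    have e1 := FuseWall.spin_mul_char_det QK (lmulE ζ hζ0 : K ≃ₗ[F] K) (hisoζ ζ hζ)
      (fix_lmulE ζ hζ0 hζ1) (Module.finBasis F K)
    have e2 := FuseWall.spin_mul_char_det QK (lmulE ρ hρ0 : K ≃ₗ[F] K) hgKiso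
      (fix_lmulE ρ hρ0 hρ1) (Module.finBasis F K)
    rw [det_id_sub_lmulE] at e1 e2
    rw [e1, ← e2, hsping, one_mul]
  obtain ⟨ζ₀, hζ₀Q, hζ₀1, hζ₀sq1, hχ⟩ := exists_zeta (F := F) (K := K) h2 hk
  have hζ₀0 : ζ₀ ≠ 0 := by
    rintro rfl
    rw [zero_pow (Nat.succ_ne_zero _)] at hζ₀Q
    exact zero_ne_one hζ₀Q
  have hζ₀sq0 : ζ₀ ^ 2 ≠ 0 := pow_ne_zero 2 hζ₀0
  have hζ₀sqQ : (ζ₀ ^ 2) ^ (Fintype.card F ^ k + 1) = 1 := by
    rw [← pow_mul, mul_comm, pow_mul, hζ₀Q, one_pow]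
  have hw1 := hwall ζ₀ hζ₀0 hζ₀Q hζ₀1
  have hw2 := hwall (ζ₀ ^ 2) hζ₀sq0 hζ₀sqQ hζ₀sq1
  have hF : (∀ a b : F, ∃ x : F, x ≠ a ∧ x ≠ b) ∨ Module.finrank F K ≠ 4 :=
    Or.inl (exists_ne_ne_of_two_ne_zero h2)
  have hs1 := spin_eq_one_or QK hQK hF (x := (lmulE ζ₀ hζ₀0 : K ≃ₗ[F] K)) (hisoζ ζ₀ hζ₀Q)
  have hs2 := spin_eq_one_or QK hQK hF (x := (lmulE (ζ₀ ^ 2) hζ₀sq0 : K ≃ₗ[F] K))
    (hisoζ (ζ₀ ^ 2) hζ₀sqQ)
  have hne : ∀ ζ : K, ζ ≠ 1 → Algebra.norm F (1 - ζ) ≠ 0 := by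
    intro ζ hζ1 h
    rw [Algebra.norm_eq_zero_iff] at h
    exact hζ1 (sub_eq_zero.1 h).symm
  have hpark : ∀ (ζ : K) (hζ0 : ζ ≠ 0), ζ ≠ 1 → par (lmulE ζ hζ0 : K ≃ₗ[F] K) = 0 := by
    intro ζ hζ0 hζ1
    rw [par_lmulE ζ hζ0 hζ1, hk, Nat.cast_mul]
    have : ((2 : ℕ) : ZMod 2) = 0 := by decide
    rw [this, zero_mul]
  have key : spin QK (lmulE ζ₀ hζ₀0 : K ≃ₗ[F] K) = -1 ∨
      spin QK (lmulE (ζ₀ ^ 2) hζ₀sq0 : K ≃ₗ[F] K) = -1 := by
    rcases hs1 with h | h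
    · rcases hs2 with h' | h'
      · exfalso
        rw [h, one_mul] at hw1
        rw [h', one_mul] at hw2
        rw [hw1, hw2] at hχ
        rcases quadraticChar_dichotomy (hne ρ hρ1) with hc | hc <;> rw [hc] at hχ <;>
          norm_num at hχ
      · right
        exact h'
    · left
      exact h
  rcases key with hd | hd
  · exact ⟨ζ₀, hζ₀0, hisoζ ζ₀ hζ₀Q, hpark ζ₀ hζ₀0 hζ₀1, hd⟩
  · exact ⟨ζ₀ ^ 2, hζ₀sq0, hisoζ (ζ₀ ^ 2) hζ₀sqQ, hpark (ζ₀ ^ 2) hζ₀sq0 hζ₀sq1, hd⟩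

/-- Case N at the level of the ambient quadratic space -/
theorem caseN {V : Type*} [AddCommGroup V] [Module F V] [FiniteDimensional F V]
    (Q : QuadraticForm F V) (hQ : (QuadraticMap.polarBilin Q).Nondegenerate) (h2 : (2 : F) ≠ 0)
    (g : V ≃ₗ[F] V) (hg : ∀ v, Q (g v) = Q v) (ρ : K)
    (hgen : ∀ β : K, ∃ p : F[X], aeval ρ p = β) {r : ℕ} (hr : r.Prime) (hro : Odd r)
    (hρr : ρ ^ r = 1) (hρ1 : ρ ≠ 1) (φ : K →ₗ[F] V) (hφ : ∀ β, φ (ρ * β) = g (φ β))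
    (hns : ∃ β, Q (φ β) ≠ 0) :
    ∃ c : V ≃ₗ[F] V, (∀ v, Q (c v) = Q v) ∧ (∀ v, c (g v) = g (c v)) ∧ par c = 0 ∧
      spin Q c = -1 := by
  have hρ0 : ρ ≠ 0 := by
    rintro rfl
    rw [zero_pow hr.ne_zero] at hρr
    exact zero_ne_one hρr
  obtain ⟨hQK, ζ, hζ, hiso, hpar, hspin⟩ := caseN_field (Q.comp φ) h2 ρ hgen hr hro hρr hρ1
    (by
      intro β
      rw [QuadraticMap.comp_apply, QuadraticMap.comp_apply, hφ, hg])
    hns
  obtain ⟨c, hc1, hc2, hc3, hc4⟩ := FuseExt.extend Q hQ h2 (Q.comp φ) hQK φ (fun z => rfl) g hg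
    (lmulE ρ hρ0) (fun z => (hφ z).symm) (lmulE ζ hζ) hiso
    (fun z => by
      rw [lmulE_apply, lmulE_apply, lmulE_apply, lmulE_apply]
      exact mul_left_comm _ _ _)
  exact ⟨c, hc1, hc2, hc3.trans hpar, hc4.trans hspin⟩

end Cfsg.Agent.Lib.Helper37.FuseN
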