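/-
helper37 library: "Case T".  Two totally singular subspaces in perfect duality, the first a copy
of a field `K = F[ρ]`.  The isometry `(η, η^{-*})` of the hyperbolic space `K ⊕ K'` has spinor
norm `χ (N η)`.
-/
import Mathlib
import Cfsg.Agent.Lib.Helper37.FuseN

set_option autoImplicit false

namespace Cfsg.Agent.Lib.Helper37.FuseT

open Cfsg.Agent.Lib.Helper13 Cfsg.Agent.Lib.Helper37.FuseN

section Pairing

variable {F : Type*} [Field F] {M M' : Type*} [AddCommGroup M] [Module F M]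
  [FiniteDimensional F M] [AddCommGroup M'] [Module F M'] [FiniteDimensional F M']
  (P : M →ₗ[F] M' →ₗ[F] F) (hPl : ∀ β, (∀ γ, P β γ = 0) → β = 0)
  (hPr : ∀ γ, (∀ β, P β γ = 0) → γ = 0)

include hPl hPr in
theorem finrank_eq : Module.finrank F M' = Module.finrank F M := by
  apply le_antisymm
  · have h1 : Function.Injective P.flip := by
      rw [← LinearMap.ker_eq_bot, LinearMap.ker_eq_bot']
      intro γ hγ
      apply hPr
      intro β
      have := congrArg (fun f => f β) hγ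
      exact this
    have := LinearMap.finrank_le_finrank_of_injective h1
    rw [Subspace.dual_finrank_eq] at this
    exact this
  · have h1 : Function.Injective P := by
      rw [← LinearMap.ker_eq_bot, LinearMap.ker_eq_bot']
      intro β hβ
      apply hPl
      intro γ
      have := congrArg (fun f => f γ) hβ
      exact this
    have := LinearMap.finrank_le_finrank_of_injective h1
    rw [Subspace.dual_finrank_eq] at this
    exact this

/-- `M' ≃ M^*` -/
noncomputable def iotaE : M' ≃ₗ[F] Module.Dual F M :=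
  LinearMap.linearEquivOfInjective P.flip
    (by
      rw [← LinearMap.ker_eq_bot, LinearMap.ker_eq_bot']
      intro γ hγ
      apply hPr
      intro β
      have := congrArg (fun f => f β) hγ
      exact this)
    (by rw [Subspace.dual_finrank_eq]; exact finrank_eq P hPl hPr)

theorem iotaE_apply (γ : M') (β : M) : iotaE P hPl hPr γ β = P β γ := by
  unfold iotaE
  rw [LinearMap.linearEquivOfInjective_apply]
  rfl

/-- the inverse adjoint of `a` with respect to the pairing -/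
noncomputable def adj (a : M ≃ₗ[F] M) : M' ≃ₗ[F] M' :=
  (iotaE P hPl hPr).trans (a.symm.dualMap.trans (iotaE P hPl hPr).symm)

theorem adj_spec' (a : M ≃ₗ[F] M) (β : M) (γ : M') :
    P β (adj P hPl hPr a γ) = P (a.symm β) γ := by
  rw [← iotaE_apply P hPl hPr, ← iotaE_apply P hPl hPr]
  unfold adj
  rw [LinearEquiv.trans_apply, LinearEquiv.trans_apply, LinearEquiv.apply_symm_apply]
  rfl

theorem adj_spec (a : M ≃ₗ[F] M) (β : M) (γ : M') :
    P (a β) (adj P hPl hPr a γ) = P β γ := by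
  rw [adj_spec', LinearEquiv.symm_apply_apply]

include hPr in
theorem partner_unique (a : M ≃ₗ[F] M) (a₁ a₂ : M' ≃ₗ[F] M')
    (h₁ : ∀ β γ, P (a β) (a₁ γ) = P β γ) (h₂ : ∀ β γ, P (a β) (a₂ γ) = P β γ) : a₁ = a₂ := by
  apply LinearEquiv.ext
  intro γ
  rw [← sub_eq_zero]
  apply hPr
  intro β
  obtain ⟨β', rfl⟩ := a.surjective β
  rw [map_sub, h₁, h₂, sub_self]

theorem adj_coe (a : M ≃ₗ[F] M) :
    ((adj P hPl hPr a : M' ≃ₗ[F] M') : M' →ₗ[F] M') =
      ((iotaE P hPl hPr).symm : Module.Dual F M →ₗ[F] M') ∘ₗ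
        ((a.symm : M →ₗ[F] M).dualMap) ∘ₗ ((iotaE P hPl hPr : M' ≃ₗ[F] Module.Dual F M) :
          M' →ₗ[F] Module.Dual F M) := by
  apply LinearMap.ext
  intro γ
  rfl

theorem det_id_sub_adj (a : M ≃ₗ[F] M) :
    LinearMap.det (LinearMap.id - ((adj P hPl hPr a : M' ≃ₗ[F] M') : M' →ₗ[F] M')) =
      LinearMap.det (LinearMap.id - ((a.symm : M ≃ₗ[F] M) : M →ₗ[F] M)) := by
  have h1 : LinearMap.id - ((adj P hPl hPr a : M' ≃ₗ[F] M') : M' →ₗ[F] M') =
      ((iotaE P hPl hPr).symm : Module.Dual F M →ₗ[F] M') ∘ₗ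
        ((LinearMap.id - (a.symm : M →ₗ[F] M)).dualMap) ∘ₗ
        (((iotaE P hPl hPr).symm.symm : M' ≃ₗ[F] Module.Dual F M) :
          M' →ₗ[F] Module.Dual F M) := by
    rw [adj_coe]
    apply LinearMap.ext
    intro γ
    rw [LinearEquiv.symm_symm]
    simp only [LinearMap.sub_apply, LinearMap.id_apply, LinearMap.comp_apply, LinearEquiv.coe_coe]
    have : (LinearMap.id - (a.symm : M →ₗ[F] M)).dualMap (iotaE P hPl hPr γ) =
        iotaE P hPl hPr γ - (a.symm : M →ₗ[F] M).dualMap (iotaE P hPl hPr γ) := by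
      apply LinearMap.ext
      intro β
      simp only [LinearMap.dualMap_apply, LinearMap.sub_apply, LinearMap.id_apply, map_sub]
    rw [this, map_sub, LinearEquiv.symm_apply_apply]
  rw [h1, LinearMap.det_conj, LinearMap.det_dualMap]

end Pairing

section Main

variable {F : Type*} [Field F] [Fintype F] [DecidableEq F] {M M' : Type*} [AddCommGroup M]
  [Module F M] [FiniteDimensional F M] [AddCommGroup M'] [Module F M'] [FiniteDimensional F M']
  (P : M →ₗ[F] M' →ₗ[F] F) (hPl : ∀ β, (∀ γ, P β γ = 0) → β = 0)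
  (hPr : ∀ γ, (∀ β, P β γ = 0) → γ = 0)
  (QU : QuadraticForm F (M × M')) (hQU : ∀ β γ, QU (β, γ) = P β γ)

include hQU in
theorem polar_QU (z z' : M × M') :
    QuadraticMap.polar QU z z' = P z.1 z'.2 + P z'.1 z.2 := by
  obtain ⟨β, γ⟩ := z
  obtain ⟨β', γ'⟩ := z'
  unfold QuadraticMap.polar
  rw [Prod.mk_add_mk, hQU, hQU, hQU]
  simp only [map_add, LinearMap.add_apply]
  ring

include hPl hPr hQU in
theorem nondeg_QU : (QuadraticMap.polarBilin QU).Nondegenerate := by
  have hleft : ∀ z : M × M', (∀ z', QuadraticMap.polar QU z z' = 0) → z = 0 := by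
    rintro ⟨β, γ⟩ h
    have h1 : β = 0 := by
      apply hPl
      intro γ'
      have := h (0, γ')
      rw [polar_QU P QU hQU] at this
      simpa using this
    have h2 : γ = 0 := by
      apply hPr
      intro β'
      have := h (β', 0)
      rw [polar_QU P QU hQU] at this
      simpa using this
    rw [h1, h2]
    rfl
  constructor
  · intro z hz
    exact hleft z hz
  · intro z hz
    apply hleft z
    intro z'
    rw [QuadraticMap.polar_comm]
    exact hz z'

include hPl hPr hQU in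
/-- the main computation for a pair of "hyperbolic" isometries -/
theorem pair_main (a b : M ≃ₗ[F] M) (a' b' : M' ≃ₗ[F] M')
    (haa' : ∀ β γ, P (a β) (a' γ) = P β γ) (hbb' : ∀ β γ, P (b β) (b' γ) = P β γ)
    (hafix : ∀ β, a β = β → β = 0) (hbfix : ∀ β, b β = β → β = 0) :
    a.prodCongr a' ∈ isoGroup QU ∧ b.prodCongr b' ∈ isoGroup QU ∧
      par (a.prodCongr a') = 0 ∧
      spin QU (a.prodCongr a') * quadraticChar F (LinearMap.det (a : M →ₗ[F] M)) =
        spin QU (b.prodCongr b') * quadraticChar F (LinearMap.det (b : M →ₗ[F] M)) := by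
  classical
  -- generic facts for one pair
  have gen : ∀ (c : M ≃ₗ[F] M) (c' : M' ≃ₗ[F] M'), (∀ β γ, P (c β) (c' γ) = P β γ) →
      (∀ β, c β = β → β = 0) →
      c.prodCongr c' ∈ isoGroup QU ∧ (∀ z, c.prodCongr c' z = z → z = 0) ∧
      LinearMap.det (LinearMap.id - ((c.prodCongr c' : (M × M') ≃ₗ[F] (M × M')) :
        (M × M') →ₗ[F] (M × M'))) * LinearMap.det (c : M →ₗ[F] M) =
        (-1) ^ Module.finrank F M *
          LinearMap.det (LinearMap.id - (c : M →ₗ[F] M)) ^ 2 ∧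
      LinearMap.det (LinearMap.id - (c : M →ₗ[F] M)) ≠ 0 := by
    intro c c' hcc' hcfix
    have hc'eq : c' = adj P hPl hPr c :=
      partner_unique P hPr c c' (adj P hPl hPr c) hcc' (adj_spec P hPl hPr c)
    have hinj : Function.Injective ((LinearMap.id - (c : M →ₗ[F] M) : M →ₗ[F] M)) := by
      rw [← LinearMap.ker_eq_bot, LinearMap.ker_eq_bot']
      intro β hβ
      apply hcfix
      rw [LinearMap.sub_apply, LinearMap.id_apply, sub_eq_zero] at hβ
      exact hβ.symm
    have hdet0 : LinearMap.det (LinearMap.id - (c : M →ₗ[F] M)) ≠ 0 := by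
      intro h
      have := LinearMap.bot_lt_ker_of_det_eq_zero h
      rw [LinearMap.ker_eq_bot.2 hinj] at this
      exact lt_irrefl _ this
    refine ⟨?_, ?_, ?_, hdet0⟩
    · rintro ⟨β, γ⟩
      show QU (c β, c' γ) = QU (β, γ)
      rw [hQU, hQU, hcc']
    · rintro ⟨β, γ⟩ h
      have h1 : c β = β := congrArg Prod.fst h
      have h2' : c' γ = γ := congrArg Prod.snd h
      have hβ : β = 0 := hcfix β h1
      have hγ : γ = 0 := by
        apply hPr
        intro β'
        obtain ⟨β'', rfl⟩ := LinearMap.surjective_of_injective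
          (f := (LinearMap.id - (c : M →ₗ[F] M) : M →ₗ[F] M)) hinj β'
        rw [LinearMap.sub_apply, LinearMap.id_apply, map_sub, LinearMap.sub_apply,
          LinearEquiv.coe_coe]
        nth_rewrite 1 [← hcc' β'' γ]
        rw [h2', sub_self]
      rw [hβ, hγ]
      rfl
    · have e1 : LinearMap.id - ((c.prodCongr c' : (M × M') ≃ₗ[F] (M × M')) :
          (M × M') →ₗ[F] (M × M')) =
          LinearMap.prodMap (LinearMap.id - (c : M →ₗ[F] M))
            (LinearMap.id - (c' : M' →ₗ[F] M')) := by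
        apply LinearMap.ext
        rintro ⟨β, γ⟩
        rfl
      rw [e1, LinearMap.det_prodMap, hc'eq, det_id_sub_adj]
      have e2 : (LinearMap.id - ((c.symm : M ≃ₗ[F] M) : M →ₗ[F] M)) ∘ₗ (c : M →ₗ[F] M) =
          (-1 : F) • (LinearMap.id - (c : M →ₗ[F] M)) := by
        apply LinearMap.ext
        intro β
        simp only [LinearMap.comp_apply, LinearMap.sub_apply, LinearMap.id_apply,
          LinearEquiv.coe_coe, LinearEquiv.symm_apply_apply, LinearMap.smul_apply]
        rw [neg_one_smul, neg_sub]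
      have e3 := congrArg LinearMap.det e2
      rw [LinearMap.det_comp, LinearMap.det_smul] at e3
      rw [mul_assoc, e3]
      ring
  obtain ⟨ha1, ha2, ha3, ha4⟩ := gen a a' haa' hafix
  obtain ⟨hb1, hb2, hb3, hb4⟩ := gen b b' hbb' hbfix
  refine ⟨ha1, hb1, ?_, ?_⟩
  · unfold par
    have : fixSub (a.prodCongr a') = ⊥ := by
      rw [Submodule.eq_bot_iff]
      intro z hz
      rw [mem_fixSub] at hz
      exact ha2 z hz
    rw [this, finrank_bot, Nat.cast_zero, zero_add, Module.finrank_prod,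
      finrank_eq P hPl hPr, ← two_mul, Nat.cast_mul]
    have : ((2 : ℕ) : ZMod 2) = 0 := by decide
    rw [this, zero_mul]
  · have w1 := FuseWall.spin_mul_char_det QU (a.prodCongr a') ha1 ha2 (Module.finBasis F (M × M'))
    have w2 := FuseWall.spin_mul_char_det QU (b.prodCongr b') hb1 hb2 (Module.finBasis F (M × M'))
    have hdeta : LinearMap.det (a : M →ₗ[F] M) ≠ 0 := (LinearEquiv.isUnit_det' a).ne_zero
    have hdetb : LinearMap.det (b : M →ₗ[F] M) ≠ 0 := (LinearEquiv.isUnit_det' b).ne_zero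
    have ca := congrArg (quadraticChar F) ha3
    have cb := congrArg (quadraticChar F) hb3
    rw [map_mul, map_mul, map_pow, map_pow, quadraticChar_sq_one ha4, mul_one] at ca
    rw [map_mul, map_mul, map_pow, map_pow, quadraticChar_sq_one hb4, mul_one] at cb
    have sa := quadraticChar_sq_one hdeta
    have sb := quadraticChar_sq_one hdetb
    have hε : (quadraticChar F (-1 : F) ^ Module.finrank F M) ^ 2 = 1 := by
      rw [← pow_mul, mul_comm, pow_mul, quadraticChar_sq_one (neg_ne_zero.2 one_ne_zero), one_pow]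
    -- abbreviations
    obtain ⟨sA, hsA⟩ : ∃ x, x = spin QU (a.prodCongr a') := ⟨_, rfl⟩
    obtain ⟨sB, hsB⟩ : ∃ x, x = spin QU (b.prodCongr b') := ⟨_, rfl⟩
    obtain ⟨dA, hdA⟩ : ∃ x, x = quadraticChar F (LinearMap.det (LinearMap.id -
      ((a.prodCongr a' : (M × M') ≃ₗ[F] (M × M')) : (M × M') →ₗ[F] (M × M')))) := ⟨_, rfl⟩
    obtain ⟨dB, hdB⟩ : ∃ x, x = quadraticChar F (LinearMap.det (LinearMap.id -
      ((b.prodCongr b' : (M × M') ≃ₗ[F] (M × M')) : (M × M') →ₗ[F] (M × M')))) := ⟨_, rfl⟩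
    obtain ⟨xA, hxA⟩ : ∃ x, x = quadraticChar F (LinearMap.det (a : M →ₗ[F] M)) := ⟨_, rfl⟩
    obtain ⟨xB, hxB⟩ : ∃ x, x = quadraticChar F (LinearMap.det (b : M →ₗ[F] M)) := ⟨_, rfl⟩
    obtain ⟨ε, hεdef⟩ : ∃ x, x = quadraticChar F (-1 : F) ^ Module.finrank F M := ⟨_, rfl⟩
    rw [← hsA, ← hdA] at w1
    rw [← hsB, ← hdB] at w2
    rw [← hdA, ← hxA, ← hεdef] at ca
    rw [← hdB, ← hxB, ← hεdef] at cb
    rw [← hxA] at sa
    rw [← hxB] at sb
    rw [← hεdef] at hε
    rw [← hsA, ← hsB, ← hxA, ← hxB]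
    have w12 : sA * dA = sB * dB := w1.trans w2.symm
    have hdA : dA = ε * xA := by
      calc dA = (dA * xA) * xA := by rw [mul_assoc, ← pow_two, sa, mul_one]
        _ = ε * xA := by rw [ca]
    have hdB : dB = ε * xB := by
      calc dB = (dB * xB) * xB := by rw [mul_assoc, ← pow_two, sb, mul_one]
        _ = ε * xB := by rw [cb]
    rw [hdA, hdB] at w12
    have key : sA * xA = sB * xB := by
      calc sA * xA = (sA * (ε * xA)) * ε := by
            have : (sA * (ε * xA)) * ε = sA * xA * ε ^ 2 := by ring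
            rw [this, hε, mul_one]
        _ = (sB * (ε * xB)) * ε := by rw [w12]
        _ = sB * xB := by
            have : (sB * (ε * xB)) * ε = sB * xB * ε ^ 2 := by ring
            rw [this, hε, mul_one]
    exact key

end Main

section CaseT

variable {F : Type*} [Field F] [Fintype F] [DecidableEq F] {K : Type*} [Field K] [Fintype K]
  [Algebra F K] {K' : Type*} [AddCommGroup K'] [Module F K'] [FiniteDimensional F K']
  {V : Type*} [AddCommGroup V] [Module F V] [FiniteDimensional F V]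

omit [Fintype F] [DecidableEq F] [Fintype K] in
theorem det_lmulE (ζ : K) (hζ : ζ ≠ 0) :
    LinearMap.det ((lmulE ζ hζ : K ≃ₗ[F] K) : K →ₗ[F] K) = Algebra.norm F ζ := by
  rw [Algebra.norm_apply]
  rfl

/-- Case T at the level of the ambient quadratic space -/
theorem caseT (Q : QuadraticForm F V) (hQ : (QuadraticMap.polarBilin Q).Nondegenerate)
    (h2 : (2 : F) ≠ 0) (g : V ≃ₗ[F] V) (hg : ∀ v, Q (g v) = Q v) {r : ℕ} (hr : r.Prime)
    (hro : Odd r) (hgr : g ^ r = 1) (ρ : K) (hρr : ρ ^ r = 1) (hρ1 : ρ ≠ 1)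
    (φ : K →ₗ[F] V) (hφ : ∀ β, φ (ρ * β) = g (φ β)) (hL : ∀ β, Q (φ β) = 0)
    (g' : K' ≃ₗ[F] K') (φ' : K' →ₗ[F] V) (hφ' : ∀ γ, φ' (g' γ) = g (φ' γ))
    (hL' : ∀ γ, Q (φ' γ) = 0)
    (hPl : ∀ β, (∀ γ, QuadraticMap.polar Q (φ β) (φ' γ) = 0) → β = 0)
    (hPr : ∀ γ, (∀ β, QuadraticMap.polar Q (φ β) (φ' γ) = 0) → γ = 0) :
    ∃ c : V ≃ₗ[F] V, (∀ v, Q (c v) = Q v) ∧ (∀ v, c (g v) = g (c v)) ∧ par c = 0 ∧
      spin Q c = -1 := by
  classical
  have hρ0 : ρ ≠ 0 := by
    rintro rfl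
    rw [zero_pow hr.ne_zero] at hρr
    exact zero_ne_one hρr
  have hpolg : ∀ x y, QuadraticMap.polar Q (g x) (g y) = QuadraticMap.polar Q x y := by
    intro x y
    unfold QuadraticMap.polar
    rw [← map_add, hg, hg, hg]
  set P : K →ₗ[F] K' →ₗ[F] F := (QuadraticMap.polarBilin Q).compl₁₂ φ φ' with hP
  have hPapp : ∀ β γ, P β γ = QuadraticMap.polar Q (φ β) (φ' γ) := fun β γ => rfl
  have hPl' : ∀ β, (∀ γ, P β γ = 0) → β = 0 := fun β h => hPl β h
  have hPr' : ∀ γ, (∀ β, P β γ = 0) → γ = 0 := fun γ h => hPr γ h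
  set ψ : K × K' →ₗ[F] V := φ.coprod φ' with hψ
  have hψapp : ∀ β γ, ψ (β, γ) = φ β + φ' γ := fun β γ => by
    rw [hψ, LinearMap.coprod_apply]
  set QU : QuadraticForm F (K × K') := Q.comp ψ with hQUdef
  have hQU : ∀ β γ, QU (β, γ) = P β γ := by
    intro β γ
    rw [hQUdef, QuadraticMap.comp_apply, hψapp, hPapp]
    have h1 : Q (φ β + φ' γ) = Q (φ β) + Q (φ' γ) + QuadraticMap.polar Q (φ β) (φ' γ) := by
      unfold QuadraticMap.polar
      ring
    rw [h1, hL, hL', zero_add, zero_add]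
  have hQUnd := nondeg_QU P hPl' hPr' QU hQU
  -- the pair `b`
  have hbb' : ∀ β γ, P ((lmulE ρ hρ0 : K ≃ₗ[F] K) β) (g' γ) = P β γ := by
    intro β γ
    rw [hPapp, hPapp, lmulE_apply, hφ, hφ', hpolg]
  -- the element `η`
  have hF2 : ringChar F ≠ 2 := by
    intro h
    apply h2
    have := ringChar.Nat.cast_ringChar (R := F)
    rw [h] at this
    exact_mod_cast this
  obtain ⟨s, hs⟩ := FiniteField.exists_nonsquare hF2
  obtain ⟨η, hη⟩ := FiniteField.norm_surjective F K s
  have hη0 : η ≠ 0 := by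
    rintro rfl
    rw [Algebra.norm_zero] at hη
    apply hs
    rw [← hη]
    exact IsSquare.zero
  have hη1 : η ≠ 1 := by
    rintro rfl
    rw [map_one] at hη
    apply hs
    rw [← hη]
    exact IsSquare.one
  obtain ⟨ha1, hb1, hpar, hspin⟩ := pair_main P hPl' hPr' QU hQU (lmulE η hη0) (lmulE ρ hρ0)
    (adj P hPl' hPr' (lmulE η hη0)) g' (adj_spec P hPl' hPr' (lmulE η hη0)) hbb'
    (fix_lmulE η hη0 hη1) (fix_lmulE ρ hρ0 hρ1)
  rw [det_lmulE, det_lmulE, hη, quadraticChar_neg_one_iff_not_isSquare.2 hs] at hspin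
  -- `χ (N ρ) = 1`
  have hχρ : quadraticChar F (Algebra.norm F ρ) = 1 := by
    obtain ⟨m, hm⟩ := hro
    have h1 : ρ = (ρ ^ (m + 1)) ^ 2 := by
      rw [← pow_mul]
      have : (m + 1) * 2 = r + 1 := by omega
      rw [this, pow_succ, hρr, one_mul]
    have h3 : Algebra.norm F ρ = (Algebra.norm F (ρ ^ (m + 1))) ^ 2 := by
      nth_rewrite 1 [h1]
      rw [map_pow]
    rw [h3, map_pow]
    apply quadraticChar_sq_one
    rw [Ne, Algebra.norm_eq_zero_iff]
    exact pow_ne_zero _ hρ0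
  -- `u_b` has odd order
  have hψb : ∀ z, ψ ((lmulE ρ hρ0 : K ≃ₗ[F] K).prodCongr g' z) = g (ψ z) := by
    rintro ⟨β, γ⟩
    show ψ (ρ * β, g' γ) = _
    rw [hψapp, hψapp, map_add, hφ, hφ']
  have hψinj : Function.Injective ψ := by
    rw [← LinearMap.ker_eq_bot, LinearMap.ker_eq_bot']
    intro z hz
    apply hQUnd.1
    intro z'
    show QuadraticMap.polar QU z z' = 0
    rw [← FuseExt.polar_map Q QU ψ (fun _ => rfl), hz]
    exact QuadraticMap.polar_zero_left _ _
  have hψbn : ∀ (n : ℕ) z, ψ ((((lmulE ρ hρ0 : K ≃ₗ[F] K).prodCongr g') ^ n) z) =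
      (g ^ n) (ψ z) := by
    intro n
    induction n with
    | zero => intro z; rfl
    | succ n ih =>
      intro z
      rw [pow_succ, LinearEquiv.mul_apply, ih, hψb, pow_succ, LinearEquiv.mul_apply]
  have hubr : ((lmulE ρ hρ0 : K ≃ₗ[F] K).prodCongr g') ^ r = 1 := by
    apply LinearEquiv.ext
    intro z
    apply hψinj
    rw [hψbn, hgr]
    rfl
  obtain ⟨-, hsb⟩ := FuseOdd.par_spin_of_odd_pow QU hQUnd h2 _ hb1 r hro hubr
  rw [hsb, hχρ] at hspin
  have hsA : spin QU ((lmulE η hη0 : K ≃ₗ[F] K).prodCongr (adj P hPl' hPr' (lmulE η hη0))) = -1 := by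
    have : spin QU ((lmulE η hη0 : K ≃ₗ[F] K).prodCongr (adj P hPl' hPr' (lmulE η hη0))) * -1
        = 1 * 1 := hspin
    linarith
  -- commutation
  have hcomm' : adj P hPl' hPr' (lmulE η hη0) * g' = g' * adj P hPl' hPr' (lmulE η hη0) := by
    have hab : (lmulE η hη0 : K ≃ₗ[F] K) * lmulE ρ hρ0 = lmulE ρ hρ0 * lmulE η hη0 := by
      apply LinearEquiv.ext
      intro β
      show η * (ρ * β) = ρ * (η * β)
      exact mul_left_comm _ _ _
    apply partner_unique P hPr' ((lmulE η hη0 : K ≃ₗ[F] K) * lmulE ρ hρ0)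
    · intro β γ
      rw [LinearEquiv.mul_apply, LinearEquiv.mul_apply, adj_spec, hbb']
    · intro β γ
      rw [hab, LinearEquiv.mul_apply, LinearEquiv.mul_apply, hbb', adj_spec]
  obtain ⟨c, hc1, hc2, hc3, hc4⟩ := FuseExt.extend Q hQ h2 QU hQUnd ψ (fun z => rfl) g hg
    ((lmulE ρ hρ0 : K ≃ₗ[F] K).prodCongr g') (fun z => (hψb z).symm)
    ((lmulE η hη0 : K ≃ₗ[F] K).prodCongr (adj P hPl' hPr' (lmulE η hη0))) ha1
    (by
      rintro ⟨β, γ⟩
      show (η * (ρ * β), adj P hPl' hPr' (lmulE η hη0) (g' γ)) =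
        (ρ * (η * β), g' (adj P hPl' hPr' (lmulE η hη0) γ))
      have h1 := congrArg (fun e : K' ≃ₗ[F] K' => e γ) hcomm'
      simp only [LinearEquiv.mul_apply] at h1
      rw [h1, mul_left_comm])
  exact ⟨c, hc1, hc2, hc3.trans hpar, hc4.trans hsA⟩

end CaseT

end Cfsg.Agent.Lib.Helper37.FuseT
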