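/-
helper37 library: a fixed-point-free isometry `g` of odd prime order `r` (prime to the
characteristic) of a nondegenerate quadratic space over a finite field of odd characteristic
commutes with an isometry of even parity and spinor norm `-1`.
-/
import Mathlib
import Cfsg.Agent.Lib.Helper37.FuseCyc
import Cfsg.Agent.Lib.Helper37.FuseT

set_option autoImplicit false

namespace Cfsg.Agent.Lib.Helper37.FuseFree

open Polynomial Cfsg.Agent.Lib.Helper13 Cfsg.Agent.Lib.Helper37.FuseCyc
  Cfsg.Agent.Lib.Helper37.FuseN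

section Gen

variable {F : Type*} [Field F] {K : Type*} [Field K] [Algebra F K]

/-- an `F`-subspace of `K = F[ρ]` closed under multiplication by `ρ` and containing a nonzero
element is everything -/
theorem mem_of_rho_closed (ρ : K) (hgen : ∀ β : K, ∃ p : F[X], aeval ρ p = β)
    (S : Submodule F K) (hS : ∀ β ∈ S, ρ * β ∈ S) (β : K) (hβ : β ∈ S) (hβ0 : β ≠ 0) (γ : K) :
    γ ∈ S := by
  have key : ∀ p : F[X], aeval ρ p * β ∈ S := by
    intro p
    induction p using Polynomial.induction_on with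
    | C a =>
      rw [aeval_C, ← Algebra.smul_def]
      exact S.smul_mem a hβ
    | add p q hp hq =>
      rw [map_add, add_mul]
      exact S.add_mem hp hq
    | monomial n a ih =>
      have : aeval ρ (C a * X ^ (n + 1)) * β = ρ * (aeval ρ (C a * X ^ n) * β) := by
        rw [map_mul, map_mul, map_pow, map_pow, aeval_X, pow_succ]
        ring
      rw [this]
      exact hS _ ih
  obtain ⟨p, hp⟩ := hgen (γ * β⁻¹)
  have := key p
  rw [hp, inv_mul_cancel_right₀ hβ0] at this
  exact this

end Gen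

section Root

variable {F : Type*} [Field F] {V : Type*} [AddCommGroup V] [Module F V]

theorem end_pow_apply (g : V ≃ₗ[F] V) (n : ℕ) (v : V) :
    (((g : V →ₗ[F] V) : Module.End F V) ^ n) v = (g ^ n) v := by
  induction n generalizing v with
  | zero => rfl
  | succ n ih =>
    rw [pow_succ, Module.End.mul_apply, ih, pow_succ, LinearEquiv.mul_apply]
    rfl

variable (g : V ≃ₗ[F] V) (f : F[X]) [Fact (Irreducible f)] (x : V) (hx0 : x ≠ 0)
  (hx : aeval ((g : V →ₗ[F] V) : Module.End F V) f x = 0)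

theorem phi_root_pow_mul (n : ℕ) (β : AdjoinRoot f) :
    phi ((g : V →ₗ[F] V) : Module.End F V) f x hx (AdjoinRoot.root f ^ n * β) =
      (g ^ n) (phi ((g : V →ₗ[F] V) : Module.End F V) f x hx β) := by
  induction n generalizing β with
  | zero => rw [pow_zero, one_mul]; rfl
  | succ n ih =>
    rw [pow_succ, mul_assoc, ih, phi_root_mul, pow_succ, LinearEquiv.mul_apply]
    rfl

include hx0 hx in
theorem root_pow_eq_one {r : ℕ} (hgr : g ^ r = 1) : AdjoinRoot.root f ^ r = 1 := by
  have h1 := phi_root_pow_mul g f x hx r 1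
  rw [hgr, mul_one] at h1
  exact phi_injective ((g : V →ₗ[F] V) : Module.End F V) f x hx hx0 h1

include hx0 hx in
theorem root_ne_one (hfix : ∀ v, g v = v → v = 0) : AdjoinRoot.root f ≠ 1 := by
  intro h
  have h1 := phi_root_mul ((g : V →ₗ[F] V) : Module.End F V) f x hx 1
  rw [h, mul_one, phi_one] at h1
  exact hx0 (hfix x h1.symm)

end Root

variable {F : Type*} [Field F] [Fintype F] [DecidableEq F] {V : Type*} [AddCommGroup V]
  [Module F V] [FiniteDimensional F V]

theorem exists_centralizer_spin_neg (Q : QuadraticForm F V)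
    (hQ : (QuadraticMap.polarBilin Q).Nondegenerate) (h2 : (2 : F) ≠ 0) (g : V ≃ₗ[F] V)
    (hg : ∀ v, Q (g v) = Q v) {r : ℕ} (hr : r.Prime) (hro : Odd r) (hrF : (r : F) ≠ 0)
    (hgr : g ^ r = 1) (hfix : ∀ v, g v = v → v = 0) (hV : ∃ v : V, v ≠ 0) :
    ∃ c : V ≃ₗ[F] V, (∀ v, Q (c v) = Q v) ∧ (∀ v, c (g v) = g (c v)) ∧ par c = 0 ∧
      spin Q c = -1 := by
  classical
  set gE : Module.End F V := ((g : V →ₗ[F] V) : Module.End F V) with hgE
  have hgEr : gE ^ r = 1 := by
    apply LinearMap.ext
    intro v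
    rw [hgE, end_pow_apply, hgr]
    rfl
  have hspan := span_irrSet_eq_top gE r hr.pos hrF hgEr
  have hpolg : ∀ a b, QuadraticMap.polar Q (g a) (g b) = QuadraticMap.polar Q a b := by
    intro a b
    unfold QuadraticMap.polar
    rw [← map_add, hg, hg, hg]
  -- a nonzero vector with irreducible annihilator
  obtain ⟨x, ⟨f, hf, hx⟩, hx0⟩ : ∃ x ∈ irrSet gE, x ≠ 0 := by
    by_contra hcon
    push Not at hcon
    have : Submodule.span F (irrSet gE) = ⊥ := Submodule.span_eq_bot.2 hcon
    rw [hspan] at this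
    obtain ⟨v, hv⟩ := hV
    have hv' : v ∈ (⊤ : Submodule F V) := Submodule.mem_top
    rw [this, Submodule.mem_bot] at hv'
    exact hv hv'
  haveI : Fact (Irreducible f) := ⟨hf⟩
  haveI : Finite (AdjoinRoot f) := finite_adjoinRoot f hf.ne_zero
  letI : Fintype (AdjoinRoot f) := Fintype.ofFinite _
  have hρr := root_pow_eq_one g f x hx0 hx hgr
  have hρ1 := root_ne_one g f x hx0 hx hfix
  have hφ : ∀ β, phi gE f x hx (AdjoinRoot.root f * β) = g (phi gE f x hx β) :=
    fun β => phi_root_mul gE f x hx β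
  by_cases hns : ∃ β, Q (phi gE f x hx β) ≠ 0
  · exact caseN Q hQ h2 g hg (AdjoinRoot.root f) (gen_root f) hr hro hρr hρ1 (phi gE f x hx) hφ hns
  push Not at hns
  -- a second vector
  obtain ⟨y, ⟨f', hf', hy⟩, hxy⟩ : ∃ y ∈ irrSet gE, QuadraticMap.polar Q x y ≠ 0 := by
    by_contra hcon
    push Not at hcon
    have hle : Submodule.span F (irrSet gE) ≤ LinearMap.ker (QuadraticMap.polarBilin Q x) := by
      rw [Submodule.span_le]
      intro y hy
      exact hcon y hy
    rw [hspan] at hle
    apply hx0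
    apply hQ.1
    intro v
    exact hle (Submodule.mem_top (x := v))
  have hy0 : y ≠ 0 := by
    rintro rfl
    exact hxy (QuadraticMap.polar_zero_right _ _)
  haveI : Fact (Irreducible f') := ⟨hf'⟩
  haveI : Finite (AdjoinRoot f') := finite_adjoinRoot f' hf'.ne_zero
  letI : Fintype (AdjoinRoot f') := Fintype.ofFinite _
  have hρr' := root_pow_eq_one g f' y hy0 hy hgr
  have hρ1' := root_ne_one g f' y hy0 hy hfix
  have hφ' : ∀ β, phi gE f' y hy (AdjoinRoot.root f' * β) = g (phi gE f' y hy β) :=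
    fun β => phi_root_mul gE f' y hy β
  by_cases hns' : ∃ β, Q (phi gE f' y hy β) ≠ 0
  · exact caseN Q hQ h2 g hg (AdjoinRoot.root f') (gen_root f') hr hro hρr' hρ1'
      (phi gE f' y hy) hφ' hns'
  push Not at hns'
  have hρ0 : AdjoinRoot.root f ≠ 0 := by
    intro h
    rw [h, zero_pow hr.ne_zero] at hρr
    exact zero_ne_one hρr
  have hρ0' : AdjoinRoot.root f' ≠ 0 := by
    intro h
    rw [h, zero_pow hr.ne_zero] at hρr'
    exact zero_ne_one hρr'
  -- the pairing
  set P : AdjoinRoot f →ₗ[F] AdjoinRoot f' →ₗ[F] F :=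
    (QuadraticMap.polarBilin Q).compl₁₂ (phi gE f x hx) (phi gE f' y hy) with hP
  have hPapp : ∀ β γ, P β γ = QuadraticMap.polar Q (phi gE f x hx β) (phi gE f' y hy γ) :=
    fun β γ => rfl
  have hP11 : P 1 1 ≠ 0 := by
    rw [hPapp, phi_one, phi_one]
    exact hxy
  have hPinv : ∀ β γ, P (AdjoinRoot.root f * β) (AdjoinRoot.root f' * γ) = P β γ := by
    intro β γ
    rw [hPapp, hPapp, hφ, hφ', hpolg]
  have hPl : ∀ β, (∀ γ, QuadraticMap.polar Q (phi gE f x hx β) (phi gE f' y hy γ) = 0) →
      β = 0 := by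
    intro β hβ
    by_contra hne
    have h1 : (1 : AdjoinRoot f) ∈ LinearMap.ker P := by
      apply mem_of_rho_closed (AdjoinRoot.root f) (gen_root f) (LinearMap.ker P) ?_ β ?_ hne
      · intro β' hβ'
        rw [LinearMap.mem_ker] at hβ' ⊢
        apply LinearMap.ext
        intro γ
        have := hPinv β' ((AdjoinRoot.root f')⁻¹ * γ)
        rw [mul_inv_cancel_left₀ hρ0'] at this
        rw [this, hβ']
        rfl
      · rw [LinearMap.mem_ker]
        apply LinearMap.ext
        intro γ
        exact hβ γ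
    rw [LinearMap.mem_ker] at h1
    apply hP11
    rw [h1]
    rfl
  have hPr : ∀ γ, (∀ β, QuadraticMap.polar Q (phi gE f x hx β) (phi gE f' y hy γ) = 0) →
      γ = 0 := by
    intro γ hγ
    by_contra hne
    have h1 : (1 : AdjoinRoot f') ∈ LinearMap.ker P.flip := by
      apply mem_of_rho_closed (AdjoinRoot.root f') (gen_root f') (LinearMap.ker P.flip) ?_ γ ?_ hne
      · intro γ' hγ'
        rw [LinearMap.mem_ker] at hγ' ⊢
        apply LinearMap.ext
        intro β
        rw [LinearMap.flip_apply]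
        have := hPinv ((AdjoinRoot.root f)⁻¹ * β) γ'
        rw [mul_inv_cancel_left₀ hρ0] at this
        rw [this, ← LinearMap.flip_apply P, hγ']
        rfl
      · rw [LinearMap.mem_ker]
        apply LinearMap.ext
        intro β
        exact hγ β
    rw [LinearMap.mem_ker] at h1
    apply hP11
    rw [← LinearMap.flip_apply P, h1]
    rfl
  exact FuseT.caseT Q hQ h2 g hg hr hro hgr (AdjoinRoot.root f) hρr hρ1 (phi gE f x hx) hφ hns
    (lmulE (AdjoinRoot.root f') hρ0') (phi gE f' y hy) (fun γ => hφ' γ) hns' hPl hPr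

end Cfsg.Agent.Lib.Helper37.FuseFree
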