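/-
helper37 library: the class-fusion theorem for `PΩ⁺_{2m}(F)` and `PΩ⁻_{2m+2}(F)`.
-/
import Mathlib
import Cfsg.Agent.Lib.Helper37.FuseAut
import Cfsg.Agent.Lib.Helper36.InndiagPlus3
import Cfsg.Agent.Lib.Helper36.InndiagMinus2

set_option autoImplicit false

namespace Cfsg.Agent.Lib.Helper37.FusePM

open Cfsg.Agent.Lib.Helper13 Cfsg.Agent.Lib.Helper36 Cfsg.Agent.S2168 Cfsg.Agent.S0791 Module

variable {F : Type*} [Field F] [Fintype F] [DecidableEq F]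

theorem fusion_plus (h2 : (2 : F) ≠ 0) {m : ℕ} (hm : 4 ≤ m)
    (x : MulAut (Cfsg.POmega F (⇑(plusQF m F)))) (hx : x ∈ Cfsg.pgoAut F (⇑(plusQF m F)))
    {r : ℕ} (hr : r.Prime) (hro : Odd r) (hrF : (r : F) ≠ 0) (hxr : orderOf x = r) :
    (∀ y, (Cfsg.IsConjUnder (Cfsg.Inn (Cfsg.POmega F (⇑(plusQF m F)))) x y ↔
        Cfsg.IsConjUnder (inndiagPlusQ m F) x y) ∧
      (Cfsg.IsConjUnder (Cfsg.psoAut F (⇑(plusQF m F))) x y ↔
        Cfsg.IsConjUnder (inndiagPlusQ m F) x y)) ∧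
    (∀ y, Cfsg.IsConjUnder (Cfsg.poAut F (⇑(plusQF m F))) x y ↔
      Cfsg.IsConjUnder (Cfsg.pgoAut F (⇑(plusQF m F))) x y) := by
  have hQ := plusQF_nondeg m F
  have hcard : Fintype.card (Fin m ⊕ Fin m) = 2 * m := card_plus_index
  have hdim : 5 ≤ Fintype.card (Fin m ⊕ Fin m) := by rw [hcard]; omega
  have hdim' : 2 ≤ finrank F (Fin m ⊕ Fin m → F) := by
    rw [Module.finrank_fintype_fun_eq_card]
    omega
  obtain ⟨v₀, hv₀'⟩ := exists_Q_eq (plusQF m F) hQ h2 hdim' 1 one_ne_zero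
  have hv₀ : plusQF m F v₀ ≠ 0 := by rw [hv₀']; exact one_ne_zero
  exact FuseAut.fusion_full (plusQF m F) hQ h2 m hcard hdim v₀ hv₀ (inndiagPlusQ m F)
    (inndiag_eq h2 v₀ hv₀) x hx hr hro hrF hxr

theorem fusion_minus_of_eq (h2 : (2 : F) ≠ 0) (hodd : Fintype.card F % 2 = 1) {m : ℕ}
    (hm : 3 ≤ m) (a b : F)
    (hab : ∀ z₁ z₂ : F, z₁ ^ 2 + a * z₁ * z₂ + b * z₂ ^ 2 = 0 → z₁ = 0 ∧ z₂ = 0)
    (f : ((Fin m ⊕ Fin m) ⊕ Fin 2 → F) → F) (hf : ⇑(minusForm m F a b) = f)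
    (x : MulAut (Cfsg.POmega F f)) (hx : x ∈ Cfsg.pgoAut F f)
    {r : ℕ} (hr : r.Prime) (hro : Odd r) (hrF : (r : F) ≠ 0) (hxr : orderOf x = r) :
    (∀ y, (Cfsg.IsConjUnder (Cfsg.Inn (Cfsg.POmega F f)) x y ↔
        Cfsg.IsConjUnder (inndiagMinusOf m a b f) x y) ∧
      (Cfsg.IsConjUnder (Cfsg.psoAut F f) x y ↔
        Cfsg.IsConjUnder (inndiagMinusOf m a b f) x y)) ∧
    (∀ y, Cfsg.IsConjUnder (Cfsg.poAut F f) x y ↔ Cfsg.IsConjUnder (Cfsg.pgoAut F f) x y) := by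
  subst hf
  have hQ := minusForm_nondeg h2 m a b hab
  have hcard := card_minus_index m
  have hdim : 5 ≤ Fintype.card ((Fin m ⊕ Fin m) ⊕ Fin 2) := by rw [hcard]; omega
  have hdim' : 2 ≤ finrank F ((Fin m ⊕ Fin m) ⊕ Fin 2 → F) := by
    rw [Module.finrank_fintype_fun_eq_card]
    omega
  obtain ⟨v₀, hv₀'⟩ := exists_Q_eq (minusForm m F a b) hQ h2 hdim' 1 one_ne_zero
  have hv₀ : minusForm m F a b v₀ ≠ 0 := by rw [hv₀']; exact one_ne_zero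
  exact FuseAut.fusion_full (minusForm m F a b) hQ h2 (m + 1) hcard hdim v₀ hv₀
    (inndiagMinusOf m a b (⇑(minusForm m F a b)))
    (inndiag_minus_eq hodd h2 m a b hab v₀ hv₀) x hx hr hro hrF hxr

end Cfsg.Agent.Lib.Helper37.FusePM
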