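/-
helper37 library: every nilpotent Jordan type is realised by a unitary unipotent matrix (via
similarity of `1 + A` to the inverse of its conjugate transpose and `GUSimilar`); ranks are
invariant under field automorphisms.
-/
import Mathlib
import Cfsg.Prelude.Def_LieClassical
import Cfsg.Agent.Lib.Helper37.GUSimilar
import Cfsg.Agent.Lib.Helper40.NilpotentJordan

set_option autoImplicit false

namespace Cfsg.Agent.Lib.Helper37.GUUnipotent

open Matrix Module Cfsg Cfsg.Agent.Lib.Helper5 Cfsg.Agent.Lib.Helper37.GUConj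
  Cfsg.Agent.Lib.Helper37.GUSimilar Cfsg.Agent.Lib.Helper40

section general

variable {K : Type*} [Field K] {n : ℕ}

theorem map_mulVec_map (σ : K ≃+* K) (M : Matrix (Fin n) (Fin n) K) (v : Fin n → K) :
    (M.map σ) *ᵥ (fun i => σ (v i)) = fun i => σ ((M *ᵥ v) i) := by
  ext i
  simp only [mulVec, dotProduct, map_apply, map_sum, map_mul]

theorem map_map_symm (σ : K ≃+* K) (M : Matrix (Fin n) (Fin n) K) :
    (M.map σ).map σ.symm = M := by
  ext i j
  simp

/-- a field automorphism does not change the nullity -/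
theorem finrank_ker_map (σ : K ≃+* K) (M : Matrix (Fin n) (Fin n) K) :
    finrank K (LinearMap.ker (Matrix.toLin' (M.map σ))) =
      finrank K (LinearMap.ker (Matrix.toLin' M)) := by
  let j : LinearMap.ker (Matrix.toLin' M) ≃+ LinearMap.ker (Matrix.toLin' (M.map σ)) :=
    { toFun := fun v => ⟨fun i => σ (v.1 i), by
        have hv := v.2
        rw [LinearMap.mem_ker, Matrix.toLin'_apply] at hv ⊢
        rw [map_mulVec_map, hv]
        ext i
        simp⟩
      invFun := fun w => ⟨fun i => σ.symm (w.1 i), by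
        have hw := w.2
        rw [LinearMap.mem_ker, Matrix.toLin'_apply] at hw ⊢
        have := map_mulVec_map σ.symm (M.map σ) w.1
        rw [map_map_symm, hw] at this
        rw [this]
        ext i
        simp⟩
      left_inv := fun v => by
        apply Subtype.ext
        ext i
        simp
      right_inv := fun w => by
        apply Subtype.ext
        ext i
        simp
      map_add' := fun v w => by
        apply Subtype.ext
        ext i
        simp }
  have h := rank_eq_of_equiv_equiv σ j σ.bijective (fun r m => by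
    apply Subtype.ext
    ext i
    simp [j])
  unfold finrank
  rw [h]

theorem finrank_ker_eq (M : Matrix (Fin n) (Fin n) K) :
    finrank K (LinearMap.ker (Matrix.toLin' M)) = n - M.rank := by
  have h := LinearMap.finrank_range_add_finrank_ker (Matrix.toLin' M)
  rw [Module.finrank_fin_fun] at h
  have h2 : M.rank = finrank K (LinearMap.range (Matrix.toLin' M)) := by
    rw [Matrix.toLin'_apply']; rfl
  omega

theorem rank_le_n (M : Matrix (Fin n) (Fin n) K) : M.rank ≤ n := by
  have := Matrix.rank_le_card_width M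
  rwa [Fintype.card_fin] at this

theorem rank_map_equiv (σ : K ≃+* K) (M : Matrix (Fin n) (Fin n) K) :
    (M.map σ).rank = M.rank := by
  have h1 := finrank_ker_map σ M
  rw [finrank_ker_eq, finrank_ker_eq] at h1
  have h2 := rank_le_n M
  have h3 := rank_le_n (M.map σ)
  omega

theorem kd_eq_sub_rank (M : Matrix (Fin n) (Fin n) K) (j : ℕ) :
    kd (Matrix.toLin' M) j = n - (M ^ j).rank := by
  unfold kd
  rw [← Matrix.toLin'_pow, finrank_ker_eq]

/-- `J⁻¹ - 1` and `J - 1` have the same kernel dimensions -/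
theorem rank_inv_sub_one_pow (J : Matrix (Fin n) (Fin n) K) (hJ : IsUnit J.det) (j : ℕ) :
    ((J⁻¹ - 1) ^ j).rank = ((J - 1) ^ j).rank := by
  have h1 : J⁻¹ * J = 1 := nonsing_inv_mul J hJ
  have h2 : J * J⁻¹ = 1 := mul_nonsing_inv J hJ
  have hJi : J⁻¹ - 1 = (-J⁻¹) * (J - 1) := by
    rw [neg_mul, mul_sub, h1, mul_one, neg_sub]
  have hcomm : Commute (-J⁻¹) (J - 1) := by
    have hc : Commute J⁻¹ J := by
      change J⁻¹ * J = J * J⁻¹
      rw [h1, h2]
    exact ((hc.sub_right (Commute.one_right _))).neg_left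
  have hidet : IsUnit ((-J⁻¹) ^ j).det := by
    have h3 : (-J⁻¹) * (-J) = 1 := by rw [neg_mul_neg, h1]
    have h4 : (-J⁻¹) ^ j * (-J) ^ j = 1 := by
      have hc : Commute (-J⁻¹) (-J) := by
        change (-J⁻¹) * (-J) = (-J) * (-J⁻¹)
        rw [neg_mul_neg, neg_mul_neg, h1, h2]
      rw [← hc.mul_pow, h3, one_pow]
    have := congrArg det h4
    rw [det_mul, det_one] at this
    exact IsUnit.of_mul_eq_one _ this
  rw [hJi, hcomm.mul_pow, Matrix.rank_mul_eq_right_of_isUnit_det _ _ hidet]

end general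

section unitary

variable {K : Type*} [Field K] [Fintype K] {q n : ℕ}

theorem st_sub' (hK : Fintype.card K = q ^ 2) (M N : Matrix (Fin n) (Fin n) K) :
    st hK (M - N) = st hK M - st hK N := by
  ext i j
  simp [st]

theorem rank_st (hK : Fintype.card K = q ^ 2) (M : Matrix (Fin n) (Fin n) K) :
    (st hK M).rank = M.rank := by
  unfold st
  rw [rank_transpose]
  exact rank_map_equiv (sig hK) M

/-- every nilpotent Jordan type is realised by a unitary unipotent matrix -/
theorem exists_unitary_of_nilpotent (hK : Fintype.card K = q ^ 2)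
    (A : Matrix (Fin n) (Fin n) K) (hA : IsNilpotent A) :
    ∃ B : Matrix (Fin n) (Fin n) K, IsUnitaryMat q B ∧ IsNilpotent (B - 1) ∧
      ∀ j, kd (Matrix.toLin' (B - 1)) j = kd (Matrix.toLin' A) j := by
  classical
  obtain ⟨J, hJ⟩ : ∃ J : Matrix (Fin n) (Fin n) K, J = A + 1 := ⟨_, rfl⟩
  have hJA : J - 1 = A := by rw [hJ, add_sub_cancel_right]
  have hJunit : IsUnit J := by rw [hJ]; exact hA.isUnit_add_one
  have hJdet : IsUnit J.det := (Matrix.isUnit_iff_isUnit_det _).1 hJunit
  have hsJdet : IsUnit (st hK J).det := by rw [st_det]; exact hJdet.map _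
  have hsJ1 : st hK J - 1 = st hK A := by rw [← hJA, st_sub', st_one]
  -- `J' = (st J)⁻¹`
  obtain ⟨J', hJ'⟩ : ∃ J' : Matrix (Fin n) (Fin n) K, J' = (st hK J)⁻¹ := ⟨_, rfl⟩
  have h1 : J' * st hK J = 1 := by rw [hJ']; exact nonsing_inv_mul _ hsJdet
  have h2 : st hK J * J' = 1 := by rw [hJ']; exact mul_nonsing_inv _ hsJdet
  have hsAnil : IsNilpotent (st hK A) := by
    obtain ⟨k, hk⟩ := hA
    exact ⟨k, by rw [← st_pow, hk, st_zero]⟩
  have hJ'nil : IsNilpotent (J' - 1) := by
    have hJi : J' - 1 = (-J') * (st hK J - 1) := by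
      rw [neg_mul, mul_sub, h1, mul_one, neg_sub]
    have hcomm : Commute (-J') (st hK J - 1) := by
      have hc : Commute J' (st hK J) := by
        change J' * st hK J = st hK J * J'
        rw [h1, h2]
      exact ((hc.sub_right (Commute.one_right _))).neg_left
    rw [hJi, hsJ1] at *
    exact hcomm.isNilpotent_mul_left hsAnil
  have hkd : ∀ j, kd (Matrix.toLin' A) j = kd (Matrix.toLin' (J' - 1)) j := by
    intro j
    rw [kd_eq_sub_rank, kd_eq_sub_rank, hJ', rank_inv_sub_one_pow _ hsJdet, hsJ1, ← st_pow,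
      rank_st]
  obtain ⟨P, hP⟩ := exists_gl_conj_of_kd_eq A (J' - 1) hA hJ'nil hkd
  have hPdet : IsUnit (P : Matrix (Fin n) (Fin n) K).det :=
    (Matrix.isUnit_iff_isUnit_det _).1 P.isUnit
  have hPJ : P.val * J = J' * P.val := by
    rw [hJ, mul_add, hP, mul_one, sub_mul, one_mul, sub_add_cancel]
  have hinv : st hK J * P.val * J = P.val := by
    rw [Matrix.mul_assoc, hPJ, ← Matrix.mul_assoc, h2, Matrix.one_mul]
  obtain ⟨C, B, hCdet, hB, hCB⟩ := exists_unitary_similar hK J _ hPdet hinv
  have hCA : C * A = (B - 1) * C := by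
    rw [← hJA, mul_sub, sub_mul, hCB, mul_one, one_mul]
  have hCi : C * C⁻¹ = 1 := mul_nonsing_inv C hCdet
  refine ⟨B, hB, ?_, fun j => ?_⟩
  · obtain ⟨k, hk⟩ := hA
    refine ⟨k, ?_⟩
    have h3 : SemiconjBy C (A ^ k) ((B - 1) ^ k) := SemiconjBy.pow_right hCA k
    have h4 : C * A ^ k = (B - 1) ^ k * C := h3
    rw [hk, mul_zero] at h4
    calc (B - 1) ^ k = (B - 1) ^ k * C * C⁻¹ := by rw [Matrix.mul_assoc, hCi, Matrix.mul_one]
      _ = 0 := by rw [← h4, Matrix.zero_mul]
  · exact (kd_eq_of_gl_conj A (B - 1) (Matrix.GeneralLinearGroup.mkOfDetNeZero C hCdet.ne_zero)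
      hCA j).symm

end unitary

end Cfsg.Agent.Lib.Helper37.GUUnipotent
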