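import Mathlib

set_option autoImplicit false

/-!
# Orbit counting: centraliser order from a transitive action on "frames"

`G` acts transitively on `Y`; `π : Y → M` any map; `C ≤ G` the subgroup of those `g` with
`π (g • y₀) = π y₀`.  Then `|C| * |Y| = |π ⁻¹ (π y₀)| * |G|`.

Also: intersecting a subgroup with a normal subgroup of index two.
-/

namespace Cfsg.Agent.Lib.Helper37.InvOrbit

open MulAction

theorem card_mul_card_of_fiber {G Y M : Type*} [Group G] [Finite G] [MulAction G Y] [Finite Y]
    [IsPretransitive G Y] (π : Y → M) (y₀ : Y) (C : Subgroup G)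
    (hC : ∀ g : G, g ∈ C ↔ π (g • y₀) = π y₀)
    (hfib : ∀ y : Y, π y = π y₀ → ∀ g : G, g • y₀ = y → g ∈ C) :
    Nat.card C * Nat.card Y = Nat.card {y : Y // π y = π y₀} * Nat.card G := by
  classical
  have hS : stabilizer G y₀ ≤ C := by
    intro g hg
    rw [hC, mem_stabilizer_iff.mp hg]
  -- orbit-stabiliser for `G`
  have h1 : Nat.card Y * Nat.card (stabilizer G y₀) = Nat.card G := by
    have h : Nat.card (orbit G y₀) * Nat.card (stabilizer G y₀) = Nat.card G := by
      rw [← Nat.card_prod]
      exact Nat.card_congr (orbitProdStabilizerEquivGroup G y₀)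
    have ho : orbit G y₀ = Set.univ := orbit_eq_univ G y₀
    have hc : Nat.card (orbit G y₀) = Nat.card Y := by
      rw [ho]
      exact Nat.card_congr (Equiv.Set.univ Y)
    rw [hc] at h
    exact h
  -- orbit-stabiliser for `C`
  have h2 : Nat.card {y : Y // π y = π y₀} * Nat.card (stabilizer G y₀) = Nat.card C := by
    have h : Nat.card (orbit C y₀) * Nat.card (stabilizer C y₀) = Nat.card C := by
      rw [← Nat.card_prod]
      exact Nat.card_congr (orbitProdStabilizerEquivGroup C y₀)
    have ho : Nat.card (orbit C y₀) = Nat.card {y : Y // π y = π y₀} := by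
      apply Nat.card_congr
      refine Equiv.subtypeEquivRight ?_
      intro y
      constructor
      · rintro ⟨c, rfl⟩
        exact (hC c).1 c.2
      · intro hy
        obtain ⟨g, hg⟩ := exists_smul_eq G y₀ y
        exact ⟨⟨g, hfib y hy g hg⟩, hg⟩
    have hs : Nat.card (stabilizer C y₀) = Nat.card (stabilizer G y₀) := by
      apply Nat.card_congr
      refine
        { toFun := fun c => ⟨(c : C), ?_⟩
          invFun := fun g => ⟨⟨(g : G), hS g.2⟩, ?_⟩
          left_inv := fun c => rfl
          right_inv := fun g => rfl }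
      · have := c.2
        rw [mem_stabilizer_iff] at this ⊢
        exact this
      · have := g.2
        rw [mem_stabilizer_iff] at this ⊢
        exact this
    rw [ho, hs] at h
    exact h
  rw [← h1, ← h2]
  ring

/-- Intersecting with a normal subgroup of index two: the order halves unless contained. -/
theorem card_inf_of_index_two {G : Type*} [Group G] [Finite G] (N C : Subgroup G) [N.Normal]
    (hN : N.index = 2) (hC : ¬ C ≤ N) : 2 * Nat.card ↥(N ⊓ C) = Nat.card C := by
  have h1 : N.relIndex C ∣ 2 := by
    rw [← hN]
    exact Subgroup.relIndex_dvd_index_of_normal N C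
  have h2 : N.relIndex C ≠ 1 := by
    intro h
    exact hC (Subgroup.relIndex_eq_one.mp h)
  have h3 : N.relIndex C = 2 := by
    rcases (Nat.dvd_prime Nat.prime_two).mp h1 with h | h
    · exact absurd h h2
    · exact h
  have h4 : (N ⊓ C).relIndex C = 2 := by
    rw [Subgroup.inf_relIndex_right]
    exact h3
  have h5 := Subgroup.relIndex_mul_relIndex (⊥ : Subgroup G) (N ⊓ C) C bot_le inf_le_right
  rw [h4, Subgroup.relIndex_bot_left, Subgroup.relIndex_bot_left] at h5
  rw [← h5]
  ring

end Cfsg.Agent.Lib.Helper37.InvOrbit
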