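import Mathlib
import Cfsg.Prelude.Def_Classical
import Cfsg.Agent.Lib.Helper13.QuadWitt
import Cfsg.Agent.Lib.Helper36.DicksonMatrix
import Cfsg.Agent.Lib.Helper43.OrthInvolClasses
import Cfsg.Agent.Lib.Helper37.InvOrbit

set_option autoImplicit false

/-!
# Frames and centralisers of elements `1 + n K nᵀ G` in orthogonal groups

`Q` a quadratic form on `ι → F` with non-degenerate polar form, Gram matrix `G`.
A *frame* (for `κ : σ → F`) is a linearly independent family `b : σ → ι → F` of pairwise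
polar-orthogonal vectors with `Q (b i) = κ i`.  The isometry group is transitive on frames (Witt).
For an invertible `K`, the map `b ↦ 1 + n K nᵀ G` (`n` the matrix with columns `b i`) is
equivariant, and its fibres are torsors under `{h | h K hᵀ = K}`.  Hence
`|C(x)| * #frames = #{h | h K hᵀ = K} * |O(Q)|` for `x = 1 + n₀ K n₀ᵀ G`.
-/

namespace Cfsg.Agent.Lib.Helper37.InvFrame

open Matrix Cfsg.Agent.Lib.Helper36 Cfsg.Agent.Lib.Helper43

variable {F : Type*} [Field F] {ι : Type} [Fintype ι] [DecidableEq ι]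
  {σ : Type*} [Fintype σ] [DecidableEq σ]

/-- The matrix with columns `b i`. -/
def colMat (b : σ → ι → F) : Matrix ι σ F := Matrix.of fun a i => b i a

theorem colMat_apply (b : σ → ι → F) (a : ι) (i : σ) : colMat b a i = b i a := rfl

theorem colMat_mulVec (b : σ → ι → F) (c : σ → F) : colMat b *ᵥ c = ∑ i, c i • b i := by
  funext a
  simp only [mulVec, dotProduct, colMat_apply, Finset.sum_apply, Pi.smul_apply, smul_eq_mul]
  apply Finset.sum_congr rfl
  intro i _
  ring

theorem colMat_single (b : σ → ι → F) (i : σ) : colMat b *ᵥ Pi.single i 1 = b i := by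
  rw [colMat_mulVec, Finset.sum_eq_single i]
  · simp
  · intro j _ hj
    simp [hj]
  · intro h
    exact absurd (Finset.mem_univ i) h

/-- The family of columns of a matrix. -/
def colFam (n : Matrix ι σ F) : σ → ι → F := fun i a => n a i

theorem colMat_colFam (n : Matrix ι σ F) : colMat (colFam n) = n := rfl

theorem colFam_colMat (b : σ → ι → F) : colFam (colMat b) = b := rfl

theorem colFam_eq (n : Matrix ι σ F) (i : σ) : colFam n i = n *ᵥ Pi.single i 1 := by
  rw [← colMat_single (colFam n) i, colMat_colFam]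

/-- A linearly independent family has a left inverse. -/
theorem exists_left_inverse_of_li (b : σ → ι → F) (hb : LinearIndependent F b) :
    ∃ L : Matrix σ ι F, L * colMat b = 1 := by
  have hinj : Function.Injective (colMat b).mulVecLin := by
    have h : LinearIndependent F (colMat b).col := hb
    exact (Matrix.mulVec_injective_iff).mpr h
  obtain ⟨f, hf⟩ := LinearMap.exists_leftInverse_of_injective (colMat b).mulVecLin
    (LinearMap.ker_eq_bot.mpr hinj)
  refine ⟨LinearMap.toMatrix' f, ?_⟩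
  have h1 : colMat b = LinearMap.toMatrix' (colMat b).mulVecLin := by
    rw [← Matrix.toLin'_apply', LinearMap.toMatrix'_toLin']
  rw [h1, ← LinearMap.toMatrix'_comp, hf, LinearMap.toMatrix'_id]

theorem li_of_left_inverse (n : Matrix ι σ F) (L : Matrix σ ι F) (h : L * n = 1) :
    LinearIndependent F (colFam n) := by
  have hinj : Function.Injective n.mulVec := by
    intro u v huv
    have := congrArg (fun w => L *ᵥ w) huv
    simpa [mulVec_mulVec, h] using this
  exact (Matrix.mulVec_injective_iff).mp hinj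

section form

variable (Q : QuadraticForm F (ι → F))

/-- Gram matrix of the polar form. -/
noncomputable abbrev gramM : Matrix ι ι F :=
  LinearMap.BilinForm.toMatrix' (QuadraticMap.polarBilin Q)

theorem gramM_transpose : (gramM Q)ᵀ = gramM Q := by
  ext i j
  simp only [gramM, transpose_apply, LinearMap.BilinForm.toMatrix'_apply]
  exact QuadraticMap.polar_comm _ _ _

theorem isUnit_det_gramM (hQ : (QuadraticMap.polarBilin Q).Nondegenerate) :
    IsUnit (gramM Q).det := by
  have h1 : (gramM Q).Nondegenerate :=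
    (LinearMap.BilinForm.nondegenerate_toMatrix'_iff).mpr hQ
  exact isUnit_iff_ne_zero.mpr ((Matrix.nondegenerate_iff_det_ne_zero).mp h1)

/-- Polar values of columns. -/
theorem polar_cols (n n' : Matrix ι σ F) (i j : σ) :
    QuadraticMap.polar (⇑Q) (colFam n i) (colFam n' j) = (nᵀ * gramM Q * n') i j := by
  rw [polar_eq_dotProduct, colFam_eq, colFam_eq, Matrix.mul_assoc, Matrix.mul_apply]
  simp only [dotProduct, transpose_apply]
  apply Finset.sum_congr rfl
  intro a _
  congr 1
  · simp [mulVec, dotProduct, Pi.single_apply]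
  · rw [mulVec_mulVec]
    simp [mulVec, dotProduct, Pi.single_apply]

/-- Isometries preserve the Gram matrix. -/
theorem isometry_gram (g : ↥(Cfsg.isometryGroup F (⇑Q))) :
    ((g : GL ι F) : Matrix ι ι F)ᵀ * gramM Q * ((g : GL ι F) : Matrix ι ι F) = gramM Q := by
  set A : Matrix ι ι F := ((g : GL ι F) : Matrix ι ι F) with hA
  have hp : ∀ u v : ι → F, QuadraticMap.polar (⇑Q) (A *ᵥ u) (A *ᵥ v) = QuadraticMap.polar (⇑Q) u v := by
    intro u v
    unfold QuadraticMap.polar
    rw [← mulVec_add, hA, orth_apply (⇑Q) g (u + v), orth_apply (⇑Q) g u, orth_apply (⇑Q) g v]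
  ext i j
  have h := hp (Pi.single i 1) (Pi.single j 1)
  rw [polar_eq_dotProduct, polar_eq_dotProduct] at h
  have e1 : (A *ᵥ Pi.single i 1) ⬝ᵥ (gramM Q *ᵥ (A *ᵥ Pi.single j 1)) =
      (Pi.single i 1 : ι → F) ⬝ᵥ ((Aᵀ * gramM Q * A) *ᵥ Pi.single j 1) := by
    rw [mulVec_mulVec, ← vecMul_transpose, dotProduct_mulVec, vecMul_vecMul, ← dotProduct_mulVec,
      Matrix.mul_assoc]
  have e2 : ∀ M : Matrix ι ι F, (Pi.single i 1 : ι → F) ⬝ᵥ (M *ᵥ Pi.single j 1) = M i j := by
    intro M
    simp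
  rw [← e2 (Aᵀ * gramM Q * A), ← e2 (gramM Q), ← e1]
  exact h

end form

/-- Pure matrix lemma: equal `n K nᵀ` for matrices of full column rank. -/
theorem exists_stab_of_eq (n₀ n : Matrix ι σ F) (L₀ L : Matrix σ ι F) (hL₀ : L₀ * n₀ = 1)
    (hL : L * n = 1) (K K' : Matrix σ σ F) (hK : K * K' = 1)
    (h : n * K * nᵀ = n₀ * K * n₀ᵀ) : ∃ hh : Matrix σ σ F, n = n₀ * hh ∧ hh * K * hhᵀ = K := by
  have hLt : nᵀ * Lᵀ = 1 := by rw [← transpose_mul, hL, transpose_one]
  have hL₀t : n₀ᵀ * L₀ᵀ = 1 := by rw [← transpose_mul, hL₀, transpose_one]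
  obtain ⟨hh, hhh⟩ : ∃ hh, hh = K * (n₀ᵀ * Lᵀ) * K' := ⟨_, rfl⟩
  have hn : n = n₀ * hh := by
    have h1 : n * K = n₀ * K * (n₀ᵀ * Lᵀ) := by
      have := congrArg (fun M => M * Lᵀ) h
      simp only [Matrix.mul_assoc] at this
      rw [hLt, Matrix.mul_one] at this
      rw [this]
      simp only [Matrix.mul_assoc]
    calc n = n * K * K' := by rw [Matrix.mul_assoc, hK, Matrix.mul_one]
      _ = n₀ * K * (n₀ᵀ * Lᵀ) * K' := by rw [h1]
      _ = n₀ * (K * (n₀ᵀ * Lᵀ) * K') := by simp only [Matrix.mul_assoc]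
      _ = n₀ * hh := by rw [hhh]
  refine ⟨hh, hn, ?_⟩
  have h2 : n₀ * (hh * K * hhᵀ) * n₀ᵀ = n₀ * K * n₀ᵀ := by
    rw [← h, hn, transpose_mul]
    simp only [Matrix.mul_assoc]
  have h3 := congrArg (fun M => L₀ * M * L₀ᵀ) h2
  have e1 : L₀ * (n₀ * (hh * K * hhᵀ) * n₀ᵀ) * L₀ᵀ = (L₀ * n₀) * (hh * K * hhᵀ) * (n₀ᵀ * L₀ᵀ) := by
    simp only [Matrix.mul_assoc]
  have e2 : L₀ * (n₀ * K * n₀ᵀ) * L₀ᵀ = (L₀ * n₀) * K * (n₀ᵀ * L₀ᵀ) := by
    simp only [Matrix.mul_assoc]
  rw [e1, e2, hL₀, hL₀t, Matrix.one_mul, Matrix.mul_one, Matrix.one_mul, Matrix.mul_one] at h3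
  exact h3

end Cfsg.Agent.Lib.Helper37.InvFrame
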