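import Mathlib
import Cfsg.Agent.Lib.Helper37.InvFrame

set_option autoImplicit false
set_option linter.unusedSectionVars false

/-!
# Frames: the action of the isometry group, transitivity, and the counting identity
-/

namespace Cfsg.Agent.Lib.Helper37.InvFrame

open Matrix Cfsg.Agent.Lib.Helper36 Cfsg.Agent.Lib.Helper43

variable {F : Type*} [Field F] {ι : Type} [Fintype ι] [DecidableEq ι]
  {σ : Type*} [Fintype σ] [DecidableEq σ]

variable (Q : QuadraticForm F (ι → F)) (κ : σ → F)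

/-- Frames: independent, pairwise polar-orthogonal, prescribed `Q`-values. -/
def IsFrame (b : σ → ι → F) : Prop :=
  LinearIndependent F b ∧ (∀ i j, QuadraticMap.polar (⇑Q) (b i) (b j) = 0) ∧ ∀ i, Q (b i) = κ i

/-- The type of frames. -/
def Frame : Type _ := {b : σ → ι → F // IsFrame Q κ b}

instance [Finite F] : Finite (Frame Q κ) := by
  unfold Frame
  infer_instance

theorem polar_mulVec (g : ↥(Cfsg.isometryGroup F (⇑Q))) (u v : ι → F) :
    QuadraticMap.polar (⇑Q) (((g : GL ι F) : Matrix ι ι F) *ᵥ u)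
      (((g : GL ι F) : Matrix ι ι F) *ᵥ v) = QuadraticMap.polar (⇑Q) u v := by
  unfold QuadraticMap.polar
  rw [← mulVec_add, orth_apply (⇑Q) g (u + v), orth_apply (⇑Q) g u, orth_apply (⇑Q) g v]

theorem isFrame_smul (g : ↥(Cfsg.isometryGroup F (⇑Q))) {b : σ → ι → F} (hb : IsFrame Q κ b) :
    IsFrame Q κ (fun i => ((g : GL ι F) : Matrix ι ι F) *ᵥ b i) := by
  refine ⟨?_, ?_, ?_⟩
  · have h := hb.1.map' ((glLinEquiv ι F (g : GL ι F) : (ι → F) ≃ₗ[F] (ι → F)) :
      (ι → F) →ₗ[F] (ι → F)) (LinearEquiv.ker _)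
    exact h
  · intro i j
    rw [polar_mulVec]
    exact hb.2.1 i j
  · intro i
    exact (orth_apply (⇑Q) g (b i)).trans (hb.2.2 i)

instance : MulAction ↥(Cfsg.isometryGroup F (⇑Q)) (Frame Q κ) where
  smul g b := ⟨fun i => ((g : GL ι F) : Matrix ι ι F) *ᵥ b.1 i, isFrame_smul Q κ g b.2⟩
  one_smul b := by
    apply Subtype.ext
    funext i
    show ((1 : GL ι F) : Matrix ι ι F) *ᵥ b.1 i = b.1 i
    simp
  mul_smul g h b := by
    apply Subtype.ext
    funext i
    show (((g * h : ↥(Cfsg.isometryGroup F (⇑Q))) : GL ι F) : Matrix ι ι F) *ᵥ b.1 i =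
      ((g : GL ι F) : Matrix ι ι F) *ᵥ (((h : GL ι F) : Matrix ι ι F) *ᵥ b.1 i)
    rw [mulVec_mulVec]
    rfl

theorem smul_val (g : ↥(Cfsg.isometryGroup F (⇑Q))) (b : Frame Q κ) (i : σ) :
    (g • b).1 i = ((g : GL ι F) : Matrix ι ι F) *ᵥ b.1 i := rfl

theorem colMat_smul (g : ↥(Cfsg.isometryGroup F (⇑Q))) (b : Frame Q κ) :
    colMat (g • b).1 = ((g : GL ι F) : Matrix ι ι F) * colMat b.1 := by
  ext a i
  rw [colMat_apply, smul_val, Matrix.mul_apply]
  rfl

/-- Witt: the isometry group is transitive on frames. -/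
theorem isPretransitive (hQ : (QuadraticMap.polarBilin Q).Nondegenerate) :
    MulAction.IsPretransitive ↥(Cfsg.isometryGroup F (⇑Q)) (Frame Q κ) := by
  constructor
  intro b c
  set e := Fintype.equivFin σ with he
  obtain ⟨T, hT, hTb⟩ := Cfsg.Agent.Lib.Helper13.witt_families_quad Q hQ (Fintype.card σ)
    (b.1 ∘ e.symm) (c.1 ∘ e.symm) (b.2.1.comp _ e.symm.injective)
    (c.2.1.comp _ e.symm.injective)
    (fun i => by
      show Q (b.1 (e.symm i)) = Q (c.1 (e.symm i))
      rw [b.2.2.2, c.2.2.2])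
    (fun i j => by
      show QuadraticMap.polar (⇑Q) (b.1 (e.symm i)) (b.1 (e.symm j)) =
        QuadraticMap.polar (⇑Q) (c.1 (e.symm i)) (c.1 (e.symm j))
      rw [b.2.2.1, c.2.2.1])
  have hg : (glLinEquiv ι F).symm T ∈ Cfsg.isometryGroup F (⇑Q) := by
    rw [mem_isometryGroup_iff_isoGroup, MulEquiv.apply_symm_apply]
    exact hT
  refine ⟨⟨(glLinEquiv ι F).symm T, hg⟩, ?_⟩
  apply Subtype.ext
  funext i
  rw [smul_val]
  show (((glLinEquiv ι F).symm T : GL ι F) : Matrix ι ι F) *ᵥ b.1 i = c.1 i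
  rw [← glLinEquiv_apply, MulEquiv.apply_symm_apply]
  have := hTb (e i)
  simpa using this

/-- The matrix `1 + n K nᵀ G`. -/
noncomputable def piMat (K : Matrix σ σ F) (b : σ → ι → F) : Matrix ι ι F :=
  1 + colMat b * K * (colMat b)ᵀ * gramM Q

theorem piMat_smul (K : Matrix σ σ F) (g : ↥(Cfsg.isometryGroup F (⇑Q))) (b : Frame Q κ) :
    piMat Q K (g • b).1 * ((g : GL ι F) : Matrix ι ι F) =
      ((g : GL ι F) : Matrix ι ι F) * piMat Q K b.1 := by
  unfold piMat
  rw [colMat_smul, transpose_mul, Matrix.add_mul, Matrix.mul_add, Matrix.one_mul, Matrix.mul_one]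
  congr 1
  have h := isometry_gram Q g
  set A : Matrix ι ι F := ((g : GL ι F) : Matrix ι ι F)
  calc A * colMat b.1 * K * ((colMat b.1)ᵀ * Aᵀ) * gramM Q * A
      = A * colMat b.1 * K * (colMat b.1)ᵀ * (Aᵀ * gramM Q * A) := by
        simp only [Matrix.mul_assoc]
    _ = A * (colMat b.1 * K * (colMat b.1)ᵀ * gramM Q) := by
        rw [h]
        simp only [Matrix.mul_assoc]

/-- Quadratic expansion along pairwise polar-orthogonal vectors. -/
theorem map_sum_of_polar_eq_zero (b : σ → ι → F)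
    (hb : ∀ i j, QuadraticMap.polar (⇑Q) (b i) (b j) = 0) (c : σ → F) :
    Q (∑ i, c i • b i) = ∑ i, c i ^ 2 * Q (b i) := by
  classical
  have key : ∀ s : Finset σ, Q (∑ i ∈ s, c i • b i) = ∑ i ∈ s, c i ^ 2 * Q (b i) := by
    intro s
    induction s using Finset.induction_on with
    | empty => simp
    | insert a s ha ih =>
      rw [Finset.sum_insert ha, Finset.sum_insert ha,
        QuadraticMap.map_add Q (c a • b a) (∑ i ∈ s, c i • b i), ih,
        QuadraticMap.map_smul, smul_eq_mul]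
      have hp : QuadraticMap.polar (⇑Q) (c a • b a) (∑ i ∈ s, c i • b i) = 0 := by
        have h1 : QuadraticMap.polar (⇑Q) (c a • b a) (∑ i ∈ s, c i • b i) =
            QuadraticMap.polarBilin Q (c a • b a) (∑ i ∈ s, c i • b i) := rfl
        rw [h1, map_sum]
        apply Finset.sum_eq_zero
        intro i _
        rw [map_smul, map_smul, LinearMap.smul_apply]
        show c i • c a • QuadraticMap.polar (⇑Q) (b a) (b i) = 0
        rw [hb, smul_zero, smul_zero]
      rw [hp, add_zero]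
      ring
  exact key Finset.univ

/-- The frame `n₀ h` obtained from a frame `n₀` and `h` in the stabiliser of `K`. -/
theorem isFrame_mul (K K' : Matrix σ σ F) (hK : K * K' = 1)
    (hκ : ∀ h : Matrix σ σ F, h * K * hᵀ = K → ∀ j, ∑ i, h i j ^ 2 * κ i = κ j)
    (b₀ : σ → ι → F) (hb₀ : IsFrame Q κ b₀) (h : Matrix σ σ F) (hh : h * K * hᵀ = K) :
    IsFrame Q κ (colFam (colMat b₀ * h)) := by
  obtain ⟨L₀, hL₀⟩ := exists_left_inverse_of_li b₀ hb₀.1
  -- `h` is invertible
  have hinv : (K * hᵀ * K') * h = 1 := by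
    have h1 : h * (K * hᵀ * K') = 1 := by
      calc h * (K * hᵀ * K') = (h * K * hᵀ) * K' := by simp only [Matrix.mul_assoc]
        _ = 1 := by rw [hh, hK]
    exact mul_eq_one_comm.mp h1
  refine ⟨?_, ?_, ?_⟩
  · apply li_of_left_inverse (colMat b₀ * h) ((K * hᵀ * K') * L₀)
    calc (K * hᵀ * K') * L₀ * (colMat b₀ * h) = (K * hᵀ * K') * (L₀ * colMat b₀) * h := by
          simp only [Matrix.mul_assoc]
      _ = 1 := by rw [hL₀, Matrix.mul_one, hinv]
  · intro i j
    rw [polar_cols, transpose_mul]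
    have h0 : (colMat b₀)ᵀ * gramM Q * colMat b₀ = 0 := by
      ext i j
      rw [← polar_cols, colFam_colMat]
      exact hb₀.2.1 i j
    calc (hᵀ * (colMat b₀)ᵀ * gramM Q * (colMat b₀ * h)) i j
        = (hᵀ * ((colMat b₀)ᵀ * gramM Q * colMat b₀) * h) i j := by
          simp only [Matrix.mul_assoc]
      _ = 0 := by rw [h0]; simp
  · intro j
    have e : colFam (colMat b₀ * h) j = ∑ i, h i j • b₀ i := by
      rw [colFam_eq, ← mulVec_mulVec, colMat_mulVec]
      apply Finset.sum_congr rfl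
      intro i _
      congr 1
      simp [mulVec, dotProduct, Pi.single_apply]
    rw [e, map_sum_of_polar_eq_zero Q b₀ hb₀.2.1]
    rw [← hκ h hh j]
    apply Finset.sum_congr rfl
    intro i _
    rw [hb₀.2.2 i]

/-- The fibre of `piMat` through a frame is a torsor under the stabiliser of `K`. -/
theorem card_fiber (hQ : (QuadraticMap.polarBilin Q).Nondegenerate)
    (K K' : Matrix σ σ F) (hK : K * K' = 1)
    (hκ : ∀ h : Matrix σ σ F, h * K * hᵀ = K → ∀ j, ∑ i, h i j ^ 2 * κ i = κ j)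
    (b₀ : Frame Q κ) :
    Nat.card {b : Frame Q κ // piMat Q K b.1 = piMat Q K b₀.1} =
      Nat.card {h : Matrix σ σ F // h * K * hᵀ = K} := by
  obtain ⟨L₀, hL₀⟩ := exists_left_inverse_of_li b₀.1 b₀.2.1
  symm
  apply Nat.card_congr
  have hpi : ∀ h : Matrix σ σ F, h * K * hᵀ = K →
      piMat Q K (colFam (colMat b₀.1 * h)) = piMat Q K b₀.1 := by
    intro h hh
    unfold piMat
    rw [colMat_colFam, transpose_mul]
    congr 2
    calc colMat b₀.1 * h * K * (hᵀ * (colMat b₀.1)ᵀ) = colMat b₀.1 * (h * K * hᵀ) * (colMat b₀.1)ᵀ := by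
          simp only [Matrix.mul_assoc]
      _ = colMat b₀.1 * K * (colMat b₀.1)ᵀ := by rw [hh]
  refine Equiv.ofBijective
    (fun h => ⟨⟨colFam (colMat b₀.1 * h.1), isFrame_mul Q κ K K' hK hκ b₀.1 b₀.2 h.1 h.2⟩,
      hpi h.1 h.2⟩) ⟨?_, ?_⟩
  · intro h h' hhh
    have h1 := congrArg (fun b : {b : Frame Q κ // piMat Q K b.1 = piMat Q K b₀.1} =>
      colMat b.1.1) hhh
    simp only [colMat_colFam] at h1
    apply Subtype.ext
    have h2 := congrArg (fun M => L₀ * M) h1
    simp only [← Matrix.mul_assoc, hL₀, Matrix.one_mul] at h2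
    exact h2
  · rintro ⟨b, hb⟩
    obtain ⟨L, hL⟩ := exists_left_inverse_of_li b.1 b.2.1
    have hG := isUnit_det_gramM Q hQ
    have h1 : colMat b.1 * K * (colMat b.1)ᵀ = colMat b₀.1 * K * (colMat b₀.1)ᵀ := by
      unfold piMat at hb
      have h2 := add_left_cancel hb
      have h3 := congrArg (fun M => M * (gramM Q)⁻¹) h2
      simp only [Matrix.mul_assoc, Matrix.mul_nonsing_inv _ hG, Matrix.mul_one] at h3
      simpa only [Matrix.mul_assoc] using h3
    obtain ⟨hh, hn, hst⟩ := exists_stab_of_eq (colMat b₀.1) (colMat b.1) L₀ L hL₀ hL K K' hK h1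
    refine ⟨⟨hh, hst⟩, ?_⟩
    apply Subtype.ext
    apply Subtype.ext
    show colFam (colMat b₀.1 * hh) = b.1
    rw [← hn, colFam_colMat]

/-- **Counting identity.** -/
theorem card_centralizer_mul_card_frame [Finite F]
    (hQ : (QuadraticMap.polarBilin Q).Nondegenerate)
    (K K' : Matrix σ σ F) (hK : K * K' = 1)
    (hκ : ∀ h : Matrix σ σ F, h * K * hᵀ = K → ∀ j, ∑ i, h i j ^ 2 * κ i = κ j)
    (b₀ : Frame Q κ) (x : ↥(Cfsg.isometryGroup F (⇑Q)))
    (hx : ((x : GL ι F) : Matrix ι ι F) = piMat Q K b₀.1) :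
    Nat.card ↥(Subgroup.centralizer ({x} : Set ↥(Cfsg.isometryGroup F (⇑Q)))) *
        Nat.card (Frame Q κ) =
      Nat.card {h : Matrix σ σ F // h * K * hᵀ = K} *
        Nat.card ↥(Cfsg.isometryGroup F (⇑Q)) := by
  have := isPretransitive Q κ hQ
  rw [← card_fiber Q κ hQ K K' hK hκ b₀]
  have hmem : ∀ g : ↥(Cfsg.isometryGroup F (⇑Q)),
      g ∈ Subgroup.centralizer ({x} : Set ↥(Cfsg.isometryGroup F (⇑Q))) ↔
        piMat Q K (g • b₀).1 = piMat Q K b₀.1 := by
    intro g
    rw [Subgroup.mem_centralizer_iff]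
    have hsm := piMat_smul Q κ K g b₀
    rw [← hx] at hsm ⊢
    have hginv : ((g : GL ι F) : Matrix ι ι F) * (((g : GL ι F)⁻¹ : GL ι F) : Matrix ι ι F) = 1 := by
      rw [← Matrix.GeneralLinearGroup.coe_mul, mul_inv_cancel]
      rfl
    constructor
    · intro h
      have h1 := h x (Set.mem_singleton x)
      have h2 : ((x : GL ι F) : Matrix ι ι F) * ((g : GL ι F) : Matrix ι ι F) =
          ((g : GL ι F) : Matrix ι ι F) * ((x : GL ι F) : Matrix ι ι F) := by
        have := congrArg (fun y : ↥(Cfsg.isometryGroup F (⇑Q)) => ((y : GL ι F) : Matrix ι ι F)) h1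
        simpa using this
      rw [← h2] at hsm
      have h3 := congrArg (fun M => M * (((g : GL ι F)⁻¹ : GL ι F) : Matrix ι ι F)) hsm
      simp only [Matrix.mul_assoc, hginv, Matrix.mul_one] at h3
      exact h3
    · intro h y hy
      rw [Set.mem_singleton_iff.mp hy]
      rw [h] at hsm
      apply Subtype.ext
      apply Units.ext
      show ((x : GL ι F) : Matrix ι ι F) * ((g : GL ι F) : Matrix ι ι F) =
        ((g : GL ι F) : Matrix ι ι F) * ((x : GL ι F) : Matrix ι ι F)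
      exact hsm
  exact InvOrbit.card_mul_card_of_fiber (fun b : Frame Q κ => piMat Q K b.1) b₀ _ hmem
    (fun y hy g hg => by
      rw [hmem, hg]
      exact hy)

end Cfsg.Agent.Lib.Helper37.InvFrame
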