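import Mathlib
import Cfsg.Agent.Lib.Helper37.InvFrame2

set_option autoImplicit false
set_option linter.unusedSectionVars false

/-!
# Counting frames: basic counting lemmas (characteristic two)
-/

namespace Cfsg.Agent.Lib.Helper37.InvFrame

open Matrix Module

variable {F : Type*} [Field F] [Fintype F] {ι : Type} [Fintype ι] [DecidableEq ι]

variable (Q : QuadraticForm F (ι → F))

local notation "pol" => QuadraticMap.polar

theorem sq_inj_char_two [CharP F 2] {a b : F} (h : a ^ 2 = b ^ 2) : a = b := by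
  have h1 : (a + b) ^ 2 = 0 := by
    rw [CharTwo.add_sq, h, CharTwo.add_self_eq_zero]
  have h2 : a + b = 0 := by
    exact pow_eq_zero_iff (two_ne_zero) |>.mp h1
  exact CharTwo.add_eq_zero.mp h2

theorem exists_sqrt_char_two [CharP F 2] (a : F) : ∃ r : F, r ^ 2 = a := by
  obtain ⟨r, hr⟩ := isSquare_of_charTwo' a
  exact ⟨r, by rw [hr]; ring⟩

/-- Expansion of `Q (v + c • w)`. -/
theorem map_add_smul (v w : ι → F) (c : F) :
    Q (v + c • w) = Q v + c ^ 2 * Q w + c * pol (⇑Q) v w := by
  rw [QuadraticMap.map_add Q v (c • w), QuadraticMap.map_smul, QuadraticMap.polar_smul_right,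
    smul_eq_mul, smul_eq_mul]
  ring

/-- In a subspace whose radical contains a vector of norm one, exactly `1/q` of the vectors have
norm one. -/
theorem card_norm_one_mul [CharP F 2] (U : Submodule F (ι → F)) (w : ι → F) (hw : w ∈ U)
    (hQw : Q w = 1) (hperp : ∀ u ∈ U, pol (⇑Q) u w = 0) :
    Nat.card {u : ι → F // u ∈ U ∧ Q u = 1} * Fintype.card F = Nat.card U := by
  rw [← Nat.card_eq_fintype_card (α := F), ← Nat.card_prod]
  apply Nat.card_congr
  refine Equiv.ofBijective
    (fun p => ⟨p.1.1 + p.2 • w, U.add_mem p.1.2.1 (U.smul_mem _ hw)⟩) ⟨?_, ?_⟩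
  · rintro ⟨⟨u, hu, hQu⟩, c⟩ ⟨⟨u', hu', hQu'⟩, c'⟩ h
    have h1 : u + c • w = u' + c' • w := congrArg Subtype.val h
    have h2 := congrArg Q h1
    rw [map_add_smul, map_add_smul, hQu, hQu', hQw, hperp u hu, hperp u' hu'] at h2
    have h3 : c ^ 2 = c' ^ 2 := by
      have := add_left_cancel (a := (1 : F)) (b := c ^ 2) (c := c' ^ 2)
        (by linear_combination h2)
      exact this
    have hc : c = c' := sq_inj_char_two h3
    subst hc
    have hu2 : u = u' := add_right_cancel h1
    subst hu2
    rfl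
  · rintro ⟨u, hu⟩
    obtain ⟨c, hc⟩ := exists_sqrt_char_two (Q u + 1)
    have hmem : u + c • w ∈ U := U.add_mem hu (U.smul_mem _ hw)
    have hQ1 : Q (u + c • w) = 1 := by
      rw [map_add_smul, hQw, hperp u hu, hc]
      have : Q u + Q u = 0 := CharTwo.add_self_eq_zero _
      linear_combination this
    refine ⟨⟨⟨u + c • w, hmem, hQ1⟩, c⟩, ?_⟩
    apply Subtype.ext
    show u + c • w + c • w = u
    rw [add_assoc, ← add_smul, CharTwo.add_self_eq_zero, zero_smul, add_zero]

/-- Among the vectors of `U` not orthogonal to a singular `b ∈ U`, exactly `1/q` are singular. -/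
theorem card_singular_mul (U : Submodule F (ι → F)) (b : ι → F) (hb : b ∈ U) (hQb : Q b = 0) :
    Nat.card {v : ι → F // v ∈ U ∧ pol (⇑Q) v b ≠ 0 ∧ Q v = 0} * Fintype.card F =
      Nat.card {v : ι → F // v ∈ U ∧ pol (⇑Q) v b ≠ 0} := by
  rw [← Nat.card_eq_fintype_card (α := F), ← Nat.card_prod]
  apply Nat.card_congr
  have hpb : pol (⇑Q) b b = 0 := by
    rw [QuadraticMap.polar_self, hQb, smul_zero]
  have hpol : ∀ (v : ι → F) (c : F), pol (⇑Q) (v + c • b) b = pol (⇑Q) v b := by
    intro v c
    rw [QuadraticMap.polar_add_left, QuadraticMap.polar_smul_left, hpb, smul_zero, add_zero]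
  refine Equiv.ofBijective
    (fun p => ⟨p.1.1 + p.2 • b, U.add_mem p.1.2.1 (U.smul_mem _ hb), by
      rw [hpol]; exact p.1.2.2.1⟩) ⟨?_, ?_⟩
  · rintro ⟨⟨u, hu, hpu, hQu⟩, c⟩ ⟨⟨u', hu', hpu', hQu'⟩, c'⟩ h
    have h1 : u + c • b = u' + c' • b := congrArg Subtype.val h
    have h2 := congrArg Q h1
    rw [map_add_smul, map_add_smul, hQu, hQu', hQb] at h2
    have h4 : pol (⇑Q) u b = pol (⇑Q) u' b := by
      rw [← hpol u c, ← hpol u' c', h1]
    have hc : c = c' := by
      rw [h4] at h2
      have : c * pol (⇑Q) u' b = c' * pol (⇑Q) u' b := by linear_combination h2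
      exact mul_right_cancel₀ hpu' this
    subst hc
    have hu2 : u = u' := add_right_cancel h1
    subst hu2
    rfl
  · rintro ⟨u, hu, hpu⟩
    set c := - Q u / pol (⇑Q) u b with hc
    have hmem : u + c • b ∈ U := U.add_mem hu (U.smul_mem _ hb)
    have hQ0 : Q (u + c • b) = 0 := by
      rw [map_add_smul, hQb, hc]
      field_simp
      ring
    refine ⟨⟨⟨u + c • b, hmem, by rw [hpol]; exact hpu, hQ0⟩, -c⟩, ?_⟩
    apply Subtype.ext
    show u + c • b + (-c) • b = u
    rw [add_assoc, ← add_smul, add_neg_cancel, zero_smul, add_zero]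

/-- The orthogonal complement of the span of a family. -/
noncomputable def perp {s : ℕ} (b : Fin s → ι → F) : Submodule F (ι → F) :=
  LinearMap.BilinForm.orthogonal (QuadraticMap.polarBilin Q) (Submodule.span F (Set.range b))

theorem mem_perp {s : ℕ} (b : Fin s → ι → F) (v : ι → F) :
    v ∈ perp Q b ↔ ∀ i, pol (⇑Q) (b i) v = 0 := by
  unfold perp
  rw [LinearMap.BilinForm.mem_orthogonal_iff]
  constructor
  · intro h i
    exact h (b i) (Submodule.subset_span (Set.mem_range_self i))
  · intro h n hn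
    induction hn using Submodule.span_induction with
    | mem x hx =>
      obtain ⟨i, rfl⟩ := hx
      exact h i
    | zero => simp
    | add x y _ _ hx hy =>
      rw [map_add, LinearMap.add_apply, hx, hy, add_zero]
    | smul a x _ hx =>
      rw [map_smul, LinearMap.smul_apply, hx, smul_zero]

theorem card_perp (hQ : (QuadraticMap.polarBilin Q).Nondegenerate) {s : ℕ} (b : Fin s → ι → F)
    (hb : LinearIndependent F b) :
    Nat.card (perp Q b) = Fintype.card F ^ (Fintype.card ι - s) := by
  rw [Module.natCard_eq_pow_finrank (K := F), Nat.card_eq_fintype_card]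
  unfold perp
  rw [LinearMap.BilinForm.finrank_orthogonal hQ, finrank_span_eq_card hb, Fintype.card_fin,
    Module.finrank_fintype_fun_eq_card]

theorem card_span {s : ℕ} (b : Fin s → ι → F) (hb : LinearIndependent F b) :
    Nat.card (Submodule.span F (Set.range b)) = Fintype.card F ^ s := by
  rw [Module.natCard_eq_pow_finrank (K := F), Nat.card_eq_fintype_card, finrank_span_eq_card hb,
    Fintype.card_fin]

theorem span_le_perp {s : ℕ} (b : Fin s → ι → F)
    (hb : ∀ i j, pol (⇑Q) (b i) (b j) = 0) : Submodule.span F (Set.range b) ≤ perp Q b := by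
  rw [Submodule.span_le]
  rintro _ ⟨j, rfl⟩
  rw [SetLike.mem_coe, mem_perp]
  intro i
  exact hb i j

end Cfsg.Agent.Lib.Helper37.InvFrame
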