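import Mathlib
import Cfsg.Agent.Lib.Helper37.InvCountB

set_option autoImplicit false
set_option linter.unusedSectionVars false

/-!
# Counting frames: the recursion
-/

namespace Cfsg.Agent.Lib.Helper37.InvFrame

open Matrix Module

variable {F : Type*} [Field F] [Fintype F] {ι : Type} [Fintype ι] [DecidableEq ι]

variable (Q : QuadraticForm F (ι → F))

local notation "pol" => QuadraticMap.polar

/-- Vectors extending a frame by one more vector of norm `c`. -/
def Ext (c : F) {s : ℕ} (b : Fin s → ι → F) : Type _ :=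
  {v : ι → F // v ∉ Submodule.span F (Set.range b) ∧ (∀ i, pol (⇑Q) (b i) v = 0) ∧ Q v = c}

instance (c : F) {s : ℕ} (b : Fin s → ι → F) : Finite (Ext Q c b) := by
  unfold Ext
  infer_instance

theorem isFrame_snoc [CharP F 2] (c : F) {s : ℕ} (b : Fin s → ι → F)
    (hb : IsFrame Q (fun _ : Fin s => c) b) (v : ι → F)
    (hv : v ∉ Submodule.span F (Set.range b)) (hp : ∀ i, pol (⇑Q) (b i) v = 0) (hQv : Q v = c) :
    IsFrame Q (fun _ : Fin (s + 1) => c) (Fin.snoc b v : Fin (s + 1) → ι → F) := by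
  refine ⟨linearIndependent_finSnoc.mpr ⟨hb.1, hv⟩, ?_, ?_⟩
  · intro i j
    refine Fin.lastCases ?_ (fun i' => ?_) i <;> refine Fin.lastCases ?_ (fun j' => ?_) j
    · rw [Fin.snoc_last, QuadraticMap.polar_self]
      have : (2 : F) = 0 := CharTwo.two_eq_zero
      rw [two_smul, CharTwo.add_self_eq_zero]
    · rw [Fin.snoc_last, Fin.snoc_castSucc, QuadraticMap.polar_comm]
      exact hp j'
    · rw [Fin.snoc_last, Fin.snoc_castSucc]
      exact hp i'
    · rw [Fin.snoc_castSucc, Fin.snoc_castSucc]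
      exact hb.2.1 i' j'
  · intro i
    refine Fin.lastCases ?_ (fun i' => ?_) i
    · rw [Fin.snoc_last]
      exact hQv
    · rw [Fin.snoc_castSucc]
      exact hb.2.2 i'

theorem isFrame_init (c : F) {s : ℕ} (b : Fin (s + 1) → ι → F)
    (hb : IsFrame Q (fun _ : Fin (s + 1) => c) b) :
    IsFrame Q (fun _ : Fin s => c) (Fin.init b : Fin s → ι → F) := by
  have hsn : (Fin.snoc (Fin.init b) (b (Fin.last s)) : Fin (s + 1) → ι → F) = b :=
    Fin.snoc_init_self b
  have hli := hb.1
  rw [← hsn, linearIndependent_finSnoc] at hli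
  refine ⟨hli.1, ?_, ?_⟩
  · intro i j
    exact hb.2.1 i.castSucc j.castSucc
  · intro i
    exact hb.2.2 i.castSucc

theorem last_not_mem (c : F) {s : ℕ} (b : Fin (s + 1) → ι → F)
    (hb : IsFrame Q (fun _ : Fin (s + 1) => c) b) :
    b (Fin.last s) ∉ Submodule.span F (Set.range (Fin.init b : Fin s → ι → F)) := by
  have hsn : (Fin.snoc (Fin.init b) (b (Fin.last s)) : Fin (s + 1) → ι → F) = b :=
    Fin.snoc_init_self b
  have hli := hb.1
  rw [← hsn, linearIndependent_finSnoc] at hli
  exact hli.2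

/-- Frames of size `s + 1` are frames of size `s` together with an extension vector. -/
noncomputable def frameSuccEquiv [CharP F 2] (c : F) (s : ℕ) :
    Frame Q (fun _ : Fin (s + 1) => c) ≃ Σ b : Frame Q (fun _ : Fin s => c), Ext Q c b.1 where
  toFun b := ⟨⟨Fin.init b.1, isFrame_init Q c b.1 b.2⟩,
    ⟨b.1 (Fin.last s), last_not_mem Q c b.1 b.2, fun i => b.2.2.1 i.castSucc (Fin.last s),
      b.2.2.2 (Fin.last s)⟩⟩
  invFun p := ⟨Fin.snoc p.1.1 p.2.1, isFrame_snoc Q c p.1.1 p.1.2 p.2.1 p.2.2.1 p.2.2.2.1 p.2.2.2.2⟩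
  left_inv b := by
    apply Subtype.ext
    exact Fin.snoc_init_self b.1
  right_inv p := by
    obtain ⟨⟨b, hb⟩, ⟨v, hv⟩⟩ := p
    have h1 : (Fin.init (Fin.snoc b v : Fin (s + 1) → ι → F) : Fin s → ι → F) = b :=
      Fin.init_snoc (α := fun _ => ι → F) (p := b) (x := v)
    have h2 : (Fin.snoc b v : Fin (s + 1) → ι → F) (Fin.last s) = v :=
      Fin.snoc_last (α := fun _ => ι → F) (p := b) (x := v)
    apply Sigma.ext
    · apply Subtype.ext
      exact h1
    · simp only
      apply (Subtype.heq_iff_coe_eq ?_).mpr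
      · exact h2
      · intro w
        rw [h1]

/-- If every frame of size `s` has exactly `k` extensions, then `#frames (s+1) = #frames s * k`. -/
theorem card_frame_succ [CharP F 2] (c : F) (s k : ℕ)
    (h : ∀ b : Frame Q (fun _ : Fin s => c), Nat.card (Ext Q c b.1) = k) :
    Nat.card (Frame Q (fun _ : Fin (s + 1) => c)) =
      Nat.card (Frame Q (fun _ : Fin s => c)) * k := by
  classical
  rw [Nat.card_congr (frameSuccEquiv Q c s)]
  have : Fintype (Frame Q (fun _ : Fin s => c)) := Fintype.ofFinite _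
  rw [Nat.card_sigma]
  simp only [h]
  rw [Finset.sum_const, Finset.card_univ, smul_eq_mul, Nat.card_eq_fintype_card]

/-- A frame is totally isotropic, so has at most half the dimension. -/
theorem two_mul_le_of_isFrame (hQ : (QuadraticMap.polarBilin Q).Nondegenerate) (c : F) {s : ℕ}
    (b : Fin s → ι → F) (hb : IsFrame Q (fun _ : Fin s => c) b) : 2 * s ≤ Fintype.card ι := by
  have h1 : Nat.card (Submodule.span F (Set.range b)) ≤ Nat.card (perp Q b) :=
    Nat.card_le_card_of_injective (Submodule.inclusion (span_le_perp Q b hb.2.1))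
      (Submodule.inclusion_injective _)
  rw [card_span b hb.1, card_perp Q hQ b hb.1] at h1
  have h2 := (Nat.pow_le_pow_iff_right Fintype.one_lt_card).mp h1
  omega

end Cfsg.Agent.Lib.Helper37.InvFrame
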