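import Mathlib
import Cfsg.Agent.Lib.Helper37.InvCountF

set_option autoImplicit false
set_option linter.unusedSectionVars false

/-!
# Counting frames: the number of extension vectors
-/

namespace Cfsg.Agent.Lib.Helper37.InvFrame

open Matrix Module

variable {F : Type*} [Field F] [Fintype F] {ι : Type} [Fintype ι] [DecidableEq ι]

variable (Q : QuadraticForm F (ι → F))

local notation "pol" => QuadraticMap.polar

/-- Splitting a count along a subspace contained in another. -/
theorem card_split (U W : Submodule F (ι → F)) (hWU : W ≤ U) (P : (ι → F) → Prop) :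
    Nat.card {v : ι → F // v ∉ W ∧ v ∈ U ∧ P v} + Nat.card {v : ι → F // v ∈ W ∧ P v} =
      Nat.card {v : ι → F // v ∈ U ∧ P v} := by
  have h1 : Nat.card {v : ι → F // v ∉ W ∧ v ∈ U ∧ P v} =
      ({v | v ∈ U ∧ P v} \ {v | v ∈ W ∧ P v} : Set (ι → F)).ncard := by
    rw [← Nat.card_coe_set_eq]
    apply Nat.card_congr
    refine Equiv.subtypeEquivRight ?_
    intro v
    simp only [Set.mem_sdiff, Set.mem_ofPred_eq]
    constructor
    · rintro ⟨h1, h2, h3⟩
      exact ⟨⟨h2, h3⟩, fun h => h1 h.1⟩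
    · rintro ⟨⟨h2, h3⟩, h⟩
      exact ⟨fun hw => h ⟨hw, h3⟩, h2, h3⟩
  have h2 : Nat.card {v : ι → F // v ∈ W ∧ P v} = ({v | v ∈ W ∧ P v} : Set (ι → F)).ncard := by
    rw [← Nat.card_coe_set_eq]
    rfl
  have h3 : Nat.card {v : ι → F // v ∈ U ∧ P v} = ({v | v ∈ U ∧ P v} : Set (ι → F)).ncard := by
    rw [← Nat.card_coe_set_eq]
    rfl
  rw [h1, h2, h3]
  apply Set.ncard_sdiff_add_ncard_of_subset
  · intro v hv
    exact ⟨hWU hv.1, hv.2⟩
  · exact Set.toFinite _

/-- Type one (norm one vectors): the number of extensions of a non-empty frame. -/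
theorem card_ext_one [CharP F 2] (hQ : (QuadraticMap.polarBilin Q).Nondegenerate) {s : ℕ}
    (b : Fin (s + 1) → ι → F) (hb : IsFrame Q (fun _ : Fin (s + 1) => (1 : F)) b) :
    Nat.card (Ext Q 1 b) * Fintype.card F + Fintype.card F ^ (s + 1) =
      Fintype.card F ^ (Fintype.card ι - (s + 1)) := by
  set U := perp Q b with hU
  set W := Submodule.span F (Set.range b) with hW
  have hWU : W ≤ U := span_le_perp Q b hb.2.1
  have hw0W : b 0 ∈ W := Submodule.subset_span (Set.mem_range_self 0)
  have hperp : ∀ u ∈ U, pol (⇑Q) u (b 0) = 0 := by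
    intro u hu
    rw [QuadraticMap.polar_comm]
    exact (mem_perp Q b u).mp hu 0
  have hA := card_norm_one_mul Q U (b 0) (hWU hw0W) (hb.2.2 0) hperp
  have hB := card_norm_one_mul Q W (b 0) hw0W (hb.2.2 0) (fun u hu => hperp u (hWU hu))
  rw [card_perp Q hQ b hb.1] at hA
  rw [card_span b hb.1] at hB
  have hsplit := card_split U W hWU (fun v => Q v = 1)
  have hE : Nat.card (Ext Q 1 b) = Nat.card {v : ι → F // v ∉ W ∧ v ∈ U ∧ Q v = 1} := by
    apply Nat.card_congr
    unfold Ext
    refine Equiv.subtypeEquivRight ?_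
    intro v
    rw [hU, mem_perp]
  rw [hE, ← hA, ← hB, ← hsplit]
  ring

/-- Number of singular vectors in the orthogonal complement of a family. -/
noncomputable def zc {s : ℕ} (b : Fin s → ι → F) : ℕ :=
  Nat.card {v : ι → F // v ∈ perp Q b ∧ Q v = 0}

theorem perp_init {s : ℕ} (b : Fin (s + 1) → ι → F) (v : ι → F) :
    v ∈ perp Q b ↔ v ∈ perp Q (Fin.init b : Fin s → ι → F) ∧ pol (⇑Q) v (b (Fin.last s)) = 0 := by
  rw [mem_perp, mem_perp]
  constructor
  · intro h
    refine ⟨fun i => h i.castSucc, ?_⟩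
    rw [QuadraticMap.polar_comm]
    exact h (Fin.last s)
  · rintro ⟨h1, h2⟩ i
    refine Fin.lastCases ?_ (fun i' => ?_) i
    · rw [QuadraticMap.polar_comm]
      exact h2
    · exact h1 i'

theorem zc_succ (hQ : (QuadraticMap.polarBilin Q).Nondegenerate) {s : ℕ}
    (b : Fin (s + 1) → ι → F) (hb : IsFrame Q (fun _ : Fin (s + 1) => (0 : F)) b) :
    zc Q (Fin.init b : Fin s → ι → F) * Fintype.card F +
        Fintype.card F ^ (Fintype.card ι - (s + 1)) =
      zc Q b * Fintype.card F + Fintype.card F ^ (Fintype.card ι - s) := by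
  have hb' := isFrame_init Q 0 b hb
  set U' := perp Q (Fin.init b : Fin s → ι → F) with hU'
  set l := b (Fin.last s) with hl
  have hlU' : l ∈ U' := by
    rw [hU', mem_perp]
    intro i
    exact hb.2.1 i.castSucc (Fin.last s)
  have hQl : Q l = 0 := hb.2.2 (Fin.last s)
  have h1 := card_singular_mul Q U' l hlU' hQl
  -- the non-orthogonal vectors
  have h2 : Nat.card {v : ι → F // v ∈ U' ∧ pol (⇑Q) v l ≠ 0} + Nat.card (perp Q b) =
      Nat.card U' := by
    have e1 : Nat.card (perp Q b) = Nat.card {v : ι → F // v ∈ U' ∧ pol (⇑Q) v l = 0} := by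
      apply Nat.card_congr
      refine Equiv.subtypeEquivRight ?_
      intro v
      exact perp_init Q b v
    have e2 : Nat.card U' = Nat.card {v : ι → F // v ∈ U'} := rfl
    rw [e1, e2]
    have h3 : Nat.card {v : ι → F // v ∈ U' ∧ pol (⇑Q) v l ≠ 0} =
        ({v | v ∈ U'} \ {v | v ∈ U' ∧ pol (⇑Q) v l = 0} : Set (ι → F)).ncard := by
      rw [← Nat.card_coe_set_eq]
      apply Nat.card_congr
      refine Equiv.subtypeEquivRight ?_
      intro v
      simp only [Set.mem_sdiff, Set.mem_ofPred_eq]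
      constructor
      · rintro ⟨h1, h2⟩
        exact ⟨h1, fun h => h2 h.2⟩
      · rintro ⟨h1, h2⟩
        exact ⟨h1, fun h => h2 ⟨h1, h⟩⟩
    have h4 : Nat.card {v : ι → F // v ∈ U' ∧ pol (⇑Q) v l = 0} =
        ({v | v ∈ U' ∧ pol (⇑Q) v l = 0} : Set (ι → F)).ncard := by
      rw [← Nat.card_coe_set_eq]
      rfl
    have h5 : Nat.card {v : ι → F // v ∈ U'} = ({v | v ∈ U'} : Set (ι → F)).ncard := by
      rw [← Nat.card_coe_set_eq]
      rfl
    rw [h3, h4, h5]
    apply Set.ncard_sdiff_add_ncard_of_subset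
    · intro v hv
      exact hv.1
    · exact Set.toFinite _
  rw [card_perp Q hQ b hb.1, hU', card_perp Q hQ _ hb'.1, ← hU'] at h2
  -- the singular vectors
  have h6 : Nat.card {v : ι → F // v ∈ U' ∧ pol (⇑Q) v l ≠ 0 ∧ Q v = 0} + zc Q b =
      zc Q (Fin.init b : Fin s → ι → F) := by
    unfold zc
    have e1 : Nat.card {v : ι → F // v ∈ perp Q b ∧ Q v = 0} =
        Nat.card {v : ι → F // (v ∈ U' ∧ Q v = 0) ∧ pol (⇑Q) v l = 0} := by
      apply Nat.card_congr
      refine Equiv.subtypeEquivRight ?_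
      intro v
      rw [perp_init Q b v]
      tauto
    have e2 : Nat.card {v : ι → F // v ∈ U' ∧ pol (⇑Q) v l ≠ 0 ∧ Q v = 0} =
        Nat.card {v : ι → F // (v ∈ U' ∧ Q v = 0) ∧ ¬ pol (⇑Q) v l = 0} := by
      apply Nat.card_congr
      refine Equiv.subtypeEquivRight ?_
      intro v
      tauto
    rw [e1, e2, ← hU']
    have h7 : Nat.card {v : ι → F // (v ∈ U' ∧ Q v = 0) ∧ ¬ pol (⇑Q) v l = 0} =
        ({v | v ∈ U' ∧ Q v = 0} \ {v | (v ∈ U' ∧ Q v = 0) ∧ pol (⇑Q) v l = 0} :
          Set (ι → F)).ncard := by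
      rw [← Nat.card_coe_set_eq]
      apply Nat.card_congr
      refine Equiv.subtypeEquivRight ?_
      intro v
      simp only [Set.mem_sdiff, Set.mem_ofPred_eq]
      tauto
    have h8 : Nat.card {v : ι → F // (v ∈ U' ∧ Q v = 0) ∧ pol (⇑Q) v l = 0} =
        ({v | (v ∈ U' ∧ Q v = 0) ∧ pol (⇑Q) v l = 0} : Set (ι → F)).ncard := by
      rw [← Nat.card_coe_set_eq]
      rfl
    have h9 : Nat.card {v : ι → F // v ∈ U' ∧ Q v = 0} =
        ({v | v ∈ U' ∧ Q v = 0} : Set (ι → F)).ncard := by
      rw [← Nat.card_coe_set_eq]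
      rfl
    rw [h7, h8, h9]
    apply Set.ncard_sdiff_add_ncard_of_subset
    · intro v hv
      exact hv.1
    · exact Set.toFinite _
  rw [← h6, ← h2, ← h1]
  ring

/-- Closed form for the number of singular vectors orthogonal to a totally singular frame. -/
theorem zc_closed (hQ : (QuadraticMap.polarBilin Q).Nondegenerate) :
    ∀ (s : ℕ) (b : Fin s → ι → F), IsFrame Q (fun _ : Fin s => (0 : F)) b →
      zc Q b * Fintype.card F + Fintype.card F ^ Fintype.card ι =
        Nat.card {v : ι → F // Q v = 0} * Fintype.card F +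
          Fintype.card F ^ (Fintype.card ι - s) := by
  intro s
  induction s with
  | zero =>
    intro b _
    have : zc Q b = Nat.card {v : ι → F // Q v = 0} := by
      unfold zc
      apply Nat.card_congr
      refine Equiv.subtypeEquivRight ?_
      intro v
      rw [mem_perp]
      constructor
      · exact fun h => h.2
      · exact fun h => ⟨fun i => i.elim0, h⟩
    rw [this, Nat.sub_zero]
  | succ s ih =>
    intro b hb
    have h1 := zc_succ Q hQ b hb
    have h2 := ih (Fin.init b) (isFrame_init Q 0 b hb)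
    omega

/-- Type zero (singular vectors): the number of extensions of a frame. -/
theorem card_ext_zero {s : ℕ} (b : Fin s → ι → F)
    (hb : IsFrame Q (fun _ : Fin s => (0 : F)) b) :
    Nat.card (Ext Q 0 b) + Fintype.card F ^ s = zc Q b := by
  set U := perp Q b with hU
  set W := Submodule.span F (Set.range b) with hW
  have hWU : W ≤ U := span_le_perp Q b hb.2.1
  have hsplit := card_split U W hWU (fun v => Q v = 0)
  have hE : Nat.card (Ext Q 0 b) = Nat.card {v : ι → F // v ∉ W ∧ v ∈ U ∧ Q v = 0} := by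
    apply Nat.card_congr
    unfold Ext
    refine Equiv.subtypeEquivRight ?_
    intro v
    rw [hU, mem_perp]
  have hWs : Nat.card {v : ι → F // v ∈ W ∧ Q v = 0} = Fintype.card F ^ s := by
    rw [← card_span b hb.1]
    apply Nat.card_congr
    refine Equiv.subtypeEquivRight ?_
    intro v
    constructor
    · exact fun h => h.1
    · intro h
      refine ⟨h, ?_⟩
      -- every vector of the span is singular
      obtain ⟨c, rfl⟩ := (Submodule.mem_span_range_iff_exists_fun F).mp h
      rw [map_sum_of_polar_eq_zero Q b hb.2.1]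
      apply Finset.sum_eq_zero
      intro i _
      rw [hb.2.2 i, mul_zero]
  unfold zc
  rw [hE, ← hWs]
  exact hsplit

end Cfsg.Agent.Lib.Helper37.InvFrame
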