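import Mathlib
import Cfsg.Agent.Lib.Helper37.InvCountE

set_option autoImplicit false
set_option linter.unusedSectionVars false

/-!
# Counting frames: recursion steps in closed form
-/

namespace Cfsg.Agent.Lib.Helper37.InvFrame

open Matrix Module

variable {F : Type*} [Field F] [Fintype F] {ι : Type} [Fintype ι] [DecidableEq ι]

variable (Q : QuadraticForm F (ι → F))

local notation "pol" => QuadraticMap.polar

theorem card_frame_zero (c : F) : Nat.card (Frame Q (fun _ : Fin 0 => c)) = 1 := by
  have hfr : IsFrame Q (fun _ : Fin 0 => c) (fun i => i.elim0) :=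
    ⟨linearIndependent_empty_type, fun i => i.elim0, fun i => i.elim0⟩
  have : Unique (Frame Q (fun _ : Fin 0 => c)) :=
    { default := ⟨fun i => i.elim0, hfr⟩
      uniq := fun b => by
        apply Subtype.ext
        funext i
        exact i.elim0 }
  exact Nat.card_unique

/-- Reindexing frames. -/
theorem card_frame_congr {σ τ : Type*} [Fintype σ] [DecidableEq σ] [Fintype τ] [DecidableEq τ]
    (e : τ ≃ σ) (c : F) :
    Nat.card (Frame Q (fun _ : σ => c)) = Nat.card (Frame Q (fun _ : τ => c)) := by
  apply Nat.card_congr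
  refine
    { toFun := fun b => ⟨b.1 ∘ e, b.2.1.comp e e.injective, fun i j => b.2.2.1 (e i) (e j),
        fun i => b.2.2.2 (e i)⟩
      invFun := fun b => ⟨b.1 ∘ e.symm, b.2.1.comp e.symm e.symm.injective,
        fun i j => b.2.2.1 (e.symm i) (e.symm j), fun i => b.2.2.2 (e.symm i)⟩
      left_inv := fun b => by
        apply Subtype.ext
        funext i
        simp
      right_inv := fun b => by
        apply Subtype.ext
        funext i
        simp }

/-- Frames of size one with norm one. -/
theorem card_frame_one_one [CharP F 2] :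
    Nat.card (Frame Q (fun _ : Fin 1 => (1 : F))) = Nat.card {v : ι → F // Q v = 1} := by
  rw [card_frame_succ Q 1 0 (Nat.card {v : ι → F // Q v = 1}), card_frame_zero, one_mul]
  intro b
  apply Nat.card_congr
  unfold Ext
  refine Equiv.subtypeEquivRight ?_
  intro v
  constructor
  · exact fun h => h.2.2
  · intro h
    refine ⟨?_, fun i => i.elim0, h⟩
    intro hv
    have h0 : Set.range b.1 = ∅ := Set.range_eq_empty _
    rw [h0, Submodule.span_empty, Submodule.mem_bot] at hv
    rw [hv, map_zero] at h
    exact zero_ne_one h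

/-- Step for frames of norm-one vectors. -/
theorem card_frame_one_succ [CharP F 2] (hQ : (QuadraticMap.polarBilin Q).Nondegenerate)
    (s : ℕ) :
    Nat.card (Frame Q (fun _ : Fin (s + 2) => (1 : F))) =
      Nat.card (Frame Q (fun _ : Fin (s + 1) => (1 : F))) *
        (Fintype.card F ^ (Fintype.card ι - (s + 2)) - Fintype.card F ^ s) := by
  apply card_frame_succ Q 1 (s + 1)
  intro b
  have h1 := card_ext_one Q hQ b.1 b.2
  have h2 := two_mul_le_of_isFrame Q hQ 1 b.1 b.2
  have hq : 0 < Fintype.card F := Fintype.card_pos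
  obtain ⟨e, he⟩ : ∃ e, Fintype.card ι - (s + 1) = e + 1 := ⟨Fintype.card ι - (s + 2), by omega⟩
  have he2 : Fintype.card ι - (s + 2) = e := by omega
  rw [he, pow_succ, pow_succ] at h1
  rw [he2]
  have h3 : Nat.card (Ext Q 1 b.1) + Fintype.card F ^ s = Fintype.card F ^ e := by
    apply Nat.eq_of_mul_eq_mul_right hq
    rw [add_mul]
    exact h1
  omega

/-- Step for frames of singular vectors. -/
theorem card_frame_zero_succ [CharP F 2] (hQ : (QuadraticMap.polarBilin Q).Nondegenerate)
    (s k : ℕ)
    (hk : (k + Fintype.card F ^ s) * Fintype.card F + Fintype.card F ^ Fintype.card ι =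
      Nat.card {v : ι → F // Q v = 0} * Fintype.card F +
        Fintype.card F ^ (Fintype.card ι - s)) :
    Nat.card (Frame Q (fun _ : Fin (s + 1) => (0 : F))) =
      Nat.card (Frame Q (fun _ : Fin s => (0 : F))) * k := by
  apply card_frame_succ Q 0 s
  intro b
  have h1 := card_ext_zero Q b.1 b.2
  have h2 := zc_closed Q hQ s b.1 b.2
  have hq : 0 < Fintype.card F := Fintype.card_pos
  rw [← h1, ← hk] at h2
  have h3 := Nat.add_right_cancel h2
  have h4 := Nat.eq_of_mul_eq_mul_right hq h3
  omega

end Cfsg.Agent.Lib.Helper37.InvFrame
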