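import Mathlib
import Cfsg.Agent.S2168
import Cfsg.Agent.Lib.Helper37.OrthEvenCount
import Cfsg.Agent.Lib.Helper37.InvCountG

set_option autoImplicit false
set_option linter.unusedSectionVars false

/-!
# Frame counts for the plus-type form (characteristic two)
-/

namespace Cfsg.Agent.Lib.Helper37.InvFrame

open Matrix Module Cfsg.Agent.S2168 Cfsg.Agent.Lib.Helper5 Cfsg.Agent.Lib.Helper37.OrthEven

variable {F : Type*} [Field F] [Fintype F]

/-- Number of singular vectors of the plus form. -/
theorem card_zero_plus (m : ℕ) :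
    Nat.card {v : Fin m ⊕ Fin m → F // Cfsg.quadFormPlus m F v = 0} =
      Fintype.card F ^ m + (Fintype.card F ^ m - 1) * Fintype.card F ^ (m - 1) := by
  classical
  have h := card_hyperbolic_add (F := F) m (W := Unit) (fun _ => (0 : F))
  have h0 : Nat.card {w : Unit // (0 : F) = 0} = 1 := by
    have : Unique {w : Unit // (0 : F) = 0} :=
      { default := ⟨(), rfl⟩
        uniq := fun _ => rfl }
    exact Nat.card_unique
  have hU : Nat.card Unit = 1 := Nat.card_unique
  rw [h0, mul_one, hU, mul_one] at h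
  rw [← h]
  apply Nat.card_congr
  refine Equiv.subtypeEquiv
    ((Equiv.sumArrowEquivProdArrow (Fin m) (Fin m) F).trans
      (Equiv.prodCongr (Equiv.refl _) (Equiv.prodPUnit _).symm)) ?_
  intro v
  show Cfsg.quadFormPlus m F v = 0 ↔ (v ∘ Sum.inl) ⬝ᵥ (v ∘ Sum.inr) + (0 : F) = 0
  unfold Cfsg.quadFormPlus dotProduct
  simp only [Function.comp_apply, add_zero]

/-- The number of ways to extend a totally singular frame of size `j`. -/
def k0 (q m j : ℕ) : ℕ := q ^ j * (q ^ (m - j) - 1) * (q ^ (m - j - 1) + 1)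

theorem k0_spec (q m j : ℕ) (hq : 0 < q) (hj : j < m) :
    (k0 q m j + q ^ j) * q + q ^ (2 * m) =
      (q ^ m + (q ^ m - 1) * q ^ (m - 1)) * q + q ^ (2 * m - j) := by
  obtain ⟨a, ha⟩ : ∃ a, a = q ^ (m - j - 1) := ⟨_, rfl⟩
  obtain ⟨u, hu⟩ : ∃ u, u = q ^ j := ⟨_, rfl⟩
  have hapos : 0 < a := by rw [ha]; exact Nat.pow_pos hq
  have hupos : 0 < u := by rw [hu]; exact Nat.pow_pos hq
  have h1 : q ^ (m - j) = q * a := by
    rw [ha, ← pow_succ']
    congr 1
    omega
  have h2 : q ^ m = u * (q * a) := by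
    rw [hu, ← h1, ← pow_add]
    congr 1
    omega
  have h3 : q ^ (m - 1) = u * a := by
    rw [hu, ha, ← pow_add]
    congr 1
    omega
  have h4 : q ^ (2 * m) = (u * (q * a)) * (u * (q * a)) := by
    rw [← h2, ← pow_add]
    congr 1
    omega
  have h5 : q ^ (2 * m - j) = (u * (q * a)) * (q * a) := by
    rw [← h2, ← h1, ← pow_add]
    congr 1
    omega
  obtain ⟨t, ht⟩ : ∃ t, q * a = t + 1 := ⟨q * a - 1, by
    have : 0 < q * a := Nat.mul_pos hq hapos
    omega⟩
  unfold k0
  rw [← hu, ← ha, h1, h2, h3, h4, h5, ht, Nat.add_sub_cancel]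
  have h6 : u * (t + 1) - 1 + 1 = u * (t + 1) := by
    have : 0 < u * (t + 1) := Nat.mul_pos hupos (Nat.succ_pos t)
    omega
  obtain ⟨w, hw⟩ : ∃ w, w = u * (t + 1) - 1 := ⟨_, rfl⟩
  rw [← hw]
  have h7 : u * (t + 1) = w + 1 := by omega
  -- replace `q * a` by `t + 1` in the remaining places via a ring identity
  have hqa : q * a = t + 1 := ht
  rw [h7]
  have e1 : (u * t * (a + 1) + u) * q = u * t * (q * a) + u * t * q + u * q := by ring
  have e2 : (w + 1 + w * (u * a)) * q = (w + 1) * q + w * u * (q * a) := by ring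
  rw [e1, e2, hqa]
  have h8 : w * u * (t + 1) = w * (w + 1) := by
    rw [← h7]; ring
  rw [h8]
  have h9 : u * t * (t + 1) = (w + 1) * t := by
    rw [← h7]; ring
  rw [h9]
  have h10 : u * t * q + u * q = (w + 1) * q := by
    rw [← h7]; ring
  rw [add_assoc ((w + 1) * t), h10]
  ring

theorem card_frame_zero_plus [CharP F 2] (m : ℕ) :
    ∀ s, s ≤ m → Nat.card (Frame (plusQF m F) (fun _ : Fin s => (0 : F))) =
      ∏ j ∈ Finset.range s, k0 (Fintype.card F) m j := by
  intro s
  induction s with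
  | zero =>
    intro _
    rw [card_frame_zero, Finset.prod_range_zero]
  | succ s ih =>
    intro hs
    rw [Finset.prod_range_succ, ← ih (by omega)]
    apply card_frame_zero_succ (plusQF m F) (plusQF_nondeg m F) s
    have h := k0_spec (Fintype.card F) m s Fintype.card_pos (by omega)
    have hc : Fintype.card (Fin m ⊕ Fin m) = 2 * m := by
      rw [Fintype.card_sum, Fintype.card_fin]; ring
    rw [hc]
    have hz : Nat.card {v : Fin m ⊕ Fin m → F // (plusQF m F) v = 0} =
        Fintype.card F ^ m + (Fintype.card F ^ m - 1) * Fintype.card F ^ (m - 1) :=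
      card_zero_plus m
    rw [hz]
    exact h

theorem card_frame_one_plus [CharP F 2] (m : ℕ) :
    ∀ s, Nat.card (Frame (plusQF m F) (fun _ : Fin (s + 1) => (1 : F))) =
      Fintype.card F ^ (m - 1) * (Fintype.card F ^ m - 1) *
        ∏ j ∈ Finset.range s, (Fintype.card F ^ (2 * m - (j + 2)) - Fintype.card F ^ j) := by
  intro s
  induction s with
  | zero =>
    rw [Finset.prod_range_zero, mul_one, card_frame_one_one, ← cnt_plus m]
    rfl
  | succ s ih =>
    rw [Finset.prod_range_succ, ← mul_assoc, ← ih,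
      card_frame_one_succ (plusQF m F) (plusQF_nondeg m F) s]
    have hc : Fintype.card (Fin m ⊕ Fin m) = 2 * m := by
      rw [Fintype.card_sum, Fintype.card_fin]; ring
    rw [hc]

end Cfsg.Agent.Lib.Helper37.InvFrame
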