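import Mathlib
import Cfsg.Agent.Lib.Helper37.InvPlus

set_option autoImplicit false

/-!
# Arithmetic for the centraliser orders, type `a_s`
-/

namespace Cfsg.Agent.Lib.Helper37.InvFrame

/-- `|Ω⁺_{2m}(q)|` (half the order of the orthogonal group). -/
def G0 (q m : ℕ) : ℕ :=
  q ^ (m * (m - 1)) * (q ^ m - 1) * ∏ i ∈ Finset.range (m - 1), (q ^ (2 * (i + 1)) - 1)

/-- `|Ω⁺_{2(m-s)}(q)|`. -/
def R0 (q m s : ℕ) : ℕ :=
  q ^ ((m - s) * (m - s - 1)) * (q ^ (m - s) - 1) *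
    ∏ i ∈ Finset.range (m - s - 1), (q ^ (2 * (i + 1)) - 1)

/-- The exponent in the order of the centraliser of an involution of type `a_s`. -/
def E0 (m s : ℕ) : ℕ := 2 * m * s - (3 * s ^ 2 + s) / 2

theorem sq_sub_one (a : ℕ) (ha : 1 ≤ a) : a ^ 2 - 1 = (a - 1) * (a + 1) := by
  obtain ⟨b, rfl⟩ : ∃ b, a = b + 1 := ⟨a - 1, by omega⟩
  rw [Nat.add_sub_cancel]
  have : (b + 1) ^ 2 = b * (b + 1 + 1) + 1 := by ring
  rw [this, Nat.add_sub_cancel]

theorem half_three (s : ℕ) : ∃ T, (3 * s ^ 2 + s) / 2 = T ∧ 3 * s ^ 2 + s = 2 * T ∧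
    (3 * (s + 1) ^ 2 + (s + 1)) / 2 = T + 3 * s + 2 := by
  have hev : Even (3 * s ^ 2 + s) := by
    have : 3 * s ^ 2 + s = s * (3 * s + 1) := by ring
    rw [this]
    rcases Nat.even_or_odd s with h | h
    · exact h.mul_right _
    · apply Even.mul_left
      obtain ⟨t, ht⟩ := h
      exact ⟨3 * t + 2, by rw [ht]; ring⟩
  obtain ⟨T, hT⟩ := hev
  refine ⟨T, by omega, by omega, ?_⟩
  have : 3 * (s + 1) ^ 2 + (s + 1) = 3 * s ^ 2 + s + 6 * s + 4 := by ring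
  rw [this]
  omega

theorem E0_step (m s k' : ℕ) (hm : m = s + k' + 2) :
    E0 m (s + 1) + k' * (k' + 1) + s = E0 m s + (k' + 2) * (k' + 1) := by
  obtain ⟨T, hT1, hT2, hT3⟩ := half_three s
  unfold E0
  rw [hT1, hT3]
  have h1 : 2 * m * (s + 1) = 2 * m * s + 2 * m := by ring
  have h2 : (k' + 2) * (k' + 1) = k' * (k' + 1) + 2 * k' + 2 := by ring
  have h3 : 2 * T ≤ 4 * (m * s) := by
    rw [← hT2, hm]
    nlinarith [Nat.zero_le s, Nat.zero_le k', Nat.zero_le (s * k')]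
  have h4 : 2 * m * s = 2 * (m * s) := by ring
  have h6 : 2 * (T + 3 * s + 2) ≤ 4 * (m * s) + 4 * m := by
    have : 2 * (T + 3 * s + 2) = 3 * s ^ 2 + s + 6 * s + 4 := by rw [hT2]; ring
    rw [this, hm]
    nlinarith [Nat.zero_le s, Nat.zero_le k', Nat.zero_le (s * k')]
  rw [h1, h2, h4]
  have h5 : 2 * m = 2 * s + 2 * k' + 4 := by omega
  clear hT1 hT2 hT3
  omega

theorem R0_zero (q m : ℕ) : R0 q m 0 = G0 q m := by
  unfold R0 G0
  simp

theorem key_step (q m s k' : ℕ) (hq : 1 ≤ q) (hm : m = s + k' + 2) :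
    q ^ E0 m (s + 1) * R0 q m (s + 1) * k0 q m s = q ^ E0 m s * R0 q m s := by
  have hE := E0_step m s k' hm
  unfold R0 k0
  have e1 : m - (s + 1) = k' + 1 := by omega
  have e2 : m - (s + 1) - 1 = k' := by omega
  have e3 : m - s = k' + 2 := by omega
  have e4 : m - s - 1 = k' + 1 := by omega
  rw [e2, e1, e4, e3, Finset.prod_range_succ]
  have h1 : q ^ (2 * (k' + 1)) - 1 = (q ^ (k' + 1) - 1) * (q ^ (k' + 1) + 1) := by
    have : q ^ (2 * (k' + 1)) = (q ^ (k' + 1)) ^ 2 := by rw [← pow_mul]; ring_nf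
    rw [this]
    exact sq_sub_one _ (Nat.one_le_pow _ _ hq)
  rw [h1]
  obtain ⟨A, hA⟩ : ∃ A, A = q ^ (k' + 2) - 1 := ⟨_, rfl⟩
  obtain ⟨A', hA'⟩ : ∃ A', A' = q ^ (k' + 1) - 1 := ⟨_, rfl⟩
  obtain ⟨B, hB⟩ : ∃ B, B = q ^ (k' + 1) + 1 := ⟨_, rfl⟩
  obtain ⟨P, hP⟩ : ∃ P, P = ∏ i ∈ Finset.range k', (q ^ (2 * (i + 1)) - 1) := ⟨_, rfl⟩
  rw [← hA, ← hA', ← hB, ← hP]
  have h2 : q ^ E0 m (s + 1) * (q ^ ((k' + 1) * k') * A' * P) * (q ^ s * A * B) =
      q ^ (E0 m (s + 1) + k' * (k' + 1) + s) * (A * A' * B * P) := by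
    rw [pow_add, pow_add]
    ring
  have h3 : q ^ E0 m s * (q ^ ((k' + 2) * (k' + 1)) * A * (P * (A' * B))) =
      q ^ (E0 m s + (k' + 2) * (k' + 1)) * (A * A' * B * P) := by
    rw [pow_add]
    ring
  rw [h2, h3, hE]

/-- Main identity for `s < m`. -/
theorem arith_a_lt (q m : ℕ) (hq : 1 ≤ q) :
    ∀ s, s < m → q ^ E0 m s * R0 q m s * ∏ j ∈ Finset.range s, k0 q m j = G0 q m := by
  intro s
  induction s with
  | zero =>
    intro _
    rw [R0_zero, Finset.prod_range_zero, mul_one]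
    unfold E0
    simp
  | succ s ih =>
    intro hs
    have ih' := ih (by omega)
    obtain ⟨k', hk'⟩ : ∃ k', m = s + k' + 2 := ⟨m - s - 2, by omega⟩
    have hkey := key_step q m s k' hq hk'
    rw [Finset.prod_range_succ]
    calc q ^ E0 m (s + 1) * R0 q m (s + 1) * ((∏ j ∈ Finset.range s, k0 q m j) * k0 q m s)
        = (q ^ E0 m (s + 1) * R0 q m (s + 1) * k0 q m s) * ∏ j ∈ Finset.range s, k0 q m j := by
          ring
      _ = G0 q m := by rw [hkey, ih']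

/-- Main identity for `s = m`. -/
theorem arith_a_eq (q m : ℕ) (hq : 1 ≤ q) (hm : 1 ≤ m) :
    q ^ E0 m m * ∏ j ∈ Finset.range m, k0 q m j = 2 * G0 q m := by
  obtain ⟨n, rfl⟩ : ∃ n, m = n + 1 := ⟨m - 1, by omega⟩
  have h1 := arith_a_lt q (n + 1) hq n (by omega)
  rw [Finset.prod_range_succ, ← h1]
  unfold R0 k0
  have e1 : n + 1 - n = 1 := by omega
  have e2 : n + 1 - n - 1 = 0 := by omega
  rw [e2, e1]
  simp only [mul_zero, pow_zero, pow_one, Finset.range_zero, Finset.prod_empty, mul_one, one_mul]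
  -- exponents
  have hE : E0 (n + 1) (n + 1) + n = E0 (n + 1) n := by
    obtain ⟨T, hT1, hT2, hT3⟩ := half_three n
    unfold E0
    rw [hT1, hT3]
    have h3 : 2 * T ≤ 4 * ((n + 1) * n) := by
      rw [← hT2]
      nlinarith [Nat.zero_le n]
    have h4 : 2 * (n + 1) * (n + 1) = 2 * ((n + 1) * n) + 2 * n + 2 := by ring
    have h5 : 2 * (n + 1) * n = 2 * ((n + 1) * n) := by ring
    have h6 : 2 * (T + n) ≤ 4 * ((n + 1) * n) := by
      have : 2 * (T + n) = 3 * n ^ 2 + n + 2 * n := by rw [hT2]; ring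
      rw [this]
      nlinarith [Nat.zero_le n]
    rw [h4, h5]
    clear hT1 hT2 hT3 h1
    omega
  rw [← hE, pow_add]
  ring

end Cfsg.Agent.Lib.Helper37.InvFrame
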