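import Mathlib
import Cfsg.Agent.Lib.Helper37.InvArithA

set_option autoImplicit false

/-!
# Arithmetic for the centraliser orders, types `b_s` and `c_s`
-/

namespace Cfsg.Agent.Lib.Helper37.InvFrame

/-- `|Sp_{2k}(q)|`. -/
def Sp0 (q k : ℕ) : ℕ := q ^ (k ^ 2) * ∏ i ∈ Finset.range k, (q ^ (2 * (i + 1)) - 1)

/-- The exponent for types `b_s`, `c_s`. -/
def E1 (m s : ℕ) : ℕ := 2 * m * (s - 1) - (3 * s ^ 2 - 3 * s) / 2

/-- The number of frames of `s + 1` norm-one vectors. -/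
def N1 (q m s : ℕ) : ℕ :=
  q ^ (m - 1) * (q ^ m - 1) * ∏ j ∈ Finset.range s, (q ^ (2 * m - (j + 2)) - q ^ j)

theorem half_three' (t : ℕ) : ∃ U, (3 * (t + 1) ^ 2 - 3 * (t + 1)) / 2 = U ∧ 2 * U = 3 * t ^ 2 + 3 * t ∧
    (3 * (t + 2) ^ 2 - 3 * (t + 2)) / 2 = U + 3 * t + 3 := by
  have hev : Even (t * (t + 1)) := Nat.even_mul_succ_self t
  obtain ⟨W, hW⟩ := hev
  have h1 : 3 * (t + 1) ^ 2 - 3 * (t + 1) = 3 * (t * (t + 1)) := by
    have : 3 * (t + 1) ^ 2 = 3 * (t * (t + 1)) + 3 * (t + 1) := by ring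
    rw [this, Nat.add_sub_cancel]
  have h2 : 3 * (t + 2) ^ 2 - 3 * (t + 2) = 3 * (t * (t + 1)) + 6 * t + 6 := by
    have : 3 * (t + 2) ^ 2 = 3 * (t * (t + 1)) + 6 * t + 6 + 3 * (t + 2) := by ring
    rw [this, Nat.add_sub_cancel]
  refine ⟨3 * W, ?_, ?_, ?_⟩
  · rw [h1, hW]; omega
  · have : t * (t + 1) = t ^ 2 + t := by ring
    rw [this] at hW
    omega
  · rw [h2, hW]; omega

theorem E1_one (m : ℕ) : E1 m 1 = 0 := by
  unfold E1
  simp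

theorem E1_step (m t k' : ℕ) (hm : m = t + k' + 2) :
    E1 m (t + 2) + k' ^ 2 + t = E1 m (t + 1) + (k' + 1) ^ 2 := by
  obtain ⟨U, hU1, hU2, hU3⟩ := half_three' t
  unfold E1
  rw [hU1, hU3]
  have e1 : t + 2 - 1 = t + 1 := by omega
  have e2 : t + 1 - 1 = t := by omega
  rw [e1, e2]
  have h1 : 2 * m * (t + 1) = 2 * (m * t) + 2 * m := by ring
  have h2 : (k' + 1) ^ 2 = k' ^ 2 + 2 * k' + 1 := by ring
  have h3 : 2 * U ≤ 4 * (m * t) := by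
    rw [hU2, hm]
    nlinarith [Nat.zero_le t, Nat.zero_le k', Nat.zero_le (t * k')]
  have h4 : 2 * m * t = 2 * (m * t) := by ring
  have h6 : 2 * (U + 3 * t + 3) ≤ 4 * (m * t) + 4 * m := by
    have : 2 * (U + 3 * t + 3) = 3 * t ^ 2 + 3 * t + 6 * t + 6 := by rw [← hU2]; ring
    rw [this, hm]
    nlinarith [Nat.zero_le t, Nat.zero_le k', Nat.zero_le (t * k')]
  rw [h1, h2, h4]
  have h5 : 2 * m = 2 * t + 2 * k' + 4 := by omega
  clear hU1 hU2 hU3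
  omega

theorem Sp0_succ (q k : ℕ) :
    Sp0 q (k + 1) = q ^ ((k + 1) ^ 2) *
      ((∏ i ∈ Finset.range k, (q ^ (2 * (i + 1)) - 1)) * (q ^ (2 * (k + 1)) - 1)) := by
  unfold Sp0
  rw [Finset.prod_range_succ]

/-- Main identity for types `b_s`, `c_s` (with `s = t + 1`). -/
theorem arith_b (q m : ℕ) :
    ∀ t, t + 1 ≤ m → q ^ E1 m (t + 1) * Sp0 q (m - (t + 1)) * N1 q m t = G0 q m := by
  intro t
  induction t with
  | zero =>
    intro hm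
    rw [E1_one, pow_zero, one_mul]
    unfold N1 Sp0 G0
    rw [Finset.prod_range_zero, mul_one]
    obtain ⟨n, rfl⟩ : ∃ n, m = n + 1 := ⟨m - 1, by omega⟩
    have e1 : n + 1 - (0 + 1) = n := by omega
    simp only [e1]
    have h1 : (n + 1) * n = n ^ 2 + n := by ring
    rw [h1, pow_add]
    ring
  | succ t ih =>
    intro hm
    have ih' := ih (by omega)
    obtain ⟨k', hk'⟩ : ∃ k', m = t + k' + 2 := ⟨m - t - 2, by omega⟩
    have hE := E1_step m t k' hk'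
    have e1 : m - (t + 1 + 1) = k' := by omega
    have e2 : m - (t + 1) = k' + 1 := by omega
    rw [e2] at ih'
    rw [e1]
    have hN : N1 q m (t + 1) = N1 q m t * (q ^ (2 * m - (t + 2)) - q ^ t) := by
      unfold N1
      rw [Finset.prod_range_succ]
      ring
    have hf : q ^ (2 * m - (t + 2)) - q ^ t = q ^ t * (q ^ (2 * (k' + 1)) - 1) := by
      have : 2 * m - (t + 2) = t + 2 * (k' + 1) := by omega
      rw [this, pow_add, Nat.mul_sub, mul_one]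
    rw [hN, hf, ← ih', Sp0_succ]
    obtain ⟨P, hP⟩ : ∃ P, P = ∏ i ∈ Finset.range k', (q ^ (2 * (i + 1)) - 1) := ⟨_, rfl⟩
    obtain ⟨B, hB⟩ : ∃ B, B = q ^ (2 * (k' + 1)) - 1 := ⟨_, rfl⟩
    unfold Sp0
    rw [← hP, ← hB]
    have h2 : q ^ E1 m (t + 1 + 1) * (q ^ (k' ^ 2) * P) * (N1 q m t * (q ^ t * B)) =
        q ^ (E1 m (t + 2) + k' ^ 2 + t) * (P * B * N1 q m t) := by
      rw [pow_add, pow_add]
      ring
    have h3 : q ^ E1 m (t + 1) * (q ^ ((k' + 1) ^ 2) * (P * B)) * N1 q m t =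
        q ^ (E1 m (t + 1) + (k' + 1) ^ 2) * (P * B * N1 q m t) := by
      rw [pow_add]
      ring
    rw [h2, h3, hE]

/-- Exponent bookkeeping for type `c_s`: `s = 2k`. -/
theorem E1_c (m k : ℕ) (hk : 1 ≤ k) (hkm : 2 * k ≤ m) :
    E1 m (2 * k) + (2 * k - 1) =
      2 * m * (2 * k - 1) - (3 * (2 * k) ^ 2 - 5 * (2 * k)) / 2 - 1 := by
  unfold E1
  obtain ⟨j, rfl⟩ : ∃ j, k = j + 1 := ⟨k - 1, by omega⟩
  have h1 : 3 * (2 * (j + 1)) ^ 2 - 3 * (2 * (j + 1)) = 2 * (6 * j ^ 2 + 9 * j + 3) := by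
    have : 3 * (2 * (j + 1)) ^ 2 = 2 * (6 * j ^ 2 + 9 * j + 3) + 3 * (2 * (j + 1)) := by ring
    rw [this, Nat.add_sub_cancel]
  have h2 : 3 * (2 * (j + 1)) ^ 2 - 5 * (2 * (j + 1)) = 2 * (6 * j ^ 2 + 7 * j + 1) := by
    have : 3 * (2 * (j + 1)) ^ 2 = 2 * (6 * j ^ 2 + 7 * j + 1) + 5 * (2 * (j + 1)) := by ring
    rw [this, Nat.add_sub_cancel]
  rw [h1, h2, Nat.mul_div_cancel_left _ (by norm_num : 0 < 2),
    Nat.mul_div_cancel_left _ (by norm_num : 0 < 2)]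
  have e1 : 2 * (j + 1) - 1 = 2 * j + 1 := by omega
  rw [e1]
  have h3 : 2 * m * (2 * j + 1) = 4 * (m * j) + 2 * m := by ring
  rw [h3]
  have h4 : 6 * j ^ 2 + 9 * j + 3 ≤ 4 * (m * j) + 2 * m := by
    nlinarith [Nat.zero_le j]
  have h5 : 6 * j ^ 2 + 7 * j + 1 + 1 ≤ 4 * (m * j) + 2 * m := by
    nlinarith [Nat.zero_le j]
  omega

end Cfsg.Agent.Lib.Helper37.InvFrame
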