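/-
helper37 library: refinement of `InvCount.selfdualEquiv`: divisibility by the linear factor in terms
of the multiset, and the count of self-dual polynomials that are divisible by the linear factor
unless a fixed condition holds.
-/
import Mathlib
import Cfsg.Agent.Lib.Helper37.InvCount

set_option autoImplicit false

namespace Cfsg.Agent.Lib.Helper37.InvCount

open Polynomial Cfsg.Agent.Lib.Helper40

variable {K : Type*} [Field K] [DecidableEq K]

theorem selfdualEquiv_symm_val (𝒟 : K[X] → K[X]) (h1 : 𝒟 1 = 1)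
    (hmul : ∀ f g, 𝒟 (f * g) = 𝒟 f * 𝒟 g) (S : Finset K[X]) (l : K[X]) (i n : ℕ)
    (hS : ∀ m ∈ S, m.Monic ∧ Irreducible m ∧ m.natDegree = i)
    (hl : l.Monic ∧ Irreducible l ∧ l.natDegree = 1) (hlS : l ∉ S) (hl' : 𝒟 l = l)
    (hDS : ∀ m ∈ S, 𝒟 m ∈ S)
    (M : {M : Multiset K[X] // (∀ m ∈ M, m ∈ S) ∧ i * Multiset.card M ≤ n ∧ M.map 𝒟 = M}) :
    ((selfdualEquiv 𝒟 h1 hmul S l i n hS hl hlS hl' hDS).symm M).1.1 =
      l ^ (n - i * Multiset.card M.1) * M.1.prod := rfl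

/-- the linear factor divides a self-dual polynomial iff its multiset does not fill the degree -/
theorem selfdualEquiv_dvd_iff (𝒟 : K[X] → K[X]) (h1 : 𝒟 1 = 1)
    (hmul : ∀ f g, 𝒟 (f * g) = 𝒟 f * 𝒟 g) (S : Finset K[X]) (l : K[X]) (i n : ℕ)
    (hS : ∀ m ∈ S, m.Monic ∧ Irreducible m ∧ m.natDegree = i)
    (hl : l.Monic ∧ Irreducible l ∧ l.natDegree = 1) (hlS : l ∉ S) (hl' : 𝒟 l = l)
    (hDS : ∀ m ∈ S, 𝒟 m ∈ S)
    (f : {f : {f : K[X] // f.Monic ∧ f.natDegree = n ∧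
      ∀ m : K[X], m.Monic → Irreducible m → m ∣ f → m = l ∨ m ∈ S} // 𝒟 f.1 = f.1}) :
    l ∣ f.1.1 ↔
      i * Multiset.card ((selfdualEquiv 𝒟 h1 hmul S l i n hS hl hlS hl' hDS) f).1 < n := by
  obtain ⟨Φ, hΦ⟩ : ∃ Φ, Φ = selfdualEquiv 𝒟 h1 hmul S l i n hS hl hlS hl' hDS := ⟨_, rfl⟩
  rw [← hΦ]
  have hf : f.1.1 = l ^ (n - i * Multiset.card (Φ f).1) * (Φ f).1.prod := by
    conv_lhs => rw [← Φ.symm_apply_apply f]
    rw [hΦ]
    exact selfdualEquiv_symm_val 𝒟 h1 hmul S l i n hS hl hlS hl' hDS _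
  have hle := (Φ f).2.2.1
  constructor
  · intro hd
    by_contra hlt
    have h0 : n - i * Multiset.card (Φ f).1 = 0 := by omega
    rw [hf, h0, pow_zero, one_mul] at hd
    obtain ⟨m, hm, hlm⟩ := hl.2.1.prime.exists_mem_multiset_dvd hd
    have hmS := (Φ f).2.1 m hm
    have := eq_of_monic_irreducible_dvd hl.1 hl.2.1 (hS m hmS).1 (hS m hmS).2.1 hlm
    exact hlS (this ▸ hmS)
  · intro hlt
    rw [hf]
    apply Dvd.dvd.mul_right
    exact dvd_pow_self l (by omega)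

/-- counting self-dual polynomials that are divisible by the linear factor unless `cond` holds -/
theorem card_selfdual_allowed (𝒟 : K[X] → K[X]) (h1 : 𝒟 1 = 1)
    (hmul : ∀ f g, 𝒟 (f * g) = 𝒟 f * 𝒟 g) (S : Finset K[X]) (l : K[X]) (i n : ℕ)
    (hS : ∀ m ∈ S, m.Monic ∧ Irreducible m ∧ m.natDegree = i)
    (hl : l.Monic ∧ Irreducible l ∧ l.natDegree = 1) (hlS : l ∉ S) (hl' : 𝒟 l = l)
    (hDS : ∀ m ∈ S, 𝒟 m ∈ S) (hn : 1 ≤ n) (cond : Prop) [Decidable cond] :
    Nat.card {f : {f : {f : K[X] // f.Monic ∧ f.natDegree = n ∧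
      ∀ m : K[X], m.Monic → Irreducible m → m ∣ f → m = l ∨ m ∈ S} // 𝒟 f.1 = f.1} //
        l ∣ f.1.1 ∨ cond} =
      Nat.card {M : Multiset K[X] // (∀ m ∈ M, m ∈ S) ∧
        i * Multiset.card M ≤ (if cond then n else n - 1) ∧ M.map 𝒟 = M} := by
  have e1 : {f : {f : {f : K[X] // f.Monic ∧ f.natDegree = n ∧
      ∀ m : K[X], m.Monic → Irreducible m → m ∣ f → m = l ∨ m ∈ S} // 𝒟 f.1 = f.1} //
        l ∣ f.1.1 ∨ cond} ≃
      {M : {M : Multiset K[X] // (∀ m ∈ M, m ∈ S) ∧ i * Multiset.card M ≤ n ∧ M.map 𝒟 = M} //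
        i * Multiset.card M.1 < n ∨ cond} :=
    Equiv.subtypeEquiv (selfdualEquiv 𝒟 h1 hmul S l i n hS hl hlS hl' hDS) (fun f => by
      rw [selfdualEquiv_dvd_iff 𝒟 h1 hmul S l i n hS hl hlS hl' hDS f])
  rw [Nat.card_congr e1]
  apply Nat.card_congr
  by_cases hc : cond
  · rw [if_pos hc]
    exact
      { toFun := fun M => M.1
        invFun := fun M => ⟨M, Or.inr hc⟩
        left_inv := fun _ => rfl
        right_inv := fun _ => rfl }
  · rw [if_neg hc]
    exact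
      { toFun := fun M => ⟨M.1.1, M.1.2.1, by
          have := M.2.resolve_right hc
          omega, M.1.2.2.2⟩
        invFun := fun M => ⟨⟨M.1, M.2.1, by
          have := M.2.2.1
          omega, M.2.2.2⟩, Or.inl (by
          have := M.2.2.1
          show i * Multiset.card M.1 < n
          omega)⟩
        left_inv := fun _ => rfl
        right_inv := fun _ => rfl }

end Cfsg.Agent.Lib.Helper37.InvCount
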