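import Mathlib
import Cfsg.Agent.Lib.Helper36.SympInvol
import Cfsg.Agent.Lib.Helper37.InvFrame2

set_option autoImplicit false
set_option linter.unusedSectionVars false

/-!
# Involutions of orthogonal groups in characteristic two are of the form `1 + n K nᵀ G`
-/

namespace Cfsg.Agent.Lib.Helper37.InvFrame

open Matrix Module Cfsg.Agent.Lib.Helper36 Cfsg.Agent.Lib.Helper43

variable {F : Type*} [Field F] {ι : Type} [Fintype ι] [DecidableEq ι]
  {σ : Type} [Fintype σ] [DecidableEq σ]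

variable (Q : QuadraticForm F (ι → F))

local notation "pol" => QuadraticMap.polar

section core

variable [CharP F 2] (x : ↥(Cfsg.isometryGroup F (⇑Q)))
  (hx2 : ((x : GL ι F) : Matrix ι ι F) * ((x : GL ι F) : Matrix ι ι F) = 1)

include hx2

theorem sub_one_mul_self :
    (((x : GL ι F) : Matrix ι ι F) - 1) * (((x : GL ι F) : Matrix ι ι F) - 1) = 0 := by
  set A := ((x : GL ι F) : Matrix ι ι F)
  have h2 : ∀ M : Matrix ι ι F, M + M = 0 := by
    intro M
    rw [← two_smul F M, CharTwo.two_eq_zero, zero_smul]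
  calc (A - 1) * (A - 1) = A * A + 1 - (A + A) := by
        rw [Matrix.sub_mul, Matrix.mul_sub, Matrix.mul_one, Matrix.one_mul]
        abel
    _ = 0 := by rw [hx2, h2 A, h2 1, sub_zero]

theorem polar_adj (u v : ι → F) :
    pol (⇑Q) ((((x : GL ι F) : Matrix ι ι F) - 1) *ᵥ u) v =
      pol (⇑Q) u ((((x : GL ι F) : Matrix ι ι F) - 1) *ᵥ v) := by
  set A := ((x : GL ι F) : Matrix ι ι F) with hA
  have h1 : pol (⇑Q) (A *ᵥ u) v = pol (⇑Q) u (A *ᵥ v) := by
    have h := polar_mulVec Q x u (A *ᵥ v)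
    rw [← hA, mulVec_mulVec, hx2, one_mulVec] at h
    exact h
  rw [sub_mulVec, sub_mulVec, one_mulVec, one_mulVec, QuadraticMap.polar_sub_left,
    QuadraticMap.polar_sub_right, h1]

theorem map_sub_one (v : ι → F) :
    Q ((((x : GL ι F) : Matrix ι ι F) - 1) *ᵥ v) =
      pol (⇑Q) v ((((x : GL ι F) : Matrix ι ι F) - 1) *ᵥ v) := by
  set A := ((x : GL ι F) : Matrix ι ι F) with hA
  have h1 : Q (A *ᵥ v) = Q v := orth_apply (⇑Q) x v
  have h2 : A *ᵥ v = v + (A - 1) *ᵥ v := by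
    rw [sub_mulVec, one_mulVec, add_sub_cancel]
  rw [h2, QuadraticMap.map_add Q v ((A - 1) *ᵥ v)] at h1
  have h3 : Q ((A - 1) *ᵥ v) + pol (⇑Q) v ((A - 1) *ᵥ v) = 0 := by
    linear_combination h1
  exact CharTwo.add_eq_zero.mp h3

/-- Core: from a basis of a complement of `ker (x - 1)` adapted to the form `(u, v) ↦ B u (N v)`
to a frame `b₀` with `x = 1 + n Gm nᵀ G`. -/
theorem exists_frame_core (Gm : Matrix σ σ F) (hGm : Gm * Gm = 1) (κ : σ → F)
    (hκ : ∀ i, Gm i i = κ i) (w0 : σ → ι → F)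
    (hw : ∀ i j, pol (⇑Q) (w0 i) ((((x : GL ι F) : Matrix ι ι F) - 1) *ᵥ w0 j) = Gm i j)
    (hspan : ∀ y, ∃ a : σ → F, (((x : GL ι F) : Matrix ι ι F) - 1) *ᵥ y =
      ∑ i, a i • ((((x : GL ι F) : Matrix ι ι F) - 1) *ᵥ w0 i)) :
    ∃ b₀ : Frame Q κ, ((x : GL ι F) : Matrix ι ι F) = piMat Q Gm b₀.1 := by
  set A := ((x : GL ι F) : Matrix ι ι F) with hA
  set N := A - 1 with hN
  have hNN : N * N = 0 := sub_one_mul_self Q x hx2
  set b₀ : σ → ι → F := fun i => N *ᵥ w0 i with hb₀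
  have hpolw : ∀ (k : σ) (c : σ → F), pol (⇑Q) (w0 k) (∑ i, c i • b₀ i) = (Gm *ᵥ c) k := by
    intro k c
    have h1 : pol (⇑Q) (w0 k) (∑ i, c i • b₀ i) =
        QuadraticMap.polarBilin Q (w0 k) (∑ i, c i • b₀ i) := rfl
    rw [h1, map_sum]
    simp only [mulVec, dotProduct]
    apply Finset.sum_congr rfl
    intro i _
    rw [map_smul, smul_eq_mul, mul_comm]
    congr 1
    exact hw k i
  have hframe : IsFrame Q κ b₀ := by
    refine ⟨?_, ?_, ?_⟩
    · rw [Fintype.linearIndependent_iff]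
      intro c hc
      have h1 : Gm *ᵥ c = 0 := by
        funext k
        rw [← hpolw k c, hc, QuadraticMap.polar_zero_right]
        rfl
      have h2 : c = 0 := by
        have := congrArg (fun w => Gm *ᵥ w) h1
        simpa [mulVec_mulVec, hGm] using this
      intro i
      rw [h2]
      rfl
    · intro i j
      show pol (⇑Q) (N *ᵥ w0 i) (N *ᵥ w0 j) = 0
      rw [hN, hA, polar_adj Q x hx2, ← hA, ← hN, mulVec_mulVec, hNN, zero_mulVec,
        QuadraticMap.polar_zero_right]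
    · intro i
      show Q (N *ᵥ w0 i) = κ i
      rw [hN, hA, map_sub_one Q x hx2, ← hA, ← hN, hw, hκ]
  refine ⟨⟨b₀, hframe⟩, ?_⟩
  have hmain : N = colMat b₀ * Gm * (colMat b₀)ᵀ * gramM Q := by
    apply Matrix.toLin'.injective
    apply LinearMap.ext
    intro v
    rw [Matrix.toLin'_apply, Matrix.toLin'_apply]
    obtain ⟨a, ha⟩ := hspan v
    -- the coefficients
    have hβ : Gm *ᵥ a = (colMat b₀)ᵀ *ᵥ (gramM Q *ᵥ v) := by
      funext k
      rw [← hpolw k a]
      have h1 : (∑ i, a i • b₀ i) = N *ᵥ v := ha.symm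
      rw [h1, hN, hA, ← polar_adj Q x hx2, ← hA, ← hN, polar_eq_dotProduct]
      simp only [mulVec, dotProduct, transpose_apply, colMat_apply]
      rfl
    have ha2 : a = Gm *ᵥ ((colMat b₀)ᵀ *ᵥ (gramM Q *ᵥ v)) := by
      rw [← hβ, mulVec_mulVec, hGm, one_mulVec]
    rw [ha, ← colMat_mulVec, ha2]
    simp only [mulVec_mulVec, Matrix.mul_assoc]
    rfl
  show A = 1 + colMat b₀ * Gm * (colMat b₀)ᵀ * gramM Q
  rw [← hmain, hN]
  abel

end core

theorem J_apply_char_two [CharP F 2] (l : ℕ) (i j : Fin l ⊕ Fin l) :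
    Matrix.J (Fin l) F i j = if i = Sum.swap j then 1 else 0 := by
  unfold Matrix.J
  rcases i with i | i <;> rcases j with j | j
  · simp
  · simp only [fromBlocks_apply₁₂, Sum.swap_inr, Sum.inl.injEq]
    rw [Matrix.neg_apply, Matrix.one_apply, CharTwo.neg_eq]
  · simp only [fromBlocks_apply₂₁, one_apply, Sum.swap_inl, Sum.inr.injEq]
  · simp

theorem J_mul_J_char_two [CharP F 2] (l : ℕ) :
    Matrix.J (Fin l) F * Matrix.J (Fin l) F = 1 := by
  rw [Matrix.J_squared]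
  have h2 : ∀ M : Matrix (Fin l ⊕ Fin l) (Fin l ⊕ Fin l) F, M + M = 0 := by
    intro M
    rw [← two_smul F M, CharTwo.two_eq_zero, zero_smul]
  exact neg_eq_of_add_eq_zero_left (h2 1)

/-- Non-alternating case (`b_s`, `c_s`). -/
theorem exists_frame_nonalt [Fintype F] [CharP F 2]
    (hQ : (QuadraticMap.polarBilin Q).Nondegenerate) (x : ↥(Cfsg.isometryGroup F (⇑Q)))
    (hx2 : ((x : GL ι F) : Matrix ι ι F) * ((x : GL ι F) : Matrix ι ι F) = 1) (s : ℕ)
    (hs : (((x : GL ι F) : Matrix ι ι F) - 1).rank = s)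
    (hna : ∃ v, Q ((((x : GL ι F) : Matrix ι ι F) - 1) *ᵥ v) ≠ 0) :
    ∃ b₀ : Frame Q (fun _ : Fin s => (1 : F)),
      ((x : GL ι F) : Matrix ι ι F) = piMat Q (1 : Matrix (Fin s) (Fin s) F) b₀.1 := by
  set A := ((x : GL ι F) : Matrix ι ι F) with hA
  obtain ⟨w0, hw, hspan⟩ := exists_kbasis_nonalt (QuadraticMap.polarBilin Q)
    (fun u v => QuadraticMap.polar_comm _ u v) hQ (A - 1).mulVecLin
    (fun u v => polar_adj Q x hx2 u v)
    (by
      obtain ⟨v, hv⟩ := hna
      refine ⟨v, ?_⟩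
      rw [hA, map_sub_one Q x hx2] at hv
      exact hv) s hs
  exact exists_frame_core Q x hx2 (1 : Matrix (Fin s) (Fin s) F) (Matrix.one_mul 1)
    (fun _ => 1) (fun i => Matrix.one_apply_eq i) w0
    (fun i j => by
      rw [Matrix.one_apply]
      exact hw i j)
    hspan

/-- Alternating case (`a_s`). -/
theorem exists_frame_alt [CharP F 2]
    (hQ : (QuadraticMap.polarBilin Q).Nondegenerate) (x : ↥(Cfsg.isometryGroup F (⇑Q)))
    (hx2 : ((x : GL ι F) : Matrix ι ι F) * ((x : GL ι F) : Matrix ι ι F) = 1) (s : ℕ)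
    (hs : (((x : GL ι F) : Matrix ι ι F) - 1).rank = s)
    (halt : ∀ v, Q ((((x : GL ι F) : Matrix ι ι F) - 1) *ᵥ v) = 0) :
    ∃ l : ℕ, 2 * l = s ∧ ∃ b₀ : Frame Q (fun _ : Fin l ⊕ Fin l => (0 : F)),
      ((x : GL ι F) : Matrix ι ι F) = piMat Q (Matrix.J (Fin l) F) b₀.1 := by
  set A := ((x : GL ι F) : Matrix ι ι F) with hA
  obtain ⟨l, w0, hl, hw, hspan⟩ := exists_kbasis_alt (QuadraticMap.polarBilin Q)
    (fun u v => QuadraticMap.polar_comm _ u v) hQ (A - 1).mulVecLin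
    (fun u v => polar_adj Q x hx2 u v)
    (by
      intro v
      have := halt v
      rw [map_sub_one Q x hx2] at this
      exact this)
  refine ⟨l, ?_, ?_⟩
  · rw [hl, ← hs]
    rfl
  · exact exists_frame_core Q x hx2 (Matrix.J (Fin l) F) (J_mul_J_char_two l)
      (fun _ => 0) (fun i => by
        rw [J_apply_char_two]
        rcases i with i | i <;> simp) w0
      (fun i j => by
        rw [J_apply_char_two]
        exact hw i j)
      hspan

/-- If some `Q ((x - 1) v)` is non-zero the rank can be anything, but if all vanish the rank is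
even. -/
theorem even_rank_of_alt [CharP F 2]
    (hQ : (QuadraticMap.polarBilin Q).Nondegenerate) (x : ↥(Cfsg.isometryGroup F (⇑Q)))
    (hx2 : ((x : GL ι F) : Matrix ι ι F) * ((x : GL ι F) : Matrix ι ι F) = 1)
    (halt : ∀ v, Q ((((x : GL ι F) : Matrix ι ι F) - 1) *ᵥ v) = 0) :
    Even (((x : GL ι F) : Matrix ι ι F) - 1).rank := by
  obtain ⟨l, hl, _⟩ := exists_frame_alt Q hQ x hx2 _ rfl halt
  exact ⟨l, by omega⟩

end Cfsg.Agent.Lib.Helper37.InvFrame
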