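import Mathlib
import Cfsg.Agent.Lib.Helper43.OmegaSplit
import Cfsg.Agent.Lib.Helper37.InvOrbit

set_option autoImplicit false
set_option linter.unusedSectionVars false

/-!
# Centralisers in `Ω(Q)` versus centralisers in `O(Q)` (characteristic two)
-/

namespace Cfsg.Agent.Lib.Helper37.InvFrame

open Matrix Module Cfsg.Agent.Lib.Helper36 Cfsg.Agent.Lib.Helper43

variable {F : Type*} [Field F] [Fintype F] {ι : Type} [Fintype ι] [DecidableEq ι]

variable (Q : QuadraticForm F (ι → F))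

/-- The counted set is the intersection of `Ω` with the centraliser. -/
theorem card_omega_comm_eq (x : ↥(Cfsg.isometryGroup F (⇑Q))) :
    Nat.card {g : ↥(Cfsg.Omega F (⇑Q)) //
        (g : ↥(Cfsg.isometryGroup F (⇑Q))) * x = x * (g : ↥(Cfsg.isometryGroup F (⇑Q)))} =
      Nat.card ↥(Cfsg.Omega F (⇑Q) ⊓
        Subgroup.centralizer ({x} : Set ↥(Cfsg.isometryGroup F (⇑Q)))) := by
  apply Nat.card_congr
  refine
    { toFun := fun g => ⟨(g.1 : ↥(Cfsg.isometryGroup F (⇑Q))), g.1.2, ?_⟩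
      invFun := fun c => ⟨⟨c.1, c.2.1⟩, ?_⟩
      left_inv := fun g => rfl
      right_inv := fun c => rfl }
  · show (g.1 : ↥(Cfsg.isometryGroup F (⇑Q))) ∈
      Subgroup.centralizer ({x} : Set ↥(Cfsg.isometryGroup F (⇑Q)))
    rw [Subgroup.mem_centralizer_iff]
    intro y hy
    rw [Set.mem_singleton_iff.mp hy]
    exact g.2.symm
  · have h : (c.1 : ↥(Cfsg.isometryGroup F (⇑Q))) ∈
        Subgroup.centralizer ({x} : Set ↥(Cfsg.isometryGroup F (⇑Q))) := c.2.2
    rw [Subgroup.mem_centralizer_iff] at h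
    exact (h x (Set.mem_singleton x)).symm

theorem hsq_of_char_two [CharP F 2] : ∀ a : F, IsSquare a :=
  fun a => FiniteField.isSquare_of_char_two (ringChar.eq F 2) a

/-- If `x` fixes a non-singular vector, exactly half of its centraliser lies in `Ω`. -/
theorem card_omega_centralizer_not_ts [CharP F 2]
    (hQ : (QuadraticMap.polarBilin Q).Nondegenerate)
    (hF : (∀ a b : F, ∃ x : F, x ≠ a ∧ x ≠ b) ∨ Fintype.card ι ≠ 4)
    (x : ↥(Cfsg.isometryGroup F (⇑Q)))
    (hnts : ¬ IsTS Q (fixSp ((x : GL ι F) : Matrix ι ι F).mulVecLin)) :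
    2 * Nat.card {g : ↥(Cfsg.Omega F (⇑Q)) //
        (g : ↥(Cfsg.isometryGroup F (⇑Q))) * x = x * (g : ↥(Cfsg.isometryGroup F (⇑Q)))} =
      Nat.card ↥(Subgroup.centralizer ({x} : Set ↥(Cfsg.isometryGroup F (⇑Q)))) := by
  have hsq := hsq_of_char_two (F := F)
  have hne : ∃ v : ι → F, Q v ≠ 0 := by
    unfold IsTS at hnts
    push Not at hnts
    obtain ⟨u, _, hu⟩ := hnts
    exact ⟨u, hu⟩
  have hidx := omega_index_two Q hQ hF hsq hne
  rw [card_omega_comm_eq]
  apply InvOrbit.card_inf_of_index_two _ _ hidx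
  -- an element outside `Ω`
  have hnt : Cfsg.Omega F (⇑Q) ≠ ⊤ := by
    intro h
    rw [h, Subgroup.index_top] at hidx
    omega
  obtain ⟨g₀, hg₀⟩ : ∃ g₀ : ↥(Cfsg.isometryGroup F (⇑Q)), g₀ ∉ Cfsg.Omega F (⇑Q) := by
    by_contra hcon
    push Not at hcon
    exact hnt (eq_top_iff.mpr (fun g _ => hcon g))
  obtain ⟨g, hg, hconj⟩ := exists_Omega_conj_of_not_ts Q hQ hF hsq x (g₀ * x * g₀⁻¹)
    (isConj_iff.mpr ⟨g₀, rfl⟩) hnts
  intro hle
  have hc : g⁻¹ * g₀ ∈ Subgroup.centralizer ({x} : Set ↥(Cfsg.isometryGroup F (⇑Q))) := by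
    rw [Subgroup.mem_centralizer_iff]
    intro y hy
    rw [Set.mem_singleton_iff.mp hy]
    have h1 : g * x = g₀ * x * g₀⁻¹ * g := by
      rw [← hconj, inv_mul_cancel_right]
    calc x * (g⁻¹ * g₀) = g⁻¹ * (g * x) * g⁻¹ * g₀ := by group
      _ = g⁻¹ * (g₀ * x * g₀⁻¹ * g) * g⁻¹ * g₀ := by rw [h1]
      _ = g⁻¹ * g₀ * x := by group
  have h2 := hle hc
  have h3 : g₀ = g * (g⁻¹ * g₀) := by group
  apply hg₀
  rw [h3]
  exact Subgroup.mul_mem _ hg h2

/-- If the centraliser lies in `Ω`. -/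
theorem card_omega_centralizer_of_le (x : ↥(Cfsg.isometryGroup F (⇑Q)))
    (hle : ∀ c : ↥(Cfsg.isometryGroup F (⇑Q)), c * x = x * c → c ∈ Cfsg.Omega F (⇑Q)) :
    Nat.card {g : ↥(Cfsg.Omega F (⇑Q)) //
        (g : ↥(Cfsg.isometryGroup F (⇑Q))) * x = x * (g : ↥(Cfsg.isometryGroup F (⇑Q)))} =
      Nat.card ↥(Subgroup.centralizer ({x} : Set ↥(Cfsg.isometryGroup F (⇑Q)))) := by
  rw [card_omega_comm_eq]
  have h : Cfsg.Omega F (⇑Q) ⊓ Subgroup.centralizer ({x} : Set ↥(Cfsg.isometryGroup F (⇑Q))) =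
      Subgroup.centralizer ({x} : Set ↥(Cfsg.isometryGroup F (⇑Q))) := by
    apply inf_eq_right.mpr
    intro c hc
    rw [Subgroup.mem_centralizer_iff] at hc
    exact hle c (hc x (Set.mem_singleton x)).symm
  rw [h]

/-- The hypothesis on the field in the form used by the `Ω` libraries. -/
theorem hF_of_card (h : Fintype.card F ≠ 2 ∨ Fintype.card ι ≠ 4) :
    (∀ a b : F, ∃ x : F, x ≠ a ∧ x ≠ b) ∨ Fintype.card ι ≠ 4 := by
  classical
  rcases h with hF2 | hm2
  · left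
    intro x y
    have h3 : 2 < Fintype.card F := by
      have : 1 < Fintype.card F := Fintype.one_lt_card
      omega
    have hlt : ({x, y} : Finset F).card < (Finset.univ : Finset F).card := by
      rw [Finset.card_univ]
      exact lt_of_le_of_lt Finset.card_le_two h3
    obtain ⟨z, _, hz⟩ := Finset.exists_mem_notMem_of_card_lt_card hlt
    rw [Finset.mem_insert, Finset.mem_singleton] at hz
    push Not at hz
    exact ⟨z, hz.1, hz.2⟩
  · right
    exact hm2

end Cfsg.Agent.Lib.Helper37.InvFrame
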