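import Mathlib
import Cfsg.Agent.S0245
import Cfsg.Agent.S2597
import Cfsg.Agent.Lib.Helper5.OrthPlus
import Cfsg.Agent.Lib.Helper37.InvExist
import Cfsg.Agent.Lib.Helper37.InvOmega
import Cfsg.Agent.Lib.Helper37.InvArithA

set_option autoImplicit false
set_option linter.unusedSectionVars false

/-!
# Centraliser orders of involutions of `O⁺_{2m}(q)`, `q` even: common set-up and type `a_s`
-/

namespace Cfsg.Agent.Lib.Helper37.InvFrame

open Matrix Module Cfsg.Agent.S2168 Cfsg.Agent.Lib.Helper36 Cfsg.Agent.Lib.Helper43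

variable {F : Type*} [Field F] [Fintype F] [CharP F 2]

theorem card_plus_index (m : ℕ) : Fintype.card (Fin m ⊕ Fin m) = 2 * m := by
  rw [Fintype.card_sum, Fintype.card_fin]; ring

theorem coe_mul_self_of_sq {m : ℕ} (x : ↥(Cfsg.isometryGroup F (⇑(plusQF m F)))) (hx : x ^ 2 = 1) :
    ((x : GL (Fin m ⊕ Fin m) F) : Matrix (Fin m ⊕ Fin m) (Fin m ⊕ Fin m) F) *
      ((x : GL (Fin m ⊕ Fin m) F) : Matrix (Fin m ⊕ Fin m) (Fin m ⊕ Fin m) F) = 1 := by
  have := congrArg (fun y : ↥(Cfsg.isometryGroup F (⇑(plusQF m F))) =>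
    ((y : GL (Fin m ⊕ Fin m) F) : Matrix (Fin m ⊕ Fin m) (Fin m ⊕ Fin m) F)) hx
  simpa [pow_two] using this

theorem card_G {q : ℕ} (hF : Fintype.card F = q) (m : ℕ) (hm : 1 ≤ m) :
    Nat.card ↥(Cfsg.isometryGroup F (⇑(plusQF m F))) = 2 * G0 q m := by
  have h := Cfsg.Agent.Lib.Helper5.card_isometryGroup_plus (F := F) hF m hm
  unfold G0
  rw [← mul_assoc, ← mul_assoc]
  exact h

theorem hF_plus {m : ℕ} (h : Fintype.card F ≠ 2 ∨ m ≠ 2) :
    (∀ a b : F, ∃ x : F, x ≠ a ∧ x ≠ b) ∨ Fintype.card (Fin m ⊕ Fin m) ≠ 4 := by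
  apply hF_of_card
  rcases h with h | h
  · exact Or.inl h
  · right
    rw [card_plus_index]
    omega

/-- Type `a_s`, generic form: the facts about the plus form enter as hypotheses. -/
theorem main_a_gen {ι : Type} [Fintype ι] [DecidableEq ι] (Q : QuadraticForm F (ι → F))
    (hQ : (QuadraticMap.polarBilin Q).Nondegenerate) {q : ℕ} (hF : Fintype.card F = q) {m s : ℕ}
    (hι : Fintype.card ι = 2 * m)
    (hFF : (∀ a b : F, ∃ x : F, x ≠ a ∧ x ≠ b) ∨ Fintype.card ι ≠ 4)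
    (hcard0 : ∀ s, s ≤ m → Nat.card (Frame Q (fun _ : Fin s => (0 : F))) =
      ∏ j ∈ Finset.range s, k0 q m j)
    (hcardG : 1 ≤ m → Nat.card ↥(Cfsg.isometryGroup F (⇑Q)) = 2 * G0 q m)
    (hnotts : ∀ y : ↥(Cfsg.isometryGroup F (⇑Q)), orderOf y = 2 →
      ¬ (OrthTypeA Q ((y : GL ι F) : Matrix ι ι F) ∧
        (((y : GL ι F) : Matrix ι ι F) - 1).rank = m) →
      ¬ IsTS Q (fixSp ((y : GL ι F) : Matrix ι ι F).mulVecLin))
    (x : ↥(Cfsg.isometryGroup F (⇑Q))) (hx : x ^ 2 = 1) (hx1 : x ≠ 1)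
    (hs : (((x : GL ι F) : Matrix ι ι F) - 1).rank = s)
    (halt : ∀ v : ι → F, Q ((((x : GL ι F) : Matrix ι ι F) - 1) *ᵥ v) = 0) :
    Nat.card {g : ↥(Cfsg.Omega F (⇑Q)) //
        (g : ↥(Cfsg.isometryGroup F (⇑Q))) * x = x * (g : ↥(Cfsg.isometryGroup F (⇑Q)))} =
      q ^ E0 m s * (q ^ ((s / 2) ^ 2) * ∏ i ∈ Finset.range (s / 2), (q ^ (2 * (i + 1)) - 1)) *
        (if s = m then 1 else R0 q m s) := by
  classical
  set A := ((x : GL ι F) : Matrix ι ι F) with hA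
  have hx2 : A * A = 1 := by
    have := congrArg (fun y : ↥(Cfsg.isometryGroup F (⇑Q)) => ((y : GL ι F) : Matrix ι ι F)) hx
    simpa [pow_two] using this
  have hq1 : 1 ≤ q := by rw [← hF]; exact Fintype.card_pos
  obtain ⟨l, hl, b₀, hb₀⟩ := exists_frame_alt Q hQ x hx2 s hs halt
  -- the counting identity
  have hid := card_centralizer_mul_card_frame Q (fun _ : Fin l ⊕ Fin l => (0 : F)) hQ
    (Matrix.J (Fin l) F) (Matrix.J (Fin l) F) (J_mul_J_char_two l)
    (fun _ _ j => by simp) b₀ x hb₀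
  -- reindex the frames
  have hsl : s = l + l := by omega
  set e : Fin s ≃ Fin l ⊕ Fin l := (finCongr hsl).trans finSumFinEquiv.symm with he
  have hfr := card_frame_congr Q e (0 : F)
  have hb₀' : IsFrame Q (fun _ : Fin s => (0 : F)) (b₀.1 ∘ e) :=
    ⟨b₀.2.1.comp e e.injective, fun i j => b₀.2.2.1 (e i) (e j), fun i => b₀.2.2.2 (e i)⟩
  have hsm2 := two_mul_le_of_isFrame Q hQ 0 (b₀.1 ∘ e) hb₀'
  rw [hι] at hsm2
  have hsm : s ≤ m := by omega
  have hM := hcard0 s hsm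
  rw [hfr, hM] at hid
  -- the stabiliser of `J`
  have hSp : Nat.card {h : Matrix (Fin l ⊕ Fin l) (Fin l ⊕ Fin l) F //
      h * Matrix.J (Fin l) F * hᵀ = Matrix.J (Fin l) F} =
      q ^ (l ^ 2) * ∏ i ∈ Finset.range l, (q ^ (2 * (i + 1)) - 1) := by
    have hSp0 := Cfsg.Agent.S0245.result hF l
    rw [← hSp0]
    apply Nat.card_congr
    exact
      { toFun := fun B => ⟨B.1, SymplecticGroup.mem_iff.mpr B.2⟩
        invFun := fun B => ⟨B.1, SymplecticGroup.mem_iff.mp B.2⟩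
        left_inv := fun _ => rfl
        right_inv := fun _ => rfl }
  rw [hSp] at hid
  have hl2 : s / 2 = l := by omega
  rw [hl2]
  -- `s ≥ 1`
  have hs1 : 1 ≤ s := by
    rcases Nat.eq_zero_or_pos s with h0 | h0
    · exfalso
      apply hx1
      have hz : A - 1 = 0 := matrix_eq_zero_of_rank_eq_zero _ (hs.trans h0)
      apply Subtype.ext
      apply Units.ext
      show A = 1
      exact sub_eq_zero.mp hz
    · exact h0
  have hm1 : 1 ≤ m := by omega
  rw [hcardG hm1] at hid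
  have hMpos : 0 < ∏ j ∈ Finset.range s, k0 q m j := by
    rcases Nat.eq_zero_or_pos (∏ j ∈ Finset.range s, k0 q m j) with h0 | h0
    · exfalso
      have h1 : Nat.card (Frame Q (fun _ : Fin s => (0 : F))) = 0 := by rw [hM, h0]
      have hne : Nonempty (Frame Q (fun _ : Fin s => (0 : F))) := ⟨⟨b₀.1 ∘ e, hb₀'⟩⟩
      have h2 := Nat.card_pos (α := Frame Q (fun _ : Fin s => (0 : F)))
      omega
    · exact h0
  have hAtype : OrthTypeA Q A := by
    intro v
    rw [← map_sub_one Q x hx2]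
    exact halt v
  obtain ⟨Sp, hSpd⟩ : ∃ Sp, Sp = q ^ (l ^ 2) * ∏ i ∈ Finset.range l, (q ^ (2 * (i + 1)) - 1) :=
    ⟨_, rfl⟩
  rw [← hSpd] at hid ⊢
  by_cases hsm' : s = m
  · rw [if_pos hsm', mul_one]
    have hle : ∀ c : ↥(Cfsg.isometryGroup F (⇑Q)), c * x = x * c → c ∈ Cfsg.Omega F (⇑Q) := by
      intro c hc
      exact centralizer_le_omega Q hQ hFF hsq_of_char_two x c hAtype
        (by rw [hs, hι, hsm']) hc
    rw [card_omega_centralizer_of_le Q x hle]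
    have har := arith_a_eq q m hq1 hm1
    rw [hsm'] at hid hMpos ⊢
    apply Nat.eq_of_mul_eq_mul_right hMpos
    rw [hid, ← har]
    ring
  · rw [if_neg hsm']
    have hslt : s < m := by omega
    have hord : orderOf x = 2 := orderOf_eq_prime hx hx1
    have hnts := hnotts x hord (by
      rintro ⟨_, h2⟩
      rw [← hA, hs] at h2
      exact hsm' h2)
    have h2 := card_omega_centralizer_not_ts Q hQ hFF x hnts
    have har := arith_a_lt q m hq1 s hslt
    rw [← h2, ← har] at hid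
    have h2M : 0 < 2 * ∏ j ∈ Finset.range s, k0 q m j := by omega
    apply Nat.eq_of_mul_eq_mul_right h2M
    calc _ = 2 * Nat.card {g : ↥(Cfsg.Omega F (⇑Q)) //
          (g : ↥(Cfsg.isometryGroup F (⇑Q))) * x = x * (g : ↥(Cfsg.isometryGroup F (⇑Q)))} *
          ∏ j ∈ Finset.range s, k0 q m j := by ring
      _ = _ := by rw [hid]; ring

/-- Type `a_s`. -/
theorem main_a {q : ℕ} (hF : Fintype.card F = q) {m s : ℕ} (h : Fintype.card F ≠ 2 ∨ m ≠ 2)
    (x : ↥(Cfsg.isometryGroup F (⇑(plusQF m F)))) (hx : x ^ 2 = 1) (hx1 : x ≠ 1)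
    (hs : (((x : GL (Fin m ⊕ Fin m) F) : Matrix (Fin m ⊕ Fin m) (Fin m ⊕ Fin m) F) - 1).rank = s)
    (halt : ∀ v : Fin m ⊕ Fin m → F, plusQF m F
      ((((x : GL (Fin m ⊕ Fin m) F) : Matrix (Fin m ⊕ Fin m) (Fin m ⊕ Fin m) F) - 1) *ᵥ v) = 0) :
    Nat.card {g : ↥(Cfsg.Omega F (⇑(plusQF m F))) //
        (g : ↥(Cfsg.isometryGroup F (⇑(plusQF m F)))) * x =
          x * (g : ↥(Cfsg.isometryGroup F (⇑(plusQF m F))))} =
      q ^ E0 m s * (q ^ ((s / 2) ^ 2) * ∏ i ∈ Finset.range (s / 2), (q ^ (2 * (i + 1)) - 1)) *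
        (if s = m then 1 else R0 q m s) := by
  refine main_a_gen (plusQF m F) (plusQF_nondeg m F) hF (card_plus_index m) (hF_plus h) ?_
    (fun hm1 => card_G hF m hm1) (fun y => Cfsg.Agent.S2597.not_ts_fixSp y) x hx hx1 hs halt
  intro s' hs'
  rw [← hF]
  exact card_frame_zero_plus m s' hs'

end Cfsg.Agent.Lib.Helper37.InvFrame
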