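import Mathlib
import Cfsg.Agent.S0245
import Cfsg.Agent.Lib.Helper45.SpInv.Congr
import Cfsg.Agent.Lib.Helper37.InvArithB

set_option autoImplicit false
set_option linter.unusedSectionVars false

/-!
# The number of orthogonal matrices `h hᵀ = 1` over a finite field of characteristic two
-/

namespace Cfsg.Agent.Lib.Helper37.InvFrame

open Matrix Cfsg.Agent.Lib.Helper45.SpInv

variable {F : Type*} [Field F]

/-- Congruent forms have stabilisers of the same order. -/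
theorem card_stab_congr {σ : Type*} [Fintype σ] [DecidableEq σ] (K₁ K₂ K₂' A : Matrix σ σ F)
    (hA : A * K₁ * Aᵀ = K₂) (hK₂ : K₂ * K₂' = 1) :
    Nat.card {h : Matrix σ σ F // h * K₁ * hᵀ = K₁} =
      Nat.card {h : Matrix σ σ F // h * K₂ * hᵀ = K₂} := by
  obtain ⟨B, hB⟩ : ∃ B, B = K₁ * Aᵀ * K₂' := ⟨_, rfl⟩
  have hAB : A * B = 1 := by
    rw [hB]
    calc A * (K₁ * Aᵀ * K₂') = (A * K₁ * Aᵀ) * K₂' := by simp only [Matrix.mul_assoc]
      _ = 1 := by rw [hA, hK₂]
  have hBA : B * A = 1 := mul_eq_one_comm.mp hAB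
  have hABt : Bᵀ * Aᵀ = 1 := by rw [← transpose_mul, hAB, transpose_one]
  have hBAt : Aᵀ * Bᵀ = 1 := by rw [← transpose_mul, hBA, transpose_one]
  have hK₁ : B * K₂ * Bᵀ = K₁ := by
    rw [← hA]
    calc B * (A * K₁ * Aᵀ) * Bᵀ = (B * A) * K₁ * (Aᵀ * Bᵀ) := by simp only [Matrix.mul_assoc]
      _ = K₁ := by rw [hBA, hBAt, Matrix.one_mul, Matrix.mul_one]
  apply Nat.card_congr
  refine
    { toFun := fun h => ⟨A * h.1 * B, ?_⟩
      invFun := fun g => ⟨B * g.1 * A, ?_⟩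
      left_inv := fun h => ?_
      right_inv := fun g => ?_ }
  · rw [transpose_mul, transpose_mul]
    calc A * h.1 * B * K₂ * (Bᵀ * (h.1ᵀ * Aᵀ)) = A * (h.1 * (B * K₂ * Bᵀ) * h.1ᵀ) * Aᵀ := by
          simp only [Matrix.mul_assoc]
      _ = K₂ := by rw [hK₁, h.2, hA]
  · rw [transpose_mul, transpose_mul]
    calc B * g.1 * A * K₁ * (Aᵀ * (g.1ᵀ * Bᵀ)) = B * (g.1 * (A * K₁ * Aᵀ) * g.1ᵀ) * Bᵀ := by
          simp only [Matrix.mul_assoc]
      _ = K₁ := by rw [hA, g.2, hK₁]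
  · apply Subtype.ext
    show B * (A * h.1 * B) * A = h.1
    calc B * (A * h.1 * B) * A = (B * A) * h.1 * (B * A) := by simp only [Matrix.mul_assoc]
      _ = h.1 := by rw [hBA, Matrix.one_mul, Matrix.mul_one]
  · apply Subtype.ext
    show A * (B * g.1 * A) * B = g.1
    calc A * (B * g.1 * A) * B = (A * B) * g.1 * (A * B) := by simp only [Matrix.mul_assoc]
      _ = g.1 := by rw [hAB, Matrix.one_mul, Matrix.mul_one]

/-- Reindexing. -/
theorem card_stab_reindex {σ τ : Type*} [Fintype σ] [DecidableEq σ] [Fintype τ] [DecidableEq τ]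
    (e : σ ≃ τ) :
    Nat.card {h : Matrix σ σ F // h * 1 * hᵀ = 1} =
      Nat.card {h : Matrix τ τ F // h * 1 * hᵀ = 1} := by
  apply Nat.card_congr
  refine Equiv.subtypeEquiv (Matrix.reindex e e) ?_
  intro h
  rw [Matrix.mul_one, Matrix.mul_one, Matrix.reindex_apply, Matrix.transpose_submatrix,
    Matrix.submatrix_mul_equiv]
  constructor
  · intro h1
    rw [h1, Matrix.submatrix_one_equiv]
  · intro h1
    have h2 := congrArg (fun M => M.submatrix e e) h1
    simp only [Matrix.submatrix_submatrix, Equiv.symm_comp_self, Matrix.submatrix_id_id,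
      Matrix.submatrix_one_equiv] at h2
    exact h2

variable [Fintype F] [CharP F 2]

theorem card_stab_one_odd {q : ℕ} (hF : Fintype.card F = q) (s k : ℕ) (hs : s = 2 * k + 1) :
    Nat.card {h : Matrix (Fin s) (Fin s) F // h * 1 * hᵀ = 1} = Sp0 q k := by
  have hc : Fintype.card (Fin s) = Fintype.card (Unit ⊕ (Fin k ⊕ Fin k)) := by
    simp only [Fintype.card_fin, Fintype.card_sum, Fintype.card_unit]
    omega
  rw [card_stab_reindex (Fintype.equivOfCardEq hc)]
  obtain ⟨A, hA⟩ := exists_congr_formB (F := F) (k := k)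
    (S := (1 : Matrix (Unit ⊕ (Fin k ⊕ Fin k)) (Unit ⊕ (Fin k ⊕ Fin k)) F)) (S' := 1)
    (transpose_one) (Matrix.one_mul 1) ⟨Sum.inl (), by simp⟩
  rw [card_stab_congr 1 (formB k F) (formB k F) A hA formB_mul_self, card_isomB,
    Cfsg.Agent.S0245.result hF k]
  rfl

theorem card_stab_one_even {q : ℕ} (hF : Fintype.card F = q) (s k : ℕ) (hs : s = 2 * k)
    (hk : 1 ≤ k) :
    Nat.card {h : Matrix (Fin s) (Fin s) F // h * 1 * hᵀ = 1} =
      q ^ (2 * k - 1) * Sp0 q (k - 1) := by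
  have hc : Fintype.card (Fin s) = Fintype.card (Fin k ⊕ Fin k) := by
    simp only [Fintype.card_fin, Fintype.card_sum]
    omega
  rw [card_stab_reindex (Fintype.equivOfCardEq hc)]
  set c : Fin k ⊕ Fin k := Sum.inl ⟨0, by omega⟩ with hcdef
  obtain ⟨A, hA⟩ := exists_congr_formC (F := F) (k := k) c
    (S := (1 : Matrix (Fin k ⊕ Fin k) (Fin k ⊕ Fin k) F)) (S' := 1)
    (transpose_one) (Matrix.one_mul 1) ⟨c, by simp⟩
  obtain ⟨K', hK'⟩ : ∃ K' : Matrix (Fin k ⊕ Fin k) (Fin k ⊕ Fin k) F, formC k F c * K' = 1 :=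
    ⟨_, formC_mul_inv c⟩
  rw [card_stab_congr 1 (formC k F c) K' A hA hK', card_isomC hk c, hF]
  unfold Sp0
  congr 2
  omega

end Cfsg.Agent.Lib.Helper37.InvFrame
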