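import Mathlib
import Cfsg.Agent.Lib.Helper37.InvMainA
import Cfsg.Agent.Lib.Helper37.InvStab

set_option autoImplicit false
set_option linter.unusedSectionVars false

/-!
# Centraliser orders of involutions of `O⁺_{2m}(q)`, `q` even: types `b_s` and `c_s`
-/

namespace Cfsg.Agent.Lib.Helper37.InvFrame

open Matrix Module Cfsg.Agent.S2168 Cfsg.Agent.Lib.Helper36 Cfsg.Agent.Lib.Helper43

variable {F : Type*} [Field F] [Fintype F] [CharP F 2]

/-- Types `b_s`, `c_s`, generic form. -/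
theorem main_bc_gen {ι : Type} [Fintype ι] [DecidableEq ι] (Q : QuadraticForm F (ι → F))
    (hQ : (QuadraticMap.polarBilin Q).Nondegenerate) {q : ℕ} {m s : ℕ}
    (hι : Fintype.card ι = 2 * m)
    (hFF : (∀ a b : F, ∃ x : F, x ≠ a ∧ x ≠ b) ∨ Fintype.card ι ≠ 4)
    (hcard1 : ∀ t, Nat.card (Frame Q (fun _ : Fin (t + 1) => (1 : F))) = N1 q m t)
    (hcardG : 1 ≤ m → Nat.card ↥(Cfsg.isometryGroup F (⇑Q)) = 2 * G0 q m)
    (x : ↥(Cfsg.isometryGroup F (⇑Q))) (hx : x ^ 2 = 1)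
    (hs : (((x : GL ι F) : Matrix ι ι F) - 1).rank = s)
    (hna : ∃ v : ι → F, Q ((((x : GL ι F) : Matrix ι ι F) - 1) *ᵥ v) ≠ 0) (a : ℕ)
    (ha : Nat.card {h : Matrix (Fin s) (Fin s) F // h * 1 * hᵀ = 1} = a) :
    Nat.card {g : ↥(Cfsg.Omega F (⇑Q)) //
        (g : ↥(Cfsg.isometryGroup F (⇑Q))) * x = x * (g : ↥(Cfsg.isometryGroup F (⇑Q)))} =
      a * (q ^ E1 m s * Sp0 q (m - s)) ∧ 1 ≤ s ∧ s ≤ m := by
  classical
  set A := ((x : GL ι F) : Matrix ι ι F) with hA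
  have hx2 : A * A = 1 := by
    have := congrArg (fun y : ↥(Cfsg.isometryGroup F (⇑Q)) => ((y : GL ι F) : Matrix ι ι F)) hx
    simpa [pow_two] using this
  obtain ⟨b₀, hb₀⟩ := exists_frame_nonalt Q hQ x hx2 s hs hna
  -- `s ≥ 1`
  have hs1 : 1 ≤ s := by
    rcases Nat.eq_zero_or_pos s with h0 | h0
    · exfalso
      obtain ⟨v, hv⟩ := hna
      have hz : A - 1 = 0 := matrix_eq_zero_of_rank_eq_zero _ (hs.trans h0)
      rw [hz, zero_mulVec, map_zero] at hv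
      exact hv rfl
    · exact h0
  have hsm2 := two_mul_le_of_isFrame Q hQ 1 b₀.1 b₀.2
  rw [hι] at hsm2
  have hsm : s ≤ m := by omega
  have hm1 : 1 ≤ m := by omega
  refine ⟨?_, hs1, hsm⟩
  -- the counting identity
  have hid := card_centralizer_mul_card_frame Q (fun _ : Fin s => (1 : F)) hQ
    (1 : Matrix (Fin s) (Fin s) F) 1 (Matrix.one_mul 1)
    (fun h hh j => by
      rw [Matrix.mul_one] at hh
      have h1 : hᵀ * h = 1 := mul_eq_one_comm.mp hh
      have h2 := congrFun (congrFun h1 j) j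
      rw [Matrix.mul_apply, Matrix.one_apply_eq] at h2
      calc ∑ i, h i j ^ 2 * (1 : F) = ∑ i, hᵀ j i * h i j := by
            apply Finset.sum_congr rfl
            intro i _
            rw [Matrix.transpose_apply, mul_one, pow_two]
        _ = 1 := h2) b₀ x hb₀
  rw [ha, hcardG hm1] at hid
  obtain ⟨t, rfl⟩ : ∃ t, s = t + 1 := ⟨s - 1, by omega⟩
  rw [hcard1 t] at hid
  -- `x` fixes a non-singular vector
  have hnts : ¬ IsTS Q (fixSp A.mulVecLin) := by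
    intro hts
    obtain ⟨v, hv⟩ := hna
    apply hv
    apply hts
    rw [mem_fixSp, mulVecLin_apply]
    have hNN := sub_one_mul_self Q x hx2
    have h1 : A *ᵥ ((A - 1) *ᵥ v) = (A - 1) *ᵥ v + (A - 1) *ᵥ ((A - 1) *ᵥ v) := by
      rw [sub_mulVec A 1 ((A - 1) *ᵥ v), one_mulVec, add_sub_cancel]
    rw [h1, mulVec_mulVec, hNN, zero_mulVec, add_zero]
  have h2 := card_omega_centralizer_not_ts Q hQ hFF x hnts
  have har := arith_b q m t hsm
  have hNpos : 0 < N1 q m t := by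
    rcases Nat.eq_zero_or_pos (N1 q m t) with h0 | h0
    · exfalso
      have h1 : Nat.card (Frame Q (fun _ : Fin (t + 1) => (1 : F))) = 0 := by rw [hcard1 t, h0]
      have hne : Nonempty (Frame Q (fun _ : Fin (t + 1) => (1 : F))) := ⟨b₀⟩
      have h3 := Nat.card_pos (α := Frame Q (fun _ : Fin (t + 1) => (1 : F)))
      omega
    · exact h0
  rw [← h2, ← har] at hid
  have h2N : 0 < 2 * N1 q m t := by omega
  apply Nat.eq_of_mul_eq_mul_right h2N
  calc _ = 2 * Nat.card {g : ↥(Cfsg.Omega F (⇑Q)) //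
        (g : ↥(Cfsg.isometryGroup F (⇑Q))) * x = x * (g : ↥(Cfsg.isometryGroup F (⇑Q)))} *
        N1 q m t := by ring
    _ = _ := by rw [hid]; ring

theorem card_frame_one_plus' {q : ℕ} (hF : Fintype.card F = q) (m : ℕ) (t : ℕ) :
    Nat.card (Frame (plusQF m F) (fun _ : Fin (t + 1) => (1 : F))) = N1 q m t := by
  rw [card_frame_one_plus m t, hF]
  rfl

/-- Type `b_s` (odd rank). -/
theorem main_b {q : ℕ} (hF : Fintype.card F = q) {m s : ℕ} (h : Fintype.card F ≠ 2 ∨ m ≠ 2)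
    (x : ↥(Cfsg.isometryGroup F (⇑(plusQF m F)))) (hx : x ^ 2 = 1)
    (hs : (((x : GL (Fin m ⊕ Fin m) F) : Matrix (Fin m ⊕ Fin m) (Fin m ⊕ Fin m) F) - 1).rank = s)
    (hodd : Odd s) :
    Nat.card {g : ↥(Cfsg.Omega F (⇑(plusQF m F))) //
        (g : ↥(Cfsg.isometryGroup F (⇑(plusQF m F)))) * x =
          x * (g : ↥(Cfsg.isometryGroup F (⇑(plusQF m F))))} =
      q ^ E1 m s * Sp0 q ((s - 1) / 2) * Sp0 q (m - s) := by
  have hx2 := coe_mul_self_of_sq x hx
  have hna : ∃ v : Fin m ⊕ Fin m → F, plusQF m F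
      ((((x : GL (Fin m ⊕ Fin m) F) : Matrix (Fin m ⊕ Fin m) (Fin m ⊕ Fin m) F) - 1) *ᵥ v) ≠ 0 := by
    by_contra hcon
    push Not at hcon
    have hev := even_rank_of_alt (plusQF m F) (plusQF_nondeg m F) x hx2 hcon
    rw [hs] at hev
    exact (Nat.not_even_iff_odd.mpr hodd) hev
  obtain ⟨k, hk⟩ := hodd
  have ha := card_stab_one_odd (F := F) hF s k hk
  obtain ⟨hmain, _, _⟩ := main_bc_gen (plusQF m F) (plusQF_nondeg m F) (card_plus_index m) (hF_plus h)
    (card_frame_one_plus' hF m) (fun hm1 => card_G hF m hm1) x hx hs hna (Sp0 q k) ha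
  rw [hmain]
  have hk2 : (s - 1) / 2 = k := by omega
  rw [hk2]
  ring

/-- Type `c_s` (even rank, non-alternating). -/
theorem main_c {q : ℕ} (hF : Fintype.card F = q) {m s : ℕ} (h : Fintype.card F ≠ 2 ∨ m ≠ 2)
    (x : ↥(Cfsg.isometryGroup F (⇑(plusQF m F)))) (hx : x ^ 2 = 1)
    (hs : (((x : GL (Fin m ⊕ Fin m) F) : Matrix (Fin m ⊕ Fin m) (Fin m ⊕ Fin m) F) - 1).rank = s)
    (heven : Even s)
    (hna : ∃ v : Fin m ⊕ Fin m → F, plusQF m F
      ((((x : GL (Fin m ⊕ Fin m) F) : Matrix (Fin m ⊕ Fin m) (Fin m ⊕ Fin m) F) - 1) *ᵥ v) ≠ 0) :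
    Nat.card {g : ↥(Cfsg.Omega F (⇑(plusQF m F))) //
        (g : ↥(Cfsg.isometryGroup F (⇑(plusQF m F)))) * x =
          x * (g : ↥(Cfsg.isometryGroup F (⇑(plusQF m F))))} =
      q ^ (2 * m * (s - 1) - (3 * s ^ 2 - 5 * s) / 2 - 1) * Sp0 q ((s - 2) / 2) * Sp0 q (m - s) := by
  obtain ⟨k, hk⟩ := heven
  have hk2 : s = 2 * k := by omega
  -- first get `1 ≤ s` from the generic statement with a dummy count
  obtain ⟨_, hs1, hsm⟩ := main_bc_gen (plusQF m F) (plusQF_nondeg m F) (card_plus_index m)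
    (hF_plus h) (card_frame_one_plus' hF m) (fun hm1 => card_G hF m hm1) x hx hs hna _ rfl
  have hk1 : 1 ≤ k := by omega
  have ha := card_stab_one_even (F := F) hF s k hk2 hk1
  obtain ⟨hmain, _, _⟩ := main_bc_gen (plusQF m F) (plusQF_nondeg m F) (card_plus_index m) (hF_plus h)
    (card_frame_one_plus' hF m) (fun hm1 => card_G hF m hm1) x hx hs hna _ ha
  rw [hmain]
  have hk3 : (s - 2) / 2 = k - 1 := by omega
  rw [hk3]
  have hE := E1_c m k hk1 (by omega)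
  rw [← hk2] at hE
  rw [← hE, pow_add]
  have hk4 : s - 1 = 2 * k - 1 := by omega
  rw [hk4]
  ring

end Cfsg.Agent.Lib.Helper37.InvFrame
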