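/-
helper37 library: binomial arithmetic for the class counts in `O⁺_2m(q)` and `O⁻_2m(q)`.
-/
import Mathlib

set_option autoImplicit false

namespace Cfsg.Agent.Lib.Helper37.OrthEven

theorem pascal_sub (k s : ℕ) (hk : 1 ≤ k) (hs : 1 ≤ s) :
    (k + s).choose s - (k + s - 1).choose (s - 1) = (k - 1 + s).choose s := by
  obtain ⟨k', rfl⟩ : ∃ k', k = k' + 1 := ⟨k - 1, by omega⟩
  obtain ⟨s', rfl⟩ : ∃ s', s = s' + 1 := ⟨s - 1, by omega⟩
  have e1 : k' + 1 + (s' + 1) = (k' + s' + 1) + 1 := by omega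
  have e2 : k' + 1 + (s' + 1) - 1 = k' + s' + 1 := by omega
  have e3 : s' + 1 - 1 = s' := by omega
  have e4 : k' + 1 - 1 + (s' + 1) = k' + s' + 1 := by omega
  rw [e2, e3, e4, e1, Nat.choose_succ_succ (k' + s' + 1) s', Nat.add_sub_cancel_left]

theorem div_pred_of_dvd (a b : ℕ) (ha : 1 ≤ a) (_hb : 0 < b) (h : b ∣ a) :
    (a - 1) / b = a / b - 1 := by
  obtain ⟨a', rfl⟩ : ∃ a', a = a' + 1 := ⟨a - 1, by omega⟩
  rw [Nat.add_sub_cancel, Nat.succ_div, if_pos h, Nat.add_sub_cancel]

theorem div_pred_of_not_dvd (a b : ℕ) (ha : 1 ≤ a) (h : ¬ b ∣ a) :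
    (a - 1) / b = a / b := by
  obtain ⟨a', rfl⟩ : ∃ a', a = a' + 1 := ⟨a - 1, by omega⟩
  rw [Nat.add_sub_cancel, Nat.succ_div, if_neg h]
  omega

theorem arith_plus (m i t : ℕ) (hm : 1 ≤ m) (hi : 0 < i) (ht : 0 < t) (cond : Prop)
    [Decidable cond] (hcond : cond ↔ i ∣ m) :
    (if Odd i then ((if cond then 2 * m else 2 * m - 1) / (2 * i) + t / 2).choose (t / 2)
      else ((if cond then 2 * m else 2 * m - 1) / i + t).choose t) =
    if Odd i then (m / i + t / 2).choose (t / 2)
      else (2 * m / i + t).choose t -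
        (if i ∣ 2 * m ∧ Odd (2 * m / i) then (2 * m / i + t - 1).choose (t - 1) else 0) := by
  by_cases hodd : Odd i
  · rw [if_pos hodd, if_pos hodd]
    by_cases hc : cond
    · rw [if_pos hc, Nat.mul_div_mul_left _ _ (by norm_num : 0 < 2)]
    · rw [if_neg hc]
      have h1 : (2 * m - 1) / (2 * i) = (m - 1) / i := by
        rw [← Nat.div_div_eq_div_mul]
        congr 1
        omega
      rw [h1, div_pred_of_not_dvd m i hm (fun h => hc (hcond.2 h))]
  · rw [if_neg hodd, if_neg hodd]
    have heven : Even i := Nat.not_odd_iff_even.1 hodd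
    by_cases hc : cond
    · rw [if_pos hc]
      have hdm : i ∣ m := hcond.1 hc
      have h1 : ¬ (i ∣ 2 * m ∧ Odd (2 * m / i)) := by
        rintro ⟨-, h2⟩
        obtain ⟨u, rfl⟩ := hdm
        rw [show 2 * (i * u) = i * (2 * u) by ring, Nat.mul_div_cancel_left _ hi] at h2
        exact (Nat.not_odd_iff_even.2 (even_two_mul u)) h2
      rw [if_neg h1, Nat.sub_zero]
    · rw [if_neg hc]
      have hdm : ¬ i ∣ m := fun h => hc (hcond.2 h)
      by_cases h2 : i ∣ 2 * m
      · have hoddq : Odd (2 * m / i) := by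
          obtain ⟨j, rfl⟩ := heven
          obtain ⟨u, hu⟩ := h2
          have hu' : m = j * u := by
            have : 2 * m = 2 * (j * u) := by rw [hu]; ring
            omega
          have h3 : 2 * m / (j + j) = u := by
            rw [hu, Nat.mul_div_cancel_left _ hi]
          rw [h3]
          by_contra hnu
          rw [Nat.not_odd_iff_even] at hnu
          obtain ⟨w, rfl⟩ := hnu
          apply hdm
          exact ⟨w, by rw [hu']; ring⟩
        rw [if_pos ⟨h2, hoddq⟩, div_pred_of_dvd (2 * m) i (by omega) hi h2]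
        have hk : 1 ≤ 2 * m / i := by
          rcases hoddq with ⟨w, hw⟩
          omega
        rw [pascal_sub (2 * m / i) t hk ht]
      · have h1 : ¬ (i ∣ 2 * m ∧ Odd (2 * m / i)) := fun h => h2 h.1
        rw [if_neg h1, Nat.sub_zero, div_pred_of_not_dvd (2 * m) i (by omega) h2]

theorem arith_minus (m i t : ℕ) (hm : 1 ≤ m) (hi : 0 < i) (ht : 0 < t)
    (ht2 : Odd i → 1 ≤ t / 2) (cond : Prop)
    [Decidable cond] (hcond : cond ↔ ¬ i ∣ m) :
    (if Odd i then ((if cond then 2 * m else 2 * m - 1) / (2 * i) + t / 2).choose (t / 2)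
      else ((if cond then 2 * m else 2 * m - 1) / i + t).choose t) =
    if Odd i then (m / i + t / 2).choose (t / 2) -
        (if i ∣ m then (m / i + t / 2 - 1).choose (t / 2 - 1) else 0)
      else (2 * m / i + t).choose t -
        (if i ∣ 2 * m ∧ Even (2 * m / i) then (2 * m / i + t - 1).choose (t - 1) else 0) := by
  by_cases hodd : Odd i
  · rw [if_pos hodd, if_pos hodd]
    by_cases hc : cond
    · rw [if_pos hc, Nat.mul_div_mul_left _ _ (by norm_num : 0 < 2), if_neg (hcond.1 hc),
        Nat.sub_zero]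
    · rw [if_neg hc]
      have hdm : i ∣ m := by
        by_contra h
        exact hc (hcond.2 h)
      have h1 : (2 * m - 1) / (2 * i) = (m - 1) / i := by
        rw [← Nat.div_div_eq_div_mul]
        congr 1
        omega
      rw [h1, if_pos hdm, div_pred_of_dvd m i hm hi hdm]
      have hk : 1 ≤ m / i := by
        obtain ⟨u, rfl⟩ := hdm
        rw [Nat.mul_div_cancel_left _ hi]
        rcases Nat.eq_zero_or_pos u with h | h
        · rw [h] at hm; omega
        · exact h
      rw [pascal_sub (m / i) (t / 2) hk (ht2 hodd)]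
  · rw [if_neg hodd, if_neg hodd]
    have heven : Even i := Nat.not_odd_iff_even.1 hodd
    by_cases hc : cond
    · rw [if_pos hc]
      have hdm : ¬ i ∣ m := hcond.1 hc
      have h1 : ¬ (i ∣ 2 * m ∧ Even (2 * m / i)) := by
        rintro ⟨h2, h3⟩
        apply hdm
        obtain ⟨u, hu⟩ := h2
        rw [hu, Nat.mul_div_cancel_left _ hi] at h3
        obtain ⟨w, rfl⟩ := h3
        exact ⟨w, by
          have : 2 * m = 2 * (i * w) := by rw [hu]; ring
          omega⟩
      rw [if_neg h1, Nat.sub_zero]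
    · rw [if_neg hc]
      have hdm : i ∣ m := by
        by_contra h
        exact hc (hcond.2 h)
      have h2 : i ∣ 2 * m := Dvd.dvd.mul_left hdm 2
      have hevq : Even (2 * m / i) := by
        obtain ⟨u, rfl⟩ := hdm
        rw [show 2 * (i * u) = i * (2 * u) by ring, Nat.mul_div_cancel_left _ hi]
        exact even_two_mul u
      rw [if_pos ⟨h2, hevq⟩, div_pred_of_dvd (2 * m) i (by omega) hi h2]
      have hk : 1 ≤ 2 * m / i := by
        obtain ⟨u, rfl⟩ := hdm
        rw [show 2 * (i * u) = i * (2 * u) by ring, Nat.mul_div_cancel_left _ hi]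
        rcases Nat.eq_zero_or_pos u with h | h
        · rw [h] at hm; omega
        · omega
      rw [pascal_sub (2 * m / i) t hk ht]

end Cfsg.Agent.Lib.Helper37.OrthEven
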