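/-
helper37 library: binomial arithmetic for the class count in `O⁻_2m(q)`.
-/
import Mathlib
import Cfsg.Agent.Lib.Helper37.OrthEvenArith

set_option autoImplicit false

namespace Cfsg.Agent.Lib.Helper37.OrthEven

theorem arith_minus' (m i t : ℕ) (hm : 1 ≤ m) (hi : 0 < i) (ht : 0 < t)
    (ht2 : Odd i → 1 ≤ t / 2) (cond : Prop)
    [Decidable cond] (hcond : cond ↔ (i ∣ 2 * m ∧ ¬ i ∣ m)) :
    (if Odd i then ((if cond then 2 * m else 2 * m - 1) / (2 * i) + t / 2).choose (t / 2)
      else ((if cond then 2 * m else 2 * m - 1) / i + t).choose t) =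
    if Odd i then (m / i + t / 2).choose (t / 2) -
        (if i ∣ m then (m / i + t / 2 - 1).choose (t / 2 - 1) else 0)
      else (2 * m / i + t).choose t -
        (if i ∣ 2 * m ∧ Even (2 * m / i) then (2 * m / i + t - 1).choose (t - 1) else 0) := by
  by_cases hodd : Odd i
  · rw [if_pos hodd, if_pos hodd]
    have hc : ¬ cond := by
      intro hc
      obtain ⟨h1, h2⟩ := hcond.1 hc
      apply h2
      have hcop : Nat.Coprime i 2 := by
        rw [Nat.coprime_comm, Nat.Prime.coprime_iff_not_dvd Nat.prime_two]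
        intro h
        exact (Nat.not_even_iff_odd.2 hodd) (even_iff_two_dvd.2 h)
      exact hcop.dvd_of_dvd_mul_left h1
    rw [if_neg hc]
    have h1 : (2 * m - 1) / (2 * i) = (m - 1) / i := by
      rw [← Nat.div_div_eq_div_mul]
      congr 1
      omega
    rw [h1]
    by_cases hdm : i ∣ m
    · rw [if_pos hdm, div_pred_of_dvd m i hm hi hdm]
      have hk : 1 ≤ m / i := by
        obtain ⟨u, rfl⟩ := hdm
        rw [Nat.mul_div_cancel_left _ hi]
        rcases Nat.eq_zero_or_pos u with h | h
        · rw [h] at hm; omega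
        · exact h
      rw [pascal_sub (m / i) (t / 2) hk (ht2 hodd)]
    · rw [if_neg hdm, Nat.sub_zero, div_pred_of_not_dvd m i hm hdm]
  · rw [if_neg hodd, if_neg hodd]
    by_cases hc : cond
    · rw [if_pos hc]
      obtain ⟨h2m, hdm⟩ := hcond.1 hc
      have h1 : ¬ (i ∣ 2 * m ∧ Even (2 * m / i)) := by
        rintro ⟨h2, h3⟩
        apply hdm
        obtain ⟨u, hu⟩ := h2
        rw [hu, Nat.mul_div_cancel_left _ hi] at h3
        obtain ⟨w, rfl⟩ := h3
        exact ⟨w, by
          have : 2 * m = 2 * (i * w) := by rw [hu]; ring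
          omega⟩
      rw [if_neg h1, Nat.sub_zero]
    · rw [if_neg hc]
      by_cases hdm : i ∣ m
      · have h2 : i ∣ 2 * m := Dvd.dvd.mul_left hdm 2
        have hevq : Even (2 * m / i) := by
          obtain ⟨u, rfl⟩ := hdm
          rw [show 2 * (i * u) = i * (2 * u) by ring, Nat.mul_div_cancel_left _ hi]
          exact even_two_mul u
        rw [if_pos ⟨h2, hevq⟩, div_pred_of_dvd (2 * m) i (by omega) hi h2]
        have hk : 1 ≤ 2 * m / i := by
          obtain ⟨u, rfl⟩ := hdm
          rw [show 2 * (i * u) = i * (2 * u) by ring, Nat.mul_div_cancel_left _ hi]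
          rcases Nat.eq_zero_or_pos u with h | h
          · rw [h] at hm; omega
          · omega
        rw [pascal_sub (2 * m / i) t hk ht]
      · have h2 : ¬ i ∣ 2 * m := fun h => hc (hcond.2 ⟨h, hdm⟩)
        have h1 : ¬ (i ∣ 2 * m ∧ Even (2 * m / i)) := fun h => h2 h.1
        rw [if_neg h1, Nat.sub_zero, div_pred_of_not_dvd (2 * m) i (by omega) h2]

end Cfsg.Agent.Lib.Helper37.OrthEven
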