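/-
helper37 library: a "Cayley" quadratic-form model for a self-reciprocal polynomial without the
factor `X - 1` whose irreducible factors divide `X ^ r - 1`: a matrix `A` of order dividing `r`
with that characteristic polynomial and a matrix `G` with `Aᵀ G A = G` and `G + Gᵀ` invertible, so
that `v ↦ vᵀ G v` is an `A`-invariant quadratic form with non-degenerate polar form (in every
characteristic).
-/
import Mathlib
import Cfsg.Agent.Lib.Helper37.OrthOdd
import Cfsg.Agent.Lib.Helper36.AltEven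

set_option autoImplicit false

namespace Cfsg.Agent.Lib.Helper37.OrthEven

open Matrix Polynomial Cfsg.Agent.Lib.Helper37.DualPoly Cfsg.Agent.Lib.Helper37.InvCount
  Cfsg.Agent.Lib.Helper40 Cfsg.Agent.Lib.Helper37.SpExist

variable {F : Type*} [Field F] [Fintype F]

theorem exists_cayley_model (r : ℕ) (hr : r.Prime) (hr2 : r ≠ 2) (hrF : (r : F) ≠ 0)
    (f' : F[X]) (hf'mon : f'.Monic)
    (hf'fac : ∀ l : F[X], l.Monic → Irreducible l → l ∣ f' → l ∣ X ^ r - 1)
    (hf'dual : rdual f' = f') (hnd : ¬ (X - 1 : F[X]) ∣ f') :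
    ∃ (d : ℕ) (A G : Matrix (Fin d) (Fin d) F), d = f'.natDegree ∧ Even d ∧
      IsUnit (G + Gᵀ).det ∧ Aᵀ * G * A = G ∧ A ^ r = 1 ∧ A.charpoly = f' ∧
      ∀ x, A *ᵥ x = x → x = 0 := by
  classical
  obtain ⟨d, hd⟩ : ∃ d, d = f'.natDegree := ⟨_, rfl⟩
  obtain ⟨A, hAss, hAchar, hkill⟩ := exists_matrix_semisimple_charpoly_kill d f' hf'mon hd.symm
  have hAr : A ^ r = 1 := by
    have h1 := hkill (X ^ r - 1) hf'fac
    simp only [map_sub, map_pow, aeval_X, map_one] at h1
    exact sub_eq_zero.mp h1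
  obtain ⟨Ai, hAi⟩ : ∃ Ai : Matrix (Fin d) (Fin d) F, Ai = A ^ (r - 1) := ⟨_, rfl⟩
  have hAAi : A * Ai = 1 := by rw [hAi, ← pow_succ', Nat.sub_add_cancel hr.pos, hAr]
  have hAiA : Ai * A = 1 := mul_eq_one_comm.1 hAAi
  have hAir : Ai ^ r = 1 := by rw [hAi, ← pow_mul, mul_comm, pow_mul, hAr, one_pow]
  -- `1` is not an eigenvalue
  have hinj1 : ∀ x, A *ᵥ x = x → x = 0 := by
    intro x hx
    have hcop : IsCoprime (X - 1 : F[X]) f' := by
      have hirr : Irreducible (X - 1 : F[X]) := by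
        have := irreducible_X_sub_C (1 : F)
        rwa [C_1] at this
      exact (Irreducible.coprime_iff_not_dvd hirr).2 hnd
    obtain ⟨u, v, huv⟩ := hcop
    have h1 : aeval A (u * (X - 1) + v * f') = 1 := by rw [huv, map_one]
    have h2 : aeval A f' = 0 := by rw [← hAchar]; exact aeval_self_charpoly A
    rw [map_add, map_mul, map_mul, h2, mul_zero, add_zero, map_sub, aeval_X, map_one] at h1
    have h3 : (aeval A u * (A - 1)) *ᵥ x = x := by rw [h1, one_mulVec]
    rw [← mulVec_mulVec, sub_mulVec, one_mulVec, hx, sub_self, mulVec_zero] at h3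
    exact h3.symm
  have hinj : ∀ x, A *ᵥ x = Ai *ᵥ x → x = 0 := by
    intro x hx
    apply hinj1
    have h2 : (A ^ 2) *ᵥ x = x := by
      rw [pow_two, ← mulVec_mulVec, hx, mulVec_mulVec, hAAi, one_mulVec]
    obtain ⟨j, hj⟩ : ∃ j, r = 2 * j + 1 := by
      rcases hr.eq_two_or_odd with h | h
      · exact absurd h hr2
      · exact ⟨r / 2, by omega⟩
    have h3 : ∀ j : ℕ, (A ^ (2 * j)) *ᵥ x = x := by
      intro j
      induction j with
      | zero => simp
      | succ j ih =>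
        rw [mul_add, mul_one, pow_add, ← mulVec_mulVec, h2, ih]
    have h4 : (A ^ r) *ᵥ x = A *ᵥ x := by
      rw [hj, pow_succ', ← mulVec_mulVec, h3]
    rw [hAr, one_mulVec] at h4
    exact h4.symm
  have hAiTss : Module.End.IsSemisimple (Matrix.toLin' Aiᵀ) := by
    apply isSemisimple_toLin'_of_pow_eq_one Aiᵀ r hrF
    rw [← transpose_pow, hAir, transpose_one]
  have hAdet : IsUnit A.det := by
    have h2 := congrArg det hAAi
    rw [det_mul, det_one] at h2
    exact IsUnit.of_mul_eq_one _ h2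
  have hAiTchar : Aiᵀ.charpoly = A.charpoly := by
    rw [charpoly_transpose, ← Matrix.inv_eq_right_inv hAAi, charpoly_inv A hAdet, hAchar, hf'dual]
  obtain ⟨P, hP⟩ := exists_gl_conj_of_charpoly_eq A Aiᵀ hAss hAiTss hAiTchar.symm
  have hPdet : IsUnit (P : Matrix (Fin d) (Fin d) F).det :=
    (Matrix.isUnit_iff_isUnit_det _).1 P.isUnit
  have hinv : Aᵀ * (P : Matrix (Fin d) (Fin d) F) * A = (P : Matrix (Fin d) (Fin d) F) := by
    rw [Matrix.mul_assoc, hP, ← Matrix.mul_assoc, ← transpose_mul, hAiA, transpose_one,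
      Matrix.one_mul]
  obtain ⟨Q', hQ'skew, hQ'alt, hQ'det, hQ'inv⟩ :=
    exists_alternating_of_invariant A Ai _ hAAi hPdet hinv hinj
  -- the dimension is even
  have hdeven : Even d := by
    have h1 := Cfsg.Agent.Lib.Helper36.even_rank_of_alt_matrix Q' hQ'alt
    rwa [Matrix.rank_of_isUnit Q' ((Matrix.isUnit_iff_isUnit_det _).2 hQ'det),
      Fintype.card_fin] at h1
  -- the symmetric form
  have h1 : Aᵀ * Q' = Q' * Ai := by
    calc Aᵀ * Q' = Aᵀ * Q' * (A * Ai) := by rw [hAAi, Matrix.mul_one]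
      _ = (Aᵀ * Q' * A) * Ai := by simp only [Matrix.mul_assoc]
      _ = Q' * Ai := by rw [hQ'inv]
  have h2 : Aiᵀ * Q' = Q' * A := by
    calc Aiᵀ * Q' = Aiᵀ * (Aᵀ * Q' * A) := by rw [hQ'inv]
      _ = (A * Ai)ᵀ * Q' * A := by rw [transpose_mul]; simp only [Matrix.mul_assoc]
      _ = Q' * A := by rw [hAAi, transpose_one, Matrix.one_mul]
  obtain ⟨B, hB⟩ : ∃ B, B = Q' * (A - Ai) := ⟨_, rfl⟩
  have hBsymm : Bᵀ = B := by
    rw [hB, transpose_mul, transpose_sub, hQ'skew, Matrix.sub_mul, Matrix.mul_neg, Matrix.mul_neg,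
      h1, h2, Matrix.mul_sub]
    abel
  have hAmAi : IsUnit (A - Ai).det := by
    rw [← Matrix.isUnit_iff_isUnit_det, ← Matrix.mulVec_injective_iff_isUnit]
    intro x y hxy
    have : (A - Ai) *ᵥ (x - y) = 0 := by rw [mulVec_sub, hxy, sub_self]
    rw [sub_mulVec, sub_eq_zero] at this
    exact sub_eq_zero.1 (hinj _ this)
  have hBdet : IsUnit B.det := by
    rw [hB, det_mul]
    exact hQ'det.mul hAmAi
  have hBinv : Aᵀ * B * A = B := by
    rw [hB]
    calc Aᵀ * (Q' * (A - Ai)) * A = (Aᵀ * Q') * ((A - Ai) * A) := by simp only [Matrix.mul_assoc]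
      _ = Q' * (Ai * ((A - Ai) * A)) := by rw [h1]; simp only [Matrix.mul_assoc]
      _ = Q' * (A - Ai) := by
          congr 1
          rw [Matrix.sub_mul, Matrix.mul_sub, ← Matrix.mul_assoc, hAiA,
            Matrix.one_mul, Matrix.mul_one]
  -- the Cayley form
  have hNdet : IsUnit (1 - A).det := by
    rw [← Matrix.isUnit_iff_isUnit_det, ← Matrix.mulVec_injective_iff_isUnit]
    intro x y hxy
    have : (1 - A) *ᵥ (x - y) = 0 := by rw [mulVec_sub, hxy, sub_self]
    rw [sub_mulVec, one_mulVec, sub_eq_zero] at this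
    exact sub_eq_zero.1 (hinj1 _ this.symm)
  obtain ⟨C, hC⟩ : ∃ C, C = (1 - A)⁻¹ := ⟨_, rfl⟩
  have hNC : (1 - A) * C = 1 := by rw [hC]; exact mul_nonsing_inv _ hNdet
  have hCN : C * (1 - A) = 1 := by rw [hC]; exact nonsing_inv_mul _ hNdet
  have hNA : A * (1 - A) = (1 - A) * A := by
    rw [Matrix.mul_sub, Matrix.sub_mul, Matrix.mul_one, Matrix.one_mul]
  have hCA : C * A = A * C := by
    calc C * A = C * A * ((1 - A) * C) := by rw [hNC, Matrix.mul_one]
      _ = C * (A * (1 - A)) * C := by simp only [Matrix.mul_assoc]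
      _ = (C * (1 - A)) * A * C := by rw [hNA]; simp only [Matrix.mul_assoc]
      _ = A * C := by rw [hCN, Matrix.one_mul]
  have hATB : Aᵀ * B = B * Ai := by
    calc Aᵀ * B = Aᵀ * B * (A * Ai) := by rw [hAAi, Matrix.mul_one]
      _ = (Aᵀ * B * A) * Ai := by simp only [Matrix.mul_assoc]
      _ = B * Ai := by rw [hBinv]
  have hNTB : (1 - A)ᵀ * B = -(B * Ai * (1 - A)) := by
    rw [transpose_sub, transpose_one, Matrix.sub_mul, Matrix.one_mul, hATB, Matrix.mul_sub,
      Matrix.mul_one, Matrix.mul_assoc, hAiA, Matrix.mul_one]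
    abel
  have hCTB : Cᵀ * B = -(B * C * A) := by
    have h3 : Cᵀ * ((1 - A)ᵀ * B) = B := by
      rw [← Matrix.mul_assoc, ← transpose_mul, hNC, transpose_one, Matrix.one_mul]
    rw [hNTB] at h3
    -- B = -(Cᵀ B Ai (1-A))
    have h4 : B * C * A = -(Cᵀ * B) := by
      conv_lhs => rw [← h3]
      rw [Matrix.mul_neg, Matrix.neg_mul, Matrix.neg_mul]
      congr 1
      calc Cᵀ * (B * Ai * (1 - A)) * C * A = Cᵀ * B * (Ai * ((1 - A) * C) * A) := by
            simp only [Matrix.mul_assoc]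
        _ = Cᵀ * B := by rw [hNC, Matrix.mul_one, hAiA, Matrix.mul_one]
    rw [h4, neg_neg]
  obtain ⟨G, hG⟩ : ∃ G, G = B * C := ⟨_, rfl⟩
  have hGsum : G + Gᵀ = B := by
    rw [hG, transpose_mul, hBsymm, hCTB]
    calc B * C + -(B * C * A) = B * (C * (1 - A)) := by
          rw [Matrix.mul_sub, Matrix.mul_one, Matrix.mul_sub, Matrix.mul_assoc]
          abel
      _ = B := by rw [hCN, Matrix.mul_one]
  have hGinv : Aᵀ * G * A = G := by
    rw [hG]
    calc Aᵀ * (B * C) * A = Aᵀ * B * (C * A) := by simp only [Matrix.mul_assoc]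
      _ = (Aᵀ * B * A) * C := by rw [hCA]; simp only [Matrix.mul_assoc]
      _ = B * C := by rw [hBinv]
  exact ⟨d, A, G, hd, hdeven, by rw [hGsum]; exact hBdet, hGinv, hAr, hAchar, hinj1⟩

end Cfsg.Agent.Lib.Helper37.OrthEven
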