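/-
helper37 library: existence of isometries of order dividing an odd prime `r` with prescribed
self-reciprocal characteristic polynomial in the even-dimensional orthogonal groups `O⁺` and `O⁻`
over a finite field (all characteristics), and the arithmetic obstruction.
-/
import Mathlib
import Cfsg.Agent.Lib.Helper37.OrthEvenType
import Cfsg.Agent.Lib.Helper37.OrthEvenModel

set_option autoImplicit false
set_option linter.unusedSectionVars false

namespace Cfsg.Agent.Lib.Helper37.OrthEven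

open Matrix Polynomial Cfsg.Agent.Lib.Helper37.DualPoly Cfsg.Agent.Lib.Helper37.InvCount
  Cfsg.Agent.Lib.Helper40 Cfsg.Agent.Lib.Helper37.SpExist

section matq
variable {F : Type*} [Field F] {κ : Type*} [Fintype κ] [DecidableEq κ]

/-- the quadratic form `v ↦ vᵀ G v` -/
noncomputable def matQ (G : Matrix κ κ F) : QuadraticForm F (κ → F) :=
  LinearMap.BilinMap.toQuadraticMap (Matrix.toBilin' G)

theorem matQ_apply (G : Matrix κ κ F) (v : κ → F) : matQ G v = v ⬝ᵥ G *ᵥ v := by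
  show (Matrix.toBilin' G) v v = _
  rw [Matrix.toBilin'_apply']

theorem matQ_polar (G : Matrix κ κ F) (u v : κ → F) :
    QuadraticMap.polar (matQ G) u v = u ⬝ᵥ (G + Gᵀ) *ᵥ v := by
  show QuadraticMap.polar (LinearMap.BilinMap.toQuadraticMap (Matrix.toBilin' G)) u v = _
  rw [LinearMap.BilinMap.polar_toQuadraticMap, Matrix.toBilin'_apply', Matrix.toBilin'_apply',
    add_mulVec, dotProduct_add]
  congr 1
  rw [dotProduct_mulVec u Gᵀ, vecMul_transpose, dotProduct_comm]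

theorem matQ_nondeg (G : Matrix κ κ F) (h : IsUnit (G + Gᵀ).det) :
    (QuadraticMap.polarBilin (matQ G)).Nondegenerate := by
  apply nondeg_of_left
  intro u hu
  have hsymm : (G + Gᵀ)ᵀ = G + Gᵀ := by
    rw [transpose_add, transpose_transpose, add_comm]
  have h1 : (G + Gᵀ) *ᵥ u = 0 := by
    funext k
    have := hu (Pi.single k 1)
    rw [matQ_polar, ← hsymm, dotProduct_mulVec, vecMul_transpose, dotProduct_single,
      mul_one] at this
    simpa using this
  have h3 : (G + Gᵀ)⁻¹ *ᵥ ((G + Gᵀ) *ᵥ u) = u := by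
    rw [mulVec_mulVec, nonsing_inv_mul _ h, one_mulVec]
  rw [← h3, h1, mulVec_zero]

theorem matQ_inv (G A : Matrix κ κ F) (hinv : Aᵀ * G * A = G) (v : κ → F) :
    matQ G (A *ᵥ v) = matQ G v := by
  rw [matQ_apply, matQ_apply]
  have h1 : (A *ᵥ v) ⬝ᵥ G *ᵥ (A *ᵥ v) = v ⬝ᵥ (Aᵀ * G * A) *ᵥ v := by
    rw [← mulVec_mulVec, ← mulVec_mulVec, dotProduct_mulVec v Aᵀ, vecMul_transpose]
  rw [h1, hinv]

end matq

section sumq
variable {F : Type*} [Field F] {κ₁ κ₂ : Type*} [Fintype κ₁] [DecidableEq κ₁] [Fintype κ₂]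
  [DecidableEq κ₂]

/-- orthogonal sum of two quadratic forms on function spaces -/
noncomputable def sumQ (Q₁ : QuadraticForm F (κ₁ → F)) (Q₂ : QuadraticForm F (κ₂ → F)) :
    QuadraticForm F (κ₁ ⊕ κ₂ → F) :=
  Q₁.comp (LinearMap.funLeft F F Sum.inl) + Q₂.comp (LinearMap.funLeft F F Sum.inr)

theorem sumQ_apply (Q₁ : QuadraticForm F (κ₁ → F)) (Q₂ : QuadraticForm F (κ₂ → F))
    (v : κ₁ ⊕ κ₂ → F) : sumQ Q₁ Q₂ v = Q₁ (v ∘ Sum.inl) + Q₂ (v ∘ Sum.inr) := rfl

theorem sumQ_polar (Q₁ : QuadraticForm F (κ₁ → F)) (Q₂ : QuadraticForm F (κ₂ → F))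
    (u v : κ₁ ⊕ κ₂ → F) : QuadraticMap.polar (sumQ Q₁ Q₂) u v =
      QuadraticMap.polar Q₁ (u ∘ Sum.inl) (v ∘ Sum.inl) +
        QuadraticMap.polar Q₂ (u ∘ Sum.inr) (v ∘ Sum.inr) := by
  unfold QuadraticMap.polar
  rw [sumQ_apply, sumQ_apply, sumQ_apply]
  have h1 : (u + v) ∘ (Sum.inl : κ₁ → κ₁ ⊕ κ₂) = u ∘ Sum.inl + v ∘ Sum.inl := rfl
  have h2 : (u + v) ∘ (Sum.inr : κ₂ → κ₁ ⊕ κ₂) = u ∘ Sum.inr + v ∘ Sum.inr := rfl
  rw [h1, h2]
  ring

theorem sumQ_nondeg (Q₁ : QuadraticForm F (κ₁ → F)) (Q₂ : QuadraticForm F (κ₂ → F))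
    (h₁ : (QuadraticMap.polarBilin Q₁).Nondegenerate)
    (h₂ : (QuadraticMap.polarBilin Q₂).Nondegenerate) :
    (QuadraticMap.polarBilin (sumQ Q₁ Q₂)).Nondegenerate := by
  apply nondeg_of_left
  intro u hu
  have hl : u ∘ Sum.inl = 0 := by
    apply left_of_nondeg Q₁ h₁
    intro y
    have := hu (Sum.elim y 0)
    rw [sumQ_polar] at this
    have h0 : (Sum.elim y (0 : κ₂ → F)) ∘ Sum.inr = 0 := rfl
    have h1 : (Sum.elim y (0 : κ₂ → F)) ∘ Sum.inl = y := rfl
    rw [h0, h1] at this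
    simpa [QuadraticMap.polar] using this
  have hr : u ∘ Sum.inr = 0 := by
    apply left_of_nondeg Q₂ h₂
    intro y
    have := hu (Sum.elim 0 y)
    rw [sumQ_polar] at this
    have h0 : (Sum.elim (0 : κ₁ → F) y) ∘ Sum.inl = 0 := rfl
    have h1 : (Sum.elim (0 : κ₁ → F) y) ∘ Sum.inr = y := rfl
    rw [h0, h1] at this
    simpa [QuadraticMap.polar] using this
  funext k
  rcases k with k | k
  · exact congrFun hl k
  · exact congrFun hr k

theorem blockM_mulVec (A : Matrix κ₁ κ₁ F) (v : κ₁ ⊕ κ₂ → F) :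
    fromBlocks A 0 0 (1 : Matrix κ₂ κ₂ F) *ᵥ v = Sum.elim (A *ᵥ (v ∘ Sum.inl)) (v ∘ Sum.inr) := by
  rw [fromBlocks_mulVec]
  simp

theorem sumQ_blockM (Q₁ : QuadraticForm F (κ₁ → F)) (Q₂ : QuadraticForm F (κ₂ → F))
    (A : Matrix κ₁ κ₁ F) (hA : ∀ v, Q₁ (A *ᵥ v) = Q₁ v) (v : κ₁ ⊕ κ₂ → F) :
    sumQ Q₁ Q₂ (fromBlocks A 0 0 (1 : Matrix κ₂ κ₂ F) *ᵥ v) = sumQ Q₁ Q₂ v := by
  rw [blockM_mulVec, sumQ_apply, sumQ_apply]
  have h1 : (Sum.elim (A *ᵥ (v ∘ Sum.inl)) (v ∘ Sum.inr)) ∘ (Sum.inl : κ₁ → κ₁ ⊕ κ₂) =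
      A *ᵥ (v ∘ Sum.inl) := rfl
  have h2 : (Sum.elim (A *ᵥ (v ∘ Sum.inl)) (v ∘ Sum.inr)) ∘ (Sum.inr : κ₂ → κ₁ ⊕ κ₂) =
      v ∘ Sum.inr := rfl
  rw [h1, h2, hA]

end sumq

section sumcount
variable {F : Type*} [Field F] [Fintype F] {κ₁ κ₂ : Type*} [Fintype κ₁] [DecidableEq κ₁]
  [Fintype κ₂] [DecidableEq κ₂]

/-- the count of norm-one vectors of an orthogonal sum, modulo `r`, when the first summand carries
a fixed-point-free isometry of order dividing `r` -/
theorem cnt_sumQ_modEq (Q₁ : QuadraticForm F (κ₁ → F)) (Q₂ : QuadraticForm F (κ₂ → F))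
    (A : Matrix κ₁ κ₁ F) (hA : ∀ v, Q₁ (A *ᵥ v) = Q₁ v) (r : ℕ) [hr : Fact r.Prime]
    (hAr : A ^ r = 1) (hfix : ∀ v, A *ᵥ v = v → v = 0) :
    cnt (⇑(sumQ Q₁ Q₂)) ≡ cnt (⇑Q₂) [MOD r] := by
  have hMr : (fromBlocks A 0 0 (1 : Matrix κ₂ κ₂ F)) ^ r = 1 := by
    rw [fromBlocks_diag_pow, one_pow, hAr, fromBlocks_one]
  have h := cnt_modEq (⇑(sumQ Q₁ Q₂)) (fromBlocks A 0 0 (1 : Matrix κ₂ κ₂ F)) r
    (sumQ_blockM Q₁ Q₂ A hA) hMr
  refine h.trans ?_
  have : Nat.card {v : κ₁ ⊕ κ₂ → F // sumQ Q₁ Q₂ v = 1 ∧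
      fromBlocks A 0 0 (1 : Matrix κ₂ κ₂ F) *ᵥ v = v} = cnt (⇑Q₂) := by
    unfold cnt
    apply Nat.card_congr
    exact
      { toFun := fun v => ⟨v.1 ∘ Sum.inr, by
          have h1 := v.2.2
          rw [blockM_mulVec] at h1
          have h2 : A *ᵥ (v.1 ∘ Sum.inl) = v.1 ∘ Sum.inl := by
            funext k
            exact congrFun h1 (Sum.inl k)
          have h3 := hfix _ h2
          have h4 := v.2.1
          rw [sumQ_apply, h3, map_zero, zero_add] at h4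
          exact h4⟩
        invFun := fun w => ⟨Sum.elim 0 w.1, by
          rw [sumQ_apply]
          have h0 : (Sum.elim (0 : κ₁ → F) w.1) ∘ Sum.inl = 0 := rfl
          have h1 : (Sum.elim (0 : κ₁ → F) w.1) ∘ Sum.inr = w.1 := rfl
          rw [h0, h1, map_zero, zero_add]
          exact w.2, by
          rw [blockM_mulVec]
          have h0 : (Sum.elim (0 : κ₁ → F) w.1) ∘ Sum.inl = 0 := rfl
          have h1 : (Sum.elim (0 : κ₁ → F) w.1) ∘ Sum.inr = w.1 := rfl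
          rw [h0, h1, mulVec_zero]⟩
        left_inv := fun v => by
          apply Subtype.ext
          have h1 := v.2.2
          rw [blockM_mulVec] at h1
          have h2 : A *ᵥ (v.1 ∘ Sum.inl) = v.1 ∘ Sum.inl := by
            funext k
            exact congrFun h1 (Sum.inl k)
          have h3 := hfix _ h2
          funext k
          rcases k with k | k
          · exact (congrFun h3 k).symm
          · rfl
        right_inv := fun w => rfl }
  rw [this]

end sumcount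

section transfer
variable {F : Type*} [Field F] {κ ι : Type} [Fintype κ] [DecidableEq κ] [Fintype ι] [DecidableEq ι]

/-- transfer of a matrix isometry along an isometric linear equivalence -/
theorem transfer_isometry (Q₁ : (κ → F) → F) (Q : (ι → F) → F) (T : (κ → F) ≃ₗ[F] (ι → F))
    (hT : ∀ v, Q (T v) = Q₁ v) (M : Matrix κ κ F) (hM : ∀ v, Q₁ (M *ᵥ v) = Q₁ v) (r : ℕ)
    (hr : 0 < r) (hMr : M ^ r = 1) :
    ∃ g : GL ι F, g ∈ Cfsg.isometryGroup F Q ∧ g ^ r = 1 ∧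
      (g : Matrix ι ι F).charpoly = M.charpoly := by
  classical
  let φ : Module.End F (κ → F) := Matrix.toLin' M
  let gl : Module.End F (ι → F) := T.conj φ
  have hgl_app : ∀ u, gl u = T (M *ᵥ (T.symm u)) := fun u => by
    show T (φ (T.symm u)) = _
    rw [Matrix.toLin'_apply]
  have hglQ : ∀ u, Q (gl u) = Q u := by
    intro u
    rw [hgl_app, hT, hM, ← hT, LinearEquiv.apply_symm_apply]
  have hφr : φ ^ r = 1 := by
    show (Matrix.toLin' M) ^ r = 1
    rw [← Matrix.toLin'_pow, hMr, Matrix.toLin'_one]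
    rfl
  have hglr : gl ^ r = 1 := by
    have h1 : gl = T.conjRingEquiv φ := rfl
    rw [h1, ← map_pow, hφr, map_one]
  let G : Matrix ι ι F := LinearMap.toMatrix' gl
  have hGr : G ^ r = 1 := by
    have h1 : G = LinearMap.toMatrixAlgEquiv' gl := rfl
    rw [h1, ← map_pow, hglr, map_one]
  obtain ⟨r', hr'⟩ : ∃ r', r = r' + 1 := ⟨r - 1, by omega⟩
  have hG1 : G * G ^ r' = 1 := by rw [← pow_succ', ← hr', hGr]
  have hG2 : G ^ r' * G = 1 := by rw [← pow_succ, ← hr', hGr]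
  let g : GL ι F := ⟨G, G ^ r', hG1, hG2⟩
  have hGapp : ∀ u, G *ᵥ u = gl u := fun u => LinearMap.toMatrix'_mulVec gl u
  refine ⟨g, ?_, ?_, ?_⟩
  · intro u v
    show Q (G *ᵥ u) = Q u
    rw [hGapp]
    exact hglQ u
  · apply Units.ext
    rw [Units.val_pow_eq_pow_val, Units.val_one]
    exact hGr
  · show G.charpoly = M.charpoly
    have h1 : G = LinearMap.toMatrix (Pi.basisFun F _) (Pi.basisFun F _) gl := by
      rw [LinearMap.toMatrix_eq_toMatrix']
    rw [h1, LinearMap.charpoly_toMatrix, LinearEquiv.charpoly_conj, Matrix.charpoly_toLin']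

end transfer

section necessity
variable {F : Type*} [Field F] [Fintype F]

/-- a matrix whose characteristic polynomial is not divisible by `X - 1` fixes no non-zero
vector -/
theorem no_fixed_of_not_dvd {ι : Type*} [Fintype ι] [DecidableEq ι] (g : Matrix ι ι F)
    (h : ¬ (X - 1 : F[X]) ∣ g.charpoly) (v : ι → F) (hv : g *ᵥ v = v) : v = 0 := by
  by_contra hv0
  apply h
  have h1 : (Matrix.scalar ι (1 : F) - g).det = 0 := by
    rw [← Matrix.exists_mulVec_eq_zero_iff]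
    refine ⟨v, hv0, ?_⟩
    rw [sub_mulVec, hv]
    simp
  rw [← Matrix.eval_charpoly] at h1
  have h2 : (X - C (1 : F)) ∣ g.charpoly := dvd_iff_isRoot.2 h1
  rwa [C_1] at h2

/-- the arithmetic obstruction, hyperbolic case -/
theorem pow_eq_one_of_isometry_plus (m r : ℕ) [hr : Fact r.Prime]
    (hx : IsUnit ((Fintype.card F : ℕ) : ZMod r)) (g : Matrix (Fin m ⊕ Fin m) (Fin m ⊕ Fin m) F)
    (hg : ∀ v, Cfsg.quadFormPlus m F (g *ᵥ v) = Cfsg.quadFormPlus m F v) (hgr : g ^ r = 1)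
    (hfix : ∀ v, g *ᵥ v = v → v = 0) : ((Fintype.card F : ℕ) : ZMod r) ^ m = 1 := by
  have h0 : Cfsg.quadFormPlus m F 0 = 0 := by
    unfold Cfsg.quadFormPlus
    simp
  have h1 := dvd_cnt (Cfsg.quadFormPlus m F) h0 g r hg hgr hfix
  have h2 := cast_cnt_plus (F := F) r m
  rw [(ZMod.natCast_eq_zero_iff _ _).2 h1, mul_zero] at h2
  have h3 := (hx.pow m).mul_left_cancel (h2.symm.trans (mul_zero _).symm)
  exact sub_eq_zero.1 h3

/-- the arithmetic obstruction, elliptic case -/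
theorem pow_eq_neg_one_of_isometry_minus (m r : ℕ) [hr : Fact r.Prime]
    (hx : IsUnit ((Fintype.card F : ℕ) : ZMod r)) (a c : F)
    (hac : ∀ z₁ z₂ : F, z₁ ^ 2 + a * z₁ * z₂ + c * z₂ ^ 2 = 0 → z₁ = 0 ∧ z₂ = 0)
    (g : Matrix ((Fin m ⊕ Fin m) ⊕ Fin 2) ((Fin m ⊕ Fin m) ⊕ Fin 2) F)
    (hg : ∀ v, Cfsg.quadFormMinus m F a c (g *ᵥ v) = Cfsg.quadFormMinus m F a c v)
    (hgr : g ^ r = 1) (hfix : ∀ v, g *ᵥ v = v → v = 0) :
    ((Fintype.card F : ℕ) : ZMod r) ^ (m + 1) = -1 := by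
  have h0 : Cfsg.quadFormMinus m F a c 0 = 0 := by
    unfold Cfsg.quadFormMinus
    simp
  have h1 := dvd_cnt (Cfsg.quadFormMinus m F a c) h0 g r hg hgr hfix
  have h2 := cast_cnt_minus (F := F) r m a c hac
  rw [(ZMod.natCast_eq_zero_iff _ _).2 h1, mul_zero] at h2
  have h3 := (hx.pow (m + 1)).mul_left_cancel (h2.symm.trans (mul_zero _).symm)
  exact eq_neg_of_add_eq_zero_left h3

end necessity

section core
variable {F : Type*} [Field F] [Fintype F]

/-- over a finite field some polynomial `t² + t + ζ` has no root -/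
theorem exists_irred_quadratic : ∃ ζ : F, ∀ t : F, t ^ 2 + t + ζ ≠ 0 := by
  have hni : ¬ Function.Injective (fun t : F => t ^ 2 + t) := by
    intro h
    have h1 := @h 0 (-1) (by simp)
    have h2 : (1 : F) = 0 := by linear_combination h1
    exact one_ne_zero h2
  have hns : ¬ Function.Surjective (fun t : F => t ^ 2 + t) := fun h =>
    hni (Finite.injective_iff_surjective.2 h)
  unfold Function.Surjective at hns
  push Not at hns
  obtain ⟨c, hc⟩ := hns
  exact ⟨-c, fun t h => hc t (by linear_combination h)⟩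

/-- the core construction: an abstract non-degenerate quadratic space of dimension `2m` with an
isometry of order dividing `r` and characteristic polynomial `f`, whose type (read off from the
number of norm-one vectors modulo `r`) is the prescribed `εV` -/
theorem exists_sum_model (m r : ℕ) (hr : r.Prime) (hr2 : r ≠ 2) (hrF : (r : F) ≠ 0)
    (hx : IsUnit ((Fintype.card F : ℕ) : ZMod r))
    (f : F[X]) (hf : f.Monic) (hdeg : f.natDegree = 2 * m)
    (hfac : ∀ l : F[X], l.Monic → Irreducible l → l ∣ f → l ∣ X ^ r - 1)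
    (hdual : rdual f = f) (εV : ZMod r) (hεV : εV = 1 ∨ εV = -1)
    (hallow : (X - 1 : F[X]) ∣ f ∨ ((Fintype.card F : ℕ) : ZMod r) ^ m = εV) :
    ∃ (κ : Type) (_ : Fintype κ) (_ : DecidableEq κ) (Q₁ : QuadraticForm F (κ → F))
      (M : Matrix κ κ F), Fintype.card κ = 2 * m ∧
      (QuadraticMap.polarBilin Q₁).Nondegenerate ∧ (∀ v, Q₁ (M *ᵥ v) = Q₁ v) ∧ M ^ r = 1 ∧
      M.charpoly = f ∧
      ((Fintype.card F : ℕ) : ZMod r) * (cnt (⇑Q₁) : ZMod r) =
        ((Fintype.card F : ℕ) : ZMod r) ^ m * (((Fintype.card F : ℕ) : ZMod r) ^ m - εV) := by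
  classical
  have : Fact r.Prime := ⟨hr⟩
  obtain ⟨x, hxdef⟩ : ∃ x : ZMod r, x = ((Fintype.card F : ℕ) : ZMod r) := ⟨_, rfl⟩
  rw [← hxdef] at hx hallow ⊢
  have h2r : (2 : ZMod r) ≠ 0 := by
    intro h
    have h1 : r ∣ 2 := (ZMod.natCast_eq_zero_iff 2 r).1 (by exact_mod_cast h)
    exact hr2 ((Nat.prime_dvd_prime_iff_eq hr Nat.prime_two).1 h1)
  have hrd1 : rdual (1 : F[X]) = 1 := by
    unfold rdual
    rw [coeff_one_zero, inv_one, C_1, one_mul, ← C_1, reverse_C]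
  -- split off the factor `X - 1`
  obtain ⟨f', hff', hnd⟩ := exists_eq_pow_rootMultiplicity_mul_and_not_dvd f hf.ne_zero (1 : F)
  obtain ⟨e₀, he₀⟩ : ∃ e₀, e₀ = rootMultiplicity (1 : F) f := ⟨_, rfl⟩
  rw [← he₀, C_1] at hff'
  rw [C_1] at hnd
  have hXm : ((X - 1 : F[X]) ^ e₀).Monic := by
    have := (monic_X_sub_C (1 : F)).pow e₀
    rwa [C_1] at this
  have hf'mon : f'.Monic := by
    rw [hff'] at hf
    exact hXm.of_mul_monic_left hf
  have hXdeg : ((X - 1 : F[X]) ^ e₀).natDegree = e₀ := by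
    have h1 : (X - 1 : F[X]) = X - C 1 := by rw [C_1]
    rw [h1, (monic_X_sub_C (1 : F)).natDegree_pow, natDegree_X_sub_C, mul_one]
  have hdeg' : e₀ + f'.natDegree = 2 * m := by
    rw [← hdeg, hff', hXm.natDegree_mul hf'mon, hXdeg]
  have hf'dual : rdual f' = f' := by
    have h1 : rdual f = (X - 1) ^ e₀ * rdual f' := by
      conv_lhs => rw [hff']
      rw [rdual_mul, dual_pow rdual hrd1 rdual_mul, rdual_X_sub_one]
    rw [hdual] at h1
    conv_lhs at h1 => rw [hff']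
    exact (mul_left_cancel₀ hXm.ne_zero h1).symm
  have hf'fac : ∀ l : F[X], l.Monic → Irreducible l → l ∣ f' → l ∣ X ^ r - 1 := by
    intro l hl hirr hd'
    apply hfac l hl hirr
    rw [hff']
    exact Dvd.dvd.mul_left hd' _
  obtain ⟨d, A, G, hd, hdeven, hGdet, hGinv, hAr, hAchar, hfix⟩ :=
    exists_cayley_model r hr hr2 hrF f' hf'mon hf'fac hf'dual hnd
  obtain ⟨n', hn'⟩ := hdeven
  obtain ⟨k, hk⟩ : ∃ k, e₀ = 2 * k := ⟨m - n', by omega⟩
  have hm : m = k + n' := by omega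
  have hQ'nd := matQ_nondeg G hGdet
  have hQ'inv := matQ_inv G A hGinv
  -- the sign `e = x ^ n'`
  have he : x ^ n' = 1 ∨ x ^ n' = -1 := by
    have hV : Module.finrank F (Fin d → F) = 2 * n' := by
      rw [Module.finrank_fintype_fun_eq_card, Fintype.card_fin]; omega
    have hdvd : r ∣ cnt (⇑(matQ G)) := dvd_cnt (⇑(matQ G)) (map_zero _) A r hQ'inv hAr hfix
    have hc0 : (cnt (⇑(matQ G)) : ZMod r) = 0 := (ZMod.natCast_eq_zero_iff _ _).2 hdvd
    rcases cnt_cases r n' hV (matQ G) hQ'nd with ⟨-, h⟩ | ⟨-, h⟩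
    · left
      rw [hc0, mul_zero, ← hxdef] at h
      have h3 := (hx.pow n').mul_left_cancel (h.symm.trans (mul_zero _).symm)
      exact sub_eq_zero.1 h3
    · right
      rw [hc0, mul_zero, ← hxdef] at h
      have h3 := (hx.pow n').mul_left_cancel (h.symm.trans (mul_zero _).symm)
      exact eq_neg_of_add_eq_zero_left h3
  obtain ⟨e, hee, hxe⟩ : ∃ e : ZMod r, (e = 1 ∨ e = -1) ∧ x ^ n' = e := by
    rcases he with h | h
    · exact ⟨1, Or.inl rfl, h⟩
    · exact ⟨-1, Or.inr rfl, h⟩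
  have he2 : e * e = 1 := by
    rcases hee with rfl | rfl <;> ring
  -- the complement `W`
  have hW : ∃ (ω : Type) (_ : Fintype ω) (_ : DecidableEq ω) (QW : QuadraticForm F (ω → F)),
      Fintype.card ω = 2 * k ∧ (QuadraticMap.polarBilin QW).Nondegenerate ∧
      x * (cnt (⇑QW) : ZMod r) = x ^ k * (x ^ k - e * εV) := by
    have hw : e * εV = 1 ∨ e * εV = -1 := by
      rcases hee with rfl | rfl <;> rcases hεV with rfl | rfl <;> simp
    rcases hw with hw | hw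
    · refine ⟨Fin k ⊕ Fin k, inferInstance, inferInstance, plusQ k F, ?_, plusQ_nondeg k F, ?_⟩
      · rw [Fintype.card_sum, Fintype.card_fin]; ring
      · rw [hw, plusQ_coe, hxdef, cast_cnt_plus]
    · have hk1 : 1 ≤ k := by
        by_contra hk0
        have hk0 : k = 0 := by omega
        have hf_eq : f = f' := by rw [hff', hk, hk0]; simp
        have h1 : x ^ m = εV := hallow.resolve_left (by rw [hf_eq]; exact hnd)
        have hmn : m = n' := by omega
        rw [hmn, hxe] at h1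
        rw [h1] at hw
        apply h2r
        rcases hεV with h | h
        · rw [h] at hw; linear_combination hw
        · rw [h] at hw; linear_combination hw
      obtain ⟨ζ₀, hζ₀⟩ := exists_irred_quadratic (F := F)
      refine ⟨(Fin (k - 1) ⊕ Fin (k - 1)) ⊕ Fin 2, inferInstance, inferInstance,
        minusQ (k - 1) F 1 ζ₀, ?_, minusQ_nondeg _ _ _ _ (aniso_of_irred ζ₀ hζ₀), ?_⟩
      · rw [Fintype.card_sum, Fintype.card_sum, Fintype.card_fin, Fintype.card_fin]; omega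
      · rw [hw, minusQ_coe, hxdef, cast_cnt_minus r (k - 1) 1 ζ₀ (aniso_of_irred ζ₀ hζ₀),
          Nat.sub_add_cancel hk1]
        ring
  obtain ⟨ω, _, _, QW, hωcard, hQWnd, hQWcnt⟩ := hW
  refine ⟨Fin d ⊕ ω, inferInstance, inferInstance, sumQ (matQ G) QW,
    fromBlocks A 0 0 (1 : Matrix ω ω F), ?_, sumQ_nondeg _ _ hQ'nd hQWnd,
    sumQ_blockM (matQ G) QW A hQ'inv, ?_, ?_, ?_⟩
  · rw [Fintype.card_sum, Fintype.card_fin, hωcard]; omega
  · rw [fromBlocks_diag_pow, one_pow, hAr, fromBlocks_one]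
  · rw [charpoly_fromBlocks_zero₁₂, charpoly_one, hAchar, hωcard, hff', hk, mul_comm]
  · have h1 := cnt_sumQ_modEq (matQ G) QW A hQ'inv r hAr hfix
    have h2 : (cnt (⇑(sumQ (matQ G) QW)) : ZMod r) = (cnt (⇑QW) : ZMod r) :=
      (ZMod.natCast_eq_natCast_iff _ _ _).2 h1
    rw [h2, hQWcnt, hm, pow_add, hxe]
    linear_combination (-(x ^ k * x ^ k)) * he2

end core

end Cfsg.Agent.Lib.Helper37.OrthEven
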