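/-
helper37 library: existence of isometries of order dividing an odd prime `r` with prescribed
self-reciprocal characteristic polynomial in `O⁺_2m(q)` and `O⁻_2m(q)` (all characteristics).
-/
import Mathlib
import Cfsg.Agent.Lib.Helper37.OrthEvenExist
import Cfsg.Agent.Lib.Helper37.BinaryIso

set_option autoImplicit false

namespace Cfsg.Agent.Lib.Helper37.OrthEven

open Matrix Polynomial Cfsg.Agent.Lib.Helper37.DualPoly

variable {F : Type*} [Field F] [Fintype F]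

theorem two_ne_zero_zmod (r : ℕ) (hr : r.Prime) (hr2 : r ≠ 2) : (2 : ZMod r) ≠ 0 := by
  intro h
  have h1 : r ∣ 2 := (ZMod.natCast_eq_zero_iff 2 r).1 (by exact_mod_cast h)
  exact hr2 ((Nat.prime_dvd_prime_iff_eq hr Nat.prime_two).1 h1)

/-- existence in `O⁺_2m(q)` -/
theorem exists_isometry_plus (m r : ℕ) (hr : r.Prime) (hr2 : r ≠ 2) (hrF : (r : F) ≠ 0)
    (hx : IsUnit ((Fintype.card F : ℕ) : ZMod r))
    (f : F[X]) (hf : f.Monic) (hdeg : f.natDegree = 2 * m)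
    (hfac : ∀ l : F[X], l.Monic → Irreducible l → l ∣ f → l ∣ X ^ r - 1)
    (hdual : rdual f = f)
    (hallow : (X - 1 : F[X]) ∣ f ∨ ((Fintype.card F : ℕ) : ZMod r) ^ m = 1) :
    ∃ g : GL (Fin m ⊕ Fin m) F, g ∈ Cfsg.isometryGroup F (Cfsg.quadFormPlus m F) ∧
      g ^ r = 1 ∧ (g : Matrix (Fin m ⊕ Fin m) (Fin m ⊕ Fin m) F).charpoly = f := by
  obtain ⟨κ, _, _, Q₁, M, hκ, hnd, hM, hMr, hMc, hcnt⟩ :=
    exists_sum_model m r hr hr2 hrF hx f hf hdeg hfac hdual 1 (Or.inl rfl) hallow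
  have hV : Module.finrank F (κ → F) = 2 * m := by
    rw [Module.finrank_fintype_fun_eq_card, hκ]
  obtain ⟨T, hT⟩ := plus_of_cnt r (two_ne_zero_zmod r hr hr2) hx m hV Q₁ hnd hcnt
  obtain ⟨g, hg1, hg2, hg3⟩ :=
    transfer_isometry (⇑Q₁) (Cfsg.quadFormPlus m F) T hT M hM r hr.pos hMr
  exact ⟨g, hg1, hg2, hg3.trans hMc⟩

/-- existence in `O⁻_2m(q)` -/
theorem exists_isometry_minus (m r : ℕ) (hm : 1 ≤ m) (a c : F)
    (hac : ∀ z₁ z₂ : F, z₁ ^ 2 + a * z₁ * z₂ + c * z₂ ^ 2 = 0 → z₁ = 0 ∧ z₂ = 0)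
    (hr : r.Prime) (hr2 : r ≠ 2) (hrF : (r : F) ≠ 0)
    (hx : IsUnit ((Fintype.card F : ℕ) : ZMod r))
    (f : F[X]) (hf : f.Monic) (hdeg : f.natDegree = 2 * m)
    (hfac : ∀ l : F[X], l.Monic → Irreducible l → l ∣ f → l ∣ X ^ r - 1)
    (hdual : rdual f = f)
    (hallow : (X - 1 : F[X]) ∣ f ∨ ((Fintype.card F : ℕ) : ZMod r) ^ m = -1) :
    ∃ g : GL ((Fin (m - 1) ⊕ Fin (m - 1)) ⊕ Fin 2) F,
      g ∈ Cfsg.isometryGroup F (Cfsg.quadFormMinus (m - 1) F a c) ∧ g ^ r = 1 ∧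
      (g : Matrix ((Fin (m - 1) ⊕ Fin (m - 1)) ⊕ Fin 2) ((Fin (m - 1) ⊕ Fin (m - 1)) ⊕ Fin 2)
        F).charpoly = f := by
  obtain ⟨κ, _, _, Q₁, M, hκ, hnd, hM, hMr, hMc, hcnt⟩ :=
    exists_sum_model m r hr hr2 hrF hx f hf hdeg hfac hdual (-1) (Or.inr rfl) hallow
  have hV : Module.finrank F (κ → F) = 2 * m := by
    rw [Module.finrank_fintype_fun_eq_card, hκ]
  rw [sub_neg_eq_add] at hcnt
  obtain ⟨-, ζ, hζ, T, hT⟩ := minus_of_cnt r (two_ne_zero_zmod r hr hr2) hx m hV Q₁ hnd hcnt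
  obtain ⟨T₂, hT₂⟩ := exists_minus_iso (m - 1) a c hac ζ hζ
  obtain ⟨g, hg1, hg2, hg3⟩ :=
    transfer_isometry (⇑Q₁) (Cfsg.quadFormMinus (m - 1) F a c) (T.trans T₂)
      (fun v => by
        show Cfsg.quadFormMinus (m - 1) F a c (T₂ (T v)) = _
        rw [hT₂, hT]) M hM r hr.pos hMr
  exact ⟨g, hg1, hg2, hg3.trans hMc⟩

end Cfsg.Agent.Lib.Helper37.OrthEven
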