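import Mathlib
import Cfsg.Prelude.Def_LieClassical
import Cfsg.Agent.Lib.Helper37.GUSimilar
import Cfsg.Agent.Lib.Helper37.CycloDual
import Cfsg.Agent.Lib.Helper13.GU
import Cfsg.Agent.S2670

set_option autoImplicit false

namespace Cfsg.Agent.Lib.Helper37.PGUConj

open Matrix Polynomial Cfsg Cfsg.Agent.Lib.Helper5 Cfsg.Agent.Lib.Helper37.GUConj
  Cfsg.Agent.Lib.Helper37.GUSimilar Cfsg.Agent.Lib.Helper13 Cfsg.Agent.Lib.Helper40
  Cfsg.Agent.Lib.Helper37.DualPoly Cfsg.Agent.Lib.Helper37.CycloDual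

variable {K : Type*} [Field K] [Fintype K] {q n : ℕ}

theorem GU_unitary (hK : Fintype.card K = q ^ 2) (g : ↥(Cfsg.GU n K q)) :
    st hK g.1.1 * g.1.1 = 1 := by
  rw [← isUnitaryMat_iff_st hK, isUnitaryMat_iff_preserves hK]
  exact GU_preserves g

/-- a scalar unitary matrix has a norm-one scalar -/
theorem norm_one_of_smul_unitary (hK : Fintype.card K = q ^ 2) (hn : 0 < n) (c : K)
    (h : st hK (c • (1 : Matrix (Fin n) (Fin n) K)) * (c • 1) = 1) : c * sig hK c = 1 := by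
  rw [st_smul, st_one, Matrix.smul_mul, Matrix.one_mul, smul_smul] at h
  have h1 := congrFun (congrFun h ⟨0, hn⟩) ⟨0, hn⟩
  rw [Matrix.smul_apply, Matrix.one_apply_eq, smul_eq_mul, mul_one] at h1
  rw [mul_comm]; exact h1

theorem mem_center_GU_iff (hK : Fintype.card K = q ^ 2) (hn : 0 < n) (g : ↥(Cfsg.GU n K q)) :
    g ∈ Subgroup.center ↥(Cfsg.GU n K q) ↔ ∃ c : K, g.1.1 = c • 1 := by
  constructor
  · intro hz
    obtain ⟨l, _, hz'⟩ := center_GU_scalar hK hn g hz
    refine ⟨(l : K), ?_⟩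
    have h1 := congrArg Units.val hz'
    rw [diagGL_coe] at h1
    rw [h1]
    ext i j
    simp [Matrix.diagonal, Matrix.one_apply]
  · rintro ⟨c, hc⟩
    have hu := GU_unitary hK g
    rw [hc] at hu
    have hc1 := norm_one_of_smul_unitary hK hn c hu
    have hc0 : c ≠ 0 := by
      rintro rfl
      rw [zero_mul] at hc1
      exact zero_ne_one hc1
    have hl : ((Units.mk0 c hc0 : Kˣ) : K) ^ (q + 1) = 1 := by
      rw [Units.val_mk0, pow_succ']
      exact hc1
    have hg : g = ⟨diagGL n K (fun _ => Units.mk0 c hc0), diagGL_mem_GU _ (fun _ => hl)⟩ := by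
      apply Subtype.ext
      apply Units.ext
      rw [diagGL_coe]
      change g.1.1 = _
      rw [hc]
      ext i j
      simp [Matrix.diagonal, Matrix.one_apply]
    rw [hg]
    exact diagGL_const_mem_center _ hl

theorem GU_pow_val (g : ↥(Cfsg.GU n K q)) (k : ℕ) : (g ^ k).1.1 = g.1.1 ^ k := by
  show ((g.1 ^ k : GL (Fin n) K)).1 = _
  rw [Units.val_pow_eq_pow_val]

theorem orderOf_mk_eq_prime_iff_GU (hK : Fintype.card K = q ^ 2) (hn : 0 < n) (r : ℕ)
    (hr : r.Prime) (g : ↥(Cfsg.GU n K q)) :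
    orderOf (QuotientGroup.mk g : ↥(Cfsg.GU n K q) ⧸ Subgroup.center ↥(Cfsg.GU n K q)) = r ↔
      (∃ c : K, g.1.1 ^ r = c • 1) ∧ ¬ ∃ c : K, g.1.1 = c • 1 := by
  have : Fact (Nat.Prime r) := ⟨hr⟩
  rw [orderOf_eq_prime_iff, ← QuotientGroup.mk_pow, QuotientGroup.eq_one_iff, Ne,
    QuotientGroup.eq_one_iff, mem_center_GU_iff hK hn, mem_center_GU_iff hK hn, GU_pow_val]

theorem exists_of_isConj_mk_GU (hK : Fintype.card K = q ^ 2) (hn : 0 < n)
    (g g' : ↥(Cfsg.GU n K q))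
    (h : IsConj (QuotientGroup.mk g : ↥(Cfsg.GU n K q) ⧸ Subgroup.center ↥(Cfsg.GU n K q))
      (QuotientGroup.mk g')) :
    ∃ (P : GL (Fin n) K) (c : K), g'.1.1 * P.val = c • (P.val * g.1.1) := by
  rw [isConj_iff] at h
  obtain ⟨x, hx⟩ := h
  obtain ⟨P, rfl⟩ := QuotientGroup.mk_surjective x
  rw [← QuotientGroup.mk_inv, ← QuotientGroup.mk_mul, ← QuotientGroup.mk_mul, QuotientGroup.eq,
    mem_center_GU_iff hK hn] at hx
  obtain ⟨c, hc⟩ := hx
  refine ⟨P.1, c, ?_⟩
  have h1 : g' = (P * g * P⁻¹) * ((P * g * P⁻¹)⁻¹ * g') := by group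
  have h2 : g'.1.1 = (P * g * P⁻¹).1.1 * (c • 1) := by
    rw [← hc]
    conv_lhs => rw [h1]
    rfl
  rw [h2, Matrix.mul_smul, Matrix.mul_one, Matrix.smul_mul]
  congr 1
  show (P.1 * g.1 * (P.1)⁻¹).1 * P.1.1 = P.1.1 * g.1.1
  rw [← Units.val_mul, ← Units.val_mul]
  congr 1
  group

theorem inv_norm_one (hK : Fintype.card K = q ^ 2) {c : K} (hc : c * sig hK c = 1) :
    c⁻¹ * sig hK c⁻¹ = 1 := by
  rw [map_inv₀, ← _root_.mul_inv, hc, inv_one]

theorem smul_unitary (hK : Fintype.card K = q ^ 2) {c : K} (hc : c * sig hK c = 1)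
    {A : Matrix (Fin n) (Fin n) K} (hA : st hK A * A = 1) : st hK (c • A) * (c • A) = 1 := by
  rw [st_smul, Matrix.smul_mul, Matrix.mul_smul, smul_smul, hA, mul_comm, hc, one_smul]

/-- projective conjugacy in `GL` by a norm-one scalar gives conjugacy in `PGU` -/
theorem isConj_mk_of_GU (hK : Fintype.card K = q ^ 2) (hn : 0 < n) (g g' : ↥(Cfsg.GU n K q))
    (P : GL (Fin n) K) (c : K) (hc : c * sig hK c = 1)
    (h : g'.1.1 * P.val = c • (P.val * g.1.1)) :
    IsConj (QuotientGroup.mk g : ↥(Cfsg.GU n K q) ⧸ Subgroup.center ↥(Cfsg.GU n K q))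
      (QuotientGroup.mk g') := by
  have hc0 : c ≠ 0 := by
    rintro rfl
    rw [zero_mul] at hc
    exact zero_ne_one hc
  have hA := GU_unitary hK g
  have hA' := GU_unitary hK g'
  have hB : st hK (c⁻¹ • g'.1.1) * (c⁻¹ • g'.1.1) = 1 := smul_unitary hK (inv_norm_one hK hc) hA'
  have hPdet : IsUnit (P : Matrix (Fin n) (Fin n) K).det :=
    (Matrix.isUnit_iff_isUnit_det _).1 P.isUnit
  have hrel : P.val * g.1.1 = (c⁻¹ • g'.1.1) * P.val := by
    rw [Matrix.smul_mul, h, smul_smul, inv_mul_cancel₀ hc0, one_smul]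
  obtain ⟨u, hu, hua⟩ := exists_unitary_conj hK g.1.1 (c⁻¹ • g'.1.1) P.val
    ((isUnitaryMat_iff_st hK _).2 hA) ((isUnitaryMat_iff_st hK _).2 hB) hPdet hrel
  let U : ↥(Cfsg.GU n K q) := GUofPreserves hK u ((isUnitaryMat_iff_preserves hK u).1 hu)
  have hUmat : U.1.1 = u := GUofPreserves_coe hK u _
  rw [isConj_iff]
  refine ⟨QuotientGroup.mk U, ?_⟩
  rw [← QuotientGroup.mk_inv, ← QuotientGroup.mk_mul, ← QuotientGroup.mk_mul, QuotientGroup.eq,
    mem_center_GU_iff hK hn]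
  refine ⟨c, ?_⟩
  -- the matrix of `W = U g U⁻¹`
  have hW : (U * g * U⁻¹).1.1 = c⁻¹ • g'.1.1 := by
    have h1 : (U * g * U⁻¹) * U = U * g := by group
    have h2 : (U * g * U⁻¹).1.1 * U.1.1 = U.1.1 * g.1.1 :=
      congrArg (fun x : ↥(Cfsg.GU n K q) => x.1.1) h1
    rw [hUmat, hua] at h2
    have h3 : u * U⁻¹.1.1 = 1 := by
      rw [← hUmat]
      have : U * U⁻¹ = 1 := mul_inv_cancel U
      exact congrArg (fun x : ↥(Cfsg.GU n K q) => x.1.1) this
    calc (U * g * U⁻¹).1.1 = (U * g * U⁻¹).1.1 * (u * U⁻¹.1.1) := by rw [h3, Matrix.mul_one]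
      _ = ((U * g * U⁻¹).1.1 * u) * U⁻¹.1.1 := by rw [Matrix.mul_assoc]
      _ = (c⁻¹ • g'.1.1) * (u * U⁻¹.1.1) := by rw [h2, Matrix.mul_assoc]
      _ = c⁻¹ • g'.1.1 := by rw [h3, Matrix.mul_one]
  have h1 : g'.1.1 = c • (U * g * U⁻¹).1.1 := by
    rw [hW, smul_smul, mul_inv_cancel₀ hc0, one_smul]
  show ((U * g * U⁻¹)⁻¹).1.1 * g'.1.1 = c • 1
  rw [h1, Matrix.mul_smul]
  congr 1
  have : (U * g * U⁻¹)⁻¹ * (U * g * U⁻¹) = 1 := inv_mul_cancel _
  exact congrArg (fun x : ↥(Cfsg.GU n K q) => x.1.1) this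

/-! ### norm-one scalars -/

theorem norm_one_ne_zero (hK : Fintype.card K = q ^ 2) {c : K} (hc : c * sig hK c = 1) : c ≠ 0 := by
  rintro rfl
  rw [zero_mul] at hc
  exact zero_ne_one hc

theorem norm_one_iff_pow (hK : Fintype.card K = q ^ 2) (c : K) :
    c * sig hK c = 1 ↔ c ^ (q + 1) = 1 := by
  rw [sig_apply, pow_succ']

theorem mul_norm_one (hK : Fintype.card K = q ^ 2) {c d : K} (hc : c * sig hK c = 1)
    (hd : d * sig hK d = 1) : (c * d) * sig hK (c * d) = 1 := by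
  rw [map_mul, mul_mul_mul_comm, hc, hd, one_mul]

theorem pow_norm_one (hK : Fintype.card K = q ^ 2) {c : K} (hc : c * sig hK c = 1) (k : ℕ) :
    (c ^ k) * sig hK (c ^ k) = 1 := by
  rw [map_pow, ← mul_pow, hc, one_pow]

/-- if `s ^ r` has norm one (`r` an odd prime dividing `q + 1`) then so has `s` -/
theorem norm_one_of_pow_norm_one (hK : Fintype.card K = q ^ 2) {r : ℕ} (hr : r.Prime)
    (hr2 : r ≠ 2) (hrq : r ∣ q + 1) (s : K) (h : s ^ r * sig hK (s ^ r) = 1) :
    s * sig hK s = 1 := by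
  have hq2 : 2 ≤ q := Helper5.two_le_of_card_eq_sq hK
  have hs0 : s ≠ 0 := by
    rintro rfl
    rw [zero_pow hr.ne_zero, zero_mul] at h
    exact zero_ne_one h
  set N : K := s * sig hK s with hN
  have h1 : N ^ r = 1 := by rw [hN, mul_pow, ← map_pow, h]
  have h2 : N ^ (q - 1) = 1 := by
    have hNq : N = s ^ (q + 1) := by rw [hN, sig_apply, pow_succ']
    rw [hNq, ← pow_mul, q_add_one_mul_q_sub_one hK, ← hK]
    exact FiniteField.pow_card_sub_one_eq_one s hs0
  have hcop : Nat.Coprime r (q - 1) := by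
    rw [Nat.Prime.coprime_iff_not_dvd hr]
    intro hd
    have h3 : r ∣ (q + 1) - (q - 1) := Nat.dvd_sub hrq hd
    have h4 : (q + 1) - (q - 1) = 2 := by omega
    rw [h4] at h3
    exact hr2 ((Nat.prime_dvd_prime_iff_eq hr Nat.prime_two).1 h3)
  have h5 := pow_gcd_eq_one.2 ⟨h1, h2⟩
  rwa [hcop, pow_one] at h5

/-- representatives of the norm-one scalars modulo `r`-th powers -/
theorem exists_unitary_power_class_reps (hK : Fintype.card K = q ^ 2) {r : ℕ} (hr : r.Prime)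
    (hr2 : r ≠ 2) (hrq : r ∣ q + 1) :
    ∃ lam : Fin (r - 1) → K, (∀ i, lam i * sig hK (lam i) = 1) ∧
      (∀ i, ∀ s : K, s ^ r ≠ lam i) ∧
      (∀ i i' (c : K), lam i = c ^ r * lam i' → i = i') ∧
      (∀ l : K, l * sig hK l = 1 → (∀ s : K, s ^ r ≠ l) →
        ∃ i, ∃ c : K, c * sig hK c = 1 ∧ l = c ^ r * lam i) := by
  classical
  have hq2 : 2 ≤ q := Helper5.two_le_of_card_eq_sq hK
  obtain ⟨θ, hθ⟩ := IsCyclic.exists_generator (α := Kˣ)
  have hord : orderOf θ = (q - 1) * (q + 1) := by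
    rw [orderOf_eq_card_of_forall_mem_zpowers hθ, Nat.card_eq_fintype_card, Fintype.card_units, hK,
      mul_comm, q_add_one_mul_q_sub_one hK]
  have hordpos : 0 < orderOf θ := by
    rw [hord]
    exact Nat.mul_pos (by omega) (by omega)
  obtain ⟨u, hu⟩ : ∃ u : Kˣ, u = θ ^ (q - 1) := ⟨_, rfl⟩
  have hunorm : ∀ k : ℕ, ((u ^ k : Kˣ) : K) * sig hK ((u ^ k : Kˣ) : K) = 1 := by
    intro k
    have he : (q - 1) * (k * (q + 1)) = orderOf θ * k := by rw [hord]; ring
    rw [norm_one_iff_pow, ← Units.val_pow_eq_pow_val, hu, ← pow_mul, ← pow_mul, he,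
      pow_mul, pow_orderOf_eq_one, one_pow, Units.val_one]
  have hpow : ∀ x : K, x * sig hK x = 1 → ∃ k : ℕ, x = ((u ^ k : Kˣ) : K) := by
    intro x hx
    have hx0 := norm_one_ne_zero hK hx
    have h1 := hθ (Units.mk0 x hx0)
    rw [← mem_powers_iff_mem_zpowers] at h1
    obtain ⟨k, hk⟩ := h1
    have hk' : (θ ^ k : Kˣ) = Units.mk0 x hx0 := hk
    rw [norm_one_iff_pow] at hx
    have h2 : (θ ^ k) ^ (q + 1) = 1 := by
      apply Units.ext
      rw [hk', Units.val_pow_eq_pow_val, Units.val_mk0, hx, Units.val_one]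
    rw [← pow_mul] at h2
    have h3 := orderOf_dvd_of_pow_eq_one h2
    rw [hord] at h3
    have h4 : q - 1 ∣ k := Nat.dvd_of_mul_dvd_mul_right (by omega) h3
    obtain ⟨m, rfl⟩ := h4
    refine ⟨m, ?_⟩
    rw [hu, ← pow_mul, hk', Units.val_mk0]
  have hmod : ∀ m m' : ℕ, u ^ m = u ^ m' → m % r = m' % r := by
    intro m m' h
    rw [hu, ← pow_mul, ← pow_mul, pow_eq_pow_iff_mod θ hordpos, hord] at h
    have h1 : m ≡ m' [MOD q + 1] := Nat.ModEq.mul_left_cancel' (by omega) h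
    exact h1.of_dvd hrq
  have hr2' : 2 ≤ r := hr.two_le
  refine ⟨fun i => ((u ^ (i.val + 1) : Kˣ) : K), fun i => hunorm _, ?_, ?_, ?_⟩
  · intro i s hs
    have hsn : s * sig hK s = 1 := norm_one_of_pow_norm_one hK hr hr2 hrq s (by
      rw [hs]; exact hunorm _)
    obtain ⟨k, rfl⟩ := hpow s hsn
    rw [← Units.val_pow_eq_pow_val, ← pow_mul] at hs
    have h1 := hmod _ _ (Units.ext hs)
    have hi := i.isLt
    rw [Nat.mul_mod_left, Nat.mod_eq_of_lt (by omega)] at h1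
    omega
  · intro i i' c hc
    replace hc : ((u ^ (i.val + 1) : Kˣ) : K) = c ^ r * ((u ^ (i'.val + 1) : Kˣ) : K) := hc
    have hc0 : c ≠ 0 := by
      rintro rfl
      rw [zero_pow hr.ne_zero, zero_mul] at hc
      exact (Units.ne_zero _) hc
    have hcr : c ^ r * sig hK (c ^ r) = 1 := by
      have h1 : c ^ r = ((u ^ (i.val + 1) : Kˣ) : K) * (((u ^ (i'.val + 1) : Kˣ) : K))⁻¹ := by
        rw [hc, mul_assoc, mul_inv_cancel₀ (Units.ne_zero _), mul_one]
      rw [h1]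
      exact mul_norm_one hK (hunorm _) (inv_norm_one hK (hunorm _))
    have hcn := norm_one_of_pow_norm_one hK hr hr2 hrq c hcr
    obtain ⟨k, rfl⟩ := hpow c hcn
    rw [← Units.val_pow_eq_pow_val, ← Units.val_mul, ← pow_mul, ← pow_add] at hc
    have h1 := hmod _ _ (Units.ext hc)
    have hi := i.isLt
    have hi' := i'.isLt
    rw [Nat.add_comm (k * r), Nat.add_mul_mod_self_right, Nat.mod_eq_of_lt (by omega),
      Nat.mod_eq_of_lt (by omega)] at h1
    apply Fin.ext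
    omega
  · intro l hl hnp
    obtain ⟨m, rfl⟩ := hpow l hl
    have hm : m % r ≠ 0 := by
      intro h0
      apply hnp ((u ^ (m / r) : Kˣ) : K)
      rw [← Units.val_pow_eq_pow_val, ← pow_mul]
      congr 2
      have := Nat.div_add_mod m r
      rw [h0, add_zero] at this
      rw [mul_comm]; exact this
    have hlt : m % r < r := Nat.mod_lt _ hr.pos
    refine ⟨⟨m % r - 1, by omega⟩, ((u ^ (m / r) : Kˣ) : K), hunorm _, ?_⟩
    rw [← Units.val_pow_eq_pow_val, ← Units.val_mul, ← pow_mul, ← pow_add]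
    congr 2
    have := Nat.div_add_mod m r
    simp only
    have h5 : m % r - 1 + 1 = m % r := by omega
    rw [h5, mul_comm]
    exact this.symm

/-! ### self-dual polynomials -/

theorem udual_X_sub_C (hK : Fintype.card K = q ^ 2) {z : K} (hz : z * sig hK z = 1) :
    udual hK (X - C z) = X - C z := by
  have hz0 := norm_one_ne_zero hK hz
  have hsz0 : sig hK z ≠ 0 := (map_ne_zero_iff _ (sig hK).injective).2 hz0
  unfold udual
  rw [Polynomial.map_sub, map_X, map_C, RingHom.coe_coe, rdual_X_sub_C hsz0]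
  congr 2
  exact (eq_inv_of_mul_eq_one_left hz).symm

theorem rdual_X_pow_sub_C {r : ℕ} (hr : 0 < r) {a : K} (ha : a ≠ 0) :
    rdual (X ^ r - C a : K[X]) = X ^ r - C a⁻¹ := by
  unfold rdual
  have hnd : (X ^ r - C a : K[X]).natDegree = r := natDegree_X_pow_sub_C
  have h1 : (X ^ r - C a : K[X]).reverse = 1 - C a * X ^ r := by
    unfold reverse
    rw [hnd, reflect_sub, reflect_monomial, reflect_C, revAt_le le_rfl, Nat.sub_self, pow_zero]
  have h2 : (X ^ r - C a : K[X]).coeff 0 = -a := by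
    rw [coeff_sub, coeff_X_pow, coeff_C_zero, if_neg (by omega), zero_sub]
  rw [h1, h2, inv_neg, C_neg, mul_sub, mul_one, ← mul_assoc, neg_mul, ← C_mul,
    inv_mul_cancel₀ ha, C_1]
  ring

theorem udual_X_pow_sub_C (hK : Fintype.card K = q ^ 2) {r : ℕ} (hr : 0 < r) {l : K}
    (hl : l * sig hK l = 1) : udual hK (X ^ r - C l) = X ^ r - C l := by
  have hl0 := norm_one_ne_zero hK hl
  have hsl0 : sig hK l ≠ 0 := (map_ne_zero_iff _ (sig hK).injective).2 hl0
  unfold udual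
  rw [Polynomial.map_sub, Polynomial.map_pow, map_X, map_C, RingHom.coe_coe,
    rdual_X_pow_sub_C hr hsl0]
  congr 2
  exact (eq_inv_of_mul_eq_one_left hl).symm

theorem udual_pow (hK : Fintype.card K = q ^ 2) (f : K[X]) (k : ℕ) :
    udual hK (f ^ k) = udual hK f ^ k := by
  induction k with
  | zero =>
    unfold udual rdual
    rw [pow_zero, pow_zero, Polynomial.map_one, coeff_one_zero, inv_one, C_1, one_mul, ← C_1,
      reverse_C]
  | succ k ih => rw [pow_succ, pow_succ, udual_mul, ih]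

theorem udual_one (hK : Fintype.card K = q ^ 2) : udual hK (1 : K[X]) = 1 := by
  have := udual_pow hK (1 : K[X]) 0
  rwa [pow_zero, pow_zero] at this

theorem udual_prod (hK : Fintype.card K = q ^ 2) {ι : Type*} (s : Finset ι) (f : ι → K[X]) :
    udual hK (∏ j ∈ s, f j) = ∏ j ∈ s, udual hK (f j) := by
  classical
  induction s using Finset.induction_on with
  | empty => rw [Finset.prod_empty, Finset.prod_empty, udual_one]
  | insert a s ha ih => rw [Finset.prod_insert ha, Finset.prod_insert ha, udual_mul, ih]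

theorem udual_PF (hK : Fintype.card K = q ^ 2) {ι : Type*} [Fintype ι] (z : ι → K)
    (hz : ∀ j, z j * sig hK (z j) = 1) (a : ι → ℕ) :
    udual hK (Cfsg.Agent.S2670.PF z a) = Cfsg.Agent.S2670.PF z a := by
  unfold Cfsg.Agent.S2670.PF
  rw [udual_prod]
  apply Finset.prod_congr rfl
  intro j _
  rw [udual_pow, udual_X_sub_C hK (hz j)]

/-! ### unitary representatives -/

/-- a semisimple matrix with scalar `r`-th power and self-dual characteristic polynomial is
similar to a unitary matrix -/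
theorem exists_unitary_rep (hK : Fintype.card K = q ^ 2) (r : ℕ) (hrF : (r : K) ≠ 0)
    (A : Matrix (Fin n) (Fin n) K) (l : K) (hl : l ≠ 0) (hA : A ^ r = l • 1)
    (hss : Module.End.IsSemisimple (Matrix.toLin' A))
    (hdual : udual hK A.charpoly = A.charpoly) :
    ∃ g : ↥(Cfsg.GU n K q), Module.End.IsSemisimple (Matrix.toLin' g.1.1) ∧
      g.1.1.charpoly = A.charpoly ∧ g.1.1 ^ r = l • 1 := by
  have hr0 : r ≠ 0 := by
    rintro rfl
    exact hrF Nat.cast_zero
  obtain ⟨r', hr'⟩ : ∃ r', r = r' + 1 := ⟨r - 1, by omega⟩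
  have hAdet : IsUnit A.det := by
    have h1 : A * (l⁻¹ • A ^ r') = 1 := by
      rw [Matrix.mul_smul, ← pow_succ', ← hr', hA, smul_smul, inv_mul_cancel₀ hl, one_smul]
    have h2 := congrArg Matrix.det h1
    rw [Matrix.det_mul, Matrix.det_one] at h2
    exact IsUnit.of_mul_eq_one _ h2
  set A' := (st hK A)⁻¹ with hA'
  have hsAdet : IsUnit (st hK A).det := by rw [st_det]; exact hAdet.map _
  have hsl0 : sig hK l ≠ 0 := (map_ne_zero_iff _ (sig hK).injective).2 hl
  have hA'r : A' ^ r = (sig hK l)⁻¹ • 1 := by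
    rw [hA', Matrix.inv_pow', ← st_pow, hA, st_smul, st_one]
    apply Matrix.inv_eq_right_inv
    rw [Matrix.smul_mul, Matrix.one_mul, smul_smul, mul_inv_cancel₀ hsl0, one_smul]
  have hA'ss : Module.End.IsSemisimple (Matrix.toLin' A') :=
    Cfsg.Agent.S2670.semisimple_of_pow r hrF A' _ (inv_ne_zero hsl0) hA'r
  have hA'char : A'.charpoly = A.charpoly := by
    rw [hA', charpoly_st_inv hK A hAdet, hdual]
  obtain ⟨P, hP⟩ := exists_gl_conj_of_charpoly_eq A A' hss hA'ss hA'char.symm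
  have hPdet : IsUnit (P : Matrix (Fin n) (Fin n) K).det :=
    (Matrix.isUnit_iff_isUnit_det _).1 P.isUnit
  have hinv : st hK A * (P : Matrix (Fin n) (Fin n) K) * A =
      (P : Matrix (Fin n) (Fin n) K) := by
    rw [Matrix.mul_assoc, hP, hA', ← Matrix.mul_assoc, Matrix.mul_nonsing_inv _ hsAdet,
      Matrix.one_mul]
  obtain ⟨C, B, hCdet, hB, hCB⟩ := exists_unitary_similar hK A _ hPdet hinv
  have hCi : C * C⁻¹ = 1 := Matrix.mul_nonsing_inv C hCdet
  have hBeq : B = C * A * C⁻¹ := by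
    rw [hCB, Matrix.mul_assoc, hCi, Matrix.mul_one]
  let g : ↥(Cfsg.GU n K q) := GUofPreserves hK B ((isUnitaryMat_iff_preserves hK B).1 hB)
  have hgmat : g.1.1 = B := GUofPreserves_coe hK B _
  have hCu : IsUnit C := (Matrix.isUnit_iff_isUnit_det _).2 hCdet
  obtain ⟨Cu, hCu'⟩ := hCu
  have hBr : B ^ r = l • 1 := by
    rw [hBeq, ← hCu', ← Matrix.coe_units_inv, Units.conj_pow, hA, Matrix.mul_smul, Matrix.mul_one,
      Matrix.smul_mul, Units.mul_inv]
  have hBchar : B.charpoly = A.charpoly := by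
    rw [hBeq, ← hCu', Matrix.charpoly_units_conj]
  refine ⟨g, ?_, ?_, ?_⟩
  · rw [hgmat]
    exact Cfsg.Agent.S2670.semisimple_of_pow r hrF B l hl hBr
  · rw [hgmat, hBchar]
  · rw [hgmat, hBr]

end Cfsg.Agent.Lib.Helper37.PGUConj
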