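import Mathlib
import Cfsg.Prelude.Def_LocalEven

/-!
# Groups all of whose `p`-local subgroups are `p`-closed

`PClosedIn p M`: the subgroup `M` has a normal `p`-subgroup containing all its `p`-subgroups.
`PLoc p G`: the normalizer of every nontrivial `p`-subgroup of `G` is `p`-closed.
`PLoc` passes to sections (`PLoc.of_involves`), by Frattini's argument.
-/

set_option autoImplicit false

namespace Cfsg.Agent.Lib.Helper37

open Subgroup

/-- `M` has a normal `p`-subgroup containing all `p`-subgroups of `M`. -/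
def PClosedIn (p : ℕ) {G : Type*} [Group G] (M : Subgroup G) : Prop :=
  ∃ U : Subgroup G, U ≤ M ∧ M ≤ normalizer (U : Set G) ∧ IsPGroup p U ∧
    ∀ Q : Subgroup G, Q ≤ M → IsPGroup p Q → Q ≤ U

theorem PClosedIn.mono {p : ℕ} {G : Type*} [Group G] {M M' : Subgroup G} (h : PClosedIn p M)
    (hle : M' ≤ M) : PClosedIn p M' := by
  obtain ⟨U, hUM, hMN, hU, hall⟩ := h
  refine ⟨U ⊓ M', inf_le_right, ?_, hU.to_le inf_le_left, ?_⟩
  · intro m hm
    rw [mem_normalizer_iff]
    intro x
    have h1 := (mem_normalizer_iff.1 (hMN (hle hm))) x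
    constructor
    · rintro ⟨hxU, hxM⟩
      exact ⟨h1.1 hxU, M'.mul_mem (M'.mul_mem hm hxM) (M'.inv_mem hm)⟩
    · rintro ⟨hxU, hxM⟩
      refine ⟨h1.2 hxU, ?_⟩
      have : x = m⁻¹ * (m * x * m⁻¹) * m := by group
      rw [this]
      exact M'.mul_mem (M'.mul_mem (M'.inv_mem hm) hxM) hm
  · intro Q hQM hQ
    exact le_inf (hall Q (hQM.trans hle) hQ) hQM

/-- `p`-closedness passes to homomorphic images (finite groups). -/
theorem PClosedIn.map {p : ℕ} [Fact p.Prime] {G H : Type*} [Group G] [Finite G] [Group H]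
    (f : G →* H) {M : Subgroup G} (h : PClosedIn p M) : PClosedIn p (M.map f) := by
  obtain ⟨U, hUM, hMN, hU, hall⟩ := h
  refine ⟨U.map f, Subgroup.map_mono hUM, ?_, hU.map f, ?_⟩
  · exact (Subgroup.map_mono hMN).trans (Subgroup.le_normalizer_map f)
  · intro Q hQM hQ
    -- Q₀ = preimage of Q in M
    set Q₀ : Subgroup G := Q.comap f ⊓ M with hQ₀
    -- f maps Q₀ onto Q
    let f' : Q₀ →* Q := (f.comp Q₀.subtype).codRestrict Q (fun x => by
      have h0 : (x : G) ∈ Q.comap f ⊓ M := x.2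
      exact h0.1)
    have hf' : Function.Surjective f' := by
      rintro ⟨y, hy⟩
      obtain ⟨x, hxM, rfl⟩ := hQM hy
      exact ⟨⟨x, ⟨hy, hxM⟩⟩, rfl⟩
    let S : Sylow p Q₀ := Sylow.nonempty.some
    have hS : ((S.mapSurjective hf' : Sylow p Q) : Subgroup Q) = ⊤ :=
      ((S.mapSurjective hf').3 (IsPGroup.to_subgroup hQ ⊤) le_top).symm
    rw [Sylow.coe_mapSurjective] at hS
    -- S as a subgroup of G
    have hS' : IsPGroup p ((S : Subgroup Q₀).map Q₀.subtype) := S.2.map _
    have hSM : (S : Subgroup Q₀).map Q₀.subtype ≤ M := by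
      rintro _ ⟨x, _, rfl⟩
      exact x.2.2
    have hSU := hall _ hSM hS'
    intro y hy
    have hy' : (⟨y, hy⟩ : Q) ∈ (S : Subgroup Q₀).map f' := by rw [hS]; trivial
    obtain ⟨s, hs, hsy⟩ := hy'
    refine ⟨(s : G), hSU (Subgroup.mem_map_of_mem _ hs), ?_⟩
    exact congrArg Subtype.val hsy

/-- `p`-closedness pulls back along injective homomorphisms. -/
theorem PClosedIn.of_map_injective {p : ℕ} {G H : Type*} [Group G] [Group H]
    (f : H →* G) (hf : Function.Injective f) {M : Subgroup H} (h : PClosedIn p (M.map f)) :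
    PClosedIn p M := by
  obtain ⟨U, hUM, hMN, hU, hall⟩ := h
  refine ⟨U.comap f, ?_, ?_, hU.comap_of_injective f hf, ?_⟩
  · intro x hx
    obtain ⟨y, hy, hxy⟩ := hUM hx
    rwa [← hf hxy]
  · intro m hm
    rw [mem_normalizer_iff]
    intro x
    have h1 := (mem_normalizer_iff.1 (hMN (Subgroup.mem_map_of_mem f hm))) (f x)
    simp only [Subgroup.mem_comap, map_mul, map_inv]
    exact h1
  · intro Q hQM hQ
    have := hall (Q.map f) (Subgroup.map_mono hQM) (hQ.map f)
    intro x hx
    exact this (Subgroup.mem_map_of_mem f hx)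

/-- every `p`-local subgroup is `p`-closed -/
def PLoc (p : ℕ) (G : Type*) [Group G] : Prop :=
  ∀ Q : Subgroup G, IsPGroup p Q → Q ≠ ⊥ → PClosedIn p (normalizer (Q : Set G))

theorem PLoc.of_injective {p : ℕ} {G H : Type*} [Group G] [Group H] (f : H →* G)
    (hf : Function.Injective f) (h : PLoc p G) : PLoc p H := by
  intro Q hQ hQne
  have hne : Q.map f ≠ ⊥ := by
    intro h0
    apply hQne
    rw [Subgroup.map_eq_bot_iff_of_injective Q hf] at h0
    exact h0
  have h1 := h (Q.map f) (hQ.map f) hne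
  have h2 : (normalizer (Q : Set H)).map f ≤ normalizer ((Q.map f : Subgroup G) : Set G) :=
    Subgroup.le_normalizer_map f
  exact PClosedIn.of_map_injective f hf (h1.mono h2)

/-- `PLoc` passes to quotients of finite groups (Frattini argument). -/
theorem PLoc.of_surjective {p : ℕ} [Fact p.Prime] {G H : Type*} [Group G] [Finite G] [Group H]
    (f : G →* H) (hf : Function.Surjective f) (h : PLoc p G) : PLoc p H := by
  intro Q hQ hQne
  set L : Subgroup G := Q.comap f with hL
  set N : Subgroup G := normalizer (L : Set G) with hN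
  have hNQ : (normalizer (Q : Set H)).comap f = N :=
    Subgroup.comap_normalizer_eq_of_surjective Q hf
  have hLN : L ≤ N := le_normalizer
  let L₁ : Subgroup N := L.subgroupOf N
  haveI : L₁.Normal := Subgroup.normal_in_normalizer
  let P : Sylow p L₁ := Sylow.nonempty.some
  have hfrat := Sylow.normalizer_sup_eq_top P
  set R₁ : Subgroup N := (P : Subgroup L₁).map L₁.subtype with hR₁
  set R : Subgroup G := R₁.map N.subtype with hR
  have hRp : IsPGroup p R := (P.2.map _).map _
  have hRL : R ≤ L := by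
    rintro _ ⟨x, ⟨y, _, rfl⟩, rfl⟩
    exact y.2
  -- `f` maps `R` onto `Q`
  let f' : L₁ →* Q := (f.comp (N.subtype.comp L₁.subtype)).codRestrict Q (fun x => x.2)
  have hf' : Function.Surjective f' := by
    rintro ⟨y, hy⟩
    obtain ⟨x, rfl⟩ := hf y
    have hxL : x ∈ L := hy
    exact ⟨⟨⟨x, hLN hxL⟩, hxL⟩, rfl⟩
  have hS : ((P.mapSurjective hf' : Sylow p Q) : Subgroup Q) = ⊤ :=
    ((P.mapSurjective hf').3 (IsPGroup.to_subgroup hQ ⊤) le_top).symm
  rw [Sylow.coe_mapSurjective] at hS
  have hQR : ∀ y ∈ Q, ∃ r ∈ R, f r = y := by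
    intro y hy
    have hy' : (⟨y, hy⟩ : Q) ∈ (P : Subgroup L₁).map f' := by rw [hS]; trivial
    obtain ⟨s, hs, hsy⟩ := hy'
    refine ⟨((s : N) : G), ?_, congrArg Subtype.val hsy⟩
    exact Subgroup.mem_map_of_mem _ (Subgroup.mem_map_of_mem _ hs)
  have hRne : R ≠ ⊥ := by
    intro h0
    apply hQne
    rw [eq_bot_iff]
    intro y hy
    obtain ⟨r, hr, rfl⟩ := hQR y hy
    rw [h0, Subgroup.mem_bot] at hr
    rw [hr, map_one]
    exact Subgroup.mem_bot.2 rfl
  have h1 := h R hRp hRne
  have hle : normalizer (Q : Set H) ≤ (normalizer (R : Set G)).map f := by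
    intro m hm
    obtain ⟨g, rfl⟩ := hf m
    have hgN : g ∈ N := by rw [← hNQ]; exact hm
    have htop : (⟨g, hgN⟩ : N) ∈ ((normalizer (R₁ : Set N) ⊔ L₁ : Subgroup N) : Set N) := by
      rw [hfrat]; trivial
    rw [Subgroup.mul_normal] at htop
    obtain ⟨a, ha, b, hb, hab⟩ := htop
    have hbL : (b : G) ∈ L := hb
    obtain ⟨r, hr, hrb⟩ := hQR (f b) hbL
    have haR : (a : G) ∈ normalizer (R : Set G) :=
      Subgroup.le_normalizer_map N.subtype (Subgroup.mem_map_of_mem _ ha)
    refine ⟨(a : G) * r, (normalizer (R : Set G)).mul_mem haR (le_normalizer hr), ?_⟩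
    rw [map_mul, hrb, ← map_mul]
    congr 1
    exact congrArg Subtype.val hab
  exact (h1.map f).mono hle

theorem PLoc.of_involves {p : ℕ} [Fact p.Prime] {G : Type*} {H : Type*} [Group G] [Finite G]
    [Group H] (hinv : Cfsg.Involves H G) (h : PLoc p G) : PLoc p H := by
  obtain ⟨K, R, hN, ⟨e⟩⟩ := hinv
  have h1 : PLoc p K := PLoc.of_injective K.subtype K.subtype_injective h
  have h2 : PLoc p (K ⧸ R.subgroupOf K) :=
    PLoc.of_surjective (QuotientGroup.mk' (R.subgroupOf K)) (QuotientGroup.mk'_surjective _) h1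
  exact PLoc.of_surjective e.toMonoidHom e.surjective h2

end Cfsg.Agent.Lib.Helper37
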