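/-
helper37 library: the number of monic self-reciprocal polynomials of degree `2n` with constant
term `1` over a finite field with `q` elements is `q ^ n`.
-/
import Mathlib
import Cfsg.Agent.Lib.Helper37.DualPoly

set_option autoImplicit false

namespace Cfsg.Agent.Lib.Helper37.PalCount

open Polynomial Cfsg.Agent.Lib.Helper37.DualPoly

variable {F : Type*} [Field F]

/-- extension of a finite family by zero -/
def ext0 {n : ℕ} (c : Fin n → F) (j : ℕ) : F := if h : j < n then c ⟨j, h⟩ else 0

theorem ext0_lt {n : ℕ} (c : Fin n → F) (j : ℕ) (h : j < n) : ext0 c j = c ⟨j, h⟩ := dif_pos h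

/-- the coefficients of the palindromic polynomial with given lower half -/
def palCoeff {n : ℕ} (c : Fin n → F) (j : ℕ) : F :=
  if j = 0 ∨ j = 2 * n then 1 else if j ≤ n then ext0 c (j - 1) else ext0 c (2 * n - j - 1)

/-- the palindromic polynomial -/
noncomputable def palPoly {n : ℕ} (c : Fin n → F) : F[X] :=
  ∑ j ∈ Finset.range (2 * n + 1), monomial j (palCoeff c j)

theorem palPoly_coeff {n : ℕ} (c : Fin n → F) (k : ℕ) :
    (palPoly c).coeff k = if k ≤ 2 * n then palCoeff c k else 0 := by
  unfold palPoly
  rw [finsetSum_coeff]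
  simp only [coeff_monomial]
  rw [Finset.sum_ite_eq' (Finset.range (2 * n + 1)) k]
  simp only [Finset.mem_range, Nat.lt_succ_iff]

theorem palCoeff_symm {n : ℕ} (c : Fin n → F) (k : ℕ) (hk : k ≤ 2 * n) :
    palCoeff c (2 * n - k) = palCoeff c k := by
  unfold palCoeff
  by_cases h0 : k = 0
  · subst h0
    simp
  by_cases h2 : k = 2 * n
  · subst h2
    simp
  have h3 : ¬ (2 * n - k = 0 ∨ 2 * n - k = 2 * n) := by omega
  have h4 : ¬ (k = 0 ∨ k = 2 * n) := by omega
  rw [if_neg h3, if_neg h4]
  by_cases hkn : k ≤ n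
  · rw [if_pos hkn]
    by_cases hkn' : k = n
    · subst hkn'
      rw [if_pos (by omega)]
      congr 1
      omega
    · rw [if_neg (by omega)]
      congr 1
      omega
  · rw [if_neg hkn, if_pos (by omega)]

theorem palPoly_natDegree {n : ℕ} (c : Fin n → F) : (palPoly c).natDegree = 2 * n := by
  apply le_antisymm
  · rw [natDegree_le_iff_coeff_eq_zero]
    intro k hk
    rw [palPoly_coeff, if_neg (by omega)]
  · apply le_natDegree_of_ne_zero
    rw [palPoly_coeff, if_pos le_rfl]
    unfold palCoeff
    rw [if_pos (Or.inr rfl)]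
    exact one_ne_zero

theorem palPoly_monic {n : ℕ} (c : Fin n → F) : (palPoly c).Monic := by
  unfold Monic leadingCoeff
  rw [palPoly_natDegree, palPoly_coeff, if_pos le_rfl]
  unfold palCoeff
  rw [if_pos (Or.inr rfl)]

theorem palPoly_coeff_zero {n : ℕ} (c : Fin n → F) : (palPoly c).coeff 0 = 1 := by
  rw [palPoly_coeff, if_pos (Nat.zero_le _)]
  unfold palCoeff
  rw [if_pos (Or.inl rfl)]

/-- a monic polynomial with constant term one is self-reciprocal iff its coefficients are
symmetric -/
theorem rdual_eq_self_iff_symm {n : ℕ} (f : F[X]) (hdeg : f.natDegree = 2 * n)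
    (hf0 : f.coeff 0 = 1) :
    rdual f = f ↔ ∀ k ≤ 2 * n, f.coeff (2 * n - k) = f.coeff k := by
  unfold rdual
  rw [hf0, inv_one, C_1, one_mul]
  constructor
  · intro h k hk
    conv_rhs => rw [← h]
    rw [coeff_reverse, hdeg, revAt_le hk]
  · intro h
    ext k
    rw [coeff_reverse, hdeg]
    by_cases hk : k ≤ 2 * n
    · rw [revAt_le hk, h k hk]
    · have hk' : 2 * n < k := by omega
      rw [revAt_eq_self_of_lt hk']

theorem palPoly_rdual {n : ℕ} (c : Fin n → F) : rdual (palPoly c) = palPoly c := by
  rw [rdual_eq_self_iff_symm _ (palPoly_natDegree c) (palPoly_coeff_zero c)]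
  intro k hk
  rw [palPoly_coeff, palPoly_coeff, if_pos hk, if_pos (by omega), palCoeff_symm c k hk]

/-- the equivalence between palindromic polynomials and their lower halves -/
noncomputable def palEquiv (n : ℕ) :
    {f : F[X] // f.Monic ∧ f.natDegree = 2 * n ∧ rdual f = f ∧ f.coeff 0 = 1} ≃ (Fin n → F) where
  toFun f := fun k => f.1.coeff (k.val + 1)
  invFun c := ⟨palPoly c, palPoly_monic c, palPoly_natDegree c, palPoly_rdual c,
    palPoly_coeff_zero c⟩
  left_inv := by
    rintro ⟨f, hmon, hdeg, hdual, hf0⟩
    apply Subtype.ext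
    show palPoly (fun k : Fin n => f.coeff (k.val + 1)) = f
    have hsymm := (rdual_eq_self_iff_symm f hdeg hf0).1 hdual
    ext k
    rw [palPoly_coeff]
    by_cases hk : k ≤ 2 * n
    · rw [if_pos hk]
      unfold palCoeff
      by_cases h0 : k = 0
      · subst h0
        rw [if_pos (Or.inl rfl), hf0]
      by_cases h2 : k = 2 * n
      · subst h2
        rw [if_pos (Or.inr rfl)]
        have := hmon
        unfold Monic leadingCoeff at this
        rw [hdeg] at this
        exact this.symm
      rw [if_neg (by omega)]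
      by_cases hkn : k ≤ n
      · rw [if_pos hkn, ext0_lt _ _ (by omega)]
        show f.coeff (k - 1 + 1) = f.coeff k
        congr 1
        omega
      · rw [if_neg hkn, ext0_lt _ _ (by omega)]
        show f.coeff (2 * n - k - 1 + 1) = f.coeff k
        rw [← hsymm k hk]
        congr 1
        omega
    · rw [if_neg hk]
      symm
      apply coeff_eq_zero_of_natDegree_lt
      omega
  right_inv := by
    intro c
    funext k
    show (palPoly c).coeff (k.val + 1) = c k
    have hk := k.isLt
    rw [palPoly_coeff, if_pos (by omega)]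
    unfold palCoeff
    rw [if_neg (by omega), if_pos (by omega), ext0_lt _ _ (by omega)]
    rfl

theorem card_pal [Fintype F] (n : ℕ) :
    Nat.card {f : F[X] // f.Monic ∧ f.natDegree = 2 * n ∧ rdual f = f ∧ f.coeff 0 = 1} =
      Fintype.card F ^ n := by
  rw [Nat.card_congr (palEquiv n), Nat.card_eq_fintype_card, Fintype.card_fun, Fintype.card_fin]

end Cfsg.Agent.Lib.Helper37.PalCount
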