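import Mathlib
import Cfsg.Agent.Lib.Helper37.TriRefl
import Cfsg.Agent.Lib.Helper37.TriCyc

set_option autoImplicit false

/-!
# TRI8: related triples of SIMILITUDES of the split octonions

`IsSim A μ` : `A` multiplies the norm by `μ`.  Related triples of similitudes `A (x y) = B x · C y`:
multipliers multiply, cyclic rules up to scalars, conjugation of a related triple by a related
triple, and the explicit triples `(r_u r_v, (cd)⁻¹ L_u L_v̄, R_u R_v̄)` (any non-zero norms `c, d`),
`(L_u, x ↦ u x u, L_{u⁻¹})`, `(R_u, R_{u⁻¹}, x ↦ u x u)`.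
-/

namespace Cfsg.Agent.Lib.Helper37.Tri

open Cfsg.Agent.Lib.Helper36.Tri

variable {F : Type*} [Field F]

/-- `A` is a similitude of the norm with multiplier `μ` -/
def IsSim (A : OV F ≃ₗ[F] OV F) (μ : F) : Prop := ∀ x, onorm (A x) = μ * onorm x

theorem isSim_one_iff {A : OV F ≃ₗ[F] OV F} : IsSim A 1 ↔ IsIso A := by
  constructor
  · intro h x; rw [h x, one_mul]
  · intro h x; rw [h x, one_mul]

theorem IsSim.ne_zero {A : OV F ≃ₗ[F] OV F} {μ : F} (h : IsSim A μ) : μ ≠ 0 := by
  rintro rfl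
  have h1 := h (A.symm oone)
  rw [LinearEquiv.apply_symm_apply, b_onorm_oone, zero_mul] at h1
  exact one_ne_zero h1

theorem IsSim.obil {A : OV F ≃ₗ[F] OV F} {μ : F} (h : IsSim A μ) (x y : OV F) :
    obil (A x) (A y) = μ * obil x y := by
  unfold Cfsg.Agent.Lib.Helper36.Tri.obil
  rw [← map_add, h, h, h]; ring

theorem IsSim.trans {A B : OV F ≃ₗ[F] OV F} {μ ν : F} (hA : IsSim A μ) (hB : IsSim B ν) :
    IsSim (A.trans B) (μ * ν) := by
  intro x
  rw [LinearEquiv.trans_apply, hB, hA]; ring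

theorem IsSim.symm {A : OV F ≃ₗ[F] OV F} {μ : F} (hA : IsSim A μ) : IsSim A.symm μ⁻¹ := by
  intro x
  have h := hA (A.symm x)
  rw [LinearEquiv.apply_symm_apply] at h
  rw [h, ← mul_assoc, inv_mul_cancel₀ hA.ne_zero, one_mul]

theorem isSim_refl : IsSim (LinearEquiv.refl F (OV F)) 1 := fun x => by
  rw [LinearEquiv.refl_apply, one_mul]

theorem IsSim.hatE {A : OV F ≃ₗ[F] OV F} {μ : F} (hA : IsSim A μ) : IsSim (hatE A) μ := by
  intro x
  rw [hatE_apply, onorm_oconj, hA, onorm_oconj]

/-- the scalar `l` as a linear equivalence -/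
def scalE (l : F) (hl : l ≠ 0) : OV F ≃ₗ[F] OV F :=
  LinearEquiv.smulOfUnit (Units.mk0 l hl)

@[simp] theorem scalE_apply (l : F) (hl : l ≠ 0) (x : OV F) : scalE l hl x = l • x := rfl

theorem isSim_scalE (l : F) (hl : l ≠ 0) : IsSim (scalE l hl) (l ^ 2) := fun x => by
  rw [scalE_apply, b_onorm_smul]

/-- in a related triple of similitudes the multipliers multiply -/
theorem isRel_mult {A B C : OV F ≃ₗ[F] OV F} {α β γ : F} (h : IsRel A B C)
    (hA : IsSim A α) (hB : IsSim B β) (hC : IsSim C γ) : α = β * γ := by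
  have h1 := congrArg onorm (h oone oone)
  rw [b_oone_omul, hA, b_onorm_omul, hB, hC, b_onorm_oone] at h1
  rw [mul_one, mul_one, mul_one] at h1
  exact h1

/-! ### the group structure on related triples -/

theorem isRel_refl : IsRel (LinearEquiv.refl F (OV F)) (LinearEquiv.refl F (OV F))
    (LinearEquiv.refl F (OV F)) := fun _ _ => rfl

theorem isRel_trans {A B C A' B' C' : OV F ≃ₗ[F] OV F} (h : IsRel A B C) (h' : IsRel A' B' C') :
    IsRel (A.trans A') (B.trans B') (C.trans C') := by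
  intro x y
  simp only [LinearEquiv.trans_apply]
  rw [h, h']

theorem isRel_symm {A B C : OV F ≃ₗ[F] OV F} (h : IsRel A B C) :
    IsRel A.symm B.symm C.symm := by
  intro x y
  apply A.injective
  rw [LinearEquiv.apply_symm_apply, h, LinearEquiv.apply_symm_apply, LinearEquiv.apply_symm_apply]

/-- conjugating a related triple by a related triple (of arbitrary linear equivalences) -/
theorem isRel_conj {A B C g g₁ g₂ : OV F ≃ₗ[F] OV F} (h : IsRel A B C) (hg : IsRel g g₁ g₂) :
    IsRel ((g.symm.trans A).trans g) ((g₁.symm.trans B).trans g₁) ((g₂.symm.trans C).trans g₂) :=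
  isRel_trans (isRel_trans (isRel_symm hg) h) hg

/-- scalar triples -/
theorem isRel_scalE (l m : F) (hl : l ≠ 0) (hm : m ≠ 0) :
    IsRel (scalE (l * m) (mul_ne_zero hl hm)) (scalE l hl) (scalE m hm) := by
  intro x y
  simp only [scalE_apply]
  rw [omul_smul_left, omul_smul_right, smul_smul]

/-! ### cyclic rules for similitudes -/

/-- rule 1 for similitudes: `A (x y) = B x · C y` gives `β • C (x z) = B̂ x · A z` -/
theorem isRel_rule1_sim {A B C : OV F ≃ₗ[F] OV F} {α β γ : F} (hA : IsSim A α) (hB : IsSim B β)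
    (hC : IsSim C γ) (h : IsRel A B C) (x z : OV F) :
    β • C (omul x z) = omul (hatE B x) (A z) := by
  have hαβγ := isRel_mult h hA hB hC
  have hγ := hC.ne_zero
  rw [hatE_apply]
  apply eq_of_obil_eq
  intro w
  obtain ⟨y, rfl⟩ := C.surjective w
  have e1 : obil (C y) (omul (oconj (B (oconj x))) (A z)) = α * obil y (omul x z) := by
    rw [← b_obil_omul_left, ← h, hA.obil, b_obil_omul_left, oconj_oconj]
  rw [e1, b_obil_smul_right, hC.obil, hαβγ]; ring

/-- rule 2 for similitudes: `A (x y) = B x · C y` gives `γ • B (z y) = A z · Ĉ y` -/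
theorem isRel_rule2_sim {A B C : OV F ≃ₗ[F] OV F} {α β γ : F} (hA : IsSim A α) (hB : IsSim B β)
    (hC : IsSim C γ) (h : IsRel A B C) (z y : OV F) :
    γ • B (omul z y) = omul (A z) (hatE C y) := by
  have hαβγ := isRel_mult h hA hB hC
  rw [hatE_apply]
  apply eq_of_obil_eq
  intro w
  obtain ⟨w', rfl⟩ := B.surjective w
  have e1 : obil (B w') (omul (A z) (oconj (C (oconj y)))) = α * obil w' (omul z y) := by
    rw [← b_obil_omul_right, ← h, hA.obil, b_obil_omul_right, oconj_oconj]
  rw [e1, b_obil_smul_right, hB.obil, hαβγ]; ring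

/-! ### multiplication operators as similitudes -/

/-- the inverse of an octonion of non-zero norm -/
def oinv (u : OV F) : OV F := (onorm u)⁻¹ • oconj u

theorem onorm_oinv (u : OV F) (hu : onorm u ≠ 0) : onorm (oinv u) = (onorm u)⁻¹ := by
  unfold oinv
  rw [b_onorm_smul, onorm_oconj]
  field_simp

theorem onorm_oinv_ne_zero (u : OV F) (hu : onorm u ≠ 0) : onorm (oinv u) ≠ 0 := by
  rw [onorm_oinv u hu]; exact inv_ne_zero hu

theorem oinv_omul_cancel (u : OV F) (hu : onorm u ≠ 0) (x : OV F) :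
    omul (oinv u) (omul u x) = x := by
  unfold oinv
  rw [omul_smul_left, b_oconj_omul_cancel, smul_smul, inv_mul_cancel₀ hu, one_smul]

theorem omul_oinv_cancel (u : OV F) (hu : onorm u ≠ 0) (x : OV F) :
    omul u (omul (oinv u) x) = x := by
  unfold oinv
  rw [omul_smul_left, omul_smul_right, b_omul_oconj_cancel, smul_smul, inv_mul_cancel₀ hu, one_smul]

theorem omul_cancel_oinv (u : OV F) (hu : onorm u ≠ 0) (x : OV F) :
    omul (omul x u) (oinv u) = x := by
  unfold oinv
  rw [omul_smul_right, b_omul_cancel_oconj, smul_smul, inv_mul_cancel₀ hu, one_smul]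

theorem omul_oinv_cancel' (u : OV F) (hu : onorm u ≠ 0) (x : OV F) :
    omul (omul x (oinv u)) u = x := by
  unfold oinv
  rw [omul_smul_right, omul_smul_left, b_omul_cancel_oconj', smul_smul, inv_mul_cancel₀ hu, one_smul]

/-- left multiplication by `u` of non-zero norm, as a linear equivalence -/
def LmE (u : OV F) (hu : onorm u ≠ 0) : OV F ≃ₗ[F] OV F where
  toLinearMap := Lm u
  invFun := fun x => omul (oinv u) x
  left_inv := fun x => oinv_omul_cancel u hu x
  right_inv := fun x => omul_oinv_cancel u hu x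

@[simp] theorem LmE_apply (u : OV F) (hu : onorm u ≠ 0) (x : OV F) : LmE u hu x = omul u x := rfl

theorem LmE_symm_apply (u : OV F) (hu : onorm u ≠ 0) (x : OV F) :
    (LmE u hu).symm x = omul (oinv u) x := rfl

theorem isSim_LmE (u : OV F) (hu : onorm u ≠ 0) : IsSim (LmE u hu) (onorm u) := fun x => by
  rw [LmE_apply, b_onorm_omul]

/-- right multiplication by `u` of non-zero norm, as a linear equivalence -/
def RmE (u : OV F) (hu : onorm u ≠ 0) : OV F ≃ₗ[F] OV F where
  toLinearMap := Rm u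
  invFun := fun x => omul x (oinv u)
  left_inv := fun x => omul_cancel_oinv u hu x
  right_inv := fun x => omul_oinv_cancel' u hu x

@[simp] theorem RmE_apply (u : OV F) (hu : onorm u ≠ 0) (x : OV F) : RmE u hu x = omul x u := rfl

theorem RmE_symm_apply (u : OV F) (hu : onorm u ≠ 0) (x : OV F) :
    (RmE u hu).symm x = omul x (oinv u) := rfl

theorem isSim_RmE (u : OV F) (hu : onorm u ≠ 0) : IsSim (RmE u hu) (onorm u) := fun x => by
  rw [RmE_apply, b_onorm_omul, mul_comm]

/-- the bimultiplication `x ↦ (u x) u` -/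
def BmE (u : OV F) (hu : onorm u ≠ 0) : OV F ≃ₗ[F] OV F := (LmE u hu).trans (RmE u hu)

@[simp] theorem BmE_apply (u : OV F) (hu : onorm u ≠ 0) (x : OV F) :
    BmE u hu x = omul (omul u x) u := rfl

theorem isSim_BmE (u : OV F) (hu : onorm u ≠ 0) : IsSim (BmE u hu) (onorm u * onorm u) :=
  (isSim_LmE u hu).trans (isSim_RmE u hu)

/-- Moufang (middle): `(u x)(y u) = (u (x y)) u` -/
theorem isRel_BmE (u : OV F) (hu : onorm u ≠ 0) : IsRel (BmE u hu) (LmE u hu) (RmE u hu) := by
  intro x y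
  simp only [BmE_apply, LmE_apply, RmE_apply]
  rw [b_moufang_mid]

/-- Moufang (left): `u (x y) = ((u x) u)(u⁻¹ y)` -/
theorem isRel_LmE (u : OV F) (hu : onorm u ≠ 0) :
    IsRel (LmE u hu) (BmE u hu) (LmE (oinv u) (onorm_oinv_ne_zero u hu)) := by
  intro x y
  simp only [BmE_apply, LmE_apply]
  rw [← b_moufang_left, omul_oinv_cancel u hu]

/-- Moufang (right): `(x y) u = (x u⁻¹)(u (y u))` -/
theorem isRel_RmE (u : OV F) (hu : onorm u ≠ 0) :
    IsRel (RmE u hu) (RmE (oinv u) (onorm_oinv_ne_zero u hu)) (BmE u hu) := by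
  intro x y
  simp only [BmE_apply, RmE_apply]
  rw [b_flexible, ← b_moufang_right, omul_oinv_cancel' u hu]

/-- the reflection in `u` is `-c⁻¹ •` (bimultiplication by `u`) after conjugation -/
theorem reflE_eq (c : F) (hc : c ≠ 0) (u : OV F) (hu : onorm u = c) (x : OV F) :
    reflE c hc u hu x = (-c⁻¹) • BmE u (hu ▸ hc) (oconj x) :=
  reflL_eq c hc u hu x

theorem hatE_BmE (u : OV F) (hu : onorm u ≠ 0) (x : OV F) :
    hatE (BmE u hu) x = BmE (oconj u) (by rwa [onorm_oconj]) x := by
  rw [hatE_apply, BmE_apply, BmE_apply, b_oconj_omul_rev, b_oconj_omul_rev, oconj_oconj,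
    b_flexible]

theorem hatE_LmE (u : OV F) (hu : onorm u ≠ 0) (x : OV F) :
    hatE (LmE u hu) x = RmE (oconj u) (by rwa [onorm_oconj]) x := by
  rw [hatE_apply, LmE_apply, RmE_apply, b_oconj_omul_rev, oconj_oconj]

theorem hatE_RmE (u : OV F) (hu : onorm u ≠ 0) (x : OV F) :
    hatE (RmE u hu) x = LmE (oconj u) (by rwa [onorm_oconj]) x := by
  rw [hatE_apply, LmE_apply, RmE_apply, b_oconj_omul_rev, oconj_oconj]

/-- product of two reflections (arbitrary non-zero norms) as a product of bimultiplications -/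
theorem reflE_reflE_eq (c d : F) (hc : c ≠ 0) (hd : d ≠ 0) (u v : OV F) (hu : onorm u = c)
    (hv : onorm v = d) (x : OV F) :
    reflE c hc u hu (reflE d hd v hv x) =
      (c⁻¹ * d⁻¹) • BmE u (hu ▸ hc) (BmE (oconj v) (by rw [onorm_oconj, hv]; exact hd) x) := by
  rw [reflE_eq c hc u hu, reflE_eq d hd v hv x, oconj_smul, map_smul, smul_smul, neg_mul_neg]
  congr 1
  have := hatE_BmE v (hv ▸ hd) x
  rw [hatE_apply] at this
  rw [this]

/-- **general product of two reflections in a related triple of similitudes**: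
`r_u r_v (x y) = ((cd)⁻¹ • u (v̄ x)) · ((y v̄) u)` -/
theorem refl_rel_gen (u v : OV F) (c d : F) (hc : c ≠ 0) (hd : d ≠ 0) (hu : onorm u = c)
    (hv : onorm v = d) :
    ∃ A B C : OV F ≃ₗ[F] OV F, IsIso A ∧ IsSim B (c * d)⁻¹ ∧ IsSim C (c * d) ∧ IsRel A B C ∧
      (∀ x, A x = reflE c hc u hu (reflE d hd v hv x)) ∧
      (∀ x, B x = (c * d)⁻¹ • omul u (omul (oconj v) x)) ∧
      (∀ x, C x = omul (omul x (oconj v)) u) := by
  have hu' : onorm u ≠ 0 := hu ▸ hc
  have hv' : onorm (oconj v) ≠ 0 := by rw [onorm_oconj, hv]; exact hd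
  have hcd : c * d ≠ 0 := mul_ne_zero hc hd
  have hcd' : (c * d)⁻¹ ≠ 0 := inv_ne_zero hcd
  refine ⟨(reflE d hd v hv).trans (reflE c hc u hu),
    ((LmE (oconj v) hv').trans (LmE u hu')).trans (scalE (c * d)⁻¹ hcd'),
    (RmE (oconj v) hv').trans (RmE u hu'), ?_, ?_, ?_, ?_, fun x => rfl, fun x => rfl,
    fun x => rfl⟩
  · intro x
    show onorm (reflL c u (reflL d v x)) = onorm x
    rw [onorm_reflL c hc u hu, onorm_reflL d hd v hv]
  · have h := ((isSim_LmE (oconj v) hv').trans (isSim_LmE u hu')).trans (isSim_scalE (c * d)⁻¹ hcd')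
    rw [onorm_oconj, hu, hv] at h
    have e : d * c * (c * d)⁻¹ ^ 2 = (c * d)⁻¹ := by field_simp
    rwa [e] at h
  · have h := (isSim_RmE (oconj v) hv').trans (isSim_RmE u hu')
    rw [onorm_oconj, hu, hv] at h
    rwa [mul_comm d c] at h
  · intro x y
    show reflE c hc u hu (reflE d hd v hv (omul x y)) = _
    rw [reflE_reflE_eq c d hc hd u v hu hv]
    have h1 := isRel_trans (isRel_BmE (oconj v) hv') (isRel_BmE u hu') x y
    simp only [LinearEquiv.trans_apply] at h1
    rw [h1]
    simp only [LinearEquiv.trans_apply, scalE_apply, LmE_apply, RmE_apply]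
    rw [omul_smul_left, mul_inv]

end Cfsg.Agent.Lib.Helper37.Tri
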