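import Mathlib
import Cfsg.Agent.Lib.Helper37.TriSim
import Cfsg.Agent.Lib.Helper43.PlusClassChar
import Cfsg.Agent.Lib.Helper36.AltEven

set_option autoImplicit false

/-!
# TRI8: left, right and two-sided multiplications by an invertible split octonion are EVEN
similitudes (they preserve the two classes of maximal totally singular subspaces)
-/

namespace Cfsg.Agent.Lib.Helper37.Tri

open Cfsg.Agent.Lib.Helper36.Tri Cfsg.Agent.Lib.Helper36 Cfsg.Agent.Lib.Helper43 Module
open Cfsg.Agent.S2168

variable {F : Type*} [Field F]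

/-- a linear automorphism whose `inr`-part on the standard maximal totally singular subspace is
given by an alternating matrix is even -/
theorem plusEvenLin_of_alt (D : OV F ≃ₗ[F] OV F) (M : Matrix (Fin 4) (Fin 4) F)
    (hM : ∀ a : Fin 4 → F, dotProduct a (Matrix.mulVec M a) = 0)
    (hD : ∀ (a : Fin 4 → F) (i : Fin 4), D (plusInl 4 F a) (Sum.inr i) = Matrix.mulVec M a i) :
    plusEvenLin D := by
  classical
  unfold plusEvenLin
  set K : Submodule F (Fin 4 → F) := LinearMap.ker M.mulVecLin with hK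
  set f : (Fin 4 → F) →ₗ[F] OV F := (D : OV F →ₗ[F] OV F) ∘ₗ plusInl 4 F with hf
  have hfinj : Function.Injective f := by
    intro a b hab
    exact plusInl_injective 4 F (D.injective hab)
  have hS : stdPlus 4 F ⊓ (stdPlus 4 F).map (D : OV F →ₗ[F] OV F) = K.map f := by
    ext x
    rw [Submodule.mem_inf, Submodule.mem_map, Submodule.mem_map]
    constructor
    · rintro ⟨hx1, y, ⟨a, rfl⟩, rfl⟩
      refine ⟨a, ?_, rfl⟩
      rw [hK, LinearMap.mem_ker]
      funext i
      rw [Matrix.mulVecLin_apply, ← hD a i]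
      exact (mem_stdPlus_iff 4 F _).mp hx1 i
    · rintro ⟨a, ha, rfl⟩
      rw [hK, LinearMap.mem_ker, Matrix.mulVecLin_apply] at ha
      refine ⟨?_, plusInl 4 F a, ⟨a, rfl⟩, rfl⟩
      rw [mem_stdPlus_iff]
      intro i
      show D (plusInl 4 F a) (Sum.inr i) = 0
      rw [hD a i, ha]
      rfl
  rw [hS]
  have h1 : finrank F ↥(K.map f) = finrank F ↥K :=
    LinearEquiv.finrank_eq (Submodule.equivMapOfInjective f hfinj K).symm
  have h2 : finrank F (LinearMap.range M.mulVecLin) + finrank F ↥K = finrank F (Fin 4 → F) :=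
    LinearMap.finrank_range_add_finrank_ker M.mulVecLin
  rw [Module.finrank_fin_fun] at h2
  have h3 : Even M.rank := even_rank_of_alt_matrix M hM
  unfold Matrix.rank at h3
  rw [h1]
  have : 4 - finrank F ↥K = finrank F (LinearMap.range M.mulVecLin) := by omega
  rw [this]
  exact h3

/-- the matrix of the `inr`-part of `a ↦ u (a, 0)` -/
def altL (u : OV F) : Matrix (Fin 4) (Fin 4) F :=
  !![0, - u (.inr 1), - u (.inr 2), - u (.inr 3);
     u (.inr 1), 0, u (.inl 3), - u (.inl 2);
     u (.inr 2), - u (.inl 3), 0, u (.inl 1);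
     u (.inr 3), u (.inl 2), - u (.inl 1), 0]

/-- the matrix of the `inr`-part of `a ↦ (a, 0) u` -/
def altR (u : OV F) : Matrix (Fin 4) (Fin 4) F :=
  !![0, 0, 0, 0;
     0, 0, - u (.inl 3), u (.inl 2);
     0, u (.inl 3), 0, - u (.inl 1);
     0, - u (.inl 2), u (.inl 1), 0]

theorem altL_alt (u : OV F) (a : Fin 4 → F) : dotProduct a (Matrix.mulVec (altL u) a) = 0 := by
  simp [altL, Matrix.mulVec, dotProduct, Fin.sum_univ_four]
  ring

theorem altR_alt (u : OV F) (a : Fin 4 → F) : dotProduct a (Matrix.mulVec (altR u) a) = 0 := by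
  simp [altR, Matrix.mulVec, dotProduct, Fin.sum_univ_four]
  ring

theorem plusEvenLin_LmE (u : OV F) (hu : onorm u ≠ 0) : plusEvenLin (LmE u hu) := by
  apply plusEvenLin_of_alt _ (altL u) (altL_alt u)
  intro a i
  fin_cases i <;>
    simp [LmE_apply, omul, plusInl, altL, Matrix.mulVec, dotProduct, Fin.sum_univ_four] <;> ring

theorem plusEvenLin_RmE (u : OV F) (hu : onorm u ≠ 0) : plusEvenLin (RmE u hu) := by
  apply plusEvenLin_of_alt _ (altR u) (altR_alt u)
  intro a i
  fin_cases i <;>
    simp [RmE_apply, omul, plusInl, altR, Matrix.mulVec, dotProduct, Fin.sum_univ_four] <;> ring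

theorem plusQF_eq_onorm (x : OV F) : plusQF 4 F x = onorm x := rfl

theorem plusEvenLin_BmE (u : OV F) (hu : onorm u ≠ 0) : plusEvenLin (BmE u hu) := by
  have h : BmE u hu = RmE u hu * LmE u hu := by
    ext x; rfl
  rw [h, plusEvenLin_mul (RmE u hu) (LmE u hu) (onorm u) (onorm u)
    (fun z => by rw [plusQF_eq_onorm, plusQF_eq_onorm]; exact isSim_RmE u hu z)
    (fun z => by rw [plusQF_eq_onorm, plusQF_eq_onorm]; exact isSim_LmE u hu z)]
  exact iff_of_true (plusEvenLin_RmE u hu) (plusEvenLin_LmE u hu)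

end Cfsg.Agent.Lib.Helper37.Tri
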