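import Mathlib
import Cfsg.Agent.Lib.Helper36.Tri.TauOut
import Cfsg.Agent.Lib.Helper37.TriSim

set_option autoImplicit false

/-!
# TRI8 / S2715: triality conjugates the automorphism induced by the first component of a related
triple of similitudes to the one induced by (the hat of) its second component
-/

namespace Cfsg.Agent.Lib.Helper37.Tri

open Cfsg.Agent.Lib.Helper13 hiding isoGroup mem_isoGroup
open Cfsg.Agent.Lib.Helper36 Cfsg.Agent.Lib.Helper44 Cfsg.Agent.Lib.Helper36.AutO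
  Cfsg.Agent.Lib.Helper36.Tri Module

variable {F : Type*} [Field F]

/-- conjugation of a related triple of isometries by a related triple of similitudes -/
theorem conj_mem_RT {g g₁ g₂ : GLO F} {μ μ₁ μ₂ : F} (hg : IsSim g μ) (hg₁ : IsSim g₁ μ₁)
    (hg₂ : IsSim g₂ μ₂) (hrel : IsRel g g₁ g₂) {t : GLO F × GLO F × GLO F} (ht : t ∈ RT F) :
    (g, g₁, g₂) * t * (g, g₁, g₂)⁻¹ ∈ RT F := by
  obtain ⟨h1, h2, h3, h4⟩ := ht
  have key : ∀ {D A : GLO F} {ν : F}, IsSim D ν → IsIso A → IsIso (D * A * D⁻¹) := by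
    intro D A ν hD hA x
    have hDinv : ∀ y, onorm (D⁻¹ y) = ν⁻¹ * onorm y := fun y => hD.symm y
    rw [LinearEquiv.mul_apply, LinearEquiv.mul_apply, hD, hA, hDinv, ← mul_assoc,
      mul_inv_cancel₀ hD.ne_zero, one_mul]
  refine ⟨key hg h1, key hg₁ h2, key hg₂ h3, ?_⟩
  show IsRel (g * t.1 * g⁻¹) (g₁ * t.2.1 * g₁⁻¹) (g₂ * t.2.2 * g₂⁻¹)
  exact (IsRel.mul (IsRel.mul hrel h4) (IsRel.inv hrel))

theorem conj_mem_RT_iff {g g₁ g₂ : GLO F} {μ μ₁ μ₂ : F} (hg : IsSim g μ) (hg₁ : IsSim g₁ μ₁)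
    (hg₂ : IsSim g₂ μ₂) (hrel : IsRel g g₁ g₂) :
    (RT F).map (MulAut.conj ((g, g₁, g₂) : GLO F × GLO F × GLO F)).toMonoidHom = RT F := by
  apply le_antisymm
  · rintro _ ⟨t, ht, rfl⟩
    exact conj_mem_RT hg hg₁ hg₂ hrel ht
  · intro t ht
    refine ⟨(g, g₁, g₂)⁻¹ * t * (g, g₁, g₂), ?_, ?_⟩
    · have h := conj_mem_RT (g := g⁻¹) (g₁ := g₁⁻¹) (g₂ := g₂⁻¹) hg.symm hg₁.symm hg₂.symm
        (IsRel.inv hrel) ht
      simpa using h
    · show (g, g₁, g₂) * ((g, g₁, g₂)⁻¹ * t * (g, g₁, g₂)) * (g, g₁, g₂)⁻¹ = t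
      group

theorem conj_mem_RT' {g g₁ g₂ : GLO F} {μ μ₁ μ₂ : F} (hg : IsSim g μ) (hg₁ : IsSim g₁ μ₁)
    (hg₂ : IsSim g₂ μ₂) (hrel : IsRel g g₁ g₂) {t : GLO F × GLO F × GLO F} (ht : t ∈ RT' F) :
    (g, g₁, g₂) * t * (g, g₁, g₂)⁻¹ ∈ RT' F := by
  have h1 : (RT' F).map (MulAut.conj ((g, g₁, g₂) : GLO F × GLO F × GLO F)).toMonoidHom =
      RT' F := by
    unfold RT'
    rw [Subgroup.map_commutator, conj_mem_RT_iff hg hg₁ hg₂ hrel]
  rw [← h1]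
  exact ⟨t, ht, rfl⟩

end Cfsg.Agent.Lib.Helper37.Tri
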