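import Mathlib
import Cfsg.Agent.Lib.Helper37.TriNormA

set_option autoImplicit false

/-!
# TRI8 / S2715: triality conjugates `simAut g` to `simAut (hat g₁)` for a related triple of
similitudes `(g, g₁, g₂)`
-/

namespace Cfsg.Agent.Lib.Helper37.Tri

open Cfsg.Agent.Lib.Helper13 hiding isoGroup mem_isoGroup
open Cfsg.Agent.Lib.Helper36 Cfsg.Agent.Lib.Helper44 Cfsg.Agent.Lib.Helper36.AutO
  Cfsg.Agent.Lib.Helper36.Tri Module

variable {F : Type*} [Field F]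

/-- a similitude of the octonion norm as an element of the matrix similarity group -/
noncomputable def simOf (D : GLO F) (μ : F) (hD : IsSim D μ) :
    ↥(Cfsg.Geo.quadSimilarityGroup (⇑(QO F))) :=
  ⟨(glLinEquiv (Fin 4 ⊕ Fin 4) F).symm D, Units.mk0 μ hD.ne_zero, fun v => by
    have h1 : (((glLinEquiv (Fin 4 ⊕ Fin 4) F).symm D : GL (Fin 4 ⊕ Fin 4) F) :
        Matrix (Fin 4 ⊕ Fin 4) (Fin 4 ⊕ Fin 4) F).mulVec v = D v := by
      rw [← glLinEquiv_apply, MulEquiv.apply_symm_apply]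
    rw [h1]
    exact hD v⟩

theorem glLinEquiv_simOf (D : GLO F) (μ : F) (hD : IsSim D μ) :
    glLinEquiv (Fin 4 ⊕ Fin 4) F (simOf D μ hD : GL (Fin 4 ⊕ Fin 4) F) = D :=
  MulEquiv.apply_symm_apply _ _

theorem simOf_mulVec (D : GLO F) (μ : F) (hD : IsSim D μ) (v : OV F) :
    ((simOf D μ hD : GL (Fin 4 ⊕ Fin 4) F) : Matrix (Fin 4 ⊕ Fin 4) (Fin 4 ⊕ Fin 4) F).mulVec v =
      D v := by
  rw [← glLinEquiv_apply, glLinEquiv_simOf]

theorem isSim_glLinEquiv (g : ↥(Cfsg.Geo.quadSimilarityGroup (⇑(QO F)))) :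
    ∃ μ : F, IsSim (glLinEquiv (Fin 4 ⊕ Fin 4) F (g : GL (Fin 4 ⊕ Fin 4) F)) μ := by
  obtain ⟨c, hc⟩ := g.2
  exact ⟨c, fun v => hc v⟩

theorem simOf_glLinEquiv (g : ↥(Cfsg.Geo.quadSimilarityGroup (⇑(QO F)))) (μ : F)
    (h : IsSim (glLinEquiv (Fin 4 ⊕ Fin 4) F (g : GL (Fin 4 ⊕ Fin 4) F)) μ) :
    simOf _ μ h = g := by
  apply Subtype.ext
  exact MulEquiv.symm_apply_apply _ _

theorem simOf_mul (D E : GLO F) (μ ν : F) (hD : IsSim D μ) (hE : IsSim E ν)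
    (hDE : IsSim (D * E) (μ * ν)) :
    simOf (D * E) (μ * ν) hDE = simOf D μ hD * simOf E ν hE := by
  apply Subtype.ext
  show (glLinEquiv (Fin 4 ⊕ Fin 4) F).symm (D * E) = _
  rw [map_mul]
  rfl

theorem IsSim.mul {A B : GLO F} {μ ν : F} (hA : IsSim A μ) (hB : IsSim B ν) :
    IsSim (A * B) (μ * ν) := by
  intro x
  rw [LinearEquiv.mul_apply, hA, hB, mul_assoc]

theorem IsSim.inv {A : GLO F} {μ : F} (hA : IsSim A μ) : IsSim A⁻¹ μ⁻¹ := hA.symm

section fin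
variable [Fintype F]

/-- the action of `simAut g` on `ψ t` -/
theorem simAut_psi (g : ↥(Cfsg.Geo.quadSimilarityGroup (⇑(QO F)))) (t t' : ↥(RT' F))
    (h : (t' : GLO F × GLO F × GLO F).1 =
      glLinEquiv (Fin 4 ⊕ Fin 4) F (g : GL (Fin 4 ⊕ Fin 4) F) *
        (t : GLO F × GLO F × GLO F).1 *
        (glLinEquiv (Fin 4 ⊕ Fin 4) F (g : GL (Fin 4 ⊕ Fin 4) F))⁻¹) :
    simAut (⇑(QO F)) g (psi (MO F) t) = psi (MO F) t' := by
  set s := lift1 (MO F) t with hs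
  obtain ⟨s', hs'⟩ := exists_conj_Omega (⇑(QO F)) g s
  have h1 : simAut (⇑(QO F)) g (psi (MO F) t) = QuotientGroup.mk s' :=
    simAut_mk (⇑(QO F)) g s s' hs'
  rw [h1]
  have h2 : s' = lift1 (MO F) t' := by
    apply (MO F).ext_apply
    intro z
    rw [rho_lift1, h, omegaModel_apply, hs']
    rw [Units.val_mul, Units.val_mul, ← Matrix.mulVec_mulVec, ← Matrix.mulVec_mulVec,
      LinearEquiv.mul_apply, LinearEquiv.mul_apply, ← rho_lift1 (MO F) t, ← hs,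
      omegaModel_apply, ← map_inv, glLinEquiv_apply, glLinEquiv_apply]
  rw [h2]
  rfl


/-- **triality on similitudes**: for a related triple of similitudes `(D, D₁, D₂)` the triality
automorphism conjugates `simAut D` to `simAut (hat D₁)` -/
theorem tau_conj_simAut (τ : MulAut (Cfsg.POmega F (⇑(QO F))))
    (hτ : ∀ t : ↥(RT' F), τ (psi (MO F) t) = psi (MO F) (thetaR t))
    {D D₁ D₂ : GLO F} {μ μ₁ μ₂ : F} (hD : IsSim D μ) (hD₁ : IsSim D₁ μ₁) (hD₂ : IsSim D₂ μ₂)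
    (hrel : IsRel D D₁ D₂) :
    τ * simAut (⇑(QO F)) (simOf D μ hD) * τ⁻¹ =
      simAut (⇑(QO F)) (simOf (hatE D₁) μ₁ hD₁.hatE) := by
  have key : τ * simAut (⇑(QO F)) (simOf D μ hD) =
      simAut (⇑(QO F)) (simOf (hatE D₁) μ₁ hD₁.hatE) * τ := by
    apply MulEquiv.ext
    intro y
    obtain ⟨t, rfl⟩ := psi_surjective (MO F) y
    rw [MulAut.mul_apply, MulAut.mul_apply, hτ]
    -- the conjugate triple
    have htc : ((D, D₁, D₂) : GLO F × GLO F × GLO F) * (t : GLO F × GLO F × GLO F) *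
        ((D, D₁, D₂) : GLO F × GLO F × GLO F)⁻¹ ∈ RT' F :=
      conj_mem_RT' hD hD₁ hD₂ hrel t.2
    set tc : ↥(RT' F) := ⟨_, htc⟩ with htc_def
    have h1 : simAut (⇑(QO F)) (simOf D μ hD) (psi (MO F) t) = psi (MO F) tc := by
      apply simAut_psi
      rw [glLinEquiv_simOf]
      rfl
    rw [h1, hτ]
    symm
    apply simAut_psi
    rw [glLinEquiv_simOf, thetaR_coe, thetaR_coe, thetaM_apply, thetaM_apply]
    show hatM (D₁ * (t : GLO F × GLO F × GLO F).2.1 * D₁⁻¹) = _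
    rw [map_mul, map_mul, map_inv, hatM_eq_hatE D₁]
  rw [key]
  group

end fin

end Cfsg.Agent.Lib.Helper37.Tri
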