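import Mathlib
import Cfsg.Agent.Lib.Helper37.TriNormB
import Cfsg.Agent.Lib.Helper37.TriEven
import Cfsg.Agent.Lib.Helper43.PlusInndiag
import Cfsg.Agent.Lib.Helper43.PlusGFOdd1
import Cfsg.Agent.Lib.Helper36.PsoInn

set_option autoImplicit false

/-!
# TRI8 / S2715: the triality automorphism normalises the inner-diagonal group of `PΩ⁺₈(F)`
-/

namespace Cfsg.Agent.Lib.Helper37.Tri

open Cfsg.Agent.Lib.Helper13 hiding isoGroup mem_isoGroup
open Cfsg.Agent.Lib.Helper36 Cfsg.Agent.Lib.Helper44 Cfsg.Agent.Lib.Helper36.AutO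
  Cfsg.Agent.Lib.Helper36.Tri Module Cfsg.Agent.Lib.Helper43 Cfsg.Agent.S2168

variable {F : Type*} [Field F]

/-! ### evenness bookkeeping -/

theorem plusEven_simOf (D : GLO F) (μ : F) (hD : IsSim D μ) :
    plusEven (simOf D μ hD : GL (Fin 4 ⊕ Fin 4) F) ↔ plusEvenLin D := by
  unfold plusEven
  rw [glLinEquiv_simOf]

theorem plusEvenLin_of_map_eq (D : GLO F)
    (h : (stdPlus 4 F).map (D : OV F →ₗ[F] OV F) = stdPlus 4 F) : plusEvenLin D := by
  unfold plusEvenLin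
  rw [h, inf_idem, finrank_stdPlus, Nat.sub_self]
  exact ⟨0, rfl⟩

theorem plusEvenLin_scalE (l : F) (hl : l ≠ 0) : plusEvenLin (scalE l hl) := by
  apply plusEvenLin_of_map_eq
  ext v
  constructor
  · rintro ⟨w, hw, rfl⟩
    show scalE l hl w ∈ stdPlus 4 F
    rw [scalE_apply]
    exact (stdPlus 4 F).smul_mem l hw
  · intro hv
    refine ⟨l⁻¹ • v, (stdPlus 4 F).smul_mem _ hv, ?_⟩
    show scalE l hl (l⁻¹ • v) = v
    rw [scalE_apply, smul_smul, mul_inv_cancel₀ hl, one_smul]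

theorem plusEvenLin_mul_sim {D E : GLO F} {μ ν : F} (hD : IsSim D μ) (hE : IsSim E ν) :
    plusEvenLin (D * E) ↔ (plusEvenLin D ↔ plusEvenLin E) :=
  plusEvenLin_mul D E μ ν (fun z => hD z) (fun z => hE z)

theorem plusEvenLin_inv_sim {D : GLO F} {μ : F} (hD : IsSim D μ) :
    plusEvenLin D⁻¹ ↔ plusEvenLin D := by
  have h1 := plusEvenLin_mul_sim hD hD.inv
  rw [mul_inv_cancel] at h1
  have h0 : plusEvenLin (1 : GLO F) := by
    apply plusEvenLin_of_map_eq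
    exact Submodule.map_id _
  exact (h1.mp h0).symm

theorem isIso_conjE : IsIso (conjE : GLO F) := fun x => onorm_oconj x

theorem plusEvenLin_hatE {D : GLO F} {μ : F} (hD : IsSim D μ) :
    plusEvenLin (hatE D) ↔ plusEvenLin D := by
  rw [← hatM_eq_hatE]
  have hc : IsSim (conjE : GLO F) 1 := isSim_one_iff.mpr isIso_conjE
  show plusEvenLin ((conjE : GLO F) * D * (conjE : GLO F)⁻¹) ↔ _
  rw [plusEvenLin_mul_sim (hc.mul hD) hc.inv, plusEvenLin_mul_sim hc hD, plusEvenLin_inv_sim hc]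
  tauto


/-! ### reflections -/

local notation "pol" => QuadraticMap.polar

theorem reflE_eq_reflLin (c : F) (hc : c ≠ 0) (w : OV F) (hw : onorm w = c) (z : OV F) :
    reflE c hc w hw z = reflLin (plusQF 4 F) w z := by
  rw [reflLin_apply, reflE_apply]
  have h1 : plusQF 4 F w = c := hw
  have h2 : pol (⇑(plusQF 4 F)) w z = obil w z := pol_QO w z
  rw [h1, h2]

theorem reflE_mem_reflSet (c : F) (hc : c ≠ 0) (w : OV F) (hw : onorm w = c) :
    reflE c hc w hw ∈ reflSet (plusQF 4 F) :=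
  ⟨w, by rw [plusQF_eq_onorm, hw]; exact hc, reflE_eq_reflLin c hc w hw⟩

theorem isIso_reflE (c : F) (hc : c ≠ 0) (w : OV F) (hw : onorm w = c) :
    IsIso (reflE c hc w hw) := fun x => onorm_reflL c hc w hw x

theorem not_plusEvenLin_reflE (c : F) (hc : c ≠ 0) (w : OV F) (hw : onorm w = c) :
    ¬ plusEvenLin (reflE c hc w hw) := by
  have h1 := finrank_inf_map_refl (plusQF 4 F) (plusQF_nondeg 4 F) (finrank_plus_space 4 F)
    (stdPlus_ts 4 F) (finrank_stdPlus 4 F) _ (reflE_mem_reflSet c hc w hw)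
  unfold plusEvenLin
  rw [Nat.even_iff]
  omega

theorem exists_onorm_eq (μ : F) : ∃ u : OV F, onorm u = μ :=
  ⟨Pi.single (Sum.inl 0) μ + Pi.single (Sum.inr 0) 1, by rw [onorm_eq]; simp⟩


/-! ### the inner-diagonal group -/

theorem mem_inndiag_QO (β : MulAut (Cfsg.POmega F (⇑(QO F)))) :
    β ∈ inndiagPlusQ 4 F ↔ ∃ g : ↥(Cfsg.Geo.quadSimilarityGroup (⇑(QO F))),
      plusEven (g : GL (Fin 4 ⊕ Fin 4) F) ∧ β = simAut (⇑(QO F)) g :=
  mem_inndiagPlusQ_iff β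

theorem simAut_simOf_mem_inndiag (D : GLO F) (μ : F) (hD : IsSim D μ) (he : plusEvenLin D) :
    simAut (⇑(QO F)) (simOf D μ hD) ∈ inndiagPlusQ 4 F :=
  (mem_inndiag_QO _).mpr ⟨simOf D μ hD, (plusEven_simOf D μ hD).mpr he, rfl⟩

/-- the even similarities -/
def evenSim (F : Type*) [Field F] : Subgroup (GL (Fin 4 ⊕ Fin 4) F) where
  carrier := {x | x ∈ Cfsg.Geo.quadSimilarityGroup (⇑(QO F)) ∧ plusEven x}
  one_mem' := ⟨Subgroup.one_mem _, plusEven_one⟩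
  mul_mem' := by
    rintro a b ⟨ha, ha'⟩ ⟨hb, hb'⟩
    exact ⟨Subgroup.mul_mem _ ha hb, (plusEven_mul a b ha hb).mpr (iff_of_true ha' hb')⟩
  inv_mem' := by
    rintro a ⟨ha, ha'⟩
    exact ⟨Subgroup.inv_mem _ ha, (plusEven_inv a ha).mpr ha'⟩

theorem commutator_mem_evenSim (a b : GL (Fin 4 ⊕ Fin 4) F)
    (ha : a ∈ Cfsg.Geo.quadSimilarityGroup (⇑(QO F)))
    (hb : b ∈ Cfsg.Geo.quadSimilarityGroup (⇑(QO F))) :
    a * b * a⁻¹ * b⁻¹ ∈ evenSim F := by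
  refine ⟨Subgroup.mul_mem _ (Subgroup.mul_mem _ (Subgroup.mul_mem _ ha hb)
    (Subgroup.inv_mem _ ha)) (Subgroup.inv_mem _ hb), ?_⟩
  rw [plusEven_mul _ _ (Subgroup.mul_mem _ (Subgroup.mul_mem _ ha hb) (Subgroup.inv_mem _ ha))
      (Subgroup.inv_mem _ hb),
    plusEven_mul _ _ (Subgroup.mul_mem _ ha hb) (Subgroup.inv_mem _ ha),
    plusEven_mul _ _ ha hb, plusEven_inv _ ha, plusEven_inv _ hb]
  tauto

/-- elements of `Ω` are even (any characteristic) -/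
theorem plusEven_of_mem_OmegaGL (g : GL (Fin 4 ⊕ Fin 4) F) (hg : g ∈ OmegaGL (⇑(QO F))) :
    plusEven g := by
  obtain ⟨s, hs, rfl⟩ := hg
  have hle : Cfsg.Omega F (⇑(QO F)) ≤
      Subgroup.comap (Cfsg.isometryGroup F (⇑(QO F))).subtype (evenSim F) := by
    show ⁅(⊤ : Subgroup ↥(Cfsg.isometryGroup F (⇑(QO F)))), ⊤⁆ ≤ _
    rw [Subgroup.commutator_le]
    intro a _ b _
    rw [commutatorElement_def, Subgroup.mem_comap]
    exact commutator_mem_evenSim _ _ (isometryGroup_le_similarity _ a.2)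
      (isometryGroup_le_similarity _ b.2)
  exact (hle hs).2

theorem Inn_le_inndiag_QO :
    Cfsg.Inn (Cfsg.POmega F (⇑(QO F))) ≤ inndiagPlusQ 4 F := by
  intro β hβ
  rw [Inn_eq] at hβ
  obtain ⟨g, hg, rfl⟩ := hβ
  exact (mem_inndiag_QO _).mpr ⟨g, plusEven_of_mem_OmegaGL _ hg, rfl⟩


section fin
variable [Fintype F]

/-- conjugating `simAut D` by triality stays in the inner-diagonal group as soon as the second
component of a related triple over `D` is even -/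
theorem tau_conj_mem_of_rel (τ : MulAut (Cfsg.POmega F (⇑(QO F))))
    (hτ : ∀ t : ↥(RT' F), τ (psi (MO F) t) = psi (MO F) (thetaR t))
    {D D₁ D₂ : GLO F} {μ μ₁ μ₂ : F} (hD : IsSim D μ) (hD₁ : IsSim D₁ μ₁) (hD₂ : IsSim D₂ μ₂)
    (hrel : IsRel D D₁ D₂) (he : plusEvenLin D₁) :
    τ * simAut (⇑(QO F)) (simOf D μ hD) * τ⁻¹ ∈ inndiagPlusQ 4 F := by
  rw [tau_conj_simAut τ hτ hD hD₁ hD₂ hrel]
  exact simAut_simOf_mem_inndiag _ _ _ ((plusEvenLin_hatE hD₁).mpr he)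

omit [Fintype F] in
theorem conj_mem_of_mem_Inn (α δ : MulAut (Cfsg.POmega F (⇑(QO F))))
    (hδ : δ ∈ Cfsg.Inn (Cfsg.POmega F (⇑(QO F)))) : α * δ * α⁻¹ ∈ inndiagPlusQ 4 F :=
  Inn_le_inndiag_QO ((Cfsg.innNormal _).conj_mem δ hδ α)

/-- the product of two reflections with norms `1` and `η` -/
theorem tau_conj_refl2_mem (τ : MulAut (Cfsg.POmega F (⇑(QO F))))
    (hτ : ∀ t : ↥(RT' F), τ (psi (MO F) t) = psi (MO F) (thetaR t))
    (a b : OV F) (c d : F) (hc : c ≠ 0) (hd : d ≠ 0) (ha : onorm a = c) (hb : onorm b = d)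
    (hA : IsSim (reflE c hc a ha * reflE d hd b hb) 1) :
    τ * simAut (⇑(QO F)) (simOf (reflE c hc a ha * reflE d hd b hb) 1 hA) * τ⁻¹ ∈
      inndiagPlusQ 4 F := by
  obtain ⟨A, B, C, hAi, hB, hC, hrel, hAx, hBx, -⟩ := refl_rel_gen a b c d hc hd ha hb
  have hAeq : A = reflE c hc a ha * reflE d hd b hb := by
    ext x
    rw [hAx]
    rfl
  subst hAeq
  have ha0 : onorm a ≠ 0 := ha ▸ hc
  have hb0 : onorm (oconj b) ≠ 0 := by rw [onorm_oconj, hb]; exact hd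
  have hcd : (c * d)⁻¹ ≠ 0 := inv_ne_zero (mul_ne_zero hc hd)
  have hBeq : B = scalE (c * d)⁻¹ hcd * (LmE a ha0 * LmE (oconj b) hb0) := by
    ext x
    rw [hBx]
    rfl
  have hBe : plusEvenLin B := by
    rw [hBeq, plusEvenLin_mul_sim (isSim_scalE _ hcd) ((isSim_LmE a ha0).mul (isSim_LmE _ hb0)),
      plusEvenLin_mul_sim (isSim_LmE a ha0) (isSim_LmE _ hb0)]
    exact iff_of_true (plusEvenLin_scalE _ hcd)
      (iff_of_true (plusEvenLin_LmE a ha0) (plusEvenLin_LmE _ hb0))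
  exact tau_conj_mem_of_rel τ hτ hA hB hC hrel hBe

end fin


section fin2
variable [Fintype F]

omit [Fintype F] in
theorem simOf_mem_isometryGroup (h : GLO F) (hh : IsSim h 1) :
    (simOf h 1 hh : GL (Fin 4 ⊕ Fin 4) F) ∈ Cfsg.isometryGroup F (⇑(plusQF 4 F)) := by
  rw [mem_isometryGroup_iff_isoGroup, glLinEquiv_simOf]
  exact isSim_one_iff.mp hh

/-- an even isometry is conjugated into the inner-diagonal group by triality (odd
characteristic) -/
theorem tau_conj_iso_mem (h2 : (2 : F) ≠ 0) (τ : MulAut (Cfsg.POmega F (⇑(QO F))))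
    (hτ : ∀ t : ↥(RT' F), τ (psi (MO F) t) = psi (MO F) (thetaR t))
    (h : GLO F) (hh : IsSim h 1) (he : plusEvenLin h) :
    τ * simAut (⇑(QO F)) (simOf h 1 hh) * τ⁻¹ ∈ inndiagPlusQ 4 F := by
  classical
  have hQ := plusQF_nondeg 4 F
  have hdim2 : 2 ≤ Fintype.card (Fin 4 ⊕ Fin 4) := by
    rw [Fintype.card_sum, Fintype.card_fin]
    norm_num
  set gh := simOf h 1 hh with hgh
  have hO : (gh : GL (Fin 4 ⊕ Fin 4) F) ∈ Cfsg.isometryGroup F (⇑(plusQF 4 F)) :=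
    simOf_mem_isometryGroup h hh
  have hE : plusEven (gh : GL (Fin 4 ⊕ Fin 4) F) := (plusEven_simOf h 1 hh).mpr he
  have hS : (gh : GL (Fin 4 ⊕ Fin 4) F) ∈ Cfsg.specialIsometryGL F (⇑(plusQF 4 F)) :=
    special_of_even_isometry h2 (by norm_num) gh hO hE
  rcases spin_matrix_eq_one_or (plusQF 4 F) hQ h2 _ hO with hs | hs
  · have hΩ : (gh : GL (Fin 4 ⊕ Fin 4) F) ∈ OmegaGL (⇑(plusQF 4 F)) :=
      (mem_OmegaGL_iff_spin (plusQF 4 F) hQ h2 hdim2 _ hS).mpr hs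
    exact conj_mem_of_mem_Inn τ _ (simAut_mem_Inn_of_mem (⇑(QO F)) gh hΩ)
  · -- adjust by a product of two reflections of spinor norm `-1`
    have hchar : ringChar F ≠ 2 := by
      intro hc
      apply h2
      have : ((2 : ℕ) : F) = 0 := by
        rw [← hc]; exact ringChar.Nat.cast_ringChar
      exact_mod_cast this
    obtain ⟨η, hη⟩ := FiniteField.exists_nonsquare hchar
    have hη0 : η ≠ 0 := by
      rintro rfl
      exact hη IsSquare.zero
    obtain ⟨a, ha⟩ := exists_onorm_eq (1 : F)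
    obtain ⟨b, hb⟩ := exists_onorm_eq η
    set Ra := reflE 1 one_ne_zero a ha with hRa
    set Rb := reflE η hη0 b hb with hRb
    have hRai : IsIso Ra := isIso_reflE _ _ _ _
    have hRbi : IsIso Rb := isIso_reflE _ _ _ _
    have hA : IsSim (Ra * Rb) 1 := isSim_one_iff.mpr (IsIso.mul hRai hRbi)
    set rr := simOf (Ra * Rb) 1 hA with hrr
    have hrO : (rr : GL (Fin 4 ⊕ Fin 4) F) ∈ Cfsg.isometryGroup F (⇑(plusQF 4 F)) :=
      simOf_mem_isometryGroup _ hA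
    have hrE : plusEven (rr : GL (Fin 4 ⊕ Fin 4) F) := by
      rw [plusEven_simOf, plusEvenLin_mul_sim (isSim_one_iff.mpr hRai) (isSim_one_iff.mpr hRbi)]
      exact iff_of_false (not_plusEvenLin_reflE _ _ _ _) (not_plusEvenLin_reflE _ _ _ _)
    have hrS : (rr : GL (Fin 4 ⊕ Fin 4) F) ∈ Cfsg.specialIsometryGL F (⇑(plusQF 4 F)) :=
      special_of_even_isometry h2 (by norm_num) rr hrO hrE
    have hrspin : spin (plusQF 4 F) (glLinEquiv (Fin 4 ⊕ Fin 4) F (rr : GL (Fin 4 ⊕ Fin 4) F)) =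
        -1 := by
      rw [hrr, glLinEquiv_simOf,
        spin_refl_mul (plusQF 4 F) hQ Rb hRbi a (by rw [plusQF_eq_onorm, ha]; exact one_ne_zero)
          Ra (reflE_eq_reflLin _ _ _ _),
        spin_refl (plusQF 4 F) hQ b (by rw [plusQF_eq_onorm, hb]; exact hη0) Rb
          (reflE_eq_reflLin _ _ _ _), plusQF_eq_onorm, plusQF_eq_onorm, ha, hb,
        MulChar.map_one, one_mul, quadraticChar_neg_one_iff_not_isSquare]
      exact hη
    have hprodS : ((gh * rr : ↥(Cfsg.Geo.quadSimilarityGroup (⇑(QO F)))) :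
        GL (Fin 4 ⊕ Fin 4) F) ∈ Cfsg.specialIsometryGL F (⇑(plusQF 4 F)) :=
      Subgroup.mul_mem _ hS hrS
    have hprodspin : spin (plusQF 4 F) (glLinEquiv (Fin 4 ⊕ Fin 4) F
        ((gh * rr : ↥(Cfsg.Geo.quadSimilarityGroup (⇑(QO F)))) : GL (Fin 4 ⊕ Fin 4) F)) = 1 := by
      show spin (plusQF 4 F) (glLinEquiv (Fin 4 ⊕ Fin 4) F
        ((gh : GL (Fin 4 ⊕ Fin 4) F) * (rr : GL (Fin 4 ⊕ Fin 4) F))) = 1
      rw [spin_mul_matrix (plusQF 4 F) hQ h2 _ _ hO hrO, hs, hrspin]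
      norm_num
    have hΩ : ((gh * rr : ↥(Cfsg.Geo.quadSimilarityGroup (⇑(QO F)))) :
        GL (Fin 4 ⊕ Fin 4) F) ∈ OmegaGL (⇑(plusQF 4 F)) :=
      (mem_OmegaGL_iff_spin (plusQF 4 F) hQ h2 hdim2 _ hprodS).mpr hprodspin
    have h1 := conj_mem_of_mem_Inn τ _ (simAut_mem_Inn_of_mem (⇑(QO F)) (gh * rr) hΩ)
    have h3 := tau_conj_refl2_mem τ hτ a b 1 η one_ne_zero hη0 ha hb hA
    have h4 : τ * simAut (⇑(QO F)) gh * τ⁻¹ =
        (τ * simAut (⇑(QO F)) (gh * rr) * τ⁻¹) * (τ * simAut (⇑(QO F)) rr * τ⁻¹)⁻¹ := by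
      rw [map_mul]
      group
    rw [h4]
    exact Subgroup.mul_mem _ h1 (Subgroup.inv_mem _ h3)

end fin2


section fin3
variable [Fintype F]

/-- **triality normalises the inner-diagonal group** (odd characteristic) -/
theorem tau_conj_mem_inndiag_of_odd (h2 : (2 : F) ≠ 0) (τ : MulAut (Cfsg.POmega F (⇑(QO F))))
    (hτ : ∀ t : ↥(RT' F), τ (psi (MO F) t) = psi (MO F) (thetaR t))
    (δ : MulAut (Cfsg.POmega F (⇑(QO F)))) (hδ : δ ∈ inndiagPlusQ 4 F) :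
    τ * δ * τ⁻¹ ∈ inndiagPlusQ 4 F := by
  obtain ⟨g, hgE, rfl⟩ := (mem_inndiag_QO δ).mp hδ
  obtain ⟨μ, hμ⟩ := isSim_glLinEquiv g
  set D : GLO F := glLinEquiv (Fin 4 ⊕ Fin 4) F (g : GL (Fin 4 ⊕ Fin 4) F) with hD
  have hDe : plusEvenLin D := hgE
  obtain ⟨u, hu⟩ := exists_onorm_eq μ
  have hu0 : onorm u ≠ 0 := by rw [hu]; exact hμ.ne_zero
  set L := LmE u hu0 with hL
  have hLs : IsSim L (onorm u) := isSim_LmE u hu0
  have hLe : plusEvenLin L := plusEvenLin_LmE u hu0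
  set h : GLO F := L⁻¹ * D with hh
  have hhs : IsSim h 1 := by
    have := hLs.inv.mul hμ
    rwa [hu, inv_mul_cancel₀ hμ.ne_zero] at this
  have hhe : plusEvenLin h := by
    rw [hh, plusEvenLin_mul_sim hLs.inv hμ, plusEvenLin_inv_sim hLs]
    exact iff_of_true hLe hDe
  have hg : g = simOf L (onorm u) hLs * simOf h 1 hhs := by
    apply Subtype.ext
    apply (glLinEquiv (Fin 4 ⊕ Fin 4) F).injective
    rw [Subgroup.coe_mul, map_mul, glLinEquiv_simOf, glLinEquiv_simOf, hh, mul_inv_cancel_left]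
  have h1 := tau_conj_mem_of_rel τ hτ hLs (isSim_BmE u hu0)
    (isSim_LmE (oinv u) (onorm_oinv_ne_zero u hu0)) (isRel_LmE u hu0) (plusEvenLin_BmE u hu0)
  have h3 := tau_conj_iso_mem h2 τ hτ h hhs hhe
  have h4 : τ * simAut (⇑(QO F)) g * τ⁻¹ =
      (τ * simAut (⇑(QO F)) (simOf L (onorm u) hLs) * τ⁻¹) *
        (τ * simAut (⇑(QO F)) (simOf h 1 hhs) * τ⁻¹) := by
    rw [hg, map_mul]
    group
  rw [h4]
  exact Subgroup.mul_mem _ h1 h3

end fin3

end Cfsg.Agent.Lib.Helper37.Tri
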