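import Mathlib
import Cfsg.Agent.Lib.Helper37.TriNormC

set_option autoImplicit false

/-!
# S2715 / S2608: the inner-diagonal group of `PΩ⁺₈(F)` is normal in the automorphism group
(given that `PΓO⁺₈(F)` has index three)
-/

namespace Cfsg.Agent.Lib.Helper37.Tri

open Cfsg.Agent.Lib.Helper13 hiding isoGroup mem_isoGroup
open Cfsg.Agent.Lib.Helper36 Cfsg.Agent.Lib.Helper44 Cfsg.Agent.Lib.Helper36.AutO
  Cfsg.Agent.Lib.Helper36.Tri Module Cfsg.Agent.Lib.Helper43 Cfsg.Agent.S2168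

/-- a subgroup containing a subgroup of prime index and an element outside it is everything -/
theorem eq_top_of_index_prime {G : Type*} [Group G] (H K : Subgroup G) (hHK : H ≤ K) (p : ℕ)
    (hp : p.Prime) (hidx : H.index = p) (x : G) (hxK : x ∈ K) (hxH : x ∉ H) : K = ⊤ := by
  have h1 := Subgroup.relIndex_mul_index hHK
  rw [hidx] at h1
  have h2 : K.index ∣ p := ⟨H.relIndex K, by rw [← h1, mul_comm]⟩
  rcases (Nat.dvd_prime hp).mp h2 with h3 | h3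
  · exact Subgroup.index_eq_one.mp h3
  · exfalso
    rw [h3] at h1
    have h4 : H.relIndex K = 1 := by
      have hp0 : 0 < p := hp.pos
      exact Nat.eq_of_mul_eq_mul_right hp0 (by rw [h1, one_mul])
    exact hxH (Subgroup.relIndex_eq_one.mp h4 hxK)

variable {F : Type*} [Field F]

section fin
variable [Fintype F]

/-- semisimilarities normalise the inner-diagonal group -/
theorem gamma_conj_mem_inndiag (γ : MulAut (Cfsg.POmega F (⇑(plusQF 4 F))))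
    (hγ : γ ∈ Cfsg.gammaPOmega F (⇑(plusQF 4 F)))
    (δ : MulAut (Cfsg.POmega F (⇑(plusQF 4 F)))) (hδ : δ ∈ inndiagPlusQ 4 F) :
    γ * δ * γ⁻¹ ∈ inndiagPlusQ 4 F := by
  have hQ : FieldCompat (⇑(plusQF 4 F)) := fieldCompat_plusQF
  obtain ⟨g, σ, hp, hi⟩ := (mem_gammaPOmega_iff (⇑(plusQF 4 F)) γ).mp hγ
  have hg := mem_quadSim_of_isSemisimilarityPair hQ g σ hp
  have hγeq := (isInducedBySemilinearPOmega_iff hQ ⟨g, hg⟩ σ γ).mp hi
  obtain ⟨d, hd, rfl⟩ := (mem_inndiagPlusQ_iff δ).mp hδ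
  rw [mem_inndiagPlusQ_iff]
  refine ⟨_, (plusEven_conj_std ⟨g, hg⟩ d σ).mpr hd, ?_⟩
  rw [← std_conj_simAut hQ ⟨g, hg⟩ d σ, ← hγeq]

/-- the triality automorphism in the `plusQF` dress -/
theorem exists_tau_plus (h2 : (2 : F) ≠ 0) :
    ∃ τ : MulAut (Cfsg.POmega F (⇑(plusQF 4 F))), τ * τ * τ = 1 ∧
      τ ∉ Cfsg.gammaPOmega F (⇑(plusQF 4 F)) ∧
      ∀ δ : MulAut (Cfsg.POmega F (⇑(plusQF 4 F))), δ ∈ inndiagPlusQ 4 F →
        τ * δ * τ⁻¹ ∈ inndiagPlusQ 4 F := by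
  obtain ⟨τ, hτ, hcube⟩ := exists_tau (MO F)
  have hτ3 : τ * τ * τ = 1 := by
    apply MulEquiv.ext
    intro y
    exact hcube y
  exact ⟨τ, hτ3, tau_not_mem τ hτ, fun δ hδ => tau_conj_mem_inndiag_of_odd h2 τ hτ δ hδ⟩

/-- **the inner-diagonal group of `PΩ⁺₈(F)` is normal in `Aut`**, odd characteristic, given the
index of `PΓO⁺₈` -/
theorem conj_mem_inndiag_of_index_odd (h2 : (2 : F) ≠ 0)
    (hidx : (Cfsg.gammaPOmega F (⇑(plusQF 4 F))).index = 3)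
    (α δ : MulAut (Cfsg.POmega F (⇑(plusQF 4 F)))) (hδ : δ ∈ inndiagPlusQ 4 F) :
    α * δ * α⁻¹ ∈ inndiagPlusQ 4 F := by
  obtain ⟨τ, hτ3, hτn, hτc⟩ := exists_tau_plus h2 (F := F)
  obtain ⟨N, hN⟩ : ∃ N : Subgroup (MulAut (Cfsg.POmega F (⇑(plusQF 4 F)))),
      N = Subgroup.normalizer ((inndiagPlusQ 4 F :
        Subgroup (MulAut (Cfsg.POmega F (⇑(plusQF 4 F))))) :
          Set (MulAut (Cfsg.POmega F (⇑(plusQF 4 F))))) :=
    ⟨_, rfl⟩
  have hΓN : Cfsg.gammaPOmega F (⇑(plusQF 4 F)) ≤ N := by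
    intro γ hγ
    rw [hN, Subgroup.mem_normalizer_iff]
    intro d
    constructor
    · intro hd
      exact gamma_conj_mem_inndiag γ hγ d hd
    · intro hd
      have h1 := gamma_conj_mem_inndiag γ⁻¹ (Subgroup.inv_mem _ hγ) _ hd
      have h3 : γ⁻¹ * (γ * d * γ⁻¹) * γ⁻¹⁻¹ = d := by group
      rwa [h3] at h1
  have hτN : τ ∈ N := by
    rw [hN, Subgroup.mem_normalizer_iff]
    intro d
    constructor
    · intro hd
      exact hτc d hd
    · intro hd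
      have h1 := hτc _ (hτc _ hd)
      have h3 : τ * (τ * (τ * d * τ⁻¹) * τ⁻¹) * τ⁻¹ = (τ * τ * τ) * d * (τ * τ * τ)⁻¹ := by group
      rwa [h3, hτ3, inv_one, mul_one, one_mul] at h1
  have hK : Cfsg.gammaPOmega F (⇑(plusQF 4 F)) ⊔ Subgroup.zpowers τ = ⊤ :=
    eq_top_of_index_prime _ _ le_sup_left 3 Nat.prime_three hidx τ
      (Subgroup.mem_sup_right (Subgroup.mem_zpowers τ)) hτn
  have hαN : α ∈ N := by
    have h1 : Cfsg.gammaPOmega F (⇑(plusQF 4 F)) ⊔ Subgroup.zpowers τ ≤ N :=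
      sup_le hΓN ((Subgroup.zpowers_le).mpr hτN)
    rw [hK] at h1
    exact h1 (Subgroup.mem_top α)
  rw [hN, Subgroup.mem_normalizer_iff] at hαN
  exact (hαN δ).mp hδ

end fin

end Cfsg.Agent.Lib.Helper37.Tri
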