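import Mathlib
import Cfsg.Agent.Lib.Helper37.TriNormD
import Cfsg.Agent.Lib.Helper36.Tri.AutCard8

set_option autoImplicit false

/-!
# S2715: the inner-diagonal group of `PΩ⁺₈(F)` is normal in the automorphism group
(all characteristics): even isometries are products of pairs of reflections
-/

namespace Cfsg.Agent.Lib.Helper37.Tri

open Cfsg.Agent.Lib.Helper13 hiding isoGroup mem_isoGroup
open Cfsg.Agent.Lib.Helper36 Cfsg.Agent.Lib.Helper44 Cfsg.Agent.Lib.Helper36.AutO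
  Cfsg.Agent.Lib.Helper36.Tri Module Cfsg.Agent.Lib.Helper43 Cfsg.Agent.S2168

variable {F : Type*} [Field F] [Fintype F]

/-- the isometry `k` is conjugated into the inner-diagonal group by `τ` -/
def Good (τ : MulAut (Cfsg.POmega F (⇑(QO F)))) (k : GLO F) : Prop :=
  ∀ hk : IsSim k 1, τ * simAut (⇑(QO F)) (simOf k 1 hk) * τ⁻¹ ∈ inndiagPlusQ 4 F

omit [Fintype F] in
theorem good_one (τ : MulAut (Cfsg.POmega F (⇑(QO F)))) : Good τ (1 : GLO F) := by
  intro hk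
  have h1 : simOf (1 : GLO F) 1 hk = 1 := by
    apply Subtype.ext
    show (glLinEquiv (Fin 4 ⊕ Fin 4) F).symm 1 = 1
    exact map_one _
  rw [h1, map_one, mul_one, mul_inv_cancel]
  exact Subgroup.one_mem _

omit [Fintype F] in
theorem good_mul (τ : MulAut (Cfsg.POmega F (⇑(QO F)))) {k l : GLO F} (hk : IsSim k 1)
    (hl : IsSim l 1) (gk : Good τ k) (gl : Good τ l) : Good τ (k * l) := by
  intro hkl
  have heq : simOf (k * l) 1 hkl = simOf k 1 hk * simOf l 1 hl := by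
    apply Subtype.ext
    apply (glLinEquiv (Fin 4 ⊕ Fin 4) F).injective
    rw [Subgroup.coe_mul, map_mul, glLinEquiv_simOf, glLinEquiv_simOf, glLinEquiv_simOf]
  have h4 : τ * simAut (⇑(QO F)) (simOf (k * l) 1 hkl) * τ⁻¹ =
      (τ * simAut (⇑(QO F)) (simOf k 1 hk) * τ⁻¹) *
        (τ * simAut (⇑(QO F)) (simOf l 1 hl) * τ⁻¹) := by
    rw [heq, map_mul]
    group
  rw [h4]
  exact Subgroup.mul_mem _ (gk hk) (gl hl)

theorem good_refl2 (τ : MulAut (Cfsg.POmega F (⇑(QO F))))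
    (hτ : ∀ t : ↥(RT' F), τ (psi (MO F) t) = psi (MO F) (thetaR t))
    (a b : OV F) (c d : F) (hc : c ≠ 0) (hd : d ≠ 0) (ha : onorm a = c) (hb : onorm b = d) :
    Good τ (reflE c hc a ha * reflE d hd b hb) :=
  fun hk => tau_conj_refl2_mem τ hτ a b c d hc hd ha hb hk

omit [Fintype F] in
theorem reflSet_eq_reflE {T : GLO F} (hT : T ∈ reflSet (plusQF 4 F)) :
    ∃ (v : OV F) (hv : onorm v ≠ 0), T = reflE (onorm v) hv v rfl := by
  obtain ⟨v, hv, hTv⟩ := hT
  have hv' : onorm v ≠ 0 := hv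
  refine ⟨v, hv', ?_⟩
  apply LinearEquiv.ext
  intro x
  rw [hTv, reflE_eq_reflLin]

omit [Fintype F] in
theorem reflE_mul_self (c : F) (hc : c ≠ 0) (w : OV F) (hw : onorm w = c) :
    reflE c hc w hw * reflE c hc w hw = 1 := by
  apply LinearEquiv.ext
  intro x
  exact reflL_reflL c hc w hw x

/-- the induction predicate -/
def Pk (τ : MulAut (Cfsg.POmega F (⇑(QO F)))) (R₀ k : GLO F) : Prop :=
  IsSim k 1 ∧ (plusEvenLin k → Good τ k) ∧ (¬ plusEvenLin k → Good τ (R₀ * k))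

theorem pk_step (τ : MulAut (Cfsg.POmega F (⇑(QO F))))
    (hτ : ∀ t : ↥(RT' F), τ (psi (MO F) t) = psi (MO F) (thetaR t))
    (a : OV F) (ha : onorm a = 1) (T : GLO F) (hT : T ∈ reflSet (plusQF 4 F)) (y : GLO F)
    (hy : Pk τ (reflE 1 one_ne_zero a ha) y) : Pk τ (reflE 1 one_ne_zero a ha) (T * y) := by
  obtain ⟨hys, hye, hyo⟩ := hy
  obtain ⟨v, hv, rfl⟩ := reflSet_eq_reflE hT
  set R₀ := reflE 1 one_ne_zero a ha with hR₀
  set T := reflE (onorm v) hv v rfl with hTdef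
  have hR₀s : IsSim R₀ 1 := isSim_one_iff.mpr (isIso_reflE _ _ _ _)
  have hTs : IsSim T 1 := isSim_one_iff.mpr (isIso_reflE _ _ _ _)
  have hTo : ¬ plusEvenLin T := not_plusEvenLin_reflE _ _ _ _
  have hTy : IsSim (T * y) 1 := by have := hTs.mul hys; rwa [one_mul] at this
  have hR₀y : IsSim (R₀ * y) 1 := by have := hR₀s.mul hys; rwa [one_mul] at this
  have hR₀T : IsSim (R₀ * T) 1 := by have := hR₀s.mul hTs; rwa [one_mul] at this
  have hTR₀ : IsSim (T * R₀) 1 := by have := hTs.mul hR₀s; rwa [one_mul] at this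
  have hpar : plusEvenLin (T * y) ↔ ¬ plusEvenLin y := by
    rw [plusEvenLin_mul_sim hTs hys]
    constructor
    · intro h1 h3
      exact hTo (h1.mpr h3)
    · intro h1
      exact iff_of_false hTo h1
  have m1 : Good τ (R₀ * T) := good_refl2 τ hτ a v 1 (onorm v) one_ne_zero hv ha rfl
  have m2 : Good τ (T * R₀) := good_refl2 τ hτ v a (onorm v) 1 hv one_ne_zero rfl ha
  refine ⟨hTy, ?_, ?_⟩
  · intro h1
    have h3 := hyo (hpar.mp h1)
    have heq : T * y = (T * R₀) * (R₀ * y) := by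
      rw [mul_assoc, ← mul_assoc R₀, reflE_mul_self, one_mul]
    rw [heq]
    exact good_mul τ hTR₀ hR₀y m2 h3
  · intro h1
    have hyev : plusEvenLin y := by
      by_contra hcon
      exact h1 (hpar.mpr hcon)
    have heq : R₀ * (T * y) = (R₀ * T) * y := (mul_assoc _ _ _).symm
    rw [heq]
    exact good_mul τ hR₀T hys m1 (hye hyev)

/-- an even isometry is conjugated into the inner-diagonal group by triality (all
characteristics) -/
theorem tau_conj_iso_mem_gen (τ : MulAut (Cfsg.POmega F (⇑(QO F))))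
    (hτ : ∀ t : ↥(RT' F), τ (psi (MO F) t) = psi (MO F) (thetaR t))
    (h : GLO F) (hh : IsSim h 1) (he : plusEvenLin h) :
    τ * simAut (⇑(QO F)) (simOf h 1 hh) * τ⁻¹ ∈ inndiagPlusQ 4 F := by
  classical
  have hQ := plusQF_nondeg 4 F
  have hF : (∀ a b : F, ∃ x : F, x ≠ a ∧ x ≠ b) ∨ Module.finrank F (OV F) ≠ 4 :=
    Or.inr (by rw [finrank_OV]; norm_num)
  have hiso : h ∈ Cfsg.Agent.Lib.Helper13.isoGroup (plusQF 4 F) := isSim_one_iff.mp hh
  have hrefl : h ∈ reflGroup (plusQF 4 F) := isoGroup_le_reflGroup (plusQF 4 F) hQ hF hiso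
  obtain ⟨a, ha⟩ := exists_onorm_eq (1 : F)
  have key : ∀ k : GLO F, k ∈ Subgroup.closure (reflSet (plusQF 4 F)) →
      Pk τ (reflE 1 one_ne_zero a ha) k := by
    intro k hk
    induction hk using Subgroup.closure_induction_left with
    | one =>
      refine ⟨isSim_one_iff.mpr IsIso.one, fun _ => good_one τ, ?_⟩
      intro h1
      exfalso
      apply h1
      apply plusEvenLin_of_map_eq
      exact Submodule.map_id _
    | mul_left T hT y _ ih => exact pk_step τ hτ a ha T hT y ih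
    | inv_mul_cancel T hT y _ ih =>
      have hTinv : T⁻¹ ∈ reflSet (plusQF 4 F) := by
        obtain ⟨v, hv, hTeq⟩ := reflSet_eq_reflE hT
        have hsq : T * T = 1 := by rw [hTeq]; exact reflE_mul_self _ _ _ _
        have : T⁻¹ = T := inv_eq_of_mul_eq_one_left hsq
        rw [this]
        exact hT
      exact pk_step τ hτ a ha T⁻¹ hTinv y ih
  exact (key h hrefl).2.1 he hh


/-- **triality normalises the inner-diagonal group** (all characteristics) -/
theorem tau_conj_mem_inndiag (τ : MulAut (Cfsg.POmega F (⇑(QO F))))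
    (hτ : ∀ t : ↥(RT' F), τ (psi (MO F) t) = psi (MO F) (thetaR t))
    (δ : MulAut (Cfsg.POmega F (⇑(QO F)))) (hδ : δ ∈ inndiagPlusQ 4 F) :
    τ * δ * τ⁻¹ ∈ inndiagPlusQ 4 F := by
  obtain ⟨g, hgE, rfl⟩ := (mem_inndiag_QO δ).mp hδ
  obtain ⟨μ, hμ⟩ := isSim_glLinEquiv g
  set D : GLO F := glLinEquiv (Fin 4 ⊕ Fin 4) F (g : GL (Fin 4 ⊕ Fin 4) F) with hD
  have hDe : plusEvenLin D := hgE
  obtain ⟨u, hu⟩ := exists_onorm_eq μ
  have hu0 : onorm u ≠ 0 := by rw [hu]; exact hμ.ne_zero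
  set L := LmE u hu0 with hL
  have hLs : IsSim L (onorm u) := isSim_LmE u hu0
  have hLe : plusEvenLin L := plusEvenLin_LmE u hu0
  set h : GLO F := L⁻¹ * D with hh
  have hhs : IsSim h 1 := by
    have := hLs.inv.mul hμ
    rwa [hu, inv_mul_cancel₀ hμ.ne_zero] at this
  have hhe : plusEvenLin h := by
    rw [hh, plusEvenLin_mul_sim hLs.inv hμ, plusEvenLin_inv_sim hLs]
    exact iff_of_true hLe hDe
  have hg : g = simOf L (onorm u) hLs * simOf h 1 hhs := by
    apply Subtype.ext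
    apply (glLinEquiv (Fin 4 ⊕ Fin 4) F).injective
    rw [Subgroup.coe_mul, map_mul, glLinEquiv_simOf, glLinEquiv_simOf, hh, mul_inv_cancel_left]
  have h1 := tau_conj_mem_of_rel τ hτ hLs (isSim_BmE u hu0)
    (isSim_LmE (oinv u) (onorm_oinv_ne_zero u hu0)) (isRel_LmE u hu0) (plusEvenLin_BmE u hu0)
  have h3 := tau_conj_iso_mem_gen τ hτ h hhs hhe
  have h4 : τ * simAut (⇑(QO F)) g * τ⁻¹ =
      (τ * simAut (⇑(QO F)) (simOf L (onorm u) hLs) * τ⁻¹) *
        (τ * simAut (⇑(QO F)) (simOf h 1 hhs) * τ⁻¹) := by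
    rw [hg, map_mul]
    group
  rw [h4]
  exact Subgroup.mul_mem _ h1 h3

/-- the triality automorphism in the `plusQF` dress (all characteristics) -/
theorem exists_tau_plus_gen :
    ∃ τ : MulAut (Cfsg.POmega F (⇑(plusQF 4 F))), τ * τ * τ = 1 ∧
      τ ∉ Cfsg.gammaPOmega F (⇑(plusQF 4 F)) ∧
      ∀ δ : MulAut (Cfsg.POmega F (⇑(plusQF 4 F))), δ ∈ inndiagPlusQ 4 F →
        τ * δ * τ⁻¹ ∈ inndiagPlusQ 4 F := by
  obtain ⟨τ, hτ, hcube⟩ := exists_tau (MO F)
  have hτ3 : τ * τ * τ = 1 := by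
    apply MulEquiv.ext
    intro y
    exact hcube y
  exact ⟨τ, hτ3, tau_not_mem τ hτ, fun δ hδ => tau_conj_mem_inndiag τ hτ δ hδ⟩

/-- **the inner-diagonal group of `PΩ⁺₈(F)` is normal in `Aut`** -/
theorem conj_mem_inndiagPlusQ_four
    (α δ : MulAut (Cfsg.POmega F (⇑(plusQF 4 F)))) (hδ : δ ∈ inndiagPlusQ 4 F) :
    α * δ * α⁻¹ ∈ inndiagPlusQ 4 F := by
  have hidx : (Cfsg.gammaPOmega F (⇑(plusQF 4 F))).index = 3 := index_gamma_eq_three (F := F)
  obtain ⟨τ, hτ3, hτn, hτc⟩ := exists_tau_plus_gen (F := F)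
  obtain ⟨N, hN⟩ : ∃ N : Subgroup (MulAut (Cfsg.POmega F (⇑(plusQF 4 F)))),
      N = Subgroup.normalizer ((inndiagPlusQ 4 F :
        Subgroup (MulAut (Cfsg.POmega F (⇑(plusQF 4 F))))) :
          Set (MulAut (Cfsg.POmega F (⇑(plusQF 4 F))))) :=
    ⟨_, rfl⟩
  have hΓN : Cfsg.gammaPOmega F (⇑(plusQF 4 F)) ≤ N := by
    intro γ hγ
    rw [hN, Subgroup.mem_normalizer_iff]
    intro d
    constructor
    · intro hd
      exact gamma_conj_mem_inndiag γ hγ d hd
    · intro hd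
      have h1 := gamma_conj_mem_inndiag γ⁻¹ (Subgroup.inv_mem _ hγ) _ hd
      have h3 : γ⁻¹ * (γ * d * γ⁻¹) * γ⁻¹⁻¹ = d := by group
      rwa [h3] at h1
  have hτN : τ ∈ N := by
    rw [hN, Subgroup.mem_normalizer_iff]
    intro d
    constructor
    · intro hd
      exact hτc d hd
    · intro hd
      have h1 := hτc _ (hτc _ hd)
      have h3 : τ * (τ * (τ * d * τ⁻¹) * τ⁻¹) * τ⁻¹ = (τ * τ * τ) * d * (τ * τ * τ)⁻¹ := by group
      rwa [h3, hτ3, inv_one, mul_one, one_mul] at h1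
  have hK : Cfsg.gammaPOmega F (⇑(plusQF 4 F)) ⊔ Subgroup.zpowers τ = ⊤ :=
    eq_top_of_index_prime _ _ le_sup_left 3 Nat.prime_three hidx τ
      (Subgroup.mem_sup_right (Subgroup.mem_zpowers τ)) hτn
  have hαN : α ∈ N := by
    have h1 : Cfsg.gammaPOmega F (⇑(plusQF 4 F)) ⊔ Subgroup.zpowers τ ≤ N :=
      sup_le hΓN ((Subgroup.zpowers_le).mpr hτN)
    rw [hK] at h1
    exact h1 (Subgroup.mem_top α)
  rw [hN, Subgroup.mem_normalizer_iff] at hαN
  exact (hαN δ).mp hδ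

/-- **[N4]** `Inndiag(PΩ⁺₈(F))` is a normal subgroup of `Aut(PΩ⁺₈(F))` -/
theorem inndiag8_normal : (Cfsg.inndiagPOmegaPlus 4 F).Normal :=
  ⟨fun δ hδ α => conj_mem_inndiagPlusQ_four α δ hδ⟩

end Cfsg.Agent.Lib.Helper37.Tri
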