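import Mathlib
import Cfsg.Prelude.Def_PLocal
import Cfsg.Agent.Lib.Helper37.PLocClosed

/-!
# `Qd(p)` has a `p`-local subgroup that is not `p`-closed
-/

set_option autoImplicit false

namespace Cfsg.Agent.Lib.Helper37

open Matrix

section
variable {p : ℕ}

/-- the matrix of an element of `Qd(p)` -/
def qdMat (g : ↥(Cfsg.qd p)) : Matrix (Fin 3) (Fin 3) (ZMod p) := g.1.1

theorem qdMat_one : qdMat (1 : ↥(Cfsg.qd p)) = 1 := rfl

theorem qdMat_mul (g h : ↥(Cfsg.qd p)) : qdMat (g * h) = qdMat g * qdMat h := rfl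

theorem qdMat_pow (g : ↥(Cfsg.qd p)) (n : ℕ) : qdMat (g ^ n) = qdMat g ^ n := by
  induction n with
  | zero => simp [qdMat_one]
  | succ n ih => rw [pow_succ, pow_succ, qdMat_mul, ih]

theorem qdMat_injective : Function.Injective (qdMat (p := p)) := by
  intro g h hgh
  apply Subtype.ext
  apply Subtype.ext
  exact hgh

/-- last row of an element of `Qd(p)` is `(0,0,1)` -/
theorem qd_last_row (g : ↥(Cfsg.qd p)) :
    qdMat g 2 0 = 0 ∧ qdMat g 2 1 = 0 ∧ qdMat g 2 2 = 1 := by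
  obtain ⟨g, hg⟩ := g
  show (g : Matrix (Fin 3) (Fin 3) (ZMod p)) 2 0 = 0 ∧ (g : Matrix (Fin 3) (Fin 3) (ZMod p)) 2 1 = 0
    ∧ (g : Matrix (Fin 3) (Fin 3) (ZMod p)) 2 2 = 1
  induction hg using Subgroup.closure_induction with
  | mem x hx => exact hx
  | one => simp
  | mul x y _ _ hx hy =>
    obtain ⟨h1, h2, h3⟩ := hx
    obtain ⟨k1, k2, k3⟩ := hy
    simp only [Matrix.SpecialLinearGroup.coe_mul, Matrix.mul_apply, Fin.sum_univ_three]
    rw [h1, h2, h3, k1, k2, k3]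
    simp
  | inv x _ hx =>
    obtain ⟨h1, h2, h3⟩ := hx
    have hmul : (x : Matrix (Fin 3) (Fin 3) (ZMod p)) * ((x⁻¹ : Matrix.SpecialLinearGroup (Fin 3) (ZMod p)) : Matrix (Fin 3) (Fin 3) (ZMod p)) = 1 := by
      rw [← Matrix.SpecialLinearGroup.coe_mul, mul_inv_cancel, Matrix.SpecialLinearGroup.coe_one]
    have e0 := congrFun (congrFun hmul 2) 0
    have e1 := congrFun (congrFun hmul 2) 1
    have e2 := congrFun (congrFun hmul 2) 2
    simp only [Matrix.mul_apply, Fin.sum_univ_three, h1, h2, h3, zero_mul, one_mul, zero_add] at e0 e1 e2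
    refine ⟨?_, ?_, ?_⟩
    · rw [e0]; simp
    · rw [e1]; simp
    · rw [e2]; simp

/-- the upper-left `2 × 2` block -/
def qdBlockFun (g : ↥(Cfsg.qd p)) : Matrix (Fin 2) (Fin 2) (ZMod p) :=
  Matrix.of fun i j => qdMat g (Fin.castSucc i) (Fin.castSucc j)

theorem qdBlockFun_apply (g : ↥(Cfsg.qd p)) (i j : Fin 2) :
    qdBlockFun g i j = qdMat g (Fin.castSucc i) (Fin.castSucc j) := rfl

/-- the upper-left `2 × 2` block as a monoid homomorphism -/
def qdBlock : ↥(Cfsg.qd p) →* Matrix (Fin 2) (Fin 2) (ZMod p) where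
  toFun := qdBlockFun
  map_one' := by
    ext i j
    fin_cases i <;> fin_cases j <;> simp [qdBlockFun_apply, qdMat_one]
  map_mul' g h := by
    ext i j
    obtain ⟨k1, k2, _⟩ := qd_last_row h
    rw [Matrix.mul_apply, Fin.sum_univ_two, qdBlockFun_apply, qdMat_mul, Matrix.mul_apply,
      Fin.sum_univ_three]
    simp only [qdBlockFun_apply]
    fin_cases j
    · simp [k1]
    · simp [k2]

theorem pow_p_eq_one_of_sq_zero [hp : Fact p.Prime] (A : Matrix (Fin 3) (Fin 3) (ZMod p))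
    (h : (A - 1) * (A - 1) = 0) : A ^ p = 1 := by
  have : CharP (Matrix (Fin 3) (Fin 3) (ZMod p)) p := inferInstance
  have h2 : (A - 1) ^ p = 0 := by
    have h2le := hp.out.two_le
    have e : (A - 1) ^ p = (A - 1) ^ 2 * (A - 1) ^ (p - 2) := by
      rw [← pow_add]; congr 1; omega
    rw [e, pow_two, h, zero_mul]
  rw [sub_pow_char_of_commute p (Commute.one_right _), one_pow, sub_eq_zero] at h2
  exact h2

/-- elements of `Qd(p)` given by explicit matrices -/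
def slA (p : ℕ) : Matrix.SpecialLinearGroup (Fin 3) (ZMod p) :=
  ⟨!![1, 1, 0; 0, 1, 0; 0, 0, 1], by simp [Matrix.det_fin_three]⟩

def slB (p : ℕ) : Matrix.SpecialLinearGroup (Fin 3) (ZMod p) :=
  ⟨!![1, 0, 0; 1, 1, 0; 0, 0, 1], by simp [Matrix.det_fin_three]⟩

def slT (p : ℕ) : Matrix.SpecialLinearGroup (Fin 3) (ZMod p) :=
  ⟨!![1, 0, 1; 0, 1, 0; 0, 0, 1], by simp [Matrix.det_fin_three]⟩

theorem slA_coe (p : ℕ) : ((slA p : Matrix.SpecialLinearGroup (Fin 3) (ZMod p)) :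
    Matrix (Fin 3) (Fin 3) (ZMod p)) = !![1, 1, 0; 0, 1, 0; 0, 0, 1] := rfl
theorem slB_coe (p : ℕ) : ((slB p : Matrix.SpecialLinearGroup (Fin 3) (ZMod p)) :
    Matrix (Fin 3) (Fin 3) (ZMod p)) = !![1, 0, 0; 1, 1, 0; 0, 0, 1] := rfl
theorem slT_coe (p : ℕ) : ((slT p : Matrix.SpecialLinearGroup (Fin 3) (ZMod p)) :
    Matrix (Fin 3) (Fin 3) (ZMod p)) = !![1, 0, 1; 0, 1, 0; 0, 0, 1] := rfl

def qdA (p : ℕ) : ↥(Cfsg.qd p) := ⟨slA p, Subgroup.subset_closure (by simp [slA_coe])⟩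

def qdB (p : ℕ) : ↥(Cfsg.qd p) := ⟨slB p, Subgroup.subset_closure (by simp [slB_coe])⟩

def qdT (p : ℕ) : ↥(Cfsg.qd p) := ⟨slT p, Subgroup.subset_closure (by simp [slT_coe])⟩

theorem qdMat_qdA : qdMat (qdA p) = !![1, 1, 0; 0, 1, 0; 0, 0, 1] := rfl
theorem qdMat_qdB : qdMat (qdB p) = !![1, 0, 0; 1, 1, 0; 0, 0, 1] := rfl
theorem qdMat_qdT : qdMat (qdT p) = !![1, 0, 1; 0, 1, 0; 0, 0, 1] := rfl

theorem pow_p_eq_one_of_mat [hp : Fact p.Prime] (g : ↥(Cfsg.qd p))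
    (h : (qdMat g - 1) * (qdMat g - 1) = 0) : g ^ p = 1 := by
  apply qdMat_injective
  rw [qdMat_pow, qdMat_one]
  exact pow_p_eq_one_of_sq_zero _ h

theorem qdA_pow [hp : Fact p.Prime] : qdA p ^ p = 1 := by
  apply pow_p_eq_one_of_mat
  rw [qdMat_qdA]
  ext i j
  fin_cases i <;> fin_cases j <;> simp [Matrix.mul_apply, Fin.sum_univ_three]

theorem qdB_pow [hp : Fact p.Prime] : qdB p ^ p = 1 := by
  apply pow_p_eq_one_of_mat
  rw [qdMat_qdB]
  ext i j
  fin_cases i <;> fin_cases j <;> simp [Matrix.mul_apply, Fin.sum_univ_three]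

theorem ker_pow [hp : Fact p.Prime] (g : ↥(Cfsg.qd p)) (hg : g ∈ (qdBlock (p := p)).ker) :
    g ^ p = 1 := by
  apply pow_p_eq_one_of_mat
  obtain ⟨k1, k2, k3⟩ := qd_last_row g
  have hk : qdBlockFun g = 1 := hg
  have e00 : qdMat g 0 0 = 1 := by simpa [qdBlockFun_apply] using congrFun (congrFun hk 0) 0
  have e01 : qdMat g 0 1 = 0 := by simpa [qdBlockFun_apply] using congrFun (congrFun hk 0) 1
  have e10 : qdMat g 1 0 = 0 := by simpa [qdBlockFun_apply] using congrFun (congrFun hk 1) 0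
  have e11 : qdMat g 1 1 = 1 := by simpa [qdBlockFun_apply] using congrFun (congrFun hk 1) 1
  ext i j
  fin_cases i <;> fin_cases j <;>
    simp [Matrix.mul_apply, Fin.sum_univ_three, k1, k2, k3, e00, e01, e10, e11]

theorem zpowers_isPGroup [hp : Fact p.Prime] {G : Type*} [Group G] (g : G) (hg : g ^ p = 1) :
    IsPGroup p (Subgroup.zpowers g) := by
  rintro ⟨x, hx⟩
  obtain ⟨k, rfl⟩ := Subgroup.mem_zpowers_iff.1 hx
  refine ⟨1, ?_⟩
  apply Subtype.ext
  simp only [pow_one, Subgroup.coe_pow, Subgroup.coe_one]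
  rw [← zpow_natCast, ← _root_.zpow_mul, mul_comm, _root_.zpow_mul, zpow_natCast, hg, _root_.one_zpow]

/-- `Qd(p)` is not `PLoc`. -/
theorem not_PLoc_qd [hp : Fact p.Prime] : ¬ PLoc p ↥(Cfsg.qd p) := by
  intro h
  set V : Subgroup ↥(Cfsg.qd p) := (qdBlock (p := p)).ker with hV
  have hVp : IsPGroup p V := by
    rintro ⟨g, hg⟩
    refine ⟨1, ?_⟩
    apply Subtype.ext
    simp only [pow_one, Subgroup.coe_pow, Subgroup.coe_one]
    exact ker_pow g hg
  have hVne : V ≠ ⊥ := by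
    intro h0
    have hT : qdT p ∈ V := by
      show qdBlockFun (qdT p) = 1
      ext i j
      fin_cases i <;> fin_cases j <;> simp [qdBlockFun_apply, qdMat_qdT]
    rw [h0, Subgroup.mem_bot] at hT
    have := congrArg (fun g => qdMat g 0 2) hT
    simp [qdMat_qdT, qdMat_one] at this
  have h1 := h V hVp hVne
  rw [Subgroup.normalizer_eq_top] at h1
  obtain ⟨U, -, -, hU, hall⟩ := h1
  have hA : qdA p ∈ U := hall _ le_top (zpowers_isPGroup _ qdA_pow) (Subgroup.mem_zpowers _)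
  have hB : qdB p ∈ U := hall _ le_top (zpowers_isPGroup _ qdB_pow) (Subgroup.mem_zpowers _)
  have hAB : qdA p * qdB p ∈ U := U.mul_mem hA hB
  obtain ⟨k, hk⟩ := hU ⟨_, hAB⟩
  have hk' : (qdA p * qdB p) ^ p ^ k = 1 := congrArg Subtype.val hk
  have hm : (qdMat (qdA p * qdB p)) ^ p ^ k = 1 := by rw [← qdMat_pow, hk', qdMat_one]
  have : CharP (Matrix (Fin 3) (Fin 3) (ZMod p)) p := inferInstance
  have hnil : (qdMat (qdA p * qdB p) - 1) ^ p ^ k = 0 := by
    rw [sub_pow_char_pow_of_commute p k (Commute.one_right _), one_pow, hm, sub_self]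
  have hnil' : IsNilpotent (qdMat (qdA p * qdB p) - 1) := ⟨_, hnil⟩
  have htr := Matrix.isNilpotent_trace_of_isNilpotent hnil'
  have htr0 : (qdMat (qdA p * qdB p) - 1).trace = 0 := htr.eq_zero
  rw [qdMat_mul, qdMat_qdA, qdMat_qdB] at htr0
  simp [Matrix.trace_fin_three] at htr0
  exact one_ne_zero (by linear_combination htr0 : (1 : ZMod p) = 0)

end

end Cfsg.Agent.Lib.Helper37
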