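import Mathlib

set_option autoImplicit false

namespace Cfsg.Agent.Lib.Helper37.ReeW2

/-! ## [W2-COUNT] (Mathlib only) -/
theorem card_mul_card_normalizer_eq {G : Type*} [Group G] [Finite G] (H : Subgroup G) (P : G → Prop)
    (hP : ∀ g x : G, P x → P (g * x * g⁻¹))
    (hcov : ∀ x : G, P x → ∃ g : G, g * x * g⁻¹ ∈ H)
    (hTI : ∀ x ∈ H, P x → ∀ g : G, g * x * g⁻¹ ∈ H → g ∈ Subgroup.normalizer (H : Set G)) :
    Nat.card {x : G // P x} * Nat.card ↥(Subgroup.normalizer (H : Set G))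
      = Nat.card {x : G // P x ∧ x ∈ H} * Nat.card G := by
  classical
  -- choose, for every `x` with `P x`, an element `c x` with `c x * x * (c x)⁻¹ ∈ H`
  choose c hc using hcov
  -- g_x := (c x)⁻¹, y_x := c x * x * (c x)⁻¹
  let e : ({x : G // P x} × ↥(Subgroup.normalizer (H : Set G))) ≃ ({x : G // P x ∧ x ∈ H} × G) :=
    { toFun := fun xn =>
        (⟨(xn.2 : G) * (c xn.1.1 xn.1.2 * xn.1.1 * (c xn.1.1 xn.1.2)⁻¹) * (xn.2 : G)⁻¹,
            hP _ _ (hP _ _ xn.1.2),
            ((Subgroup.mem_normalizer_iff.mp xn.2.2) _).mp (hc xn.1.1 xn.1.2)⟩,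
          (c xn.1.1 xn.1.2)⁻¹ * (xn.2 : G)⁻¹)
      invFun := fun yg =>
        (⟨yg.2 * yg.1.1 * yg.2⁻¹, hP _ _ yg.1.2.1⟩,
          ⟨yg.2⁻¹ * (c (yg.2 * yg.1.1 * yg.2⁻¹) (hP _ _ yg.1.2.1))⁻¹, by
            have hx : P (yg.2 * yg.1.1 * yg.2⁻¹) := hP _ _ yg.1.2.1
            set x := yg.2 * yg.1.1 * yg.2⁻¹ with hxdef
            set cx := c x hx with hcx
            have h1 : cx * x * cx⁻¹ ∈ H := hc x hx
            have h2 : P (cx * x * cx⁻¹) := hP _ _ hx
            apply hTI (cx * x * cx⁻¹) h1 h2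
            have : yg.2⁻¹ * cx⁻¹ * (cx * x * cx⁻¹) * (yg.2⁻¹ * cx⁻¹)⁻¹ = yg.1.1 := by
              rw [hxdef]; group
            rw [this]
            exact yg.1.2.2⟩)
      left_inv := by
        rintro ⟨⟨x, hx⟩, ⟨n, hn⟩⟩
        have hxx : (c x hx)⁻¹ * n⁻¹ * (n * (c x hx * x * (c x hx)⁻¹) * n⁻¹) * ((c x hx)⁻¹ * n⁻¹)⁻¹ = x := by
          group
        apply Prod.ext
        · apply Subtype.ext
          exact hxx
        · apply Subtype.ext
          simp only
          have key : ∀ (x' : G) (hx' : P x'), x' = x → ((c x hx)⁻¹ * n⁻¹)⁻¹ * (c x' hx')⁻¹ = n := by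
            intro x' hx' hxe
            subst hxe
            group
          exact key _ _ hxx
      right_inv := by
        rintro ⟨⟨y, hy, hyH⟩, g⟩
        apply Prod.ext
        · apply Subtype.ext
          simp only
          group
        · simp only
          group }
  have := Nat.card_congr e
  rw [Nat.card_prod, Nat.card_prod] at this
  exact this

end Cfsg.Agent.Lib.Helper37.ReeW2
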