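import Mathlib
import Cfsg.Prelude.Def_LieClassical
import Cfsg.Agent.Lib.Helper5.UnitaryCenter

/-!
Involutions of `SU_3(q)`, `q` odd, as reflections `x ↦ 2 h(x,a) a - x` in norm-one vectors `a`.
-/

set_option autoImplicit false

namespace Cfsg.Agent.Lib.Helper37

open Matrix Cfsg Cfsg.Agent.Lib.Helper5

section basics
variable {F : Type*} [Field F] [Fintype F] {q : ℕ} {n : ℕ}

theorem two_pow_q (hF : Fintype.card F = q ^ 2) : (2 : F) ^ q = 2 := by
  have : (2 : F) = 1 + 1 := by norm_num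
  rw [this, add_pow_q hF, one_pow]

theorem two_ne_zero_of_odd (hq : Odd q) (hF : Fintype.card F = q ^ 2) : (2 : F) ≠ 0 := by
  intro h
  have hdvd : ringChar F ∣ 2 := by
    have := (ringChar.spec F 2).mp (by exact_mod_cast h)
    exact this
  have hp : (ringChar F).Prime := CharP.char_is_prime F (ringChar F)
  have h2 : ringChar F = 2 := (Nat.prime_dvd_prime_iff_eq hp Nat.prime_two).mp hdvd
  have := FiniteField.even_card_iff_char_two.mp h2
  rw [hF] at this
  have hodd : Odd (q ^ 2) := hq.pow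
  rw [Nat.odd_iff] at hodd
  omega

omit [Fintype F] in
theorem mat_ext_mulVec {M N : Matrix (Fin n) (Fin n) F} (h : ∀ x, M *ᵥ x = N *ᵥ x) : M = N := by
  apply Matrix.toLin'.injective
  apply LinearMap.ext
  intro x
  rw [Matrix.toLin'_apply, Matrix.toLin'_apply]
  exact h x

omit [Fintype F] in
/-- A rank one matrix is an outer product. -/
theorem rank_one_outer (N : Matrix (Fin n) (Fin n) F) (h : N.rank = 1) :
    ∃ a b : Fin n → F, N = vecMulVec a b := by
  unfold Matrix.rank at h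
  rw [finrank_eq_one_iff'] at h
  obtain ⟨⟨a, ha⟩, _, hspan⟩ := h
  have hcol : ∀ j : Fin n, ∃ c : F, c • a = N *ᵥ (Pi.single j 1) := by
    intro j
    obtain ⟨c, hc⟩ := hspan ⟨N *ᵥ (Pi.single j 1), ⟨Pi.single j 1, rfl⟩⟩
    refine ⟨c, ?_⟩
    have := congrArg Subtype.val hc
    simpa using this
  choose b hb using hcol
  refine ⟨a, b, ?_⟩
  ext i j
  have := congrFun (hb j) i
  simp only [Pi.smul_apply, smul_eq_mul, mulVec_single_one] at this
  rw [vecMulVec_apply, mul_comm, this]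
  rfl

omit [Fintype F] in
theorem rank_ne_zero_of_ne (M : Matrix (Fin n) (Fin n) F) (h : M ≠ 0) : M.rank ≠ 0 := by
  intro h0
  apply h
  unfold Matrix.rank at h0
  rw [Submodule.finrank_eq_zero] at h0
  apply mat_ext_mulVec
  intro x
  have : M.mulVecLin x ∈ LinearMap.range M.mulVecLin := ⟨x, rfl⟩
  rw [h0, Submodule.mem_bot] at this
  rw [zero_mulVec]
  exact this

omit [Fintype F] in
theorem vecMulVec_mulVec_comm (u v w : Fin n → F) : vecMulVec u v *ᵥ w = (v ⬝ᵥ w) • u := by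
  rw [vecMulVec_mulVec]
  ext i
  simp [mul_comm]

/-- the reflection `x ↦ 2 h(x,a) a - x` -/
def rfM (q : ℕ) (a : Fin n → F) : Matrix (Fin n) (Fin n) F := -(qrefl q a (-2))

omit [Fintype F] in
theorem rfM_mulVec (a x : Fin n → F) :
    rfM q a *ᵥ x = (2 * hermForm n F q x a) • a - x := by
  rw [rfM, neg_mulVec, qrefl_mulVec]
  module

theorem rfM_preserves (hF : Fintype.card F = q ^ 2) (a : Fin n → F)
    (ha : hermForm n F q a a = 1) (u v : Fin n → F) :
    hermForm n F q (rfM q a *ᵥ u) (rfM q a *ᵥ v) = hermForm n F q u v := by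
  simp only [rfM_mulVec, hermForm_sub_left, hermForm_sub_right hF, hermForm_smul_left,
    hermForm_smul_right, mul_pow, two_pow_q hF, hermForm_conj hF, ha]
  ring

omit [Fintype F] in
theorem rfM_det (a : Fin 3 → F) (ha : hermForm 3 F q a a = 1) : (rfM q a).det = 1 := by
  rw [rfM, det_neg, det_qrefl, ha, Fintype.card_fin]
  norm_num

omit [Fintype F] in
theorem rfM_sq (a : Fin n → F) (ha : hermForm n F q a a = 1) :
    rfM q a * rfM q a = 1 := by
  apply mat_ext_mulVec
  intro x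
  rw [← mulVec_mulVec, one_mulVec]
  simp only [rfM_mulVec, hermForm_sub_left, hermForm_smul_left, ha]
  module

omit [Fintype F] in
theorem rfM_trace (a : Fin 3 → F) (ha : hermForm 3 F q a a = 1) : (rfM q a).trace = -1 := by
  have h1 : (vecMulVec a (fun j => a j ^ q)).trace = 1 := by
    rw [← ha]
    simp [Matrix.trace, vecMulVec_apply, hermForm]
  rw [rfM, qrefl, trace_neg, trace_add, trace_smul, h1, trace_one, Fintype.card_fin]
  norm_num

theorem rfM_ne_one (hq : Odd q) (hF : Fintype.card F = q ^ 2) (a : Fin 3 → F)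
    (ha : hermForm 3 F q a a = 1) : rfM q a ≠ 1 := by
  intro h
  have h1 := rfM_trace a ha
  rw [h, trace_one, Fintype.card_fin] at h1
  have h2 := two_ne_zero_of_odd hq hF
  apply h2
  have h4 : (2 : F) * 2 = 0 := by
    push_cast at h1
    linear_combination h1
  rcases mul_eq_zero.mp h4 with h | h <;> exact h

/-- fibres of `a ↦ rfM a` on norm-one vectors -/
theorem rfM_eq_iff (hq : Odd q) (hF : Fintype.card F = q ^ 2) (a b : Fin n → F)
    (ha : hermForm n F q a a = 1) (hb : hermForm n F q b b = 1) :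
    rfM q a = rfM q b ↔ b = hermForm n F q b a • a := by
  have h2 := two_ne_zero_of_odd hq hF
  constructor
  · intro h
    have h1 := congrArg (fun M => M *ᵥ b) h
    simp only [rfM_mulVec, hb] at h1
    rw [sub_left_inj, mul_one] at h1
    have h3 : (2 : F) • b = (2 : F) • (hermForm n F q b a • a) := by
      rw [smul_smul]
      exact h1.symm
    exact smul_right_injective _ h2 h3
  · intro h
    set β := hermForm n F q b a with hβ
    have hββ : β * β ^ q = 1 := by
      have := hb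
      rw [h, hermForm_smul_left, hermForm_smul_right, ha] at this
      linear_combination this
    apply mat_ext_mulVec
    intro x
    rw [rfM_mulVec, rfM_mulVec, h, hermForm_smul_right, smul_smul]
    congr 1
    congr 1
    linear_combination (-2 * hermForm n F q x a) * hββ

omit [Fintype F] in
theorem rfM_conj (a : Fin n → F) (G : Matrix (Fin n) (Fin n) F)
    (hG : ∀ u v, hermForm n F q (G *ᵥ u) (G *ᵥ v) = hermForm n F q u v) :
    G * rfM q a = rfM q (G *ᵥ a) * G := by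
  apply mat_ext_mulVec
  intro x
  rw [← mulVec_mulVec, ← mulVec_mulVec, rfM_mulVec, rfM_mulVec, hG, mulVec_sub, mulVec_smul]

end basics

section struct3
variable {F : Type*} [Field F] [Fintype F] {q : ℕ}

/-- An involution of determinant one in `GU_3(q)`, `q` odd, is a reflection in a norm-one vector. -/
theorem exists_rfM_of_invol (hq : Odd q) (hF : Fintype.card F = q ^ 2)
    (M : Matrix (Fin 3) (Fin 3) F) (hM2 : M * M = 1) (hM1 : M ≠ 1) (hdet : M.det = 1)
    (hpres : ∀ u v, hermForm 3 F q (M *ᵥ u) (M *ᵥ v) = hermForm 3 F q u v) :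
    ∃ a : Fin 3 → F, hermForm 3 F q a a = 1 ∧ M = rfM q a := by
  have h2 := two_ne_zero_of_odd hq hF
  have hq0 : q ≠ 0 := by have := two_le_of_card_eq_sq hF; omega
  obtain ⟨P, hP⟩ : ∃ P : Matrix (Fin 3) (Fin 3) F, P = (2 : F)⁻¹ • (1 + M) := ⟨_, rfl⟩
  obtain ⟨Q, hQ⟩ : ∃ Q : Matrix (Fin 3) (Fin 3) F, Q = (2 : F)⁻¹ • (1 - M) := ⟨_, rfl⟩
  have hPQ : P * Q = 0 := by
    have h0 : (1 + M) * (1 - M) = 0 := by
      rw [mul_sub, mul_one, add_mul, one_mul, hM2]; abel
    rw [hP, hQ, smul_mul_smul_comm, h0, smul_zero]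
  have hQQ : Q * Q = Q := by
    rw [hQ, smul_mul_smul_comm, mul_sub, sub_mul, sub_mul, hM2]
    simp only [one_mul, mul_one]
    rw [show (1 : Matrix (Fin 3) (Fin 3) F) - M - (M - 1) = (2 : F) • (1 - M) by
      rw [two_smul]; abel, smul_smul, mul_assoc, inv_mul_cancel₀ h2, mul_one]
  have hPP : P * P = P := by
    rw [hP, smul_mul_smul_comm, mul_add, add_mul, add_mul, hM2]
    simp only [one_mul, mul_one]
    rw [show (1 : Matrix (Fin 3) (Fin 3) F) + M + (M + 1) = (2 : F) • (1 + M) by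
      rw [two_smul]; abel, smul_smul, mul_assoc, inv_mul_cancel₀ h2, mul_one]
  have hMP : M = (2 : F) • P - 1 := by
    rw [hP, smul_smul, mul_inv_cancel₀ h2, one_smul]; abel
  have hMQ : M = 1 - (2 : F) • Q := by
    rw [hQ, smul_smul, mul_inv_cancel₀ h2, one_smul]; abel
  have hQ0 : Q ≠ 0 := by
    intro h
    apply hM1
    rw [hMQ, h, smul_zero, sub_zero]
  have hP0 : P ≠ 0 := by
    intro h
    rw [hMP, h, smul_zero, zero_sub, det_neg, det_one, Fintype.card_fin] at hdet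
    apply h2
    linear_combination -hdet
  have hrank := rank_add_rank_le_card_of_mul_eq_zero hPQ
  rw [Fintype.card_fin] at hrank
  have hrQ0 := rank_ne_zero_of_ne Q hQ0
  have hrP0 := rank_ne_zero_of_ne P hP0
  have hrQ1 : Q.rank ≠ 1 := by
    intro h1
    obtain ⟨u, w, huw⟩ := rank_one_outer Q h1
    have hwu : w ⬝ᵥ u = 1 := by
      have := hQQ
      rw [huw, vecMulVec_mul_vecMulVec, vecMulVec_smul] at this
      by_contra hne
      apply hQ0
      rw [huw]
      have h3 : (w ⬝ᵥ u - 1) • vecMulVec u w = 0 := by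
        rw [sub_smul, one_smul, this, sub_self]
      rcases smul_eq_zero.mp h3 with h | h
      · exact absurd (sub_eq_zero.mp h) hne
      · exact h
    have hM' : M = 1 + vecMulVec ((-2 : F) • u) w := by
      rw [hMQ, huw, smul_vecMulVec, neg_smul]
      abel
    rw [hM', vecMulVec_eq Unit, det_one_add_replicateCol_mul_replicateRow, dotProduct_smul,
      hwu] at hdet
    apply h2
    simp only [smul_eq_mul, mul_one] at hdet
    linear_combination -hdet
  have hrP : P.rank = 1 := by omega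
  obtain ⟨u, w, huw⟩ := rank_one_outer P hrP
  have hwu : w ⬝ᵥ u = 1 := by
    have := hPP
    rw [huw, vecMulVec_mul_vecMulVec, vecMulVec_smul] at this
    by_contra hne
    apply hP0
    rw [huw]
    have h3 : (w ⬝ᵥ u - 1) • vecMulVec u w = 0 := by
      rw [sub_smul, one_smul, this, sub_self]
    rcases smul_eq_zero.mp h3 with h | h
    · exact absurd (sub_eq_zero.mp h) hne
    · exact h
  have hMx : ∀ x, M *ᵥ x = (2 * w ⬝ᵥ x) • u - x := by
    intro x
    rw [hMP, huw, sub_mulVec, smul_mulVec, vecMulVec_mulVec_comm, one_mulVec, smul_smul]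
  have hMu : M *ᵥ u = u := by
    rw [hMx, hwu, mul_one, two_smul]; abel
  have key : ∀ x, hermForm 3 F q x u = w ⬝ᵥ x * hermForm 3 F q u u := by
    intro x
    have hy : w ⬝ᵥ (x - (w ⬝ᵥ x) • u) = 0 := by
      rw [dotProduct_sub, dotProduct_smul, hwu]; simp
    have hMy : M *ᵥ (x - (w ⬝ᵥ x) • u) = -(x - (w ⬝ᵥ x) • u) := by
      rw [hMx, hy, mul_zero, zero_smul, zero_sub]
    have h3 := hpres (x - (w ⬝ᵥ x) • u) u
    rw [hMy, hMu] at h3
    have h4 : hermForm 3 F q (-(x - (w ⬝ᵥ x) • u)) u = -hermForm 3 F q (x - (w ⬝ᵥ x) • u) u := by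
      rw [← neg_one_smul F, hermForm_smul_left]; ring
    rw [h4] at h3
    have h5 : (2 : F) * hermForm 3 F q (x - (w ⬝ᵥ x) • u) u = 0 := by linear_combination -h3
    have h6 := (mul_eq_zero.mp h5).resolve_left h2
    rw [hermForm_sub_left, hermForm_smul_left] at h6
    linear_combination h6
  have hu0 : u ≠ 0 := by
    intro h
    rw [h, dotProduct_zero] at hwu
    exact zero_ne_one hwu
  obtain ⟨i, hi⟩ : ∃ i, u i ≠ 0 := by
    by_contra hcon
    simp only [not_exists, not_not] at hcon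
    exact hu0 (funext hcon)
  have hd0 : hermForm 3 F q u u ≠ 0 := by
    intro h
    have := key (Pi.single i 1)
    rw [h, mul_zero, hermForm_single_left, one_mul] at this
    exact hi (pow_eq_zero_iff hq0 |>.mp this)
  have hdq : (hermForm 3 F q u u) ^ q = hermForm 3 F q u u := hermForm_conj hF u u
  obtain ⟨l, hl⟩ := exists_norm_eq hF hdq
  have hl0 : l ≠ 0 := by
    intro h
    rw [h, zero_mul] at hl
    exact hd0 hl.symm
  have hlq0 : l ^ q ≠ 0 := pow_ne_zero _ hl0
  refine ⟨l⁻¹ • u, ?_, ?_⟩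
  · rw [hermForm_smul_left, hermForm_smul_right, ← hl, inv_pow]
    field_simp
  · apply mat_ext_mulVec
    intro x
    rw [hMx, rfM_mulVec, hermForm_smul_right, key x, ← hl, smul_smul, inv_pow]
    congr 1
    congr 1
    field_simp

end struct3

section group
variable {F : Type*} [Field F] [Fintype F] {q : ℕ}

/-- norm-one vectors of the unitary 3-space -/
abbrev N3 (F : Type*) [Field F] (q : ℕ) : Type _ := {v : Fin 3 → F // hermForm 3 F q v v = 1}

/-- underlying matrix of an element of `SU_3` -/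
def mt (x : SU 3 F q) : Matrix (Fin 3) (Fin 3) F := x.1.1

omit [Fintype F] in
theorem mt_mul (x y : SU 3 F q) : mt (x * y) = mt x * mt y := rfl

omit [Fintype F] in
theorem mt_one : mt (1 : SU 3 F q) = 1 := rfl

omit [Fintype F] in
theorem mt_inj {x y : SU 3 F q} (h : mt x = mt y) : x = y := Subtype.ext (Subtype.ext h)

omit [Fintype F] in
theorem mt_preserves (g : SU 3 F q) (u v : Fin 3 → F) :
    hermForm 3 F q (mt g *ᵥ u) (mt g *ᵥ v) = hermForm 3 F q u v := g.2 u v

omit [Fintype F] in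
theorem mt_det (g : SU 3 F q) : (mt g).det = 1 := g.1.2

/-- the reflection in a norm-one vector, as an element of `SU_3` -/
def Rf (hF : Fintype.card F = q ^ 2) (a : N3 F q) : SU 3 F q :=
  SUofPreserves (rfM q a.1) (rfM_det a.1 a.2) (rfM_preserves hF a.1 a.2)

theorem mt_Rf (hF : Fintype.card F = q ^ 2) (a : N3 F q) : mt (Rf hF a) = rfM q a.1 := rfl

theorem Rf_sq (hF : Fintype.card F = q ^ 2) (a : N3 F q) : Rf hF a * Rf hF a = 1 := by
  apply mt_inj
  rw [mt_mul, mt_Rf, mt_one, rfM_sq a.1 a.2]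

theorem Rf_ne_one (hq : Odd q) (hF : Fintype.card F = q ^ 2) (a : N3 F q) :
    Rf hF a ≠ 1 := by
  intro h
  have := congrArg mt h
  rw [mt_Rf, mt_one] at this
  exact rfM_ne_one hq hF a.1 a.2 this

theorem Rf_eq_iff (hq : Odd q) (hF : Fintype.card F = q ^ 2) (a b : N3 F q) :
    Rf hF a = Rf hF b ↔ b.1 = hermForm 3 F q b.1 a.1 • a.1 := by
  rw [← rfM_eq_iff hq hF a.1 b.1 a.2 b.2]
  constructor
  · intro h
    exact congrArg mt h
  · intro h
    exact mt_inj h

theorem exists_Rf (hq : Odd q) (hF : Fintype.card F = q ^ 2) (x : SU 3 F q) (hx1 : x ≠ 1)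
    (hx2 : x * x = 1) : ∃ a : N3 F q, Rf hF a = x := by
  obtain ⟨a, ha, hM⟩ := exists_rfM_of_invol hq hF (mt x) (by rw [← mt_mul, hx2, mt_one])
    (fun h => hx1 (mt_inj (by rw [h, mt_one]))) (mt_det x) (mt_preserves x)
  exact ⟨⟨a, ha⟩, mt_inj (by rw [mt_Rf, hM])⟩

/-- the action of `SU_3` on norm-one vectors -/
def smN (g : SU 3 F q) (a : N3 F q) : N3 F q :=
  ⟨mt g *ᵥ a.1, by rw [mt_preserves]; exact a.2⟩

theorem Rf_conj (hF : Fintype.card F = q ^ 2) (g : SU 3 F q) (a : N3 F q) :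
    g * Rf hF a * g⁻¹ = Rf hF (smN g a) := by
  rw [mul_inv_eq_iff_eq_mul]
  apply mt_inj
  rw [mt_mul, mt_mul, mt_Rf, mt_Rf]
  exact rfM_conj a.1 (mt g) (mt_preserves g)

/-- all reflections are conjugate in `SU_3` -/
theorem exists_conj_Rf (hq : Odd q) (hF : Fintype.card F = q ^ 2) (a b : N3 F q) :
    ∃ g : SU 3 F q, g * Rf hF a * g⁻¹ = Rf hF b := by
  obtain ⟨g₀, hg₀⟩ := exists_GU_mulVec_eq hF a.2 b.2
  have hU : IsUnitaryMat q g₀.1.1 := (isUnitaryMat_iff_preserves hF _).mpr (GU_preserves g₀)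
  have hd := det_norm_of_isUnitaryMat hF hU
  obtain ⟨d, hdd⟩ : ∃ d : F, d = g₀.1.1.det := ⟨_, rfl⟩
  rw [← hdd, pow_succ'] at hd
  have hd0 : d ≠ 0 := by
    intro h
    rw [h, zero_mul] at hd
    exact zero_ne_one hd
  have hdq0 : d ^ q ≠ 0 := pow_ne_zero _ hd0
  have hmu : d⁻¹ * (d⁻¹) ^ q = 1 := by
    rw [inv_pow, ← mul_inv, hd, inv_one]
  have hcond : (d⁻¹ - 1) + (d⁻¹ - 1) ^ q + (d⁻¹ - 1) * (d⁻¹ - 1) ^ q * hermForm 3 F q b.1 b.1 = 0 := by
    rw [b.2, sub_pow_q hF, one_pow]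
    linear_combination hmu
  have hDp := qrefl_preserves hF b.1 (d⁻¹ - 1) hcond
  have hGp : ∀ u v, hermForm 3 F q ((qrefl q b.1 (d⁻¹ - 1) * g₀.1.1) *ᵥ u)
      ((qrefl q b.1 (d⁻¹ - 1) * g₀.1.1) *ᵥ v) = hermForm 3 F q u v := by
    intro u v
    rw [← mulVec_mulVec, ← mulVec_mulVec, hDp, GU_preserves]
  have hGd : (qrefl q b.1 (d⁻¹ - 1) * g₀.1.1).det = 1 := by
    rw [det_mul, det_qrefl, b.2, ← hdd]
    field_simp
    ring
  refine ⟨SUofPreserves _ hGd hGp, ?_⟩
  rw [Rf_conj, Rf_eq_iff hq hF]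
  have h1 : (smN (SUofPreserves _ hGd hGp) a).1 = d⁻¹ • b.1 := by
    change (qrefl q b.1 (d⁻¹ - 1) * g₀.1.1) *ᵥ a.1 = d⁻¹ • b.1
    rw [← mulVec_mulVec, hg₀, qrefl_mulVec, b.2]
    module
  rw [h1, hermForm_smul_right, b.2, smul_smul, mul_one, mul_comm, hmu, one_smul]

omit [Fintype F] in
theorem card_fiber_lemma {α β : Type*} [Finite α] [Finite β] (f : α → β) (k : ℕ)
    (hk : ∀ b, Nat.card {a // f a = b} = k) : Nat.card α = k * Nat.card β := by
  classical
  have := Fintype.ofFinite β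
  rw [Nat.card_congr (Equiv.sigmaFiberEquiv f).symm, Nat.card_sigma]
  simp only [hk]
  rw [Finset.sum_const, Finset.card_univ, smul_eq_mul, mul_comm, Nat.card_eq_fintype_card]

/-- counting involutions with a property through norm-one vectors -/
theorem card_invol_pred (hq : Odd q) (hF : Fintype.card F = q ^ 2) (P : SU 3 F q → Prop) :
    Nat.card {a : N3 F q // P (Rf hF a)} =
      (q + 1) * Nat.card {x : SU 3 F q // x ≠ 1 ∧ x * x = 1 ∧ P x} := by
  apply card_fiber_lemma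
    (fun a : {a : N3 F q // P (Rf hF a)} =>
      (⟨Rf hF a.1, Rf_ne_one hq hF a.1, Rf_sq hF a.1, a.2⟩ :
        {x : SU 3 F q // x ≠ 1 ∧ x * x = 1 ∧ P x}))
  intro y
  obtain ⟨a₀, ha₀⟩ := exists_Rf hq hF y.1 y.2.1 y.2.2.1
  have hc := card_norm_eq hF (d := (1 : F)) (one_pow q)
  rw [if_neg one_ne_zero] at hc
  rw [← hc]
  apply Nat.card_congr
  have hfib : ∀ a : {a : {a : N3 F q // P (Rf hF a)} //
      (⟨Rf hF a.1, Rf_ne_one hq hF a.1, Rf_sq hF a.1, a.2⟩ :
        {x : SU 3 F q // x ≠ 1 ∧ x * x = 1 ∧ P x}) = y},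
      a.1.1.1 = hermForm 3 F q a.1.1.1 a₀.1 • a₀.1 := by
    intro a
    rw [← Rf_eq_iff hq hF, ha₀]
    exact (congrArg Subtype.val a.2).symm
  refine Equiv.ofBijective (fun a => ⟨hermForm 3 F q a.1.1.1 a₀.1, ?_⟩) ⟨?_, ?_⟩
  · have h1 := a.1.1.2
    rw [hfib a, hermForm_smul_left, hermForm_smul_right, a₀.2] at h1
    linear_combination h1
  · intro a a' h
    have h' : hermForm 3 F q a.1.1.1 a₀.1 = hermForm 3 F q a'.1.1.1 a₀.1 := congrArg Subtype.val h
    apply Subtype.ext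
    apply Subtype.ext
    apply Subtype.ext
    rw [hfib a, hfib a', h']
  · intro l
    have hn : hermForm 3 F q (l.1 • a₀.1) (l.1 • a₀.1) = 1 := by
      rw [hermForm_smul_left, hermForm_smul_right, a₀.2]
      linear_combination l.2
    have hR : Rf hF a₀ = Rf hF ⟨l.1 • a₀.1, hn⟩ := by
      rw [Rf_eq_iff hq hF]
      change l.1 • a₀.1 = hermForm 3 F q (l.1 • a₀.1) a₀.1 • a₀.1
      rw [hermForm_smul_left, a₀.2, mul_one]
    have hP : P (Rf hF ⟨l.1 • a₀.1, hn⟩) := by
      rw [← hR, ha₀]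
      exact y.2.2.2
    refine ⟨⟨⟨⟨l.1 • a₀.1, hn⟩, hP⟩, ?_⟩, ?_⟩
    · apply Subtype.ext
      change Rf hF ⟨l.1 • a₀.1, hn⟩ = y.1
      rw [← hR, ha₀]
    · apply Subtype.ext
      change hermForm 3 F q (l.1 • a₀.1) a₀.1 = l.1
      rw [hermForm_smul_left, a₀.2, mul_one]

end group

section geometry
variable {F : Type*} [Field F] [Fintype F] {q : ℕ}

theorem hermForm_eq_zero_symm {n : ℕ} (hF : Fintype.card F = q ^ 2) {u v : Fin n → F}
    (h : hermForm n F q u v = 0) : hermForm n F q v u = 0 := by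
  have hq0 : q ≠ 0 := by have := two_le_of_card_eq_sq hF; omega
  rw [← hermForm_conj hF, h, zero_pow hq0]

omit [Fintype F] in
theorem rfM_comm_of_perp {n : ℕ} (a b : Fin n → F) (hba : hermForm n F q b a = 0)
    (hab : hermForm n F q a b = 0) : rfM q a * rfM q b = rfM q b * rfM q a := by
  apply mat_ext_mulVec
  intro x
  simp only [← mulVec_mulVec, rfM_mulVec, hermForm_sub_left, hermForm_smul_left, hab, hba]
  module

theorem Rf_commute_iff (hq : Odd q) (hF : Fintype.card F = q ^ 2) (a b : N3 F q) :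
    Commute (Rf hF a) (Rf hF b) ↔ (Rf hF a = Rf hF b ∨ hermForm 3 F q b.1 a.1 = 0) := by
  have h2 := two_ne_zero_of_odd hq hF
  constructor
  · intro hc
    by_cases h0 : hermForm 3 F q b.1 a.1 = 0
    · exact Or.inr h0
    left
    have h1 : Rf hF a * Rf hF b * (Rf hF a)⁻¹ = Rf hF b := by
      rw [hc.eq, mul_inv_cancel_right]
    rw [Rf_conj] at h1
    have h3 := (Rf_eq_iff hq hF b (smN (Rf hF a) b)).mp h1.symm
    have h4 : (smN (Rf hF a) b).1 = (2 * hermForm 3 F q b.1 a.1) • a.1 - b.1 := by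
      change rfM q a.1 *ᵥ b.1 = _
      rw [rfM_mulVec]
    rw [h4] at h3
    obtain ⟨ν, hν⟩ : ∃ ν : F, ν = hermForm 3 F q ((2 * hermForm 3 F q b.1 a.1) • a.1 - b.1) b.1 :=
      ⟨_, rfl⟩
    rw [← hν] at h3
    have h20 : 2 * hermForm 3 F q b.1 a.1 ≠ 0 := mul_ne_zero h2 h0
    have h5 : a.1 = ((2 * hermForm 3 F q b.1 a.1)⁻¹ * (1 + ν)) • b.1 := by
      have h6 : (2 * hermForm 3 F q b.1 a.1) • a.1 = (1 + ν) • b.1 := by
        linear_combination (norm := module) h3
      rw [mul_smul, ← h6, smul_smul, inv_mul_cancel₀ h20, one_smul]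
    rw [eq_comm, Rf_eq_iff hq hF b a]
    obtain ⟨κ, hκ⟩ : ∃ κ : F, κ = (2 * hermForm 3 F q b.1 a.1)⁻¹ * (1 + ν) := ⟨_, rfl⟩
    rw [← hκ] at h5
    rw [h5, hermForm_smul_left, b.2, mul_one]
  · rintro (h | h)
    · rw [h]
    · apply mt_inj
      rw [mt_mul, mt_mul, mt_Rf, mt_Rf]
      exact rfM_comm_of_perp a.1 b.1 h (hermForm_eq_zero_symm hF h)

/-- expansion in an orthonormal basis -/
theorem expand3 (hF : Fintype.card F = q ^ 2) (a b c : Fin 3 → F)
    (haa : hermForm 3 F q a a = 1) (hbb : hermForm 3 F q b b = 1) (hcc : hermForm 3 F q c c = 1)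
    (hab : hermForm 3 F q a b = 0) (hac : hermForm 3 F q a c = 0) (hbc : hermForm 3 F q b c = 0)
    (x : Fin 3 → F) :
    x = hermForm 3 F q x a • a + hermForm 3 F q x b • b + hermForm 3 F q x c • c := by
  have hba := hermForm_eq_zero_symm hF hab
  have hca := hermForm_eq_zero_symm hF hac
  have hcb := hermForm_eq_zero_symm hF hbc
  obtain ⟨φ, hφ⟩ : ∃ φ : (Fin 3 → F) → (Fin 3 → F),
      φ = fun x => ![hermForm 3 F q x a, hermForm 3 F q x b, hermForm 3 F q x c] := ⟨_, rfl⟩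
  have hcomb : ∀ y : Fin 3 → F, φ (y 0 • a + y 1 • b + y 2 • c) = y := by
    intro y
    rw [hφ]
    simp only [hermForm_add_left, hermForm_smul_left, haa, hbb, hcc, hab, hac, hbc, hba, hca, hcb]
    funext i
    fin_cases i <;> simp
  have hsurj : Function.Surjective φ := fun y => ⟨_, hcomb y⟩
  have hinj : Function.Injective φ := Finite.injective_iff_surjective.mpr hsurj
  apply hinj
  have := hcomb (φ x)
  rw [← this]
  congr 1
  rw [hφ]
  simp

/-- three pairwise commuting distinct reflections: the third is the product of the other two -/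
theorem Rf_eq_mul (hF : Fintype.card F = q ^ 2) (a b c : N3 F q)
    (hba : hermForm 3 F q b.1 a.1 = 0) (hca : hermForm 3 F q c.1 a.1 = 0)
    (hcb : hermForm 3 F q c.1 b.1 = 0) : Rf hF c = Rf hF a * Rf hF b := by
  have hab := hermForm_eq_zero_symm hF hba
  have hac := hermForm_eq_zero_symm hF hca
  have hbc := hermForm_eq_zero_symm hF hcb
  apply mt_inj
  rw [mt_mul, mt_Rf, mt_Rf, mt_Rf]
  apply mat_ext_mulVec
  intro x
  have hx := expand3 hF a.1 b.1 c.1 a.2 b.2 c.2 hab hac hbc x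
  simp only [← mulVec_mulVec, rfM_mulVec, hermForm_sub_left, hermForm_smul_left, hba]
  obtain ⟨α, hα⟩ : ∃ α : F, α = hermForm 3 F q x a.1 := ⟨_, rfl⟩
  obtain ⟨β, hβ⟩ : ∃ β : F, β = hermForm 3 F q x b.1 := ⟨_, rfl⟩
  obtain ⟨γ, hγ⟩ : ∃ γ : F, γ = hermForm 3 F q x c.1 := ⟨_, rfl⟩
  rw [← hα, ← hβ, ← hγ] at hx ⊢
  linear_combination (norm := module) (-2 : F) • hx

/-- the conjugated cross product -/
def crs (q : ℕ) (a z : Fin 3 → F) : Fin 3 → F :=
  ![a 1 ^ q * z 2 ^ q - a 2 ^ q * z 1 ^ q, a 2 ^ q * z 0 ^ q - a 0 ^ q * z 2 ^ q,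
    a 0 ^ q * z 1 ^ q - a 1 ^ q * z 0 ^ q]

omit [Fintype F] in
theorem crs_zero (a z : Fin 3 → F) : crs q a z 0 = a 1 ^ q * z 2 ^ q - a 2 ^ q * z 1 ^ q := rfl

omit [Fintype F] in
theorem crs_one (a z : Fin 3 → F) : crs q a z 1 = a 2 ^ q * z 0 ^ q - a 0 ^ q * z 2 ^ q := rfl

omit [Fintype F] in
theorem crs_two (a z : Fin 3 → F) : crs q a z 2 = a 0 ^ q * z 1 ^ q - a 1 ^ q * z 0 ^ q := rfl

omit [Fintype F] in
theorem hermForm_crs_left (a z : Fin 3 → F) : hermForm 3 F q (crs q a z) a = 0 := by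
  simp only [hermForm, Fin.sum_univ_three, crs_zero, crs_one, crs_two]
  ring

omit [Fintype F] in
theorem hermForm_crs_right (a z : Fin 3 → F) : hermForm 3 F q (crs q a z) z = 0 := by
  simp only [hermForm, Fin.sum_univ_three, crs_zero, crs_one, crs_two]
  ring

theorem hermForm_crs_self (hF : Fintype.card F = q ^ 2) (a z : Fin 3 → F) :
    hermForm 3 F q (crs q a z) (crs q a z) =
      hermForm 3 F q a a * hermForm 3 F q z z - hermForm 3 F q a z * hermForm 3 F q z a := by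
  simp only [hermForm, Fin.sum_univ_three, crs_zero, crs_one, crs_two, sub_pow_q hF, mul_pow,
    pow_q_pow_q hF]
  ring

/-- a common perpendicular norm-one vector -/
theorem exists_perp_pair (hF : Fintype.card F = q ^ 2) (a d : N3 F q)
    (hne : hermForm 3 F q d.1 a.1 * hermForm 3 F q d.1 a.1 ^ q ≠ 1) :
    ∃ c : N3 F q, hermForm 3 F q c.1 a.1 = 0 ∧ hermForm 3 F q c.1 d.1 = 0 := by
  have he : hermForm 3 F q (crs q a.1 d.1) (crs q a.1 d.1) ≠ 0 := by
    rw [hermForm_crs_self hF, a.2, d.2, ← hermForm_conj hF d.1 a.1]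
    intro h
    apply hne
    linear_combination -h
  have heq : hermForm 3 F q (crs q a.1 d.1) (crs q a.1 d.1) ^ q =
      hermForm 3 F q (crs q a.1 d.1) (crs q a.1 d.1) := hermForm_conj hF _ _
  obtain ⟨l, hl⟩ := exists_norm_eq hF heq
  have hl0 : l ≠ 0 := by
    intro h
    rw [h, zero_mul] at hl
    exact he hl.symm
  have hlq0 : l ^ q ≠ 0 := pow_ne_zero _ hl0
  refine ⟨⟨l⁻¹ • crs q a.1 d.1, ?_⟩, ?_, ?_⟩
  · rw [hermForm_smul_left, hermForm_smul_right, ← hl, inv_pow]
    field_simp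
  · change hermForm 3 F q (l⁻¹ • crs q a.1 d.1) a.1 = 0
    rw [hermForm_smul_left, hermForm_crs_left, mul_zero]
  · change hermForm 3 F q (l⁻¹ • crs q a.1 d.1) d.1 = 0
    rw [hermForm_smul_left, hermForm_crs_right, mul_zero]

/-- if two norm-one vectors have a common norm-one perpendicular, they span a nondegenerate plane -/
theorem norm_ne_one_of_perp (hq : Odd q) (hF : Fintype.card F = q ^ 2) (a d c : N3 F q)
    (hca : hermForm 3 F q c.1 a.1 = 0) (hcd : hermForm 3 F q c.1 d.1 = 0)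
    (hne : Rf hF a ≠ Rf hF d) :
    hermForm 3 F q d.1 a.1 * hermForm 3 F q d.1 a.1 ^ q ≠ 1 := by
  intro h1
  have hq0 : q ≠ 0 := by have := two_le_of_card_eq_sq hF; omega
  obtain ⟨e, hea, hec⟩ := exists_perp_pair hF a c (by rw [hca]; simp [hq0])
  have hac := hermForm_eq_zero_symm hF hca
  have hae := hermForm_eq_zero_symm hF hea
  have hce := hermForm_eq_zero_symm hF hec
  have hdc := hermForm_eq_zero_symm hF hcd
  obtain ⟨β, hβ⟩ : ∃ β : F, β = hermForm 3 F q d.1 a.1 := ⟨_, rfl⟩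
  rw [← hβ] at h1
  obtain ⟨z, hz⟩ : ∃ z : Fin 3 → F, z = d.1 - β • a.1 := ⟨_, rfl⟩
  have hza : hermForm 3 F q z a.1 = 0 := by
    rw [hz, hermForm_sub_left, hermForm_smul_left, a.2, ← hβ]; ring
  have hzc : hermForm 3 F q z c.1 = 0 := by
    rw [hz, hermForm_sub_left, hermForm_smul_left, hac, hdc]; ring
  have hzz : hermForm 3 F q z z = 0 := by
    rw [hz, hermForm_sub_left, hermForm_sub_right hF, hermForm_sub_right hF, hermForm_smul_left,
      hermForm_smul_left, hermForm_smul_right, hermForm_smul_right, a.2, d.2, ← hβ,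
      ← hermForm_conj hF d.1 a.1, ← hβ]
    linear_combination -h1
  have hx := expand3 hF a.1 c.1 e.1 a.2 c.2 e.2 hac hae hce z
  rw [hza, hzc, zero_smul, zero_smul, zero_add, zero_add] at hx
  obtain ⟨γ, hγ⟩ : ∃ γ : F, γ = hermForm 3 F q z e.1 := ⟨_, rfl⟩
  rw [← hγ] at hx
  have hγ0 : γ = 0 := by
    have := hzz
    rw [hx, hermForm_smul_left, hermForm_smul_right, e.2, mul_one] at this
    rcases mul_eq_zero.mp this with h | h
    · exact h
    · exact pow_eq_zero_iff hq0 |>.mp h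
  rw [hγ0, zero_smul] at hx
  apply hne
  rw [Rf_eq_iff hq hF, ← hβ]
  rw [hx] at hz
  exact (sub_eq_zero.mp hz.symm)

end geometry

section counting
variable {F : Type*} [Field F] [Fintype F] {q : ℕ}

/-- orbit-stabilizer for the conjugation action, stated with explicit conjugates -/
theorem card_conj_mul_card_centralizer {G : Type*} [Group G] [Finite G] (t : G) :
    Nat.card {x : G // ∃ g : G, g * t * g⁻¹ = x} * Nat.card (Subgroup.centralizer ({t} : Set G)) =
      Nat.card G := by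
  have e := MulAction.orbitProdStabilizerEquivGroup (ConjAct G) t
  have h1 := Nat.card_congr e
  rw [Nat.card_prod, ← Subgroup.nat_card_centralizer_nat_card_stabilizer] at h1
  have h2 : Nat.card (ConjAct G) = Nat.card G := Nat.card_congr ConjAct.ofConjAct.toEquiv
  rw [h2] at h1
  rw [← h1]
  congr 1

theorem q_cube_add_one (q : ℕ) (hq1 : 1 ≤ q) : q ^ 3 + 1 = (q + 1) * (q ^ 2 - q + 1) := by
  obtain ⟨k, rfl⟩ : ∃ k, q = k + 1 := ⟨q - 1, by omega⟩
  have : (k + 1) ^ 2 - (k + 1) = k ^ 2 + k := by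
    rw [show (k + 1) ^ 2 = k ^ 2 + k + (k + 1) by ring]
    omega
  rw [this]
  ring

/-- the number of involutions of `SU_3(q)`, `q` odd -/
theorem card_invol (hq : Odd q) (hF : Fintype.card F = q ^ 2) :
    Nat.card {x : SU 3 F q // x ≠ 1 ∧ x * x = 1} = q ^ 2 * (q ^ 2 - q + 1) := by
  have h2 := two_le_of_card_eq_sq hF
  have h1 := card_invol_pred hq hF (fun _ => True)
  have h3 : Nat.card {a : N3 F q // True} = hermCount F q 3 1 :=
    Nat.card_congr (Equiv.subtypeUnivEquiv (fun _ => trivial))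
  have h4 : Nat.card {x : SU 3 F q // x ≠ 1 ∧ x * x = 1 ∧ True} =
      Nat.card {x : SU 3 F q // x ≠ 1 ∧ x * x = 1} :=
    Nat.card_congr (Equiv.subtypeEquivRight (fun x => by simp))
  rw [h3, h4, hermCount_one hF, if_neg (by decide), q_cube_add_one q (by omega)] at h1
  have h5 : (q + 1) * (q ^ 2 * (q ^ 2 - q + 1)) =
      (q + 1) * Nat.card {x : SU 3 F q // x ≠ 1 ∧ x * x = 1} := by
    rw [← h1]
    simp only [show 3 - 1 = 2 from rfl]
    ring
  exact (Nat.eq_of_mul_eq_mul_left (by omega) h5).symm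

/-- the order of `SU_3(q)` -/
theorem card_SU3 (hF : Fintype.card F = q ^ 2) :
    Nat.card (SU 3 F q) = q ^ 3 * (q ^ 2 - 1) * (q ^ 3 + 1) := by
  have h1 := card_SU_mul (n := 3) hF (by norm_num)
  rw [card_GU hF 3] at h1
  simp only [Finset.prod_range_succ, Finset.prod_range_zero] at h1
  norm_num at h1
  have h5 : (q + 1) * Nat.card (SU 3 F q) = (q + 1) * (q ^ 3 * (q ^ 2 - 1) * (q ^ 3 + 1)) := by
    rw [h1]; ring
  exact Nat.eq_of_mul_eq_mul_left (by omega) h5

end counting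

end Cfsg.Agent.Lib.Helper37
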