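import Mathlib
import Cfsg.Prelude.Def_LieClassical
import Cfsg.Agent.Lib.Helper37.SU3Invol

/-!
Counting in the commuting involution graph of `SU_3(q)`, `q` odd: coordinates adapted to a
norm-one vector.
-/

set_option autoImplicit false

namespace Cfsg.Agent.Lib.Helper37

open Matrix Cfsg Cfsg.Agent.Lib.Helper5

section coords
variable {F : Type*} [Field F] [Fintype F] {q : ℕ}

omit [Fintype F] in
theorem GU_mulVec_injective {n : ℕ} (g : GU n F q) {x y : Fin n → F}
    (h : g.1.1 *ᵥ x = g.1.1 *ᵥ y) : x = y := by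
  have h1 : (g.1⁻¹).1 * g.1.1 = 1 := Units.inv_mul g.1
  have h2 := congrArg (fun v => (g.1⁻¹).1 *ᵥ v) h
  simp only [mulVec_mulVec, h1, one_mulVec] at h2
  exact h2

omit [Fintype F] in
theorem hermForm_e0 :
    hermForm 3 F q (Pi.single 0 1) (Pi.single 0 1) = 1 := by
  rw [hermForm_single_left, one_mul]
  simp

/-- coordinates adapted to a norm-one vector `a`: a permutation of the norm-one vectors taking
`e₀` to `a` and turning `h(·, a)` into the first coordinate -/
theorem exists_coords (hF : Fintype.card F = q ^ 2) (a : N3 F q) :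
    ∃ e : N3 F q ≃ N3 F q, (∀ b : N3 F q, hermForm 3 F q (e b).1 a.1 = b.1 0) ∧
      (∀ (b : N3 F q) (c : F), (e b).1 = c • a.1 ↔ b.1 = c • Pi.single 0 1) ∧
      (∀ x y : N3 F q, hermForm 3 F q (e x).1 (e y).1 = hermForm 3 F q x.1 y.1) := by
  obtain ⟨g, hg⟩ := exists_GU_mulVec_eq hF hermForm_e0 a.2
  refine ⟨(MulAction.toPerm g : Equiv.Perm (NormOne 3 F q)), ?_, ?_, ?_⟩
  · intro b
    change hermForm 3 F q (g.1.1 *ᵥ b.1) a.1 = b.1 0
    rw [← hg, GU_preserves, hermForm_single_right hF, one_pow, mul_one]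
  · intro b c
    change g.1.1 *ᵥ b.1 = c • a.1 ↔ _
    rw [← hg, ← mulVec_smul]
    constructor
    · intro h
      exact GU_mulVec_injective g h
    · intro h
      rw [h]
  · intro x y
    exact GU_preserves g x.1 y.1

omit [Fintype F] in
theorem hermForm_three (w : Fin 3 → F) :
    hermForm 3 F q w w = w 0 * w 0 ^ q + ∑ i : Fin 2, Fin.tail w i * Fin.tail w i ^ q := by
  unfold hermForm
  rw [Fin.sum_univ_succ]
  rfl

omit [Fintype F] in
theorem cons_eq_smul_single (l : F) :
    (Fin.cons l (0 : Fin 2 → F) : Fin 3 → F) = l • Pi.single 0 1 := by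
  funext i
  refine Fin.cases ?_ (fun j => ?_) i
  · simp
  · simp [Fin.succ_ne_zero]

/-- the number of norm-one vectors perpendicular to a given one -/
theorem card_perp (hF : Fintype.card F = q ^ 2) (a : N3 F q) :
    Nat.card {b : N3 F q // hermForm 3 F q b.1 a.1 = 0} = q * (q ^ 2 - 1) := by
  obtain ⟨e, he1, -, -⟩ := exists_coords hF a
  have h1 : Nat.card {b : N3 F q // hermForm 3 F q b.1 a.1 = 0} =
      Nat.card {b : N3 F q // b.1 0 = 0} := by
    symm
    apply Nat.card_congr
    exact e.subtypeEquiv (fun b => by rw [he1])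
  have h2 : Nat.card {b : N3 F q // b.1 0 = 0} = hermCount F q 2 1 := by
    apply Nat.card_congr
    exact
      { toFun := fun b => ⟨Fin.tail b.1.1, by
          have := b.1.2
          rw [hermForm_three, b.2, zero_mul, zero_add] at this
          exact this⟩
        invFun := fun v => ⟨⟨Fin.cons 0 v.1, by
          rw [hermForm_three]
          simp only [Fin.cons_zero, Fin.tail_cons, zero_mul, zero_add]
          exact v.2⟩, by simp⟩
        left_inv := fun b => by
          apply Subtype.ext
          apply Subtype.ext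
          change Fin.cons 0 (Fin.tail b.1.1) = b.1.1
          have h : b.1.1 0 = 0 := b.2
          calc (Fin.cons 0 (Fin.tail b.1.1) : Fin 3 → F)
              = Fin.cons (b.1.1 0) (Fin.tail b.1.1) := by rw [h]
            _ = b.1.1 := Fin.cons_self_tail _
        right_inv := fun v => by
          apply Subtype.ext
          simp }
  rw [h1, h2, hermCount_one hF, if_pos (by decide)]
  simp

/-- the number of norm-one vectors `b` with `h(b,a)` of norm one, `b` not a multiple of `a` -/
theorem card_tangent (hF : Fintype.card F = q ^ 2) (a : N3 F q) :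
    Nat.card {b : N3 F q // hermForm 3 F q b.1 a.1 * hermForm 3 F q b.1 a.1 ^ q = 1 ∧
      b.1 ≠ hermForm 3 F q b.1 a.1 • a.1} = (q + 1) * ((q ^ 2 - 1) * (q + 1)) := by
  classical
  have h2q := two_le_of_card_eq_sq hF
  have hq0 : q ≠ 0 := by omega
  obtain ⟨e, he1, he2, -⟩ := exists_coords hF a
  have h1 : Nat.card {b : N3 F q // hermForm 3 F q b.1 a.1 * hermForm 3 F q b.1 a.1 ^ q = 1 ∧
      b.1 ≠ hermForm 3 F q b.1 a.1 • a.1} =
      Nat.card {b : N3 F q // b.1 0 * b.1 0 ^ q = 1 ∧ b.1 ≠ b.1 0 • Pi.single 0 1} := by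
    symm
    apply Nat.card_congr
    exact e.subtypeEquiv (fun b => by rw [he1, Ne, Ne, he2])
  have h0 : ∑ i : Fin 2, (0 : Fin 2 → F) i * (0 : Fin 2 → F) i ^ q = 0 := by simp
  have h2 : Nat.card {b : N3 F q // b.1 0 * b.1 0 ^ q = 1 ∧ b.1 ≠ b.1 0 • Pi.single 0 1} =
      Nat.card ({l : F // l * l ^ q = 1} ×
        {v : {v : Fin 2 → F // ∑ i, v i * v i ^ q = 0} // v ≠ ⟨0, h0⟩}) := by
    apply Nat.card_congr
    exact
      { toFun := fun b => (⟨b.1.1 0, b.2.1⟩, ⟨⟨Fin.tail b.1.1, by
          have := b.1.2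
          rw [hermForm_three, b.2.1] at this
          linear_combination this⟩, by
          intro h
          apply b.2.2
          have h' : Fin.tail b.1.1 = 0 := congrArg Subtype.val h
          rw [← cons_eq_smul_single, ← h']
          exact (Fin.cons_self_tail _).symm⟩)
        invFun := fun p => ⟨⟨Fin.cons p.1.1 p.2.1.1, by
          rw [hermForm_three]
          simp only [Fin.cons_zero, Fin.tail_cons]
          rw [p.1.2, p.2.1.2, add_zero]⟩, by
          refine ⟨by simpa using p.1.2, ?_⟩
          intro h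
          apply p.2.2
          apply Subtype.ext
          change p.2.1.1 = 0
          simp only [Fin.cons_zero] at h
          rw [← cons_eq_smul_single] at h
          have := congrArg Fin.tail h
          simpa using this⟩
        left_inv := fun b => by
          apply Subtype.ext
          apply Subtype.ext
          exact Fin.cons_self_tail _
        right_inv := fun p => by
          apply Prod.ext
          · apply Subtype.ext
            simp
          · apply Subtype.ext
            apply Subtype.ext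
            simp }
  have h3 : Nat.card {v : {v : Fin 2 → F // ∑ i, v i * v i ^ q = 0} // v ≠ ⟨0, h0⟩} =
      (q ^ 2 - 1) * (q + 1) := by
    have h4 : Nat.card {v : Fin 2 → F // ∑ i, v i * v i ^ q = 0} =
        (q ^ 2 - 1) * (q + 1) + 1 := by
      have := hermCount_zero hF 2
      rw [if_pos (by decide)] at this
      simpa [hermCount] using this
    rw [Nat.card_eq_fintype_card] at h4 ⊢
    have h5 := Set.card_ne_eq (⟨0, h0⟩ : {v : Fin 2 → F // ∑ i, v i * v i ^ q = 0})
    simp only [Set.coe_ofPred] at h5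
    rw [h5, h4]
    simp
  have hc := card_norm_eq hF (d := (1 : F)) (one_pow q)
  rw [if_neg one_ne_zero] at hc
  rw [h1, h2, Nat.card_prod, h3, hc]

end coords

section graph
variable {F : Type*} [Field F] [Fintype F] {q : ℕ}

theorem Rf_ne_of_perp (hq : Odd q) (hF : Fintype.card F = q ^ 2) (a b : N3 F q)
    (h : hermForm 3 F q b.1 a.1 = 0) : Rf hF a ≠ Rf hF b := by
  intro he
  have h1 := (Rf_eq_iff hq hF a b).mp he
  rw [h, zero_smul] at h1
  have hb := b.2
  rw [h1, hermForm_zero_left] at hb
  exact zero_ne_one hb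

/-- involutions commuting with `t = Rf a`, other than `t` -/
theorem pred_one_iff (hq : Odd q) (hF : Fintype.card F = q ^ 2) (a b : N3 F q) :
    (Rf hF b ≠ Rf hF a ∧ Commute (Rf hF a) (Rf hF b)) ↔ hermForm 3 F q b.1 a.1 = 0 := by
  constructor
  · rintro ⟨hne, hc⟩
    rcases (Rf_commute_iff hq hF a b).mp hc with h | h
    · exact absurd h.symm hne
    · exact h
  · intro h
    exact ⟨(Rf_ne_of_perp hq hF a b h).symm, (Rf_commute_iff hq hF a b).mpr (Or.inr h)⟩

/-- involutions at distance three from `t = Rf a` -/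
theorem pred_three_iff (hq : Odd q) (hF : Fintype.card F = q ^ 2) (a b : N3 F q) :
    (¬ Commute (Rf hF a) (Rf hF b) ∧ ∀ y : SU 3 F q, y ≠ 1 → y * y = 1 →
        ¬ (Commute (Rf hF a) y ∧ Commute y (Rf hF b))) ↔
      (hermForm 3 F q b.1 a.1 * hermForm 3 F q b.1 a.1 ^ q = 1 ∧
        b.1 ≠ hermForm 3 F q b.1 a.1 • a.1) := by
  constructor
  · rintro ⟨hnc, hall⟩
    have hne : b.1 ≠ hermForm 3 F q b.1 a.1 • a.1 := by
      intro h
      apply hnc
      rw [(Rf_eq_iff hq hF a b).mpr h]
    refine ⟨?_, hne⟩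
    by_contra h1
    obtain ⟨c, hca, hcb⟩ := exists_perp_pair hF a b h1
    exact hall (Rf hF c) (Rf_ne_one hq hF c) (Rf_sq hF c)
      ⟨(Rf_commute_iff hq hF a c).mpr (Or.inr hca),
        (Rf_commute_iff hq hF c b).mpr (Or.inr (hermForm_eq_zero_symm hF hcb))⟩
  · rintro ⟨h1, hne⟩
    have hnc : ¬ Commute (Rf hF a) (Rf hF b) := by
      intro hc
      rcases (Rf_commute_iff hq hF a b).mp hc with h | h
      · exact hne ((Rf_eq_iff hq hF a b).mp h)
      · rw [h, zero_mul] at h1
        exact zero_ne_one h1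
    refine ⟨hnc, ?_⟩
    rintro y hy1 hy2 ⟨hc1, hc2⟩
    obtain ⟨c, rfl⟩ := exists_Rf hq hF y hy1 hy2
    rcases (Rf_commute_iff hq hF a c).mp hc1 with h | hca
    · rw [← h] at hc2
      exact hnc hc2
    rcases (Rf_commute_iff hq hF c b).mp hc2 with h | hbc
    · rw [h] at hc1
      exact hnc hc1
    have hab : Rf hF a ≠ Rf hF b := fun h => hne ((Rf_eq_iff hq hF a b).mp h)
    exact norm_ne_one_of_perp hq hF a b c hca (hermForm_eq_zero_symm hF hbc) hab h1

omit [Fintype F] in
theorem hermForm_e1 : hermForm 3 F q (Pi.single 1 1) (Pi.single 1 1) = 1 := by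
  rw [hermForm_single_left, one_mul]
  simp

omit [Fintype F] in
theorem hermForm_e2 : hermForm 3 F q (Pi.single 2 1) (Pi.single 2 1) = 1 := by
  rw [hermForm_single_left, one_mul]
  simp

/-- the commuting involution graph has diameter at most three -/
theorem exists_path (hq : Odd q) (hF : Fintype.card F = q ^ 2) (a b : N3 F q) :
    ∃ c d : N3 F q, Commute (Rf hF a) (Rf hF c) ∧ Commute (Rf hF c) (Rf hF d) ∧
      Commute (Rf hF d) (Rf hF b) := by
  have h2 := two_ne_zero_of_odd hq hF
  have key : ∀ d : N3 F q, hermForm 3 F q d.1 b.1 = 0 →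
      hermForm 3 F q d.1 a.1 * hermForm 3 F q d.1 a.1 ^ q ≠ 1 →
      ∃ c d : N3 F q, Commute (Rf hF a) (Rf hF c) ∧ Commute (Rf hF c) (Rf hF d) ∧
        Commute (Rf hF d) (Rf hF b) := by
    intro d hdb hda
    obtain ⟨c, hca, hcd⟩ := exists_perp_pair hF a d hda
    exact ⟨c, d, (Rf_commute_iff hq hF a c).mpr (Or.inr hca),
      (Rf_commute_iff hq hF c d).mpr (Or.inr (hermForm_eq_zero_symm hF hcd)),
      (Rf_commute_iff hq hF d b).mpr (Or.inr (hermForm_eq_zero_symm hF hdb))⟩
  by_cases h1 : hermForm 3 F q b.1 a.1 * hermForm 3 F q b.1 a.1 ^ q = 1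
  · obtain ⟨e, he1, -, he3⟩ := exists_coords hF b
    obtain ⟨a', ha'⟩ : ∃ a' : N3 F q, e a' = a := ⟨e.symm a, e.apply_symm_apply a⟩
    have h0 : a'.1 0 * a'.1 0 ^ q = 1 := by
      have h3 := he1 a'
      rw [ha'] at h3
      rw [← h3, hermForm_conj hF, mul_comm]
      have h1' := h1
      rw [hermForm_conj hF] at h1'
      exact h1'
    have hsum : a'.1 1 * a'.1 1 ^ q + a'.1 2 * a'.1 2 ^ q = 0 := by
      have h3 := a'.2
      unfold hermForm at h3
      rw [Fin.sum_univ_three] at h3
      linear_combination h3 - h0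
    have hd : ∀ (i : Fin 3) (hi : hermForm 3 F q (Pi.single i 1) (Pi.single i 1) = 1),
        i ≠ 0 → a'.1 i * a'.1 i ^ q ≠ 1 →
        ∃ c d : N3 F q, Commute (Rf hF a) (Rf hF c) ∧ Commute (Rf hF c) (Rf hF d) ∧
          Commute (Rf hF d) (Rf hF b) := by
      intro i hi hi0 hne
      apply key (e ⟨Pi.single i 1, hi⟩)
      · rw [he1]
        simp [hi0.symm]
      · rw [← ha', he3]
        change hermForm 3 F q (Pi.single i 1) a'.1 * hermForm 3 F q (Pi.single i 1) a'.1 ^ q ≠ 1
        rw [hermForm_single_left, one_mul, pow_q_pow_q hF, mul_comm]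
        exact hne
    by_cases h4 : a'.1 1 * a'.1 1 ^ q = 1
    · apply hd 2 hermForm_e2 (by decide)
      intro h5
      apply h2
      rw [h4, h5] at hsum
      linear_combination hsum
    · exact hd 1 hermForm_e1 (by decide) h4
  · obtain ⟨c, hca, hcb⟩ := exists_perp_pair hF a b h1
    exact ⟨c, c, (Rf_commute_iff hq hF a c).mpr (Or.inr hca), Commute.refl _,
      (Rf_commute_iff hq hF c b).mpr (Or.inr (hermForm_eq_zero_symm hF hcb))⟩

omit [Fintype F] in
theorem card_split {α : Type*} [Finite α] (p r : α → Prop) :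
    Nat.card {x // p x} = Nat.card {x // p x ∧ r x} + Nat.card {x // p x ∧ ¬ r x} := by
  classical
  have := Fintype.ofFinite α
  rw [Nat.card_eq_fintype_card, Nat.card_eq_fintype_card, Nat.card_eq_fintype_card,
    Fintype.card_subtype, Fintype.card_subtype, Fintype.card_subtype,
    ← Finset.filter_filter, ← Finset.filter_filter]
  exact (Finset.card_filter_add_card_filter_not r).symm

end graph

end Cfsg.Agent.Lib.Helper37
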