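import Mathlib
import Cfsg.Prelude.Def_Classical
import Cfsg.Agent.Lib.Helper13.Herm
import Cfsg.Agent.Lib.Helper37.PLocClosed
import Cfsg.Agent.S0285

/-!
# `p`-local subgroups of `SU₃(q)` are `p`-closed (`q` a power of the odd prime `p`)
-/

set_option autoImplicit false

namespace Cfsg.Agent.Lib.Helper37

open Matrix Cfsg.Agent.Lib.Helper13

section basic
variable {K : Type*} [Field K] {q : ℕ}

/-- action of `SU₃` on vectors -/
def mv (g : ↥(Cfsg.SU 3 K q)) (v : Fin 3 → K) : Fin 3 → K := (Cfsg.slToMat 3 K g.1) *ᵥ v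

theorem mv_one (v : Fin 3 → K) : mv (1 : ↥(Cfsg.SU 3 K q)) v = v := by
  simp [mv]

theorem mv_mul (g g' : ↥(Cfsg.SU 3 K q)) (v : Fin 3 → K) : mv (g * g') v = mv g (mv g' v) := by
  simp only [mv, Subgroup.coe_mul, map_mul, Matrix.mulVec_mulVec]

theorem mv_add (g : ↥(Cfsg.SU 3 K q)) (u v : Fin 3 → K) : mv g (u + v) = mv g u + mv g v :=
  Matrix.mulVec_add _ _ _

theorem mv_sub (g : ↥(Cfsg.SU 3 K q)) (u v : Fin 3 → K) : mv g (u - v) = mv g u - mv g v :=
  Matrix.mulVec_sub _ _ _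

theorem mv_smul (g : ↥(Cfsg.SU 3 K q)) (c : K) (v : Fin 3 → K) : mv g (c • v) = c • mv g v :=
  Matrix.mulVec_smul _ _ _

theorem mv_zero (g : ↥(Cfsg.SU 3 K q)) : mv g 0 = 0 := Matrix.mulVec_zero _

theorem herm_mv (g : ↥(Cfsg.SU 3 K q)) (u v : Fin 3 → K) :
    Cfsg.hermForm 3 K q (mv g u) (mv g v) = Cfsg.hermForm 3 K q u v := g.2 u v

theorem mv_inv_mv (g : ↥(Cfsg.SU 3 K q)) (v : Fin 3 → K) : mv g⁻¹ (mv g v) = v := by
  rw [← mv_mul, inv_mul_cancel, mv_one]

theorem mv_mv_inv (g : ↥(Cfsg.SU 3 K q)) (v : Fin 3 → K) : mv g (mv g⁻¹ v) = v := by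
  rw [← mv_mul, mul_inv_cancel, mv_one]

theorem eq_one_of_mv (g : ↥(Cfsg.SU 3 K q)) (hg : ∀ v, mv g v = v) : g = 1 := by
  apply Subtype.ext
  apply Subtype.ext
  have h1 : (Cfsg.slToMat 3 K g.1) = 1 := by
    apply Matrix.mulVec_injective
    funext v
    rw [Matrix.one_mulVec]
    exact hg v
  exact h1

theorem mv_pow_smul (g : ↥(Cfsg.SU 3 K q)) (v : Fin 3 → K) (c : K) (hv : mv g v = c • v) (j : ℕ) :
    mv (g ^ j) v = c ^ j • v := by
  induction j with
  | zero => simp [mv_one]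
  | succ j ih => rw [pow_succ, mv_mul, hv, mv_smul, ih, smul_smul, pow_succ, mul_comm]

end basic

section forms
variable {K : Type*} [Field K] {q : ℕ}

/-- the functional `u ↦ h(u, y)` -/
def ell (q : ℕ) (y : Fin 3 → K) : (Fin 3 → K) →ₗ[K] K where
  toFun u := Cfsg.hermForm 3 K q u y
  map_add' u u' := hermForm_add_left u u' y
  map_smul' a u := by
    simp only [RingHom.id_apply, smul_eq_mul]
    exact hermForm_smul_left a u y

theorem ell_apply (y u : Fin 3 → K) : ell q y u = Cfsg.hermForm 3 K q u y := rfl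

theorem herm_sub_left (u u' v : Fin 3 → K) :
    Cfsg.hermForm 3 K q (u - u') v = Cfsg.hermForm 3 K q u v - Cfsg.hermForm 3 K q u' v := by
  have := (ell q v).map_sub u u'
  simpa [ell_apply] using this

theorem herm_nondeg (hq : q ≠ 0) (y : Fin 3 → K) (hy : ∀ u, Cfsg.hermForm 3 K q u y = 0) :
    y = 0 := by
  funext i
  have := hy (Pi.single i 1)
  rw [hermForm_single_left] at this
  exact (pow_eq_zero_iff hq).1 this

theorem ell_ne_zero (hq : q ≠ 0) (y : Fin 3 → K) (hy : y ≠ 0) : ell q y ≠ 0 := by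
  intro h
  apply hy
  apply herm_nondeg hq
  intro u
  rw [← ell_apply, h]
  rfl

theorem finrank_ker_ell (hq : q ≠ 0) (y : Fin 3 → K) (hy : y ≠ 0) :
    Module.finrank K (LinearMap.ker (ell q y)) = 2 := by
  have := Module.Dual.finrank_ker_add_one_of_ne_zero (f := (ell q y : Module.Dual K (Fin 3 → K)))
    (ell_ne_zero hq y hy)
  simp at this
  omega

/-- a basis adapted to the flag of an isotropic vector -/
theorem exists_flag (hq : q ≠ 0) (v : Fin 3 → K) (hv : v ≠ 0)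
    (hvv : Cfsg.hermForm 3 K q v v = 0) :
    ∃ w₁ w₂ : Fin 3 → K, Cfsg.hermForm 3 K q w₁ v = 0 ∧ Cfsg.hermForm 3 K q w₂ v ≠ 0 ∧
      (¬ ∃ c : K, w₁ = c • v) ∧
      (∀ x, Cfsg.hermForm 3 K q x v = 0 → ∃ a b : K, x = a • v + b • w₁) ∧
      (∀ x, ∃ a b c : K, x = a • v + b • w₁ + c • w₂) := by
  set W := LinearMap.ker (ell q v) with hW
  have hWdim : Module.finrank K W = 2 := finrank_ker_ell hq v hv
  have hvW : v ∈ W := by rw [hW, LinearMap.mem_ker, ell_apply]; exact hvv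
  have hS1 : Module.finrank K (Submodule.span K {v}) = 1 := finrank_span_singleton hv
  -- w₁
  have hex1 : ∃ w₁ ∈ W, w₁ ∉ Submodule.span K {v} := by
    by_contra hcon
    push Not at hcon
    have hle : W ≤ Submodule.span K {v} := hcon
    have := Submodule.finrank_mono hle
    omega
  obtain ⟨w₁, hw₁W, hw₁S⟩ := hex1
  -- w₂
  have hex2 : ∃ w₂, Cfsg.hermForm 3 K q w₂ v ≠ 0 := by
    by_contra hcon
    push Not at hcon
    exact hv (herm_nondeg hq v hcon)
  obtain ⟨w₂, hw₂⟩ := hex2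
  have hspan : Submodule.span K {v} ⊔ Submodule.span K {w₁} = W := by
    apply Submodule.eq_of_le_of_finrank_le
    · apply sup_le
      · rw [Submodule.span_singleton_le_iff_mem]; exact hvW
      · rw [Submodule.span_singleton_le_iff_mem]; exact hw₁W
    · have hlt : Submodule.span K {v} < Submodule.span K {v} ⊔ Submodule.span K {w₁} := by
        apply lt_of_le_of_ne le_sup_left
        intro heq
        apply hw₁S
        rw [heq]
        exact (le_sup_right : Submodule.span K {w₁} ≤ _) (Submodule.mem_span_singleton_self w₁)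
      have := Submodule.finrank_lt_finrank_of_lt hlt
      omega
  have h4 : ∀ x, Cfsg.hermForm 3 K q x v = 0 → ∃ a b : K, x = a • v + b • w₁ := by
    intro x hx
    have hxW : x ∈ W := by rw [hW, LinearMap.mem_ker, ell_apply]; exact hx
    rw [← hspan, Submodule.mem_sup] at hxW
    obtain ⟨y, hy, z, hz, rfl⟩ := hxW
    obtain ⟨a, rfl⟩ := Submodule.mem_span_singleton.1 hy
    obtain ⟨b, rfl⟩ := Submodule.mem_span_singleton.1 hz
    exact ⟨a, b, rfl⟩
  refine ⟨w₁, w₂, ?_, hw₂, ?_, h4, ?_⟩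
  · have := hw₁W
    rwa [hW, LinearMap.mem_ker, ell_apply] at this
  · rintro ⟨c, rfl⟩
    exact hw₁S (Submodule.smul_mem _ c (Submodule.mem_span_singleton_self v))
  · intro x
    set c := Cfsg.hermForm 3 K q x v / Cfsg.hermForm 3 K q w₂ v with hc
    have hx' : Cfsg.hermForm 3 K q (x - c • w₂) v = 0 := by
      rw [herm_sub_left, hermForm_smul_left, hc]
      field_simp
      ring
    obtain ⟨a, b, hab⟩ := h4 _ hx'
    refine ⟨a, b, c, ?_⟩
    rw [← hab]
    abel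

end forms

section forms2
variable {K : Type*} [Field K] [Fintype K] {q : ℕ}

theorem herm_sub_right (hK : Fintype.card K = q ^ 2) (u v v' : Fin 3 → K) :
    Cfsg.hermForm 3 K q u (v - v') = Cfsg.hermForm 3 K q u v - Cfsg.hermForm 3 K q u v' := by
  have h1 := hermForm_add_right hK u (v - v') v'
  rw [sub_add_cancel] at h1
  rw [h1]; ring

theorem herm_swap_zero (hK : Fintype.card K = q ^ 2) (hq : q ≠ 0) (u v : Fin 3 → K)
    (h : Cfsg.hermForm 3 K q u v = 0) : Cfsg.hermForm 3 K q v u = 0 := by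
  rw [← hermForm_conj hK u v, h, zero_pow hq]

theorem pow_q_pow_q (hK : Fintype.card K = q ^ 2) (x : K) : (x ^ q) ^ q = x := by
  rw [← pow_mul, ← sq, ← hK, FiniteField.pow_card]

/-- no totally isotropic plane -/
theorem herm_flag_ne_zero (hK : Fintype.card K = q ^ 2) (hq : q ≠ 0) (v w₁ w₂ : Fin 3 → K)
    (hvv : Cfsg.hermForm 3 K q v v = 0)
    (h1 : Cfsg.hermForm 3 K q w₁ v = 0) (h2 : Cfsg.hermForm 3 K q w₂ v ≠ 0)
    (h3 : ¬ ∃ c : K, w₁ = c • v)
    (h5 : ∀ x, ∃ a b c : K, x = a • v + b • w₁ + c • w₂) :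
    Cfsg.hermForm 3 K q w₁ w₁ ≠ 0 := by
  intro h0
  have hvw : Cfsg.hermForm 3 K q v w₁ = 0 := herm_swap_zero hK hq _ _ h1
  set c := Cfsg.hermForm 3 K q w₂ w₁ / Cfsg.hermForm 3 K q w₂ v with hc
  apply h3
  refine ⟨c ^ q, ?_⟩
  have hz : w₁ - c ^ q • v = 0 := by
    apply herm_nondeg hq
    intro x
    obtain ⟨a, b, d, rfl⟩ := h5 x
    rw [herm_sub_right hK, hermForm_smul_right hK, pow_q_pow_q hK]
    simp only [hermForm_add_left, hermForm_smul_left, hvw, h0, hvv, h1]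
    rw [hc]
    field_simp
    ring
  exact sub_eq_zero.1 hz

end forms2

section pelements
variable {K : Type*} [Field K] [Fintype K] {q : ℕ} {p : ℕ} [hp : Fact p.Prime] [CharP K p]

theorem eq_one_of_pow_char_pow (c : K) (k : ℕ) (hc : c ^ p ^ k = 1) : c = 1 := by
  have h1 : (c - 1) ^ p ^ k = 0 := by
    rw [sub_pow_char_pow, one_pow, hc, sub_self]
  exact sub_eq_zero.1 ((pow_eq_zero_iff (pow_ne_zero k hp.out.ne_zero)).1 h1)

/-- a `p`-element stabilizing the point `K v` fixes `v` -/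
theorem fix_of_pow (g : ↥(Cfsg.SU 3 K q)) (k : ℕ) (hg : g ^ p ^ k = 1) (v : Fin 3 → K)
    (hv : v ≠ 0) (c : K) (hgv : mv g v = c • v) : mv g v = v := by
  have h1 := mv_pow_smul g v c hgv (p ^ k)
  rw [hg, mv_one] at h1
  have h2 : (c ^ p ^ k - 1) • v = 0 := by rw [sub_smul, one_smul, ← h1, sub_self]
  have h3 : c ^ p ^ k = 1 := by
    rcases smul_eq_zero.1 h2 with h | h
    · exact sub_eq_zero.1 h
    · exact absurd h hv
  rw [hgv, eq_one_of_pow_char_pow c k h3, one_smul]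

/-- a `p`-element fixing `v` acts unipotently on `v^⊥ / K v` -/
theorem unip_of_pow (g : ↥(Cfsg.SU 3 K q)) (k : ℕ)
    (hg : g ^ p ^ k = 1) (v w₁ : Fin 3 → K) (hgv : mv g v = v)
    (h1 : Cfsg.hermForm 3 K q w₁ v = 0) (h3 : ¬ ∃ c : K, w₁ = c • v)
    (h4 : ∀ x, Cfsg.hermForm 3 K q x v = 0 → ∃ a b : K, x = a • v + b • w₁) :
    ∃ a : K, mv g w₁ = w₁ + a • v := by
  have hgw : Cfsg.hermForm 3 K q (mv g w₁) v = 0 := by
    have := herm_mv g w₁ v
    rw [hgv] at this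
    rw [this, h1]
  obtain ⟨α, μ, hαμ⟩ := h4 _ hgw
  have hpow : ∀ j : ℕ, ∃ αj : K, mv (g ^ j) w₁ = αj • v + μ ^ j • w₁ := by
    intro j
    induction j with
    | zero => exact ⟨0, by simp [mv_one]⟩
    | succ j ih =>
      obtain ⟨αj, hj⟩ := ih
      refine ⟨αj + μ ^ j * α, ?_⟩
      rw [pow_succ', mv_mul, hj, mv_add, mv_smul, mv_smul, hgv, hαμ, pow_succ]
      module
  obtain ⟨α', hα'⟩ := hpow (p ^ k)
  rw [hg, mv_one] at hα'
  have hμ : μ ^ p ^ k = 1 := by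
    by_contra hne
    apply h3
    refine ⟨α' / (1 - μ ^ p ^ k), ?_⟩
    have hne' : (1 - μ ^ p ^ k) ≠ 0 := sub_ne_zero.2 (Ne.symm hne)
    have h5 : (1 - μ ^ p ^ k) • w₁ = α' • v := by
      rw [sub_smul, one_smul]
      nth_rewrite 1 [hα']
      abel
    rw [div_eq_inv_mul, mul_smul, ← h5, smul_smul, inv_mul_cancel₀ hne', one_smul]
  have hμ1 : μ = 1 := eq_one_of_pow_char_pow μ k hμ
  refine ⟨α, ?_⟩
  rw [hαμ, hμ1, one_smul, add_comm]

theorem mv_pow_eq (g : ↥(Cfsg.SU 3 K q)) (j : ℕ) (x : Fin 3 → K) :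
    mv (g ^ j) x = ((Cfsg.slToMat 3 K g.1) ^ j) *ᵥ x := by
  simp only [mv, Subgroup.coe_pow, map_pow]

/-- an element acting unipotently on the flag of `v` has order dividing `p` -/
theorem pow_p_of_unip (hp2 : p ≠ 2) (g : ↥(Cfsg.SU 3 K q))
    (v w₁ w₂ : Fin 3 → K) (hgv : mv g v = v) (a : K) (hgw : mv g w₁ = w₁ + a • v)
    (h4 : ∀ x, Cfsg.hermForm 3 K q x v = 0 → ∃ a b : K, x = a • v + b • w₁)
    (h5 : ∀ x, ∃ a b c : K, x = a • v + b • w₁ + c • w₂) : g ^ p = 1 := by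
  have hinv : ∀ x, Cfsg.hermForm 3 K q (mv g x) v = Cfsg.hermForm 3 K q x v := by
    intro x
    have := herm_mv g x v
    rwa [hgv] at this
  have hw2 : Cfsg.hermForm 3 K q (mv g w₂ - w₂) v = 0 := by
    rw [herm_sub_left, hinv, sub_self]
  obtain ⟨b, d, hbd⟩ := h4 _ hw2
  set M : Matrix (Fin 3) (Fin 3) K := Cfsg.slToMat 3 K g.1 with hM
  let D : (Fin 3 → K) →ₗ[K] (Fin 3 → K) := Matrix.mulVecLin (M - 1)
  have hD : ∀ x, D x = mv g x - x := by
    intro x
    simp only [D, Matrix.mulVecLin_apply, Matrix.sub_mulVec, Matrix.one_mulVec]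
    rfl
  have hDv : D v = 0 := by rw [hD, hgv, sub_self]
  have hDw1 : D w₁ = a • v := by rw [hD, hgw]; abel
  have hDw2 : D w₂ = b • v + d • w₁ := by rw [hD, hbd]
  have hD3 : ∀ x, D (D (D x)) = 0 := by
    intro x
    obtain ⟨α, β, γ, rfl⟩ := h5 x
    simp only [map_add, map_smul, hDv, hDw1, hDw2, smul_zero, add_zero, zero_add]
  have hcube : (M - 1) ^ 3 = 0 := by
    apply Matrix.mulVec_injective
    funext x
    have := hD3 x
    simp only [D, Matrix.mulVecLin_apply, Matrix.mulVec_mulVec] at this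
    rw [Matrix.zero_mulVec, ← this]
    congr 1
    rw [pow_succ, pow_two, mul_assoc]
  have h3 : 3 ≤ p := by
    have := hp.out.two_le
    omega
  have hMp : (M - 1) ^ p = 0 := by
    have e : (M - 1) ^ p = (M - 1) ^ 3 * (M - 1) ^ (p - 3) := by
      rw [← pow_add]; congr 1; omega
    rw [e, hcube, zero_mul]
  have : CharP (Matrix (Fin 3) (Fin 3) K) p := inferInstance
  rw [sub_pow_char_of_commute p (Commute.one_right _), one_pow, sub_eq_zero] at hMp
  apply eq_one_of_mv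
  intro x
  rw [mv_pow_eq, ← hM, hMp, Matrix.one_mulVec]

end pelements

section borel
variable {K : Type*} [Field K] [Fintype K] {q : ℕ}

/-- stabilizer of the point `K v` -/
def pointStab (q : ℕ) (v : Fin 3 → K) (hv : v ≠ 0) : Subgroup ↥(Cfsg.SU 3 K q) where
  carrier := {g | ∃ c : K, mv g v = c • v}
  one_mem' := ⟨1, by rw [mv_one, one_smul]⟩
  mul_mem' := by
    rintro g g' ⟨c, hc⟩ ⟨c', hc'⟩
    exact ⟨c' * c, by rw [mv_mul, hc', mv_smul, hc, smul_smul]⟩
  inv_mem' := by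
    rintro g ⟨c, hc⟩
    have hc0 : c ≠ 0 := by
      rintro rfl
      rw [zero_smul] at hc
      apply hv
      have := mv_inv_mv g v
      rw [hc, mv_zero] at this
      exact this.symm
    refine ⟨c⁻¹, ?_⟩
    have h1 := mv_inv_mv g v
    rw [hc, mv_smul] at h1
    calc mv g⁻¹ v = c⁻¹ • (c • mv g⁻¹ v) := by rw [smul_smul, inv_mul_cancel₀ hc0, one_smul]
      _ = c⁻¹ • v := by rw [h1]

/-- the unipotent radical of the stabilizer of the point `K v` -/
def unipRad (q : ℕ) (v w₁ : Fin 3 → K) : Subgroup ↥(Cfsg.SU 3 K q) where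
  carrier := {g | mv g v = v ∧ ∃ a : K, mv g w₁ = w₁ + a • v}
  one_mem' := ⟨mv_one v, 0, by rw [mv_one, zero_smul, add_zero]⟩
  mul_mem' := by
    rintro g g' ⟨hg, a, ha⟩ ⟨hg', a', ha'⟩
    refine ⟨by rw [mv_mul, hg', hg], a + a', ?_⟩
    rw [mv_mul, ha', mv_add, mv_smul, hg, ha]
    module
  inv_mem' := by
    rintro g ⟨hg, a, ha⟩
    have h1 : mv g⁻¹ v = v := by
      have := mv_inv_mv g v
      rwa [hg] at this
    refine ⟨h1, -a, ?_⟩
    have h2 := mv_inv_mv g w₁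
    rw [ha, mv_add, mv_smul, h1] at h2
    rw [neg_smul, ← sub_eq_add_neg, eq_sub_iff_add_eq]
    exact h2

variable {p : ℕ} [hp : Fact p.Prime] [CharP K p]

theorem unipRad_conj (hK : Fintype.card K = q ^ 2) (hq : q ≠ 0) (v w₁ : Fin 3 → K) (hv : v ≠ 0)
    (h1 : Cfsg.hermForm 3 K q w₁ v = 0)
    (h4 : ∀ x, Cfsg.hermForm 3 K q x v = 0 → ∃ a b : K, x = a • v + b • w₁)
    (b : ↥(Cfsg.SU 3 K q)) (hb : b ∈ pointStab q v hv) (x : ↥(Cfsg.SU 3 K q))
    (hx : x ∈ unipRad q v w₁) : b * x * b⁻¹ ∈ unipRad q v w₁ := by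
  obtain ⟨c, hc⟩ := hb
  obtain ⟨hxv, a, ha⟩ := hx
  obtain ⟨c', hc'⟩ := (pointStab q v hv).inv_mem ⟨c, hc⟩
  have hcc' : c' * c = 1 := by
    have := mv_mv_inv b v
    rw [hc', mv_smul, hc, smul_smul] at this
    have h2 : (c' * c - 1) • v = 0 := by rw [sub_smul, one_smul, this, sub_self]
    rcases smul_eq_zero.1 h2 with h | h
    · exact sub_eq_zero.1 h
    · exact absurd h hv
  constructor
  · rw [mv_mul, mv_mul, hc', mv_smul, hxv, mv_smul, hc, smul_smul, hcc', one_smul]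
  · have hy : Cfsg.hermForm 3 K q (mv b⁻¹ w₁) v = 0 := by
      have e := herm_mv b (mv b⁻¹ w₁) (mv b⁻¹ v)
      rw [mv_mv_inv, mv_mv_inv] at e
      have e2 : Cfsg.hermForm 3 K q (mv b⁻¹ w₁) (mv b⁻¹ v) = 0 := by rw [← e, h1]
      rw [hc', hermForm_smul_right hK] at e2
      have hc'0 : c' ≠ 0 := by
        rintro rfl
        rw [zero_mul] at hcc'
        exact zero_ne_one hcc'
      rcases mul_eq_zero.1 e2 with h | h
      · exact absurd ((pow_eq_zero_iff hq).1 h) hc'0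
      · exact h
    obtain ⟨α, β, hαβ⟩ := h4 _ hy
    refine ⟨β * a * c, ?_⟩
    rw [mv_mul, mv_mul, hαβ, mv_add, mv_smul, mv_smul, hxv, ha]
    have e3 : mv b (α • v + β • (w₁ + a • v)) = mv b (α • v + β • w₁) + (β * a) • mv b v := by
      rw [← mv_smul, ← mv_add]
      congr 1
      module
    rw [e3, ← hαβ, mv_mv_inv, hc, smul_smul]

/-- the stabilizer of an isotropic point is `p`-closed -/
theorem pointStab_pClosed (hK : Fintype.card K = q ^ 2) (hq : q ≠ 0) (hp2 : p ≠ 2)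
    (v : Fin 3 → K) (hv : v ≠ 0) (hvv : Cfsg.hermForm 3 K q v v = 0) :
    PClosedIn p (pointStab q v hv) := by
  obtain ⟨w₁, w₂, h1, h2, h3, h4, h5⟩ := exists_flag hq v hv hvv
  refine ⟨unipRad q v w₁, ?_, ?_, ?_, ?_⟩
  · rintro g ⟨hg, _⟩
    exact ⟨1, by rw [hg, one_smul]⟩
  · intro b hb
    rw [Subgroup.mem_normalizer_iff]
    intro x
    constructor
    · exact unipRad_conj hK hq v w₁ hv h1 h4 b hb x
    · intro hx
      have := unipRad_conj hK hq v w₁ hv h1 h4 b⁻¹ (inv_mem hb) _ hx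
      simpa [mul_assoc] using this
  · rintro ⟨g, hg, a, ha⟩
    refine ⟨1, ?_⟩
    apply Subtype.ext
    simp only [pow_one, Subgroup.coe_pow, Subgroup.coe_one]
    exact pow_p_of_unip hp2 g v w₁ w₂ hg a ha h4 h5
  · intro S hSB hS g hgS
    obtain ⟨k, hk⟩ := hS ⟨g, hgS⟩
    have hk' : g ^ p ^ k = 1 := congrArg Subtype.val hk
    obtain ⟨c, hc⟩ := hSB hgS
    have hgv := fix_of_pow g k hk' v hv c hc
    exact ⟨hgv, unip_of_pow g k hk' v w₁ hgv h1 h3 h4⟩

end borel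

section unique
variable {K : Type*} [Field K] [Fintype K] {q : ℕ} {p : ℕ} [hp : Fact p.Prime] [CharP K p]

omit [Fintype K] in
theorem flag_span (v w₁ w : Fin 3 → K)
    (h4 : ∀ x, Cfsg.hermForm 3 K q x v = 0 → ∃ a b : K, x = a • v + b • w₁)
    (hw : Cfsg.hermForm 3 K q w v ≠ 0) : ∀ x, ∃ a b c : K, x = a • v + b • w₁ + c • w := by
  intro x
  set c := Cfsg.hermForm 3 K q x v / Cfsg.hermForm 3 K q w v with hc
  have hx' : Cfsg.hermForm 3 K q (x - c • w) v = 0 := by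
    rw [herm_sub_left, hermForm_smul_left, hc]
    field_simp
    ring
  obtain ⟨a, b, hab⟩ := h4 _ hx'
  refine ⟨a, b, c, ?_⟩
  rw [← hab]
  abel

/-- a nontrivial `p`-subgroup fixes at most one isotropic point -/
theorem fixed_isotropic_unique (hK : Fintype.card K = q ^ 2) (hq : q ≠ 0)
    (Q : Subgroup ↥(Cfsg.SU 3 K q)) (hQ : IsPGroup p Q) (hQne : Q ≠ ⊥)
    (v v' : Fin 3 → K) (hv : v ≠ 0) (hvv : Cfsg.hermForm 3 K q v v = 0)
    (hvv' : Cfsg.hermForm 3 K q v' v' = 0)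
    (hfix : ∀ g ∈ Q, mv g v = v) (hfix' : ∀ g ∈ Q, mv g v' = v') : ∃ c : K, v' = c • v := by
  by_contra hcon
  obtain ⟨w₁, w₂, h1, h2, h3, h4, h5⟩ := exists_flag hq v hv hvv
  have hw1 := herm_flag_ne_zero hK hq v w₁ w₂ hvv h1 h2 h3 h5
  have hvw1 : Cfsg.hermForm 3 K q v w₁ = 0 := herm_swap_zero hK hq _ _ h1
  have hv'v : Cfsg.hermForm 3 K q v' v ≠ 0 := by
    intro h0
    obtain ⟨α, β, hαβ⟩ := h4 v' h0
    have hβ : β ≠ 0 := by
      rintro rfl
      apply hcon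
      exact ⟨α, by simpa using hαβ⟩
    have e : Cfsg.hermForm 3 K q v' v' = β * β ^ q * Cfsg.hermForm 3 K q w₁ w₁ := by
      rw [hαβ]
      simp only [hermForm_add_left, hermForm_smul_left, hermForm_add_right hK,
        hermForm_smul_right hK, hvv, h1, hvw1]
      ring
    rw [hvv'] at e
    have : β * β ^ q * Cfsg.hermForm 3 K q w₁ w₁ ≠ 0 :=
      mul_ne_zero (mul_ne_zero hβ (pow_ne_zero q hβ)) hw1
    exact this e.symm
  have h5' := flag_span v w₁ v' h4 hv'v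
  apply hQne
  rw [eq_bot_iff]
  intro g hg
  rw [Subgroup.mem_bot]
  obtain ⟨k, hk⟩ := hQ ⟨g, hg⟩
  have hk' : g ^ p ^ k = 1 := congrArg Subtype.val hk
  obtain ⟨a, ha⟩ := unip_of_pow g k hk' v w₁ (hfix g hg) h1 h3 h4
  have ha0 : a = 0 := by
    have e := herm_mv g w₁ v'
    rw [ha, hfix' g hg, hermForm_add_left, hermForm_smul_left] at e
    have hvv'ne : Cfsg.hermForm 3 K q v v' ≠ 0 := fun h0 => hv'v (herm_swap_zero hK hq _ _ h0)
    have h6 : a * Cfsg.hermForm 3 K q v v' = 0 := by linear_combination e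
    rcases mul_eq_zero.1 h6 with h | h
    · exact h
    · exact absurd h hvv'ne
  apply eq_one_of_mv
  intro x
  obtain ⟨α, β, γ, rfl⟩ := h5' x
  rw [mv_add, mv_add, mv_smul, mv_smul, mv_smul, hfix g hg, ha, ha0, zero_smul, add_zero,
    hfix' g hg]

end unique

section exist
variable {K : Type*} [Field K] [Fintype K] {q : ℕ}

/-- nonzero isotropic vectors -/
def IsoVec (K : Type*) [Field K] (q : ℕ) : Type _ :=
  {v : Fin 3 → K // v ≠ 0 ∧ Cfsg.hermForm 3 K q v v = 0}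

omit [Fintype K] in
theorem mv_ne_zero (g : ↥(Cfsg.SU 3 K q)) (v : Fin 3 → K) (hv : v ≠ 0) : mv g v ≠ 0 := by
  intro h
  apply hv
  have := mv_inv_mv g v
  rw [h, mv_zero] at this
  exact this.symm

instance isoVecAction : MulAction ↥(Cfsg.SU 3 K q) (IsoVec K q) where
  smul g v := ⟨mv g v.1, mv_ne_zero g v.1 v.2.1, by rw [herm_mv]; exact v.2.2⟩
  one_smul v := Subtype.ext (mv_one v.1)
  mul_smul g g' v := Subtype.ext (mv_mul g g' v.1)

theorem isoVec_smul_val (g : ↥(Cfsg.SU 3 K q)) (v : IsoVec K q) : (g • v).1 = mv g v.1 := rfl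

theorem card_isoVec (hK : Fintype.card K = q ^ 2) :
    Nat.card (IsoVec K q) + 1 = (q ^ 3 + 1) * (q ^ 2 - 1) + 1 := by
  classical
  have h0 : Cfsg.hermForm 3 K q (0 : Fin 3 → K) 0 = 0 := hermForm_zero_left 0
  let Z := {v : Fin 3 → K // Cfsg.hermForm 3 K q v v = 0}
  let z0 : Z := ⟨0, h0⟩
  have hZ : Nat.card Z = (q ^ 3 + 1) * (q ^ 2 - 1) + 1 := by
    have := Cfsg.Agent.S0285.result hK 3
    rw [if_neg (by decide)] at this
    exact this
  let e : {x : Z // x ≠ z0} ≃ IsoVec K q :=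
    { toFun := fun x => ⟨x.1.1, fun h => x.2 (Subtype.ext h), x.1.2⟩
      invFun := fun y => ⟨⟨y.1, y.2.2⟩, fun h => y.2.1 (congrArg Subtype.val h)⟩
      left_inv := fun x => rfl
      right_inv := fun y => rfl }
  rw [← hZ, ← Nat.card_congr (Equiv.optionSubtypeNe z0), Finite.card_option, Nat.card_congr e]

variable {p : ℕ} [hp : Fact p.Prime]

/-- a `p`-subgroup fixes a nonzero isotropic vector -/
theorem exists_fixed_isotropic (hK : Fintype.card K = q ^ 2) (n : ℕ) (hn : 1 ≤ n)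
    (hqp : q = p ^ n) (Q : Subgroup ↥(Cfsg.SU 3 K q)) (hQ : IsPGroup p Q) :
    ∃ v : Fin 3 → K, v ≠ 0 ∧ Cfsg.hermForm 3 K q v v = 0 ∧ ∀ g ∈ Q, mv g v = v := by
  have hcard : Nat.card (IsoVec K q) = (q ^ 3 + 1) * (q ^ 2 - 1) := by
    have := card_isoVec hK
    omega
  have hpq : p ∣ q := by
    rw [hqp]
    exact dvd_pow_self p (by omega)
  have hq1 : 1 ≤ q ^ 2 := Nat.one_le_pow _ _ (by rw [hqp]; exact pow_pos hp.out.pos n)
  have hnd : ¬ p ∣ Nat.card (IsoVec K q) := by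
    rw [hcard]
    intro h
    rcases (Nat.Prime.dvd_mul hp.out).1 h with h | h
    · have h3 : p ∣ q ^ 3 := dvd_pow hpq (by norm_num)
      have := (Nat.dvd_add_right h3).1 h
      exact hp.out.one_lt.ne' (Nat.dvd_one.1 this)
    · have h2 : p ∣ q ^ 2 := dvd_pow hpq (by norm_num)
      have h2' : p ∣ (q ^ 2 - 1) + 1 := by rwa [Nat.sub_add_cancel hq1]
      have := (Nat.dvd_add_right h).1 h2'
      exact hp.out.one_lt.ne' (Nat.dvd_one.1 this)
  obtain ⟨a, ha⟩ := hQ.nonempty_fixed_point_of_prime_not_dvd_card (IsoVec K q) hnd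
  refine ⟨a.1, a.2.1, a.2.2, fun g hg => ?_⟩
  have := ha ⟨g, hg⟩
  exact congrArg Subtype.val this

end exist

section main
variable {K : Type*} [Field K] [Fintype K] {q : ℕ} {p : ℕ} [hp : Fact p.Prime] [CharP K p]

/-- every `p`-local subgroup of `SU₃(q)` is `p`-closed (`q` a power of the odd prime `p`) -/
theorem PLoc_SU3 (hp2 : p ≠ 2) (hK : Fintype.card K = q ^ 2) (n : ℕ) (hn : 1 ≤ n)
    (hqp : q = p ^ n) : PLoc p ↥(Cfsg.SU 3 K q) := by
  have hq : q ≠ 0 := by rw [hqp]; exact pow_ne_zero n hp.out.ne_zero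
  intro Q hQ hQne
  obtain ⟨v, hv, hvv, hfix⟩ := exists_fixed_isotropic hK n hn hqp Q hQ
  refine (pointStab_pClosed hK hq hp2 v hv hvv).mono ?_
  intro m hm
  rw [Subgroup.mem_normalizer_iff] at hm
  -- `mv m v` is fixed by `Q`
  have hfix' : ∀ g ∈ Q, mv g (mv m v) = mv m v := by
    intro g hg
    have h1 : m⁻¹ * g * m ∈ Q := by
      have := (hm (m⁻¹ * g * m)).2
      apply this
      have e : m * (m⁻¹ * g * m) * m⁻¹ = g := by group
      rw [e]
      exact hg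
    have h2 := hfix _ h1
    rw [mv_mul, mv_mul] at h2
    have h3 := congrArg (mv m) h2
    rwa [mv_mv_inv] at h3
  have hvv' : Cfsg.hermForm 3 K q (mv m v) (mv m v) = 0 := by rw [herm_mv]; exact hvv
  exact fixed_isotropic_unique hK hq Q hQ hQne v (mv m v) hv hvv hvv' hfix hfix'

end main

end Cfsg.Agent.Lib.Helper37
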