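/-
helper37 library: regular unipotent elements of the unitary groups: existence of a unitary regular
unipotent matrix, determinants of its unitary centralizer, and the criterion for `SU`-conjugacy of
`GU`-conjugates.
-/
import Mathlib
import Cfsg.Prelude.Def_LieClassical
import Cfsg.Agent.Lib.Helper37.GUSimilar
import Cfsg.Agent.Lib.Helper43.RegularUnipotentMatrix

set_option autoImplicit false

namespace Cfsg.Agent.Lib.Helper37.SURegUnip

open Matrix Polynomial Module Cfsg Cfsg.Agent.Lib.Helper5 Cfsg.Agent.Lib.Helper37.NormEq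
  Cfsg.Agent.Lib.Helper37.GUConj Cfsg.Agent.Lib.Helper37.GUSimilar Cfsg.Agent.Lib.Helper43

section endo

variable {K V : Type*} [Field K] [AddCommGroup V] [Module K V] [FiniteDimensional K V]

/-- an endomorphism commuting with a regular nilpotent `N` is a polynomial in `N`, and its
determinant is the `n`-th power of the constant coefficient -/
theorem exists_poly_of_commute (N : Module.End K V) (h1 : finrank K (LinearMap.ker N) ≤ 1)
    (hnil : N ^ finrank K V = 0) (hpos : 1 ≤ finrank K V) (Z : Module.End K V)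
    (hZ : Commute Z N) :
    ∃ p : K[X], Z = aeval N p ∧ LinearMap.det Z = (p.coeff 0) ^ finrank K V := by
  obtain ⟨v0, hv0⟩ := exists_cyclic N h1 hnil hpos
  obtain ⟨p, hp⟩ := exists_aeval_apply_eq N h1 hnil v0 hv0 (Z v0)
  have hc : Commute (aeval N p) N := by
    have : Commute (aeval N p) (aeval N (X : K[X])) := (Commute.all p X).map (aeval N)
    rwa [aeval_X] at this
  have hZp : Z = aeval N p := by
    have h2 : Z - aeval N p = 0 := by
      apply eq_zero_of_commute_of_apply_eq_zero N h1 hnil v0 hv0 _ (hZ.sub_left hc)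
      rw [LinearMap.sub_apply, hp, sub_self]
    exact sub_eq_zero.mp h2
  set M : Module.End K V := aeval N (divX p) * N with hM
  have hpM : aeval N p = algebraMap K (Module.End K V) (p.coeff 0) + M := by
    conv_lhs => rw [← Polynomial.divX_mul_X_add p]
    rw [map_add, map_mul, aeval_X, aeval_C, add_comm]
  have hcomm : Commute (aeval N (divX p)) N := by
    have : Commute (aeval N (divX p)) (aeval N (X : K[X])) :=
      (Commute.all (divX p) X).map (aeval N)
    rwa [aeval_X] at this
  have hMnil : IsNilpotent (-M) := by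
    refine ⟨finrank K V, ?_⟩
    rw [neg_pow, hM, hcomm.mul_pow, hnil, mul_zero, mul_zero]
  refine ⟨p, hZp, ?_⟩
  have h3 := LinearMap.eval_charpoly (-M) (p.coeff 0)
  rw [hMnil.charpoly_eq_X_pow_finrank, eval_pow, eval_X, sub_neg_eq_add] at h3
  rw [hZp, hpM, ← h3]

end endo

section mat

variable {K : Type*} [Field K] {n : ℕ}

/-- matrix version -/
theorem isRegUnip_exists_poly (hn : 1 ≤ n) {A : Matrix (Fin n) (Fin n) K} (hA : IsRegUnip A)
    (Z : Matrix (Fin n) (Fin n) K) (hZ : Z * A = A * Z) :
    ∃ p : K[X], Z = aeval (A - 1) p ∧ Z.det = (p.coeff 0) ^ n := by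
  classical
  have hpos : 1 ≤ finrank K (Fin n → K) := by rw [Module.finrank_fin_fun]; exact hn
  let L := Matrix.toLinAlgEquiv' (R := K) (n := Fin n)
  set N : Module.End K (Fin n → K) := L (A - 1) with hN
  have a1 : finrank K (LinearMap.ker N) ≤ 1 := hA.finrank_ker_le
  have a2 : N ^ finrank K (Fin n → K) = 0 := hA.pow_finrank_eq_zero
  have hcomm : Commute (L Z) N := by
    have : Commute Z (A - 1) := by
      show Z * (A - 1) = (A - 1) * Z
      rw [mul_sub, sub_mul, mul_one, one_mul, hZ]
    exact this.map L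
  obtain ⟨p, hp1, hp2⟩ := exists_poly_of_commute N a1 a2 hpos (L Z) hcomm
  refine ⟨p, ?_, ?_⟩
  · apply L.injective
    rw [hp1, hN, ← Polynomial.aeval_algHom_apply]
  · have h1 : LinearMap.det (L Z) = Z.det := by
      show LinearMap.det (Matrix.toLin' Z) = Z.det
      rw [LinearMap.det_toLin']
    rw [← h1, hp2, Module.finrank_fin_fun]

end mat

section unitary

variable {K : Type*} [Field K] [Fintype K] {q n : ℕ}

theorem vecMul_st (hK : Fintype.card K = q ^ 2) (M : Matrix (Fin n) (Fin n) K) (v : Fin n → K) :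
    (fun i => sig hK (v i)) ᵥ* st hK M = fun j => sig hK ((M *ᵥ v) j) := by
  ext j
  simp only [vecMul, dotProduct, mulVec, st, transpose_apply, map_apply, map_sum, map_mul]
  exact Finset.sum_congr rfl (fun i _ => mul_comm _ _)

/-- a unitary matrix commuting with a unitary regular unipotent matrix has determinant the
`n`-th power of a norm-one scalar -/
theorem exists_norm_one_det (hK : Fintype.card K = q ^ 2) (hn : 1 ≤ n)
    {U : Matrix (Fin n) (Fin n) K} (hU : IsRegUnip U) (hUu : st hK U * U = 1)
    (Z : Matrix (Fin n) (Fin n) K) (hZu : st hK Z * Z = 1) (hZ : Z * U = U * Z) :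
    ∃ a : K, a * sig hK a = 1 ∧ Z.det = a ^ n := by
  classical
  obtain ⟨p, hp, hdet⟩ := isRegUnip_exists_poly hn hU Z hZ
  refine ⟨p.coeff 0, ?_, hdet⟩
  set a := p.coeff 0 with ha
  set N := U - 1 with hN
  -- a nonzero vector killed by `N`
  have hNdet : N.det = 0 := by
    have : Nonempty (Fin n) := ⟨⟨0, by omega⟩⟩
    have h1 : N.det ^ n = 0 := by rw [← det_pow, hU.1, det_zero]
    exact pow_eq_zero_iff (by omega) |>.1 h1
  obtain ⟨v, hv0, hv⟩ := Matrix.exists_mulVec_eq_zero_iff.2 hNdet
  have hUv : U *ᵥ v = v := by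
    have : U = N + 1 := by rw [hN]; abel
    rw [this, add_mulVec, hv, one_mulVec, zero_add]
  obtain ⟨w, hw⟩ : ∃ w : Fin n → K, w = fun i => sig hK (v i) := ⟨_, rfl⟩
  have hw0 : w ≠ 0 := by
    intro h
    apply hv0
    ext i
    have := congrFun h i
    rw [hw] at this
    exact (map_eq_zero_iff (sig hK) (sig hK).injective).1 this
  -- `w N = 0`
  have hwU : w ᵥ* st hK U = w := by
    rw [hw, vecMul_st, hUv]
  have hwU' : w ᵥ* U = w := by
    calc w ᵥ* U = (w ᵥ* st hK U) ᵥ* U := by rw [hwU]
      _ = w := by rw [vecMul_vecMul, hUu, vecMul_one]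
  have hwN : w ᵥ* N = 0 := by
    rw [hN, vecMul_sub, hwU', vecMul_one, sub_self]
  -- decomposition of `Z`
  have hZdec1 : Z = algebraMap K _ a + N * aeval N (divX p) := by
    rw [hp]
    conv_lhs => rw [← Polynomial.divX_mul_X_add p]
    rw [map_add, map_mul, aeval_X, aeval_C, add_comm, ← ha]
    congr 1
    exact ((commute_aeval N N (Commute.refl N) _).eq).symm
  have hZdec2 : Z = algebraMap K _ a + aeval N (divX p) * N := by
    rw [hp]
    conv_lhs => rw [← Polynomial.divX_mul_X_add p]
    rw [map_add, map_mul, aeval_X, aeval_C, add_comm, ← ha]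
  have hwZ : w ᵥ* Z = a • w := by
    rw [hZdec1, vecMul_add, ← vecMul_vecMul, hwN, zero_vecMul, add_zero,
      Algebra.algebraMap_eq_smul_one, vecMul_smul, vecMul_one]
  have hZv : Z *ᵥ v = a • v := by
    rw [hZdec2, add_mulVec, ← mulVec_mulVec, hv, mulVec_zero, add_zero,
      Algebra.algebraMap_eq_smul_one, smul_mulVec, one_mulVec]
  have hwZs : w ᵥ* st hK Z = sig hK a • w := by
    rw [hw, vecMul_st, hZv]
    ext i
    simp
  have hfin : w = (sig hK a * a) • w := by
    calc w = w ᵥ* (st hK Z * Z) := by rw [hZu, vecMul_one]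
      _ = (w ᵥ* st hK Z) ᵥ* Z := by rw [vecMul_vecMul]
      _ = (sig hK a * a) • w := by rw [hwZs, smul_vecMul, hwZ, smul_smul]
  obtain ⟨i, hi⟩ : ∃ i, w i ≠ 0 := by
    by_contra hcon
    push Not at hcon
    exact hw0 (funext hcon)
  have := congrFun hfin i
  rw [Pi.smul_apply, smul_eq_mul] at this
  have h2 : (sig hK a * a - 1) * w i = 0 := by rw [sub_mul, one_mul, ← this, sub_self]
  rcases mul_eq_zero.1 h2 with h3 | h3
  · rw [mul_comm]; exact sub_eq_zero.1 h3
  · exact absurd h3 hi

end unitary

section exist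

variable {K : Type*} [Field K] {n : ℕ}

/-- the inverse of a regular unipotent matrix is regular unipotent -/
theorem isRegUnip_inv {A : Matrix (Fin n) (Fin n) K} (hA : IsRegUnip A) (hdet : IsUnit A.det) :
    IsRegUnip A⁻¹ := by
  have h1 : A⁻¹ * A = 1 := nonsing_inv_mul A hdet
  have h2 : A * A⁻¹ = 1 := mul_nonsing_inv A hdet
  have hAi : A⁻¹ - 1 = (-A⁻¹) * (A - 1) := by
    rw [neg_mul, mul_sub, h1, mul_one, neg_sub]
  have hidet : IsUnit (-A⁻¹).det := by
    have h3 : (-A⁻¹) * (-A) = 1 := by rw [neg_mul_neg, h1]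
    have := congrArg det h3
    rw [det_mul, det_one] at this
    exact IsUnit.of_mul_eq_one _ this
  have hcomm : Commute (-A⁻¹) (A - 1) := by
    have hc : Commute A⁻¹ A := by
      change A⁻¹ * A = A * A⁻¹
      rw [h1, h2]
    exact ((hc.sub_right (Commute.one_right _))).neg_left
  refine ⟨?_, ?_⟩
  · rw [hAi, hcomm.mul_pow, hA.1, mul_zero]
  · rw [hAi, Matrix.rank_mul_eq_right_of_isUnit_det _ _ hidet, hA.2]

theorem shiftMat_map (σ : K →+* K) : (shiftMat n K).map σ = shiftMat n K := by
  ext i j
  simp only [shiftMat, map_apply, of_apply]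
  split_ifs <;> simp

end exist

section unitary

variable {K : Type*} [Field K] [Fintype K] {q n : ℕ}

theorem st_sub (hK : Fintype.card K = q ^ 2) (M N : Matrix (Fin n) (Fin n) K) :
    st hK (M - N) = st hK M - st hK N := by
  ext i j
  simp [st]

/-- there is a unitary regular unipotent matrix of determinant one -/
theorem exists_unitary_regUnip (hK : Fintype.card K = q ^ 2) (hn : 1 ≤ n) :
    ∃ B : Matrix (Fin n) (Fin n) K, st hK B * B = 1 ∧ IsRegUnip B ∧ B.det = 1 := by
  classical
  obtain ⟨J, hJ⟩ : ∃ J : Matrix (Fin n) (Fin n) K, J = 1 + shiftMat n K := ⟨_, rfl⟩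
  have hJreg : IsRegUnip J := by rw [hJ]; exact isRegUnip_one_add_shiftMat hn
  have hJdet : J.det = 1 := by rw [hJ]; exact det_one_add_shiftMat
  have hsJ : st hK J = 1 + (shiftMat n K)ᵀ := by
    rw [hJ, st_add, st_one]
    congr 1
    unfold st
    have := shiftMat_map (n := n) (sig hK : K →+* K)
    rw [show (shiftMat n K).map (sig hK) = (shiftMat n K).map (sig hK : K →+* K) from rfl, this]
  have hsJreg : IsRegUnip (st hK J) := by
    rw [hsJ]
    unfold IsRegUnip
    rw [add_sub_cancel_left, ← transpose_pow, shiftMat_pow_eq_zero, transpose_zero,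
      rank_transpose, rank_shiftMat hn]
    exact ⟨rfl, rfl⟩
  have hsJdet : (st hK J).det = 1 := by rw [st_det, hJdet, map_one]
  have hsJunit : IsUnit (st hK J).det := by rw [hsJdet]; exact isUnit_one
  have hJ'reg : IsRegUnip (st hK J)⁻¹ := isRegUnip_inv hsJreg hsJunit
  obtain ⟨P, hP⟩ := hJreg.exists_conj hn hJ'reg
  have hPdet : IsUnit (P : Matrix (Fin n) (Fin n) K).det :=
    (Matrix.isUnit_iff_isUnit_det _).1 P.isUnit
  have hinv : st hK J * (P : Matrix (Fin n) (Fin n) K) * J = (P : Matrix (Fin n) (Fin n) K) := by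
    rw [Matrix.mul_assoc, hP, ← Matrix.mul_assoc, mul_nonsing_inv _ hsJunit, Matrix.one_mul]
  obtain ⟨C, B, hCdet, hB, hCB⟩ := exists_unitary_similar hK J _ hPdet hinv
  refine ⟨B, (isUnitaryMat_iff_st hK B).1 hB, ?_, ?_⟩
  · exact hJreg.conj (Matrix.GeneralLinearGroup.mkOfDetNeZero C hCdet.ne_zero) hCB
  · have := congrArg det hCB
    rw [det_mul, det_mul, hJdet, mul_one, mul_comm] at this
    have h0 : C.det ≠ 0 := hCdet.ne_zero
    have h3 : C.det * (B.det - 1) = 0 := by rw [mul_sub, mul_one, ← this, sub_self]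
    rcases mul_eq_zero.1 h3 with h4 | h4
    · exact absurd h4 h0
    · exact sub_eq_zero.1 h4

end unitary

section unitary

variable {K : Type*} [Field K] [Fintype K] {q n : ℕ}

theorem det_mul_sig_det (hK : Fintype.card K = q ^ 2) {g : Matrix (Fin n) (Fin n) K}
    (hg : st hK g * g = 1) : g.det * sig hK g.det = 1 := by
  have := congrArg det hg
  rw [det_mul, st_det, det_one, mul_comm] at this
  exact this

theorem conj_props (hK : Fintype.card K = q ^ 2) {U g : Matrix (Fin n) (Fin n) K}
    (hUu : st hK U * U = 1) (hUreg : IsRegUnip U) (hUdet : U.det = 1) (hg : st hK g * g = 1) :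
    st hK (g * U * st hK g) * (g * U * st hK g) = 1 ∧ IsRegUnip (g * U * st hK g) ∧
      (g * U * st hK g).det = 1 := by
  have hg' : g * st hK g = 1 := mul_eq_one_comm.1 hg
  refine ⟨?_, ?_, ?_⟩
  · rw [st_mul, st_mul, st_st]
    calc g * (st hK U * st hK g) * (g * U * st hK g)
        = g * (st hK U * ((st hK g * g) * U)) * st hK g := by simp only [Matrix.mul_assoc]
      _ = g * (st hK U * U) * st hK g := by rw [hg, Matrix.one_mul]
      _ = 1 := by rw [hUu, Matrix.mul_one, hg']
  · have hgdet : g.det ≠ 0 := by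
      intro h0
      have := det_mul_sig_det hK hg
      rw [h0, zero_mul] at this
      exact zero_ne_one this
    apply hUreg.conj (Matrix.GeneralLinearGroup.mkOfDetNeZero g hgdet)
    change g * U = g * U * st hK g * g
    rw [Matrix.mul_assoc (g * U), hg, Matrix.mul_one]
  · rw [det_mul, det_mul, hUdet, mul_one, st_det]
    exact det_mul_sig_det hK hg

/-- the key criterion -/
theorem conj_iff (hK : Fintype.card K = q ^ 2) (hn : 1 ≤ n) {U : Matrix (Fin n) (Fin n) K}
    (hUu : st hK U * U = 1) (hUreg : IsRegUnip U) (g g' : Matrix (Fin n) (Fin n) K)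
    (hg : st hK g * g = 1) (hg' : st hK g' * g' = 1) :
    (∃ s : Matrix (Fin n) (Fin n) K, st hK s * s = 1 ∧ s.det = 1 ∧
      s * (g * U * st hK g) = (g' * U * st hK g') * s) ↔
    ∃ a : K, a * sig hK a = 1 ∧ g.det = a ^ n * g'.det := by
  have hgg : g * st hK g = 1 := mul_eq_one_comm.1 hg
  have hgg' : g' * st hK g' = 1 := mul_eq_one_comm.1 hg'
  constructor
  · rintro ⟨s, hsu, hsdet, hs⟩
    obtain ⟨z, hz⟩ : ∃ z, z = st hK g' * s * g := ⟨_, rfl⟩
    have hzu : st hK z * z = 1 := by
      rw [hz, st_mul, st_mul, st_st]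
      calc st hK g * (st hK s * g') * (st hK g' * s * g)
          = st hK g * (st hK s * ((g' * st hK g') * s)) * g := by simp only [Matrix.mul_assoc]
        _ = 1 := by rw [hgg', Matrix.one_mul, hsu, Matrix.mul_one, hg]
    have hzU : z * U = U * z := by
      calc z * U = st hK g' * (s * (g * U * st hK g)) * g := by
            rw [hz]
            simp only [Matrix.mul_assoc]
            rw [hg, Matrix.mul_one]
        _ = st hK g' * ((g' * U * st hK g') * s) * g := by rw [hs]
        _ = (st hK g' * g') * U * (st hK g' * s * g) := by simp only [Matrix.mul_assoc]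
        _ = U * z := by rw [hg', Matrix.one_mul, hz]
    obtain ⟨a, ha1, ha2⟩ := exists_norm_one_det hK hn hUreg hUu z hzu hzU
    refine ⟨a, ha1, ?_⟩
    have hzdet : z.det = sig hK g'.det * g.det := by
      rw [hz, det_mul, det_mul, hsdet, mul_one, st_det]
    rw [← ha2, hzdet, mul_comm (sig hK g'.det), mul_assoc, mul_comm (sig hK g'.det),
      det_mul_sig_det hK hg', mul_one]
  · rintro ⟨a, ha1, ha2⟩
    refine ⟨a • (g' * st hK g), ?_, ?_, ?_⟩
    · rw [st_smul, st_mul, st_st, Matrix.smul_mul, Matrix.mul_smul, smul_smul, mul_comm, ha1,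
        one_smul]
      calc g * st hK g' * (g' * st hK g) = g * ((st hK g' * g') * st hK g) := by
            simp only [Matrix.mul_assoc]
        _ = 1 := by rw [hg', Matrix.one_mul, hgg]
    · rw [det_smul, Fintype.card_fin, det_mul, st_det, ha2, map_mul, map_pow]
      have h1 := det_mul_sig_det hK hg'
      calc a ^ n * (g'.det * (sig hK a ^ n * sig hK g'.det))
          = (a * sig hK a) ^ n * (g'.det * sig hK g'.det) := by ring
        _ = 1 := by rw [ha1, h1, one_pow, one_mul]
    · rw [Matrix.smul_mul, Matrix.mul_smul]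
      congr 1
      calc g' * st hK g * (g * U * st hK g) = g' * ((st hK g * g) * U) * st hK g := by
            simp only [Matrix.mul_assoc]
        _ = g' * U * st hK g := by rw [hg, Matrix.one_mul]
        _ = g' * U * ((st hK g' * g') * st hK g) := by rw [hg', Matrix.one_mul]
        _ = g' * U * st hK g' * (g' * st hK g) := by simp only [Matrix.mul_assoc]

end unitary

end Cfsg.Agent.Lib.Helper37.SURegUnip
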