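import Mathlib
import Cfsg.Agent.Lib.Helper74.SubgroupAvg
import Cfsg.Agent.Lib.Helper80.CharBasic
import Cfsg.Agent.Lib.Helper78.CharValues

set_option autoImplicit false
set_option linter.unusedSectionVars false

namespace Cfsg.Agent.Lib.Helper37.Simple4320

open Cfsg

universe u

section D4Rat

variable {G : Type u} [Group G]

/-- Sum over a cyclic subgroup as a sum over a range of powers. -/
theorem sum_zpowers_eq_sum_range [Finite G] (g : G) (f : G → ℂ) [Fintype (Subgroup.zpowers g)] :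
    ∑ k : Subgroup.zpowers g, f k = ∑ i ∈ Finset.range (orderOf g), f (g ^ i) := by
  rw [← Fin.sum_univ_eq_sum_range (fun i => f (g ^ i)) (orderOf g)]
  rw [← Equiv.sum_comp (finEquivZPowers (isOfFinOrder_of_finite g)) (fun k => f k)]
  apply Finset.sum_congr rfl
  intro i _
  rw [finEquivZPowers_apply]

/-- both `∑ ψ` and `∑ ψ²` over a subgroup are natural multiples of its order. -/
theorem exists_nat_sums [Finite G] {ψ : G → ℂ} (hψ : IsCharacter G ψ) (K : Subgroup G)
    [Fintype K] :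
    ∃ n m : ℕ, ∑ k : K, ψ k = (Nat.card K : ℂ) * n ∧
      ∑ k : K, ψ k * ψ k = (Nat.card K : ℂ) * m := by
  obtain ⟨n, hn⟩ := Cfsg.Agent.Lib.Helper74.exists_nat_sum_subgroup hψ K
  obtain ⟨m, hm⟩ := Cfsg.Agent.Lib.Helper74.exists_nat_sum_subgroup
    (Cfsg.Agent.Lib.Helper80.isCharacter_mul hψ hψ) K
  exact ⟨n, m, hn, by simpa using hm⟩

theorem value_of_order_three [Finite G] {ψ : G → ℂ}
    (hψ : IsCharacter G ψ) (hdeg : ψ 1 = 4) (hfaith : ∀ g : G, ψ g = ψ 1 → g = 1)
    (hrat : ∀ g : G, g ^ 27 = 1 → ψ (g ^ 2) = ψ g) (g : G) (hg : orderOf g = 3) :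
    ψ g = 1 ∨ ψ g = -2 := by
  classical
  have : Fintype (Subgroup.zpowers g) := Fintype.ofFinite _
  have hg3 : g ^ 3 = 1 := by rw [← hg]; exact pow_orderOf_eq_one g
  have hg27 : g ^ 27 = 1 := by
    have : g ^ 27 = (g ^ 3) ^ 9 := by rw [← pow_mul]
    rw [this, hg3, one_pow]
  have h2 := hrat g hg27
  obtain ⟨n, m, hn, hm⟩ := exists_nat_sums hψ (Subgroup.zpowers g)
  rw [sum_zpowers_eq_sum_range g ψ, hg] at hn
  rw [sum_zpowers_eq_sum_range g (fun x => ψ x * ψ x), hg] at hm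
  rw [Nat.card_zpowers, hg] at hn hm
  simp only [Finset.sum_range_succ, Finset.sum_range_zero, pow_zero, pow_one, zero_add, h2,
    hdeg] at hn hm
  set r := ψ g with hr
  -- 4 + r + r = 3 n ; 16 + r r + r r = 3 m
  push_cast at hn hm
  have h2r : (2 : ℂ) * r = 3 * n - 4 := by linear_combination hn
  have hZ : (32 : ℤ) + (3 * (n : ℤ) - 4) ^ 2 = 6 * m := by
    have : (((32 : ℤ) + (3 * (n : ℤ) - 4) ^ 2 : ℤ) : ℂ) = ((6 * m : ℤ) : ℂ) := by
      push_cast
      linear_combination 2 * hm - (2 * r + (3 * (n : ℂ) - 4)) * h2r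
    exact_mod_cast this
  obtain ⟨k, rfl | rfl⟩ := Nat.even_or_odd' n
  · have hrk : r = ((3 * (k : ℤ) - 2 : ℤ) : ℂ) := by
      push_cast at h2r ⊢
      linear_combination h2r / 2
    have hnorm := Cfsg.Agent.Lib.Helper80.norm_char_le hψ g
    have hd : charDegree ψ = 4 := by
      have := Cfsg.Agent.Lib.Helper78.IsCharacter.apply_one_eq_charDegree hψ
      rw [hdeg] at this
      exact_mod_cast this.symm
    rw [← hr, hrk, Complex.norm_intCast, hd] at hnorm
    have hk : |(3 * (k : ℤ) - 2)| ≤ 4 := by exact_mod_cast hnorm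
    rw [abs_le] at hk
    have hk2 : k ≤ 2 := by omega
    interval_cases k
    · right; rw [hrk]; norm_num
    · left; rw [hrk]; norm_num
    · exfalso
      have h4 : ψ g = ψ 1 := by rw [← hr, hrk, hdeg]; norm_num
      have := hfaith g h4
      rw [this, orderOf_one] at hg
      omega
  · exfalso
    push_cast at hZ
    ring_nf at hZ
    omega

theorem no_order_nine [Finite G] {ψ : G → ℂ}
    (hψ : IsCharacter G ψ) (hdeg : ψ 1 = 4) (hfaith : ∀ g : G, ψ g = ψ 1 → g = 1)
    (hrat : ∀ g : G, g ^ 27 = 1 → ψ (g ^ 2) = ψ g) (g : G) : orderOf g ≠ 9 := by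
  classical
  intro hg
  have : Fintype (Subgroup.zpowers g) := Fintype.ofFinite _
  have hg9 : g ^ 9 = 1 := by rw [← hg]; exact pow_orderOf_eq_one g
  have hpow : ∀ j : ℕ, (g ^ j) ^ 27 = 1 := by
    intro j
    have : (g ^ j) ^ 27 = (g ^ 9) ^ (3 * j) := by rw [← pow_mul, ← pow_mul]; congr 1; ring
    rw [this, hg9, one_pow]
  have e2 : ψ (g ^ 2) = ψ g := hrat g (by simpa using hpow 1)
  have e4 : ψ (g ^ 4) = ψ g := by
    have := hrat (g ^ 2) (hpow 2)
    rw [← pow_mul] at this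
    rw [show 4 = 2 * 2 from rfl, this, e2]
  have e8 : ψ (g ^ 8) = ψ g := by
    have := hrat (g ^ 4) (hpow 4)
    rw [← pow_mul] at this
    rw [show 8 = 4 * 2 from rfl, this, e4]
  have e7 : ψ (g ^ 7) = ψ g := by
    have := hrat (g ^ 8) (hpow 8)
    rw [← pow_mul] at this
    have h16 : g ^ (8 * 2) = g ^ 7 := by
      rw [show 8 * 2 = 9 + 7 from rfl, pow_add, hg9, one_mul]
    rw [h16] at this
    rw [this, e8]
  have e5 : ψ (g ^ 5) = ψ g := by
    have := hrat (g ^ 7) (hpow 7)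
    rw [← pow_mul] at this
    have h14 : g ^ (7 * 2) = g ^ 5 := by
      rw [show 7 * 2 = 9 + 5 from rfl, pow_add, hg9, one_mul]
    rw [h14] at this
    rw [this, e7]
  have e6 : ψ (g ^ 6) = ψ (g ^ 3) := by
    have := hrat (g ^ 3) (hpow 3)
    rw [← pow_mul] at this
    exact this
  have ho3 : orderOf (g ^ 3) = 3 := by
    rw [orderOf_pow' g (by norm_num : (3 : ℕ) ≠ 0), hg]
    rfl
  have h3 := value_of_order_three hψ hdeg hfaith hrat (g ^ 3) ho3
  obtain ⟨n, m, hn, hm⟩ := exists_nat_sums hψ (Subgroup.zpowers g)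
  rw [sum_zpowers_eq_sum_range g ψ, hg] at hn
  rw [sum_zpowers_eq_sum_range g (fun x => ψ x * ψ x), hg] at hm
  rw [Nat.card_zpowers, hg] at hn hm
  simp only [Finset.sum_range_succ, Finset.sum_range_zero, pow_zero, pow_one, zero_add, e2, e4,
    e5, e6, e7, e8, hdeg] at hn hm
  set r := ψ g with hr
  push_cast at hn hm
  rcases h3 with h3 | h3
  · rw [h3] at hn hm
    have h2r : (2 : ℂ) * r = 3 * n - 2 := by linear_combination hn / 3
    have hZ : (9 : ℤ) * n ^ 2 - 12 * n + 16 = 6 * m := by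
      have : (((9 : ℤ) * n ^ 2 - 12 * n + 16 : ℤ) : ℂ) = ((6 * m : ℤ) : ℂ) := by
        push_cast
        linear_combination (2 / 3 : ℂ) * hm - (2 * r + (3 * (n : ℂ) - 2)) * h2r
      exact_mod_cast this
    have : ((n : ℤ) ^ 2) = (n : ℤ) * n := sq _
    omega
  · rw [h3] at hn hm
    have h2r : (2 : ℂ) * r = 3 * n := by linear_combination hn / 3
    have hZ : (9 : ℤ) * n ^ 2 + 16 = 6 * m := by
      have : (((9 : ℤ) * n ^ 2 + 16 : ℤ) : ℂ) = ((6 * m : ℤ) : ℂ) := by
        push_cast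
        linear_combination (2 / 3 : ℂ) * hm - (2 * r + (3 * (n : ℂ))) * h2r
      exact_mod_cast this
    omega

/-- **S0977-[D4RAT]**: a faithful character of degree 4 which is rational on 3-elements cannot
exist in a group with a subgroup of order 27. -/
theorem false_of_degree_four_of_card_27 [Finite G] {ψ : G → ℂ}
    (hψ : Cfsg.IsCharacter G ψ) (hdeg : ψ 1 = 4) (hfaith : ∀ g : G, ψ g = ψ 1 → g = 1)
    (hrat : ∀ g : G, g ^ 27 = 1 → ψ (g ^ 2) = ψ g)
    (R : Subgroup G) (hR : Nat.card R = 27) : False := by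
  classical
  have : Fintype R := Fintype.ofFinite _
  have hval : ∀ k ∈ R, k ≠ 1 → ψ k * ψ k + ψ k = 2 := by
    intro k hk hk1
    have hdvd : orderOf k ∣ 27 := by
      rw [← hR]
      have := orderOf_dvd_natCard (⟨k, hk⟩ : R)
      rwa [Subgroup.orderOf_mk] at this
    have h27 : (27 : ℕ) = 3 ^ 3 := by norm_num
    rw [h27, Nat.dvd_prime_pow Nat.prime_three] at hdvd
    obtain ⟨j, hj, hoj⟩ := hdvd
    have h3 : orderOf k = 3 := by
      interval_cases j
      · exfalso; apply hk1; rwa [pow_zero, orderOf_eq_one_iff] at hoj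
      · simpa using hoj
      · exfalso; exact no_order_nine hψ hdeg hfaith hrat k (by simpa using hoj)
      · exfalso
        apply no_order_nine hψ hdeg hfaith hrat (k ^ 3)
        rw [orderOf_pow' k (by norm_num : (3 : ℕ) ≠ 0), hoj]
        rfl
    rcases value_of_order_three hψ hdeg hfaith hrat k h3 with h | h <;> rw [h] <;> norm_num
  obtain ⟨n, m, hn, hm⟩ := exists_nat_sums hψ R
  have hsum := Cfsg.Agent.Lib.Helper74.sum_subgroup_of_const R (fun g => ψ g * ψ g + ψ g) 2 hval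
  simp only [Finset.sum_add_distrib, hn, hm, hR, hdeg] at hsum
  have : ((27 * (m + n) : ℕ) : ℂ) = ((72 : ℕ) : ℂ) := by
    push_cast
    push_cast at hsum
    linear_combination hsum
  have h' : 27 * (m + n) = 72 := by exact_mod_cast this
  omega

end D4Rat

end Cfsg.Agent.Lib.Helper37.Simple4320
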