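/-
helper37 library: self-reciprocal irreducible factors of cyclotomic polynomials, and the
characteristic polynomial of a symplectic matrix.
-/
import Mathlib
import Cfsg.Agent.Lib.Helper37.CycloDual
import Cfsg.Agent.Lib.Helper40.SemisimpleGL
import Cfsg.Agent.Lib.Helper40.CharpolyExtra

set_option autoImplicit false

namespace Cfsg.Agent.Lib.Helper37.SpCount

open Matrix Polynomial Cfsg.Agent.Lib.Helper37.DualPoly Cfsg.Agent.Lib.Helper37.CycloDual
  Cfsg.Agent.Lib.Helper40

section cyclo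

variable {K : Type*} [Field K] [Fintype K]

/-- an irreducible factor of the `r`-th cyclotomic polynomial over a finite field `K` is
self-reciprocal iff `-1` is a power of `|K|` modulo `r` -/
theorem rdual_eq_self_iff {r : ℕ} (hr : r.Prime) {m : K[X]}
    (hm : m.Monic) (hirr : Irreducible m) (hdvd : m ∣ X ^ r - 1) (hne : m ≠ X - 1)
    (hdeg : m.natDegree = orderOf ((Fintype.card K : ℕ) : ZMod r)) :
    rdual m = m ↔ ∃ k : ℕ, (-1 : ZMod r) = ((Fintype.card K : ℕ) : ZMod r) ^ k := by
  classical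
  have : Fact (Irreducible m) := ⟨hirr⟩
  have : Fact r.Prime := ⟨hr⟩
  set ζ : AdjoinRoot m := AdjoinRoot.root m with hζ
  have hζm : aeval ζ m = 0 := by
    rw [AdjoinRoot.aeval_eq, AdjoinRoot.mk_self]
  have hζr : ζ ^ r = 1 := by
    obtain ⟨c, hc⟩ := hdvd
    have := congrArg (aeval ζ) hc
    rw [map_mul, hζm, zero_mul, map_sub, map_pow, aeval_X, map_one] at this
    exact sub_eq_zero.1 this
  have hζ0 : ζ ≠ 0 := by
    intro h0
    rw [h0, zero_pow hr.ne_zero] at hζr
    exact zero_ne_one hζr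
  have hm0 : m.coeff 0 ≠ 0 := by
    intro h0
    have h1 : (X : K[X]) ∣ X ^ r - 1 := (X_dvd_iff.2 h0).trans hdvd
    rw [X_dvd_iff, coeff_sub, coeff_X_pow, coeff_one_zero, if_neg hr.ne_zero.symm, zero_sub] at h1
    exact one_ne_zero (neg_eq_zero.1 h1)
  have hμmon : (rdual m).Monic := rdual_monic hm0
  have hμirr : Irreducible (rdual m) := rdual_irreducible hm hirr hm0
  have step1 : rdual m = m ↔ aeval ζ (rdual m) = 0 := by
    constructor
    · intro h; rw [h]; exact hζm
    · intro h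
      rw [AdjoinRoot.aeval_eq, AdjoinRoot.mk_eq_zero] at h
      exact (eq_of_monic_of_associated hm hμmon (hirr.associated_of_dvd hμirr h)).symm
  have hζinv : ζ⁻¹ = ζ ^ (r - 1) := by
    apply inv_eq_of_mul_eq_one_right
    rw [← pow_succ', Nat.sub_add_cancel hr.one_lt.le, hζr]
  rw [step1, aeval_rdual_eq_zero_iff hm0 hζ0, hζinv,
    aeval_root_pow_eq_zero_iff hr hm hirr hdvd hne hdeg (r - 1)]
  have hcast : ((r - 1 : ℕ) : ZMod r) = -1 := by
    rw [Nat.cast_sub hr.one_lt.le, ZMod.natCast_self, Nat.cast_one, zero_sub]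
  rw [hcast]

end cyclo

/-- `-1` is a power of `x` modulo an odd prime iff the order of `x` is even -/
theorem exists_neg_one_eq_pow_iff {r : ℕ} (hr : r.Prime) (hr2 : r ≠ 2) (x : ZMod r) (hx : x ≠ 0) :
    (∃ k : ℕ, (-1 : ZMod r) = x ^ k) ↔ Even (orderOf x) := by
  have : Fact r.Prime := ⟨hr⟩
  have hne1 : (-1 : ZMod r) ≠ 1 := by
    intro h
    have h2 : (2 : ZMod r) = 0 := by
      have : (1 : ZMod r) + 1 = 0 := by
        nth_rewrite 1 [← h]; ring
      rw [← this]; norm_num
    have h3 : ((2 : ℕ) : ZMod r) = 0 := by exact_mod_cast h2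
    rw [ZMod.natCast_eq_zero_iff] at h3
    exact hr2 ((Nat.prime_dvd_prime_iff_eq hr Nat.prime_two).1 h3)
  have hipos : 0 < orderOf x := by
    apply orderOf_pos_iff.2
    exact isOfFinOrder_iff_pow_eq_one.2 ⟨r - 1, by have := hr.two_le; omega,
      ZMod.pow_card_sub_one_eq_one hx⟩
  constructor
  · rintro ⟨k, hk⟩
    by_contra hodd
    rw [Nat.not_even_iff_odd] at hodd
    have h1 : x ^ (2 * k) = 1 := by rw [mul_comm, pow_mul, ← hk, neg_one_sq]
    have h2 : orderOf x ∣ 2 * k := orderOf_dvd_of_pow_eq_one h1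
    have hcop : Nat.Coprime (orderOf x) 2 := Nat.Coprime.symm (Nat.coprime_two_left.2 hodd)
    have h3 : orderOf x ∣ k := hcop.dvd_of_dvd_mul_left h2
    rw [orderOf_dvd_iff_pow_eq_one, ← hk] at h3
    exact hne1 h3
  · rintro ⟨j, hj⟩
    refine ⟨j, ?_⟩
    have hjpos : 0 < j := by omega
    have h1 : (x ^ j) * (x ^ j) = 1 := by rw [← pow_add, ← hj, pow_orderOf_eq_one]
    have h2 : x ^ j ≠ 1 := by
      intro h
      have := orderOf_dvd_of_pow_eq_one h
      have := Nat.le_of_dvd hjpos this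
      omega
    have h3 : (x ^ j - 1) * (x ^ j + 1) = 0 := by linear_combination h1
    rcases mul_eq_zero.1 h3 with h | h
    · exact absurd (sub_eq_zero.1 h) h2
    · exact (eq_neg_of_add_eq_zero_left h).symm

section symp

variable {F : Type*} [Field F] {l : Type*} [Fintype l] [DecidableEq l]

/-- the characteristic polynomial of a symplectic matrix is self-reciprocal -/
theorem rdual_charpoly_of_mem_symplecticGroup (g : Matrix (l ⊕ l) (l ⊕ l) F)
    (hg : g ∈ symplecticGroup l F) : rdual g.charpoly = g.charpoly := by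
  have hdet : IsUnit g.det := SymplecticGroup.symplectic_det hg
  rw [← charpoly_inv g hdet, SymplecticGroup.inv_eq_symplectic_inv g hg]
  have hJ1 : (-J l F) * J l F = 1 := by rw [Matrix.neg_mul, J_squared, neg_neg]
  have hJ2 : J l F * (-J l F) = 1 := by rw [Matrix.mul_neg, J_squared, neg_neg]
  let U : (Matrix (l ⊕ l) (l ⊕ l) F)ˣ := ⟨-J l F, J l F, hJ1, hJ2⟩
  have h1 : -J l F * gᵀ * J l F = U.val * gᵀ * U⁻¹.val := rfl
  rw [h1, Matrix.coe_units_inv, Matrix.charpoly_units_conj, charpoly_transpose]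

variable [Fintype F]

/-- semisimplicity and the factors of the characteristic polynomial of a matrix of order prime to
the characteristic (general index type) -/
theorem factors_of_pow_eq_one {ι : Type*} [Fintype ι] [DecidableEq ι] (g : Matrix ι ι F) (r : ℕ)
    (hrF : (r : F) ≠ 0) (hgr : g ^ r = 1) :
    Module.End.IsSemisimple (Matrix.toLin' g) ∧
      ∀ m : F[X], m.Monic → Irreducible m → m ∣ g.charpoly → m ∣ X ^ r - 1 := by
  have hss := isSemisimple_toLin'_of_pow_eq_one g r hrF hgr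
  refine ⟨hss, ?_⟩
  intro m hm hirr hdvd
  by_contra hnd
  set φ := Matrix.toLin' g with hφ
  have hφr : aeval φ (X ^ r - 1 : F[X]) = 0 := by
    have h1 : φ ^ r = 1 := by
      have : φ = Matrix.toLinAlgEquiv' g := rfl
      rw [this, ← map_pow, hgr, map_one]
    simp [h1]
  obtain ⟨v, hv, hmv⟩ := exists_ne_zero_aeval_eq_zero_of_dvd_charpoly _ φ rfl hss m hm hirr
    (by rw [hφ, Matrix.charpoly_toLin']; exact hdvd)
  have hcop : IsCoprime m (X ^ r - 1 : F[X]) := (Irreducible.coprime_iff_not_dvd hirr).mpr hnd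
  obtain ⟨a, b, hab⟩ := hcop
  apply hv
  have h2 : aeval φ (a * m + b * (X ^ r - 1)) v = v := by rw [hab]; simp
  rw [map_add, map_mul, map_mul, hφr, mul_zero, add_zero, Module.End.mul_apply, hmv, map_zero] at h2
  exact h2.symm

end symp

end Cfsg.Agent.Lib.Helper37.SpCount
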