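import Mathlib
import Cfsg.Prelude.Def_LieClassical
import Cfsg.Agent.Lib.Helper5.UnitarySU
import Cfsg.Agent.Lib.Helper36.HermOrtho
import Cfsg.Agent.Lib.Helper37.GUFieldAut

/-!
The centraliser in a symplectic group of an element `x` with `x² + x + 1 = 0`, when the ground
field `F` has no primitive cube root of unity: `F[x]` is a quadratic extension field `K`, the space
is a `K`-space carrying a Hermitian form, and the centraliser is its unitary group.

This file: the abstract part (a space `V` over `F` and `K`, an `F`-bilinear alternating form).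
-/

set_option autoImplicit false
set_option linter.unusedSectionVars false

namespace Cfsg.Agent.Lib.Helper37

open Matrix Cfsg Cfsg.Agent.Lib.Helper5 Module

section cubic
variable {F K V : Type*} [Field F] [Field K] [Algebra F K] [AddCommGroup V] [Module F V]
  [Module K V] [IsScalarTower F K V]

/-- the Hermitian form attached to the alternating form `f` and the cube root of unity `ω` -/
def B0 (ω : K) (f : V →ₗ[F] V →ₗ[F] F) (u v : V) : K :=
  ω ^ 2 * (algebraMap F K (f u v) - ω * algebraMap F K (f u (ω • v)))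

variable (ω : K) (f : V →ₗ[F] V →ₗ[F] F)

theorem omega_cube (hω : ω ^ 2 + ω + 1 = 0) : ω ^ 3 = 1 := by
  linear_combination (ω - 1) * hω

theorem omega_smul_smul (hω : ω ^ 2 + ω + 1 = 0) (v : V) : ω • ω • v = -v - ω • v := by
  have h : (ω ^ 2 + ω + 1) • v = 0 := by rw [hω, zero_smul]
  rw [add_smul, add_smul, one_smul, pow_two, mul_smul] at h
  linear_combination (norm := module) h

theorem omega_smul_cube (hω : ω ^ 2 + ω + 1 = 0) (v : V) : ω • ω • ω • v = v := by
  rw [← mul_smul, ← mul_smul]
  have : ω * ω * ω = 1 := by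
    have := omega_cube ω hω
    rw [← this]; ring
  rw [this, one_smul]

theorem f_smul_left (hω : ω ^ 2 + ω + 1 = 0) (hf_inv : ∀ u v, f (ω • u) (ω • v) = f u v)
    (u v : V) : f (ω • u) v = f u (ω • ω • v) := by
  conv_lhs => rw [← omega_smul_cube ω hω v]
  rw [hf_inv]

theorem B0_add_left (u u' v : V) : B0 ω f (u + u') v = B0 ω f u v + B0 ω f u' v := by
  unfold B0
  simp only [map_add, LinearMap.add_apply]
  ring

theorem B0_add_right (u v v' : V) : B0 ω f u (v + v') = B0 ω f u v + B0 ω f u v' := by
  unfold B0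
  simp only [map_add, smul_add]
  ring

theorem B0_smul_right_F (a : F) (u v : V) :
    B0 ω f u (a • v) = algebraMap F K a * B0 ω f u v := by
  unfold B0
  rw [smul_comm ω a v]
  simp only [map_smul, smul_eq_mul, map_mul]
  ring

theorem B0_smul_left_F (a : F) (u v : V) :
    B0 ω f (a • u) v = algebraMap F K a * B0 ω f u v := by
  unfold B0
  simp only [map_smul, LinearMap.smul_apply, smul_eq_mul, map_mul]
  ring

theorem B0_smul_right_omega (hω : ω ^ 2 + ω + 1 = 0) (u v : V) :
    B0 ω f u (ω • v) = ω * B0 ω f u v := by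
  unfold B0
  rw [omega_smul_smul ω hω v]
  simp only [map_sub, map_neg]
  linear_combination (ω ^ 2 * algebraMap F K (f u (ω • v))) * hω

theorem B0_smul_left_omega (hω : ω ^ 2 + ω + 1 = 0)
    (hf_inv : ∀ u v, f (ω • u) (ω • v) = f u v) (u v : V) :
    B0 ω f (ω • u) v = ω ^ 2 * B0 ω f u v := by
  unfold B0
  rw [hf_inv, f_smul_left ω f hω hf_inv, omega_smul_smul ω hω v]
  simp only [map_sub, map_neg]
  linear_combination (- ω ^ 2 * algebraMap F K (f u v) +
    ω ^ 2 * (ω - 1) * algebraMap F K (f u (ω • v))) * hω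

end cubic

section cubic2
variable {F K V : Type*} [Field F] [Field K] [Fintype K] [Algebra F K] [AddCommGroup V]
  [Module F V] [Module K V] [IsScalarTower F K V]
variable {q : ℕ} (hK : Fintype.card K = q ^ 2) (ω : K) (hω : ω ^ 2 + ω + 1 = 0)
  (hωq : ω ^ q = ω ^ 2)
  (hFq : ∀ a : F, algebraMap F K a ^ q = algebraMap F K a)
  (hspan : ∀ k : K, ∃ a b : F, k = algebraMap F K a + algebraMap F K b * ω)
  (hωF : ∀ a : F, algebraMap F K a ≠ ω)
  (f : V →ₗ[F] V →ₗ[F] F) (hf_alt : ∀ u v, f v u = - f u v)
  (hf_nd : ∀ u, (∀ v, f u v = 0) → u = 0)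
  (hf_inv : ∀ u v, f (ω • u) (ω • v) = f u v)

include hωF in
theorem coords_unique (a b : F) (h : algebraMap F K a = ω * algebraMap F K b) :
    a = 0 ∧ b = 0 := by
  by_cases hb : b = 0
  · subst hb
    rw [map_zero, mul_zero] at h
    exact ⟨(map_eq_zero _).1 h, rfl⟩
  · exfalso
    apply hωF (a / b)
    rw [map_div₀, h]
    have : algebraMap F K b ≠ 0 := fun h0 => hb ((map_eq_zero _).1 h0)
    field_simp

include hspan hω in
theorem B0_smul_right (k : K) (u v : V) : B0 ω f u (k • v) = k * B0 ω f u v := by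
  obtain ⟨a, b, rfl⟩ := hspan k
  rw [add_smul, mul_smul, algebraMap_smul, algebraMap_smul, B0_add_right, B0_smul_right_F,
    B0_smul_right_F, B0_smul_right_omega ω f hω]
  ring

include hspan hω hK hωq hFq hf_inv in
theorem B0_smul_left (k : K) (u v : V) : B0 ω f (k • u) v = k ^ q * B0 ω f u v := by
  obtain ⟨a, b, rfl⟩ := hspan k
  rw [add_smul, mul_smul, algebraMap_smul, algebraMap_smul, B0_add_left, B0_smul_left_F,
    B0_smul_left_F, B0_smul_left_omega ω f hω hf_inv, add_pow_q hK, mul_pow, hFq, hFq, hωq]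
  ring

include hω hK hωq hFq hf_inv hf_alt in
theorem B0_symm (u v : V) : B0 ω f u v ^ q = B0 ω f v u := by
  unfold B0
  rw [mul_pow, sub_pow_q hK, mul_pow, hFq, hFq, ← pow_mul, mul_comm 2 q, pow_mul, hωq,
    hf_alt u v, hf_alt (ω • u) v, f_smul_left ω f hω hf_inv, omega_smul_smul ω hω v]
  simp only [map_sub, map_neg]
  linear_combination (ω ^ 2 * algebraMap F K (f u v) -
    ω ^ 3 * (ω - 1) * algebraMap F K (f u (ω • v))) * hω


include hω in
theorem omega_ne_zero : ω ≠ 0 := by
  intro h
  rw [h] at hω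
  simp at hω

include hω hωF in
theorem f_eq_of_B0_eq (u v u' v' : V) (h : B0 ω f u v = B0 ω f u' v') : f u v = f u' v' := by
  unfold B0 at h
  have h0 := omega_ne_zero ω hω
  have h1 := mul_left_cancel₀ (pow_ne_zero 2 h0) h
  have h2 : algebraMap F K (f u v - f u' v') =
      ω * algebraMap F K (f u (ω • v) - f u' (ω • v')) := by
    rw [map_sub, map_sub]
    linear_combination h1
  have := (coords_unique ω hωF _ _ h2).1
  exact sub_eq_zero.1 this

include hω hωF hf_nd in
theorem B0_nondeg (u : V) (h : ∀ v, B0 ω f u v = 0) : u = 0 := by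
  apply hf_nd
  intro v
  have h1 : B0 ω f u v = B0 ω f u 0 := by
    rw [h v, h 0]
  have := f_eq_of_B0_eq ω hω hωF f u v u 0 h1
  rw [this, map_zero]

/-- the Hermitian form as a sesquilinear map -/
noncomputable def Bform : V →ₛₗ[conjHom hK] V →ₗ[K] K :=
  LinearMap.mk₂'ₛₗ (conjHom hK) (RingHom.id K) (B0 ω f)
    (fun u u' v => B0_add_left ω f u u' v)
    (fun k u v => by
      rw [B0_smul_left hK ω hω hωq hFq hspan f hf_inv]
      rfl)
    (fun u v v' => B0_add_right ω f u v v')
    (fun k u v => by
      rw [B0_smul_right ω hω hspan f]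
      rfl)

theorem Bform_apply (u v : V) :
    Bform hK ω hω hωq hFq hspan f hf_inv u v = B0 ω f u v := rfl


include hK hω hωq hFq hspan hωF hf_alt hf_nd hf_inv in
/-- coordinates of `V` over `K` in which the form `B0` is the standard Hermitian form -/
theorem exists_unitary_coords [FiniteDimensional K V] :
    ∃ T : (Fin (finrank K V) → K) ≃ₗ[K] V,
      ∀ c d, B0 ω f (T c) (T d) = hermForm (finrank K V) K q d c := by
  classical
  have hne : conjHom hK ≠ RingHom.id K := by
    intro h
    have h1 : conjHom hK ω = ω := by rw [h]; rfl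
    rw [conjHom_apply, hωq] at h1
    have h0 := omega_ne_zero ω hω
    have h2 : ω = 1 := by
      have : ω * ω = ω * 1 := by rw [mul_one, ← pow_two, h1]
      exact mul_left_cancel₀ h0 this
    apply hωF 1
    rw [map_one, h2]
  have hS : (Bform hK ω hω hωq hFq hspan f hf_inv).IsSymm := by
    constructor
    intro u v
    rw [Bform_apply, Bform_apply, conjHom_apply]
    exact B0_symm hK ω hω hωq hFq f hf_alt hf_inv u v
  have hL : (Bform hK ω hω hωq hFq hspan f hf_inv).SeparatingLeft := by
    intro u hu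
    exact B0_nondeg ω hω hωF f hf_nd u hu
  have hND : (Bform hK ω hω hωq hFq hspan f hf_inv).Nondegenerate := by
    refine ⟨hL, ?_⟩
    intro v hv
    apply hL
    intro u
    rw [← hS.eq, hv u, map_zero]
  obtain ⟨b, hb⟩ := Cfsg.Agent.Lib.Helper36.exists_orthonormal_basis (conjHom hK) hne
    (conjHom_conjHom hK) (Bform hK ω hω hωq hFq hspan f hf_inv) hS hND
  refine ⟨b.equivFun.symm, ?_⟩
  intro c d
  rw [← Bform_apply hK ω hω hωq hFq hspan f hf_inv, Basis.equivFun_symm_apply,
    Basis.equivFun_symm_apply]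
  simp only [map_sum, LinearMap.sum_apply, map_smulₛₗ, LinearMap.smul_apply, hb, smul_eq_mul,
    mul_ite, mul_one, mul_zero, RingHom.id_apply, conjHom_apply]
  unfold hermForm
  apply Finset.sum_congr rfl
  intro i _
  rw [Finset.sum_ite_eq' Finset.univ i (fun x => c x ^ q), if_pos (Finset.mem_univ i)]


/-- the `F`-linear automorphisms commuting with `ω` and preserving `f` -/
abbrev CentF (ω : K) (f : V →ₗ[F] V →ₗ[F] F) : Type _ :=
  {h : V ≃ₗ[F] V // (∀ v, h (ω • v) = ω • h v) ∧ ∀ u v, f (h u) (h v) = f u v}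

omit [Fintype K] in
include hspan in
theorem map_smul_of_comm (h : V ≃ₗ[F] V) (hh : ∀ v, h (ω • v) = ω • h v) (k : K) (v : V) :
    h (k • v) = k • h v := by
  obtain ⟨a, b, rfl⟩ := hspan k
  rw [add_smul, mul_smul, algebraMap_smul, algebraMap_smul, map_add, map_smul, map_smul, hh,
    add_smul, mul_smul, algebraMap_smul, algebraMap_smul]

omit [Fintype K] in
theorem B0_map (h : V ≃ₗ[F] V) (hh : ∀ v, h (ω • v) = ω • h v)
    (hf : ∀ u v, f (h u) (h v) = f u v) (u v : V) : B0 ω f (h u) (h v) = B0 ω f u v := by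
  unfold B0
  rw [← hh, hf, hf]

include hK hω hωq hFq hspan hωF hf_alt hf_nd hf_inv in
theorem card_centF [FiniteDimensional K V] :
    Nat.card (CentF ω f) = Nat.card (GU (finrank K V) K q) := by
  classical
  obtain ⟨T, hT⟩ := exists_unitary_coords hK ω hω hωq hFq hspan hωF f hf_alt hf_nd hf_inv
  symm
  apply Nat.card_congr
  refine Equiv.ofBijective (fun g => ⟨((T.symm.trans
    (Matrix.toLinearEquiv' g.1.1 (Units.invertible g.1))).trans T).restrictScalars F, ?_, ?_⟩)
    ⟨?_, ?_⟩
  · intro v
    simp only [LinearEquiv.restrictScalars_apply, LinearEquiv.trans_apply, map_smul]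
  · intro u v
    simp only [LinearEquiv.restrictScalars_apply, LinearEquiv.trans_apply]
    apply f_eq_of_B0_eq ω hω hωF f
    rw [hT]
    have h1 : ∀ w, (Matrix.toLinearEquiv' g.1.1 (Units.invertible g.1)) w = g.1.1 *ᵥ w := by
      intro w
      rw [← LinearEquiv.coe_coe, Matrix.toLinearEquiv'_apply, Matrix.toLin'_apply]
    rw [h1, h1, GU_preserves, ← hT, LinearEquiv.apply_symm_apply, LinearEquiv.apply_symm_apply]
  · intro g g' hgg
    have h1 : ∀ c, g.1.1 *ᵥ c = g'.1.1 *ᵥ c := by
      intro c
      have h2 := congrArg (fun y => y.1 (T c)) hgg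
      simp only [LinearEquiv.restrictScalars_apply, LinearEquiv.trans_apply,
        LinearEquiv.symm_apply_apply] at h2
      have h3 := T.injective h2
      rw [← LinearEquiv.coe_coe, ← LinearEquiv.coe_coe, Matrix.toLinearEquiv'_apply,
        Matrix.toLinearEquiv'_apply, Matrix.toLin'_apply, Matrix.toLin'_apply] at h3
      exact h3
    apply GU_ext
    apply Matrix.toLin'.injective
    apply LinearMap.ext
    intro c
    rw [Matrix.toLin'_apply, Matrix.toLin'_apply]
    exact h1 c
  · rintro ⟨h, hh, hf⟩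
    have hsm := map_smul_of_comm ω hspan h hh
    -- the `K`-linear equivalence
    let hKl : V ≃ₗ[K] V :=
      { toFun := h
        invFun := h.symm
        map_add' := map_add h
        map_smul' := hsm
        left_inv := h.left_inv
        right_inv := h.right_inv }
    let E : (Fin (finrank K V) → K) ≃ₗ[K] (Fin (finrank K V) → K) := (T.trans hKl).trans T.symm
    have hEapp : ∀ c, E c = T.symm (h (T c)) := fun c => rfl
    have hmul : LinearMap.toMatrix' E.toLinearMap *
        LinearMap.toMatrix' E.symm.toLinearMap = 1 := by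
      rw [← LinearMap.toMatrix'_comp]
      have : E.toLinearMap ∘ₗ E.symm.toLinearMap
          = LinearMap.id := by
        ext c : 1
        simp
      rw [this, LinearMap.toMatrix'_id]
    have hmul' : LinearMap.toMatrix' E.symm.toLinearMap *
        LinearMap.toMatrix' E.toLinearMap = 1 := by
      rw [← LinearMap.toMatrix'_comp]
      have : E.symm.toLinearMap ∘ₗ E.toLinearMap
          = LinearMap.id := by
        ext c : 1
        simp
      rw [this, LinearMap.toMatrix'_id]
    have hAv : ∀ c, LinearMap.toMatrix' E.toLinearMap *ᵥ c = E c := by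
      intro c
      rw [LinearMap.toMatrix'_mulVec]
      rfl
    have hpres : ∀ c d, hermForm (finrank K V) K q
        (LinearMap.toMatrix' E.toLinearMap *ᵥ c)
        (LinearMap.toMatrix' E.toLinearMap *ᵥ d) =
        hermForm (finrank K V) K q c d := by
      intro c d
      rw [hAv, hAv, ← hT, hEapp, hEapp, LinearEquiv.apply_symm_apply, LinearEquiv.apply_symm_apply,
        B0_map ω f h hh hf, hT]
    refine ⟨GUofPreserves hK _ hpres, ?_⟩
    apply Subtype.ext
    apply LinearEquiv.ext
    intro v
    simp only [LinearEquiv.restrictScalars_apply, LinearEquiv.trans_apply]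
    rw [← LinearEquiv.coe_coe (Matrix.toLinearEquiv' _ _), Matrix.toLinearEquiv'_apply,
      Matrix.toLin'_apply, GUofPreserves_coe, hAv, hEapp, LinearEquiv.apply_symm_apply,
      LinearEquiv.apply_symm_apply]

end cubic2

end Cfsg.Agent.Lib.Helper37
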