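import Mathlib
import Cfsg.Agent.Lib.Helper37.SpCubic

/-!
The centraliser in `Sp_2m(F)` of a symplectic matrix `x` with `x² + x + 1 = 0`, when `F` has no
primitive cube root of unity, has the order of `GU_m(q)`: the matrix part.
-/

set_option autoImplicit false
set_option linter.unusedSectionVars false

namespace Cfsg.Agent.Lib.Helper37

open Matrix Cfsg Cfsg.Agent.Lib.Helper5 Module

section mat
variable {F K : Type*} [Field F] [Field K] [Fintype K] [Algebra F K] {m q : ℕ}

/-- the alternating form of the symplectic group -/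
noncomputable def sympF (m : ℕ) (F : Type*) [Field F] :
    (Fin m ⊕ Fin m → F) →ₗ[F] (Fin m ⊕ Fin m → F) →ₗ[F] F :=
  Matrix.toLinearMap₂' F (J (Fin m) F)

theorem sympF_apply (u v : Fin m ⊕ Fin m → F) : sympF m F u v = u ⬝ᵥ (J (Fin m) F *ᵥ v) :=
  Matrix.toLinearMap₂'_apply' _ _ _

theorem sympF_alt (u v : Fin m ⊕ Fin m → F) : sympF m F v u = - sympF m F u v := by
  rw [sympF_apply, sympF_apply, dotProduct_mulVec, ← mulVec_transpose, J_transpose, neg_mulVec,
    neg_dotProduct, dotProduct_comm]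

theorem sympF_nondeg (u : Fin m ⊕ Fin m → F) (h : ∀ v, sympF m F u v = 0) : u = 0 := by
  have h1 : ∀ v, u ⬝ᵥ v = 0 := by
    intro v
    have := h (-(J (Fin m) F) *ᵥ v)
    rw [sympF_apply, mulVec_mulVec, mul_neg, J_squared, neg_neg, one_mulVec] at this
    exact this
  funext i
  have := h1 (Pi.single i 1)
  simpa using this

theorem sympF_map (A : Matrix (Fin m ⊕ Fin m) (Fin m ⊕ Fin m) F)
    (hA : A ∈ symplecticGroup (Fin m) F) (u v : Fin m ⊕ Fin m → F) :
    sympF m F (A *ᵥ u) (A *ᵥ v) = sympF m F u v := by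
  rw [SymplecticGroup.mem_iff'] at hA
  rw [sympF_apply, sympF_apply, ← vecMul_transpose A u, ← dotProduct_mulVec, mulVec_mulVec,
    mulVec_mulVec, hA]


theorem mat_eq_of_dot {n : Type*} [Fintype n] [DecidableEq n] (M N : Matrix n n F)
    (h : ∀ u v : n → F, u ⬝ᵥ (M *ᵥ v) = u ⬝ᵥ (N *ᵥ v)) : M = N := by
  ext i j
  have := h (Pi.single i 1) (Pi.single j 1)
  simpa using this

/-- the linear automorphism of a symplectic matrix -/
noncomputable def sympLE (A : symplecticGroup (Fin m) F) :
    (Fin m ⊕ Fin m → F) ≃ₗ[F] (Fin m ⊕ Fin m → F) :=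
  Matrix.toLinearEquiv' A.1 ⟨(A⁻¹).1, by
    have := congrArg Subtype.val (inv_mul_cancel A)
    rw [Submonoid.coe_mul, Submonoid.coe_one] at this
    exact this, by
    have := congrArg Subtype.val (mul_inv_cancel A)
    rw [Submonoid.coe_mul, Submonoid.coe_one] at this
    exact this⟩

theorem sympLE_apply (A : symplecticGroup (Fin m) F) (v : Fin m ⊕ Fin m → F) :
    sympLE A v = A.1 *ᵥ v := by
  unfold sympLE
  rw [← LinearEquiv.coe_coe, Matrix.toLinearEquiv'_apply, Matrix.toLin'_apply]

theorem card_centralizer_cubic_aux (hK : Fintype.card K = q ^ 2) (h2 : finrank F K = 2)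
    (ω : K) (hω : ω ^ 2 + ω + 1 = 0) (hωq : ω ^ q = ω ^ 2)
    (hFq : ∀ a : F, algebraMap F K a ^ q = algebraMap F K a)
    (hspan : ∀ k : K, ∃ a b : F, k = algebraMap F K a + algebraMap F K b * ω)
    (hωF : ∀ a : F, algebraMap F K a ≠ ω)
    (x : symplecticGroup (Fin m) F)
    (φ : K →ₐ[F] Matrix (Fin m ⊕ Fin m) (Fin m ⊕ Fin m) F) (hφ : φ ω = x.1) :
    Nat.card (Subgroup.centralizer ({x} : Set (symplecticGroup (Fin m) F))) =
      Nat.card (GU m K q) := by
  classical
  let modK : Module K (Fin m ⊕ Fin m → F) :=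
    { smul := fun k v => φ k *ᵥ v
      one_smul := fun v => by
        show φ 1 *ᵥ v = v
        rw [map_one, one_mulVec]
      mul_smul := fun a b v => by
        show φ (a * b) *ᵥ v = φ a *ᵥ (φ b *ᵥ v)
        rw [map_mul, mulVec_mulVec]
      smul_zero := fun a => by
        show φ a *ᵥ 0 = 0
        rw [mulVec_zero]
      smul_add := fun a u v => by
        show φ a *ᵥ (u + v) = φ a *ᵥ u + φ a *ᵥ v
        rw [mulVec_add]
      add_smul := fun a b v => by
        show φ (a + b) *ᵥ v = φ a *ᵥ v + φ b *ᵥ v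
        rw [map_add, add_mulVec]
      zero_smul := fun v => by
        show φ 0 *ᵥ v = 0
        rw [map_zero, zero_mulVec] }
  have hsmul : ∀ (k : K) (v : Fin m ⊕ Fin m → F), k • v = φ k *ᵥ v := fun k v => rfl
  have : IsScalarTower F K (Fin m ⊕ Fin m → F) := ⟨fun a k v => by
    rw [hsmul, hsmul, map_smul, smul_mulVec]⟩
  have : Module.Finite K (Fin m ⊕ Fin m → F) := Module.Finite.of_restrictScalars_finite F K _
  have hfin : finrank K (Fin m ⊕ Fin m → F) = m := by
    have h1 := Module.finrank_mul_finrank F K (Fin m ⊕ Fin m → F)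
    rw [h2, Module.finrank_fintype_fun_eq_card, Fintype.card_sum, Fintype.card_fin] at h1
    omega
  have hcard := card_centF hK ω hω hωq hFq hspan hωF (sympF m F) sympF_alt sympF_nondeg (by
    intro u v
    rw [hsmul, hsmul, hφ]
    exact sympF_map x.1 x.2 u v)
  rw [hfin] at hcard
  rw [← hcard]
  apply Nat.card_congr
  refine Equiv.ofBijective (fun g => ⟨sympLE g.1, ?_, ?_⟩) ⟨?_, ?_⟩
  · intro v
    have hg := Subgroup.mem_centralizer_singleton_iff.1 g.2
    have hg' : g.1.1 * x.1 = x.1 * g.1.1 := by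
      have := congrArg Subtype.val hg
      simpa using this
    rw [sympLE_apply, sympLE_apply, hsmul, hsmul, hφ, mulVec_mulVec, mulVec_mulVec, hg']
  · intro u v
    rw [sympLE_apply, sympLE_apply]
    exact sympF_map g.1.1 g.1.2 u v
  · intro g g' hgg
    have h1 : ∀ v, g.1.1 *ᵥ v = g'.1.1 *ᵥ v := by
      intro v
      have := congrArg (fun y => y.1 v) hgg
      simp only at this
      rw [sympLE_apply, sympLE_apply] at this
      exact this
    apply Subtype.ext
    apply Subtype.ext
    apply Matrix.toLin'.injective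
    apply LinearMap.ext
    intro c
    rw [Matrix.toLin'_apply, Matrix.toLin'_apply]
    exact h1 c
  · rintro ⟨h, hh, hf⟩
    obtain ⟨A, hA⟩ : ∃ A : Matrix (Fin m ⊕ Fin m) (Fin m ⊕ Fin m) F, A = LinearMap.toMatrix'
      h.toLinearMap := ⟨_, rfl⟩
    have hAv : ∀ v, A *ᵥ v = h v := by
      intro v
      rw [hA, LinearMap.toMatrix'_mulVec]
      rfl
    have hmem : A ∈ symplecticGroup (Fin m) F := by
      rw [SymplecticGroup.mem_iff']
      apply mat_eq_of_dot
      intro u v
      have := hf u v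
      rw [sympF_apply, sympF_apply, ← hAv, ← hAv, ← vecMul_transpose A u, ← dotProduct_mulVec,
        mulVec_mulVec, mulVec_mulVec] at this
      exact this
    have hcomm : A * x.1 = x.1 * A := by
      apply Matrix.toLin'.injective
      apply LinearMap.ext
      intro v
      rw [Matrix.toLin'_apply, Matrix.toLin'_apply, ← mulVec_mulVec, ← mulVec_mulVec, hAv, hAv,
        ← hφ, ← hsmul, ← hsmul, hh]
    refine ⟨⟨⟨A, hmem⟩, ?_⟩, ?_⟩
    · rw [Subgroup.mem_centralizer_singleton_iff]
      apply Subtype.ext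
      simpa using hcomm
    · apply Subtype.ext
      apply LinearEquiv.ext
      intro v
      rw [sympLE_apply]
      exact hAv v

end mat

end Cfsg.Agent.Lib.Helper37
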