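import Mathlib
import Cfsg.Agent.Lib.Helper37.SpCubicMat

/-!
The centraliser in `Sp_2m(q)`, `q ≡ 2 (mod 3)`, of a fixed-point-free element of order three has
the order of `GU_m(q)`.
-/

set_option autoImplicit false
set_option linter.unusedSectionVars false

namespace Cfsg.Agent.Lib.Helper37

open Matrix Cfsg Cfsg.Agent.Lib.Helper5 Module Polynomial

section main
variable {F : Type*} [Field F] [Fintype F] {q : ℕ}

/-- the cyclotomic polynomial `X² + X + 1` -/
noncomputable def cubicP (F : Type*) [Field F] : F[X] := X ^ 2 + X + 1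

theorem cubicP_monic : (cubicP F).Monic := by
  unfold cubicP
  monicity!

theorem cubicP_natDegree : (cubicP F).natDegree = 2 := by
  unfold cubicP
  compute_degree!

theorem cubicP_ne_zero : cubicP F ≠ 0 := cubicP_monic.ne_zero

theorem aeval_cubicP {A : Type*} [Ring A] [Algebra F A] (a : A) :
    aeval a (cubicP F) = a ^ 2 + a + 1 := by
  unfold cubicP
  simp only [map_add, map_pow, aeval_X, map_one]

theorem three_ne_zero_of_mod (hF : Fintype.card F = q) (hq : q % 3 = 2) : (3 : F) ≠ 0 := by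
  intro h3
  have hchar : CharP F 3 := by
    have : ((3 : ℕ) : F) = 0 := by exact_mod_cast h3
    exact (CharP.charP_iff_prime_eq_zero Nat.prime_three).2 this
  obtain ⟨n, hn⟩ := FiniteField.card F 3
  rw [hF] at hn
  have : 3 ∣ q := by
    rw [hn.2]
    exact dvd_pow_self 3 n.ne_zero
  omega

theorem pow_q_of_cube (hq : q % 3 = 2) {R : Type*} [Monoid R] (a : R) (ha : a ^ 3 = 1) :
    a ^ q = a ^ 2 := by
  have : q = 3 * (q / 3) + 2 := by omega
  rw [this, pow_add, pow_mul, ha, one_pow, one_mul]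

theorem cubicP_no_root (hF : Fintype.card F = q) (hq : q % 3 = 2) (a : F) :
    a ^ 2 + a + 1 ≠ 0 := by
  intro h
  have h3 : a ^ 3 = 1 := by linear_combination (a - 1) * h
  have h1 : a ^ q = a := by
    rw [← hF]; exact FiniteField.pow_card a
  rw [pow_q_of_cube hq a h3] at h1
  have h0 : a ≠ 0 := by
    intro h0
    rw [h0] at h
    simp at h
  have ha1 : a = 1 := by
    have : a * a = a * 1 := by rw [mul_one, ← pow_two, h1]
    exact mul_left_cancel₀ h0 this
  rw [ha1] at h
  apply three_ne_zero_of_mod hF hq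
  linear_combination h

theorem cubicP_irreducible (hF : Fintype.card F = q) (hq : q % 3 = 2) :
    Irreducible (cubicP F) := by
  apply irreducible_of_degree_le_three_of_not_isRoot
  · rw [cubicP_natDegree]; simp
  · intro a ha
    apply cubicP_no_root hF hq a
    unfold cubicP at ha
    simpa using ha


/-- the centraliser of a fixed-point-free element of order three of `Sp_2m(q)`, `q ≡ 2 (mod 3)` -/
theorem card_centralizer_cubic (hF : Fintype.card F = q) (hq : q % 3 = 2) {m : ℕ}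
    (x : symplecticGroup (Fin m) F) (hx3 : x ^ 3 = 1)
    (hfpf : IsUnit ((x : Matrix (Fin m ⊕ Fin m) (Fin m ⊕ Fin m) F) - 1)) :
    (Nat.card (Subgroup.centralizer ({x} : Set (symplecticGroup (Fin m) F))) : ℤ) =
      (q : ℤ) ^ (m * (m - 1) / 2) *
        ∏ i : Fin m, ((q : ℤ) ^ ((i : ℕ) + 1) - (-1) ^ ((i : ℕ) + 1)) := by
  classical
  have hirr := cubicP_irreducible hF hq
  have : Fact (Irreducible (cubicP F)) := ⟨hirr⟩
  have hfinK : Finite (AdjoinRoot (cubicP F)) := by
    have := (AdjoinRoot.powerBasis (cubicP_ne_zero (F := F))).finite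
    exact Module.finite_of_finite F
  have := Fintype.ofFinite (AdjoinRoot (cubicP F))
  -- dimension and cardinality
  have h2 : finrank F (AdjoinRoot (cubicP F)) = 2 := by
    rw [(AdjoinRoot.powerBasis (cubicP_ne_zero (F := F))).finrank, AdjoinRoot.powerBasis_dim,
      cubicP_natDegree]
  have hK : Fintype.card (AdjoinRoot (cubicP F)) = q ^ 2 := by
    rw [Module.card_eq_pow_finrank (K := F) (V := AdjoinRoot (cubicP F)), h2, hF]
  -- the root
  obtain ⟨ω, hωdef⟩ : ∃ ω : AdjoinRoot (cubicP F), ω = AdjoinRoot.root (cubicP F) := ⟨_, rfl⟩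
  have hω : ω ^ 2 + ω + 1 = 0 := by
    have h : aeval (AdjoinRoot.root (cubicP F)) (cubicP F) = 0 := by
      rw [AdjoinRoot.aeval_eq, AdjoinRoot.mk_self]
    rw [← hωdef, aeval_cubicP] at h
    exact h
  have hω3 : ω ^ 3 = 1 := omega_cube ω hω
  have hωq : ω ^ q = ω ^ 2 := pow_q_of_cube hq ω hω3
  have hFq : ∀ a : F, algebraMap F (AdjoinRoot (cubicP F)) a ^ q =
      algebraMap F (AdjoinRoot (cubicP F)) a := by
    intro a
    rw [← map_pow, ← hF, FiniteField.pow_card]
  have hspan : ∀ k : AdjoinRoot (cubicP F), ∃ a b : F,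
      k = algebraMap F (AdjoinRoot (cubicP F)) a + algebraMap F (AdjoinRoot (cubicP F)) b * ω := by
    intro k
    obtain ⟨g, hg, hk⟩ := (AdjoinRoot.powerBasis (cubicP_ne_zero (F := F))).exists_eq_aeval k
    rw [AdjoinRoot.powerBasis_dim, cubicP_natDegree] at hg
    obtain ⟨b, a, hab⟩ := exists_eq_X_add_C_of_natDegree_le_one (p := g) (by omega)
    refine ⟨a, b, ?_⟩
    rw [hk, hab, AdjoinRoot.powerBasis_gen, ← hωdef]
    simp only [map_add, map_mul, aeval_C, aeval_X]
    ring
  have hωF : ∀ a : F, algebraMap F (AdjoinRoot (cubicP F)) a ≠ ω := by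
    intro a ha
    apply cubicP_no_root hF hq a
    apply (algebraMap F (AdjoinRoot (cubicP F))).injective
    rw [map_add, map_add, map_pow, map_one, map_zero, ha]
    exact hω
  -- the matrix
  have hX3 : (x : Matrix (Fin m ⊕ Fin m) (Fin m ⊕ Fin m) F) ^ 3 = 1 := by
    have := congrArg Subtype.val hx3
    simpa using this
  have hX : (x : Matrix (Fin m ⊕ Fin m) (Fin m ⊕ Fin m) F) ^ 2 + x.1 + 1 = 0 := by
    obtain ⟨u, hu⟩ := hfpf
    have h1 : (u : Matrix (Fin m ⊕ Fin m) (Fin m ⊕ Fin m) F) * (x.1 ^ 2 + x.1 + 1) = 0 := by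
      rw [hu]
      have : (x.1 - 1) * (x.1 ^ 2 + x.1 + 1) = x.1 ^ 3 - 1 := by noncomm_ring
      rw [this, hX3, sub_self]
    have h2 := congrArg (fun M => (↑u⁻¹ : Matrix (Fin m ⊕ Fin m) (Fin m ⊕ Fin m) F) * M) h1
    simp only [← Matrix.mul_assoc, Units.inv_mul, Matrix.one_mul, Matrix.mul_zero] at h2
    exact h2
  have haev : aeval (x : Matrix (Fin m ⊕ Fin m) (Fin m ⊕ Fin m) F) (cubicP F) = 0 := by
    rw [aeval_cubicP]
    exact hX
  have hker : ∀ g ∈ Ideal.span {cubicP F},
      (aeval (x : Matrix (Fin m ⊕ Fin m) (Fin m ⊕ Fin m) F)) g = 0 := by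
    intro g hg
    obtain ⟨c, rfl⟩ := Ideal.mem_span_singleton.1 hg
    rw [map_mul, haev, zero_mul]
  obtain ⟨φ, hφdef⟩ : ∃ φ : AdjoinRoot (cubicP F) →ₐ[F] Matrix (Fin m ⊕ Fin m) (Fin m ⊕ Fin m) F,
      φ = Ideal.Quotient.liftₐ (Ideal.span {cubicP F})
        (aeval (x : Matrix (Fin m ⊕ Fin m) (Fin m ⊕ Fin m) F)) hker := ⟨_, rfl⟩
  have hφ : φ ω = x.1 := by
    rw [hφdef, hωdef, ← AdjoinRoot.mk_X]
    show (Ideal.Quotient.liftₐ (Ideal.span {cubicP F})
        (aeval (x : Matrix (Fin m ⊕ Fin m) (Fin m ⊕ Fin m) F)) hker)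
        (Ideal.Quotient.mk _ X) = x.1
    rw [Ideal.Quotient.liftₐ_apply]
    refine (Ideal.Quotient.lift_mk (Ideal.span {cubicP F}) _ _).trans ?_
    simp
  rw [card_centralizer_cubic_aux hK h2 ω hω hωq hFq hspan hωF x φ hφ]
  exact card_GU_int hK m

end main

end Cfsg.Agent.Lib.Helper37
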