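/-
helper37 library: every monic self-reciprocal polynomial of degree `2n` with constant term `1` over a
finite field is the characteristic polynomial of a semisimple element of `Sp_2n(F)`.
-/
import Mathlib
import Cfsg.Agent.Lib.Helper37.SpExist3

set_option autoImplicit false

namespace Cfsg.Agent.Lib.Helper37.SpExist

open Matrix Polynomial Cfsg.Agent.Lib.Helper13 Cfsg.Agent.Lib.Helper37.SpConj
  Cfsg.Agent.Lib.Helper37.DualPoly Cfsg.Agent.Lib.Helper37.InvCount Cfsg.Agent.Lib.Helper40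
  Cfsg.Agent.Lib.Helper37.AltIso

variable {F : Type*} [Field F]

/-- data of a matrix preserving a nondegenerate alternating form -/
structure AltPair (ι : Type*) [Fintype ι] [DecidableEq ι] (F : Type*) [Field F] where
  /-- the matrix -/
  M : Matrix ι ι F
  /-- the form -/
  Q : Matrix ι ι F
  alt : ∀ x, x ⬝ᵥ (Q *ᵥ x) = 0
  det : IsUnit Q.det
  inv : Mᵀ * Q * M = Q

/-- orthogonal direct sum -/
def AltPair.sum {ι κ : Type*} [Fintype ι] [DecidableEq ι] [Fintype κ] [DecidableEq κ]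
    (X : AltPair ι F) (Y : AltPair κ F) : AltPair (ι ⊕ κ) F where
  M := fromBlocks X.M 0 0 Y.M
  Q := fromBlocks X.Q 0 0 Y.Q
  alt := by
    intro x
    rw [fromBlocks_mulVec]
    simp only [zero_mulVec, add_zero, zero_add]
    rw [dotProduct, Fintype.sum_sum_type]
    simp only [Sum.elim_inl, Sum.elim_inr]
    have h1 : ∑ i, x (Sum.inl i) * (X.Q *ᵥ (x ∘ Sum.inl)) i = 0 := X.alt (x ∘ Sum.inl)
    have h2 : ∑ i, x (Sum.inr i) * (Y.Q *ᵥ (x ∘ Sum.inr)) i = 0 := Y.alt (x ∘ Sum.inr)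
    rw [h1, h2, add_zero]
  det := by
    rw [det_fromBlocks_zero₁₂]
    exact X.det.mul Y.det
  inv := by
    rw [fromBlocks_transpose, fromBlocks_multiply, fromBlocks_multiply]
    simp only [transpose_zero, Matrix.mul_zero, Matrix.zero_mul, add_zero, zero_add]
    rw [X.inv, Y.inv]

theorem AltPair.sum_M {ι κ : Type*} [Fintype ι] [DecidableEq ι] [Fintype κ] [DecidableEq κ]
    (X : AltPair ι F) (Y : AltPair κ F) : (X.sum Y).M = fromBlocks X.M 0 0 Y.M := rfl

/-- the standard symplectic space with a scalar `±1` -/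
def AltPair.std (a : ℕ) (c : F) (hc : c * c = 1) : AltPair (Fin a ⊕ Fin a) F where
  M := c • 1
  Q := J (Fin a) F
  alt := fun x => sympForm_self x
  det := isUnit_det_J (Fin a) F
  inv := by
    rw [transpose_smul, transpose_one, Matrix.smul_mul, Matrix.one_mul, Matrix.mul_smul,
      Matrix.mul_one, smul_smul, hc, one_smul]

theorem charpoly_smul_one' {ι : Type*} [Fintype ι] [DecidableEq ι] (c : F) :
    (c • (1 : Matrix ι ι F)).charpoly = (X - C c) ^ Fintype.card ι := by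
  rw [Matrix.smul_one_eq_diagonal, Matrix.charpoly_diagonal, Finset.prod_const, Finset.card_univ]

variable [Fintype F]

/-- general existence of semisimple symplectic elements with prescribed characteristic polynomial -/
theorem exists_symplectic_charpoly_general {p : ℕ} [Fact p.Prime] [CharP F p] (n : ℕ) (f : F[X])
    (hf : f.Monic) (hdeg : f.natDegree = 2 * n) (hdual : rdual f = f) (hf0 : f.coeff 0 = 1) :
    ∃ g ∈ symplecticGroup (Fin n) F, g.charpoly = f ∧ ∃ N : ℕ, Nat.Coprime N p ∧ g ^ N = 1 := by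
  classical
  have hp : p.Prime := Fact.out
  have hrd1 : rdual (1 : F[X]) = 1 := by
    unfold rdual
    rw [coeff_one_zero, inv_one, C_1, one_mul, ← C_1, reverse_C]
  have hfne : f ≠ 0 := hf.ne_zero
  -- split off `X - 1`
  obtain ⟨f₁, hff₁, hnd₁⟩ := exists_eq_pow_rootMultiplicity_mul_and_not_dvd f hfne (1 : F)
  obtain ⟨a, ha⟩ : ∃ a, a = rootMultiplicity (1 : F) f := ⟨_, rfl⟩
  rw [← ha] at hff₁
  have hXa : ((X - C (1 : F)) ^ a).Monic := (monic_X_sub_C (1 : F)).pow a
  have hf₁mon : f₁.Monic := by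
    rw [hff₁] at hf
    exact hXa.of_mul_monic_left hf
  -- split off `X + 1`
  obtain ⟨f', hf₁f', hnd₂⟩ :=
    exists_eq_pow_rootMultiplicity_mul_and_not_dvd f₁ hf₁mon.ne_zero (-1 : F)
  obtain ⟨b, hb⟩ : ∃ b, b = rootMultiplicity (-1 : F) f₁ := ⟨_, rfl⟩
  rw [← hb] at hf₁f'
  have hXb : ((X - C (-1 : F)) ^ b).Monic := (monic_X_sub_C (-1 : F)).pow b
  have hf'mon : f'.Monic := by
    rw [hf₁f'] at hf₁mon
    exact hXb.of_mul_monic_left hf₁mon
  have hnd₁' : ¬ (X - C (1 : F)) ∣ f' := by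
    intro h
    apply hnd₁
    rw [hf₁f']
    exact Dvd.dvd.mul_left h _
  have hfprod : f = (X - C (1 : F)) ^ a * ((X - C (-1 : F)) ^ b * f') := by rw [hff₁, hf₁f']
  obtain ⟨d, hd⟩ : ∃ d, d = f'.natDegree := ⟨_, rfl⟩
  have hdegsum : a + (b + d) = 2 * n := by
    rw [← hdeg, hfprod, hXa.natDegree_mul (hXb.mul hf'mon), hXb.natDegree_mul hf'mon, hd,
      (monic_X_sub_C (1 : F)).natDegree_pow, (monic_X_sub_C (-1 : F)).natDegree_pow,
      natDegree_X_sub_C, natDegree_X_sub_C, mul_one, mul_one]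
  -- self-duality of `f'`
  have hrdm : rdual (X - C (-1 : F)) = X - C (-1 : F) := by
    rw [rdual_X_sub_C (neg_ne_zero.2 one_ne_zero), inv_neg_one]
  have hrd1' : rdual (X - C (1 : F)) = X - C (1 : F) := by
    rw [rdual_X_sub_C one_ne_zero, inv_one]
  have hf'dual : rdual f' = f' := by
    have h1 : rdual f = (X - C (1 : F)) ^ a * ((X - C (-1 : F)) ^ b * rdual f') := by
      conv_lhs => rw [hfprod]
      rw [rdual_mul, rdual_mul, dual_pow rdual hrd1 rdual_mul, dual_pow rdual hrd1 rdual_mul,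
        hrd1', hrdm]
    rw [hdual] at h1
    conv_lhs at h1 => rw [hfprod]
    exact (mul_left_cancel₀ hXb.ne_zero (mul_left_cancel₀ hXa.ne_zero h1)).symm
  -- constant terms
  have hc0 : f.coeff 0 = (-1) ^ a * f'.coeff 0 := by
    conv_lhs => rw [hfprod]
    rw [mul_coeff_zero, mul_coeff_zero, coeff_zero_eq_eval_zero,
      coeff_zero_eq_eval_zero ((X - C (-1 : F)) ^ b), eval_pow, eval_pow, eval_sub, eval_sub,
      eval_X, eval_C, eval_C, zero_sub, zero_sub, neg_neg, one_pow, one_mul]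
  have hf'0 : f'.coeff 0 ≠ 0 := by
    intro h0
    rw [hc0, h0, mul_zero] at hf0
    exact zero_ne_one hf0
  have hf'1 : f'.coeff 0 = 1 := by
    have hev : f'.eval 1 ≠ 0 := by
      intro h
      apply hnd₁'
      exact dvd_iff_isRoot.2 h
    have h1 : (rdual f').eval 1 = f'.eval 1 := by rw [hf'dual]
    unfold rdual at h1
    rw [eval_mul, eval_C] at h1
    have h2 : f'.reverse.eval 1 = f'.eval 1 := by
      have : Invertible (1 : F) := invertibleOne
      have := eval₂_reverse_mul_pow (RingHom.id F) (1 : F) f'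
      simpa using this
    rw [h2] at h1
    have h3 : (f'.coeff 0)⁻¹ = 1 := mul_right_cancel₀ hev (h1.trans (one_mul _).symm)
    exact inv_eq_one.1 h3
  have hpow1 : (-1 : F) ^ a = 1 := by rw [hc0, hf'1, mul_one] at hf0; exact hf0
  -- the semisimple part
  obtain ⟨A, hAss, hAchar, hkill⟩ := exists_matrix_semisimple_charpoly_kill d f' hf'mon hd.symm
  obtain ⟨q, hq⟩ : ∃ q, q = Fintype.card F := ⟨_, rfl⟩
  obtain ⟨e, he⟩ := FiniteField.card F p
  obtain ⟨D, hD⟩ : ∃ D, D = (2 * n).factorial := ⟨_, rfl⟩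
  have hDpos : 0 < D := by rw [hD]; exact Nat.factorial_pos _
  have hq1 : 1 < q := by rw [hq]; exact Fintype.one_lt_card
  have hqD : 1 < q ^ D := Nat.one_lt_pow hDpos.ne' hq1
  obtain ⟨N, hN⟩ : ∃ N, q ^ D = N + 1 := ⟨q ^ D - 1, by omega⟩
  have hNpos : 0 < N := by omega
  have hNcop : Nat.Coprime N p := by
    have h1 : p ∣ q ^ D := by
      rw [hq, he.2]
      exact dvd_pow (dvd_pow_self p e.ne_zero) hDpos.ne'
    rw [Nat.coprime_comm, Nat.Prime.coprime_iff_not_dvd hp]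
    intro h2
    rw [hN] at h1
    have h3 : p ∣ 1 := (Nat.dvd_add_right h2).1 h1
    exact hp.one_lt.ne' (Nat.dvd_one.1 h3)
  have hNF : (N : F) ≠ 0 := by
    rw [Ne, CharP.cast_eq_zero_iff F p]
    intro h
    exact (Nat.Prime.coprime_iff_not_dvd hp).1 hNcop.symm h
  have hfac : ∀ m : F[X], m.Monic → Irreducible m → m ∣ f' → m ∣ X ^ N - 1 := by
    intro m hm hirr hmd
    have hmdeg : m.natDegree ≤ 2 * n := by
      have := natDegree_le_of_dvd hmd hf'mon.ne_zero
      omega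
    have hmpos : 0 < m.natDegree := hirr.natDegree_pos
    have h1 : m.natDegree ∣ D := by rw [hD]; exact Nat.dvd_factorial hmpos hmdeg
    have h2 : m ∣ X ^ (Nat.card F) ^ D - X := hirr.natDegree_dvd_iff_dvd_X_pow_card_pow_sub_X.1 h1
    rw [Nat.card_eq_fintype_card, ← hq, hN, pow_succ] at h2
    have h3 : (X ^ N * X - X : F[X]) = X * (X ^ N - 1) := by ring
    rw [h3] at h2
    have hmX : IsCoprime m X := by
      rw [hirr.coprime_iff_not_dvd]
      intro hX
      have h4 : Associated m X := hirr.associated_of_dvd irreducible_X hX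
      have h5 : (X : F[X]) ∣ f' := h4.symm.dvd.trans hmd
      exact hf'0 (X_dvd_iff.1 h5)
    exact hmX.dvd_of_dvd_mul_left h2
  have hAN : A ^ N = 1 := by
    have h1 := hkill (X ^ N - 1) hfac
    simp only [map_sub, map_pow, aeval_X, map_one] at h1
    exact sub_eq_zero.mp h1
  obtain ⟨Ai, hAi⟩ : ∃ Ai : Matrix (Fin d) (Fin d) F, Ai = A ^ (N - 1) := ⟨_, rfl⟩
  have hAAi : A * Ai = 1 := by rw [hAi, ← pow_succ', Nat.sub_add_cancel hNpos, hAN]
  have hAiA : Ai * A = 1 := mul_eq_one_comm.1 hAAi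
  have hAiN : Ai ^ N = 1 := by rw [hAi, ← pow_mul, mul_comm, pow_mul, hAN, one_pow]
  have hinj : ∀ x, A *ᵥ x = Ai *ᵥ x → x = 0 := by
    intro x hx
    have h2 : (A * A) *ᵥ x = x := by
      rw [← mulVec_mulVec, hx, mulVec_mulVec, hAAi, one_mulVec]
    have hcop1 : IsCoprime (X - C (1 : F)) f' :=
      (irreducible_X_sub_C (1 : F)).coprime_iff_not_dvd.2 hnd₁'
    have hcop2 : IsCoprime (X - C (-1 : F)) f' :=
      (irreducible_X_sub_C (-1 : F)).coprime_iff_not_dvd.2 hnd₂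
    obtain ⟨u, v, huv⟩ := hcop1.mul_left hcop2
    have h1 : aeval A (u * ((X - C (1 : F)) * (X - C (-1 : F))) + v * f') = 1 := by
      rw [huv, map_one]
    have h3 : aeval A f' = 0 := by rw [← hAchar]; exact aeval_self_charpoly A
    have h4 : aeval A ((X - C (1 : F)) * (X - C (-1 : F))) = A * A - 1 := by
      simp only [map_mul, map_sub, aeval_X, map_one, map_neg]
      noncomm_ring
    rw [map_add, map_mul (aeval A) v f', h3, mul_zero, add_zero, map_mul (aeval A) u, h4] at h1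
    have h5 : (aeval A u * (A * A - 1)) *ᵥ x = x := by rw [h1, one_mulVec]
    rw [← mulVec_mulVec, sub_mulVec, one_mulVec, h2, sub_self, mulVec_zero] at h5
    exact h5.symm
  have hAiTss : Module.End.IsSemisimple (Matrix.toLin' Aiᵀ) := by
    apply isSemisimple_toLin'_of_pow_eq_one Aiᵀ N hNF
    rw [← transpose_pow, hAiN, transpose_one]
  have hAdet : IsUnit A.det := by
    have h2 := congrArg Matrix.det hAAi
    rw [det_mul, det_one] at h2
    exact IsUnit.of_mul_eq_one _ h2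
  have hAiTchar : Aiᵀ.charpoly = A.charpoly := by
    rw [charpoly_transpose, ← Matrix.inv_eq_right_inv hAAi, charpoly_inv A hAdet, hAchar, hf'dual]
  obtain ⟨P, hP⟩ := exists_gl_conj_of_charpoly_eq A Aiᵀ hAss hAiTss hAiTchar.symm
  have hPdet : IsUnit (P : Matrix (Fin d) (Fin d) F).det :=
    (Matrix.isUnit_iff_isUnit_det _).1 P.isUnit
  have hinv : Aᵀ * (P : Matrix (Fin d) (Fin d) F) * A = (P : Matrix (Fin d) (Fin d) F) := by
    rw [Matrix.mul_assoc, hP, ← Matrix.mul_assoc, ← transpose_mul, hAiA, transpose_one,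
      Matrix.one_mul]
  obtain ⟨Q', hQ'skew, hQ'alt, hQ'det, hQ'inv⟩ :=
    exists_alternating_of_invariant A Ai _ hAAi hPdet hinv hinj
  -- `d` is even
  obtain ⟨d₂, hd₂⟩ : ∃ d₂, d = 2 * d₂ := by
    have h1 : (Matrix.toBilin' Q').IsAlt := fun x => by
      rw [Matrix.toBilin'_apply']; exact hQ'alt x
    have h2 : ∀ u, (∀ v, Matrix.toBilin' Q' u v = 0) → u = 0 := by
      intro u hu
      apply (Matrix.nondegenerate_of_det_ne_zero hQ'det.ne_zero).eq_zero_of_ortho
      intro w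
      rw [← Matrix.toBilin'_apply']
      exact hu w
    obtain ⟨b', hb'⟩ := exists_finrank_eq_two_mul (Matrix.toBilin' Q') h1 h2
    rw [Module.finrank_fintype_fun_eq_card, Fintype.card_fin] at hb'
    exact ⟨b', hb'⟩
  -- parities of `a` and `b`
  obtain ⟨a₂, b₂, ha₂, hb₂⟩ : ∃ a₂ b₂, a = 2 * a₂ ∧ b = 2 * b₂ := by
    by_cases h2 : (2 : F) = 0
    · have hneg : (-1 : F) = 1 := by linear_combination (-1 : F) * h2
      have hb0 : b = 0 := by
        rw [hb]
        apply rootMultiplicity_eq_zero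
        intro hroot
        apply hnd₁
        rw [← hneg]
        exact dvd_iff_isRoot.2 hroot
      exact ⟨n - d₂, 0, by omega, by omega⟩
    · have hne : (-1 : F) ≠ 1 := by
        intro h
        apply h2
        linear_combination (-1 : F) * h
      have haeven : Even a := (neg_one_pow_eq_one_iff_even hne).1 hpow1
      obtain ⟨a₂, ha₂⟩ := haeven
      exact ⟨a₂, n - a₂ - d₂, by omega, by omega⟩
  -- assemble
  have hm1 : (-1 : F) * (-1) = 1 := by ring
  let X₃ : AltPair (Fin d) F := ⟨A, Q', hQ'alt, hQ'det, hQ'inv⟩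
  let T : AltPair ((Fin a₂ ⊕ Fin a₂) ⊕ ((Fin b₂ ⊕ Fin b₂) ⊕ Fin d)) F :=
    (AltPair.std a₂ 1 (one_mul 1)).sum ((AltPair.std b₂ (-1) hm1).sum X₃)
  have hTM : T.M = fromBlocks ((1 : F) • (1 : Matrix (Fin a₂ ⊕ Fin a₂) (Fin a₂ ⊕ Fin a₂) F)) 0 0
      (fromBlocks ((-1 : F) • (1 : Matrix (Fin b₂ ⊕ Fin b₂) (Fin b₂ ⊕ Fin b₂) F)) 0 0 A) := rfl
  have hcard : Fintype.card ((Fin a₂ ⊕ Fin a₂) ⊕ ((Fin b₂ ⊕ Fin b₂) ⊕ Fin d)) = 2 * n := by
    simp only [Fintype.card_sum, Fintype.card_fin]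
    omega
  obtain ⟨g, hg, hgchar, hgpow⟩ := exists_symplectic_of_alternating T.M T.Q T.alt T.det T.inv hcard
  have hnegN : (-1 : F) ^ N = 1 := by
    have h1 : (-1 : F) ^ (q ^ D) = -1 := by rw [hq]; exact FiniteField.pow_card_pow D (-1 : F)
    rw [hN, pow_succ] at h1
    have h2 : (-1 : F) ^ N * (-1) = 1 * (-1) := by rw [h1, one_mul]
    exact mul_right_cancel₀ (neg_ne_zero.2 one_ne_zero) h2
  refine ⟨g, hg, ?_, N, hNcop, ?_⟩
  · rw [hgchar, hTM, charpoly_fromBlocks_zero₁₂, charpoly_fromBlocks_zero₁₂, charpoly_smul_one',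
      charpoly_smul_one', hAchar, hfprod]
    simp only [Fintype.card_sum, Fintype.card_fin]
    rw [ha₂, hb₂, two_mul, two_mul]
  · apply hgpow
    have e1 : ((1 : F) • (1 : Matrix (Fin a₂ ⊕ Fin a₂) (Fin a₂ ⊕ Fin a₂) F)) ^ N = 1 := by
      rw [one_smul, one_pow]
    have e2 : ((-1 : F) • (1 : Matrix (Fin b₂ ⊕ Fin b₂) (Fin b₂ ⊕ Fin b₂) F)) ^ N = 1 := by
      rw [_root_.smul_pow, one_pow, hnegN, one_smul]
    rw [hTM, fromBlocks_diag_pow, fromBlocks_diag_pow, e1, e2, hAN, fromBlocks_one, fromBlocks_one]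

end Cfsg.Agent.Lib.Helper37.SpExist
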