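import Cfsg.Agent.Lib.Helper85.Suz2Defs

/-!
# SUZ2-[B0] (helper37): vanishing coordinates = centralizing `Nsub P`
-/

set_option autoImplicit false

namespace Cfsg.Agent.Lib.Helper37.Suz2

open Cfsg.Agent.Lib.Helper19.Suz Cfsg.Agent.Lib.Helper85.Suz2

universe u

variable {P : Type u} [Group P] {Y : Subgroup (MulAut P)}
variable {F : Type} [Field F] [Fintype F] {aZ : P → F} {κ : MulAut P → F}
  {σ : MulAut P → (F ≃+* F)} {c : (F ≃+* F) → P → F}

/-- `aZ 1 = 0` -/
theorem ZCoord.aZ_one (zc : ZCoord P Y F aZ κ σ) : aZ 1 = 0 := by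
  have h := zc.aZ_mul 1 (Subgroup.one_mem _) 1 (Subgroup.one_mem _)
  rw [mul_one] at h
  have : aZ (1 : P) + aZ 1 = aZ 1 + 0 := by rw [add_zero]; exact h.symm
  exact add_left_cancel this

/-- the coordinates vanish iff the element is the zero functional on `F` -/
theorem CHyp.coord_zero_of_sum (H : CHyp P Y F aZ κ σ c) (g : P)
    (h : ∀ u : F, ∑ τ : F ≃+* F, c τ g * τ u = 0) : ∀ τ, c τ g = 0 := by
  classical
  have := H.zc.char2
  have hind := Fintype.linearIndependent_iff.mp (aut_indep (F := F))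
  intro τ
  refine hind (fun τ => c τ g) ?_ τ
  funext u
  simp only [Finset.sum_apply, Pi.smul_apply, smul_eq_mul, Pi.zero_apply]
  exact h u

/-- [B0]: vanishing coordinates = centralizing `Nsub P` -/
theorem CHyp.coord_zero_iff (H : CHyp P Y F aZ κ σ c) (g : P) :
    (∀ τ, c τ g = 0) ↔ ∀ a ∈ Nsub P, a * g = g * a := by
  constructor
  · intro h0 a ha
    have hZ : a⁻¹ * g⁻¹ * a * g ∈ Z0 P := (mem_Nsub.mp ha).2 g
    have h1 : aZ (a⁻¹ * g⁻¹ * a * g) = 0 := by
      rw [H.expand g a ha]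
      apply Finset.sum_eq_zero
      intro τ _
      rw [h0 τ, zero_mul]
    have h2 := H.zc.aZ_inj _ hZ h1
    calc a * g = g * a * (a⁻¹ * g⁻¹ * a * g) := by group
      _ = g * a := by rw [h2, mul_one]
  · intro hc
    apply CHyp.coord_zero_of_sum H g
    intro u
    obtain ⟨a, ha, hau⟩ := H.α_surj u
    have h1 := H.expand g a ha
    have h2 : a⁻¹ * g⁻¹ * a * g = 1 := by
      have := hc a ha
      calc a⁻¹ * g⁻¹ * a * g = a⁻¹ * g⁻¹ * (a * g) := by group
        _ = a⁻¹ * g⁻¹ * (g * a) := by rw [this]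
        _ = 1 := by group
    rw [h2, ZCoord.aZ_one H.zc, hau] at h1
    exact h1.symm

end Cfsg.Agent.Lib.Helper37.Suz2
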