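import Cfsg.Agent.Lib.Helper37.Suz2B0

/-!
# SUZ2-[B1] (helper37): the coordinate at the identity automorphism vanishes
-/

set_option autoImplicit false

namespace Cfsg.Agent.Lib.Helper37.Suz2

open Cfsg.Agent.Lib.Helper19.Suz Cfsg.Agent.Lib.Helper85.Suz2

universe u

variable {P : Type u} [Group P] {Y : Subgroup (MulAut P)}
variable {F : Type} [Field F] [Fintype F] {aZ : P → F} {κ : MulAut P → F}
  {σ : MulAut P → (F ≃+* F)} {c : (F ≃+* F) → P → F} {ξ : MulAut P} {n e : ℕ}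

theorem CHyp.c_at_one (H : CHyp P Y F aZ κ σ c) (τ : F ≃+* F) : c τ 1 = 0 := by
  have h := H.c_mul τ 1 1
  rw [mul_one] at h
  have : c τ (1 : P) + c τ 1 = c τ 1 + 0 := by rw [add_zero]; exact h.symm
  exact add_left_cancel this

theorem CHyp.c_inv (H : CHyp P Y F aZ κ σ c) (τ : F ≃+* F) (x : P) : c τ x⁻¹ = c τ x := by
  have := H.zc.char2
  have h := H.c_mul τ x x⁻¹
  rw [mul_inv_cancel, CHyp.c_at_one H] at h
  have h2 : c τ x + c τ x = 0 := CharTwo.add_self_eq_zero _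
  have : c τ x + c τ x⁻¹ = c τ x + c τ x := by rw [← h, h2]
  exact add_left_cancel this

/-- the scalar generator multiplies the `τ`-coordinate by `lam / τ lam` -/
theorem CHyp.c_xi (H : CHyp P Y F aZ κ σ c) (L : LamHyp P Y F κ σ ξ n e) (τ : F ≃+* F) (x : P) :
    c τ (ξ x) = κ ξ * (τ (κ ξ))⁻¹ * c τ x := by
  rw [H.c_act τ ξ L.ξ_mem x, L.σξ]
  rfl

/-- [B1], from the surjectivity part of [FPF] -/
theorem CHyp.c_one_of_surj (H : CHyp P Y F aZ κ σ c) (L : LamHyp P Y F κ σ ξ n e)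
    (hfpf : ∀ g : P, ∃ x : P, x⁻¹ * ξ x = g) (g : P) : c 1 g = 0 := by
  have := H.zc.char2
  obtain ⟨x, rfl⟩ := hfpf g
  rw [H.c_mul, CHyp.c_inv H, CHyp.c_xi H L]
  have hk : κ ξ ≠ 0 := H.zc.κ_ne ξ L.ξ_mem
  have : κ ξ * ((1 : F ≃+* F) (κ ξ))⁻¹ = 1 := by
    show κ ξ * (κ ξ)⁻¹ = 1
    exact mul_inv_cancel₀ hk
  rw [this, one_mul]
  exact CharTwo.add_self_eq_zero _

end Cfsg.Agent.Lib.Helper37.Suz2
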