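import Cfsg.Agent.Lib.Helper37.Suz2B1

/-!
# SUZ2-[B2] core (helper37): the pure part of an element, from a separating polynomial
-/

set_option autoImplicit false

namespace Cfsg.Agent.Lib.Helper37.Suz2

open Cfsg.Agent.Lib.Helper19.Suz Cfsg.Agent.Lib.Helper85.Suz2

universe u

variable {P : Type u} [Group P] {Y : Subgroup (MulAut P)}
variable {F : Type} [Field F] [Fintype F] {aZ : P → F} {κ : MulAut P → F}
  {σ : MulAut P → (F ≃+* F)} {c : (F ≃+* F) → P → F} {ξ : MulAut P} {n e : ℕ}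

theorem CHyp.c_xi_pow (H : CHyp P Y F aZ κ σ c) (L : LamHyp P Y F κ σ ξ n e) (τ : F ≃+* F)
    (j : ℕ) (x : P) : c τ ((ξ ^ j) x) = (κ ξ * (τ (κ ξ))⁻¹) ^ j * c τ x := by
  induction j with
  | zero => simp
  | succ j ih =>
    rw [pow_succ' ξ j, MulAut.mul_apply, CHyp.c_xi H L, ih, pow_succ']
    ring

theorem CHyp.c_pow (H : CHyp P Y F aZ κ σ c) (τ : F ≃+* F) (d : ℕ) (x : P) :
    c τ (x ^ d) = (d : F) * c τ x := by
  induction d with
  | zero => simp [CHyp.c_at_one H]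
  | succ d ih =>
    rw [pow_succ, H.c_mul, ih]
    push_cast
    ring

/-- the ordered product `∏_{j<m} (ξ^j g)^(d j)` -/
def xiProd (ξ : MulAut P) (d : ℕ → ℕ) (g : P) : ℕ → P
  | 0 => 1
  | (m + 1) => xiProd ξ d g m * ((ξ ^ m) g) ^ (d m)

theorem CHyp.c_xiProd (H : CHyp P Y F aZ κ σ c) (L : LamHyp P Y F κ σ ξ n e) (τ : F ≃+* F)
    (d : ℕ → ℕ) (g : P) (m : ℕ) :
    c τ (xiProd ξ d g m)
      = (∑ j ∈ Finset.range m, (d j : F) * (κ ξ * (τ (κ ξ))⁻¹) ^ j) * c τ g := by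
  induction m with
  | zero => simp [xiProd, CHyp.c_at_one H]
  | succ m ih =>
    rw [xiProd, H.c_mul, ih, CHyp.c_pow H, CHyp.c_xi_pow H L, Finset.sum_range_succ]
    ring

/-- [B2] core: a separating polynomial gives the pure part -/
theorem CHyp.exists_pure_part_of_sep [DecidableEq (F ≃+* F)] (H : CHyp P Y F aZ κ σ c)
    (L : LamHyp P Y F κ σ ξ n e) (g : P) (τ₀ : F ≃+* F) (m : ℕ) (d : ℕ → ℕ)
    (hd : ∀ τ : F ≃+* F, ∑ j ∈ Finset.range m, (d j : F) * (κ ξ * (τ (κ ξ))⁻¹) ^ j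
      = if τ = τ₀ then 1 else 0) :
    ∃ g' : P, c τ₀ g' = c τ₀ g ∧ IsPure c τ₀ g' := by
  refine ⟨xiProd ξ d g m, ?_, ?_⟩
  · rw [CHyp.c_xiProd H L, hd τ₀, if_pos rfl, one_mul]
  · intro τ' hτ'
    rw [CHyp.c_xiProd H L, hd τ', if_neg hτ', zero_mul]

end Cfsg.Agent.Lib.Helper37.Suz2
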