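import Cfsg.Agent.Lib.Helper37.Suz2B2
import Cfsg.Agent.Lib.Helper76.Suz2NTF
import Cfsg.Agent.Lib.Helper45.Suz2Sep
import Cfsg.Agent.Lib.Helper56.Suz2Fpf
import Cfsg.Agent.Lib.Helper50.Suz2.NtFour
import Cfsg.Agent.Lib.Helper92.Suz2NTOrd

/-!
# SUZ2-[B1], [B2] (helper37): exact skeleton forms (assembly with [FPF], [SEP], [NTF], [NT-ORD], [NT-FOUR])
-/

set_option autoImplicit false

namespace Cfsg.Agent.Lib.Helper37.Suz2

open Cfsg.Agent.Lib.Helper19.Suz Cfsg.Agent.Lib.Helper85.Suz2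

universe u

variable {P : Type u} [Group P] {Y : Subgroup (MulAut P)}
variable {F : Type} [Field F] [Fintype F] {aZ : P → F} {κ : MulAut P → F}
  {σ : MulAut P → (F ≃+* F)} {c : (F ≃+* F) → P → F} {ξ : MulAut P} {n e : ℕ}

theorem LamHyp.lamArith (zc : ZCoord P Y F aZ κ σ) (L : LamHyp P Y F κ σ ξ n e) :
    LamArith F (κ ξ) n e :=
  ⟨zc.char2, L.card, L.two_le, L.e_dvd, L.order⟩

theorem LamHyp.odd_order (L : LamHyp P Y F κ σ ξ n e) : Odd (orderOf (κ ξ)) := by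
  have h := L.order
  have hn : 1 ≤ n := le_trans (by norm_num) L.two_le
  have hodd : Odd (2 ^ n - 1) := by
    have h1 : 1 ≤ 2 ^ n := Nat.one_le_two_pow
    have : Even (2 ^ n) := (Nat.even_pow.mpr ⟨even_two, by omega⟩)
    exact Nat.Even.sub_odd h1 this odd_one
  rw [← h] at hodd
  exact (Nat.odd_mul.mp hodd).1

/-- [B1] -/
theorem CHyp.c_one (H : CHyp P Y F aZ κ σ c) (L : LamHyp P Y F κ σ ξ n e) (g : P) :
    c 1 g = 0 :=
  CHyp.c_one_of_surj H L (Cfsg.Agent.Lib.Helper56.Suz2.LamHyp.fpf H.suz H.zc L).2 g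

/-- [B2] -/
theorem CHyp.exists_pure_part (H : CHyp P Y F aZ κ σ c) (L : LamHyp P Y F κ σ ξ n e) (g : P)
    (τ₀ : F ≃+* F) : ∃ g' : P, c τ₀ g' = c τ₀ g ∧ IsPure c τ₀ g' := by
  classical
  have := H.zc.char2
  have LA := LamHyp.lamArith H.zc L
  have hk : κ ξ ≠ 0 := H.zc.κ_ne ξ L.ξ_mem
  set lam := κ ξ with hlam
  set m := orderOf lam with hm
  have hlm : lam ^ m = 1 := pow_orderOf_eq_one lam
  have hμ1 : ∀ τ : F ≃+* F, lam * (τ lam)⁻¹ = 1 → τ = 1 := by
    intro τ h1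
    apply Cfsg.Agent.Lib.Helper76.Suz2.LamArith.frob_fix_of Cfsg.Agent.Lib.Helper92.Suz2.nt_ord LA τ
    have hτ : τ lam ≠ 0 := by
      intro h0
      rw [h0, inv_zero, mul_zero] at h1
      exact zero_ne_one h1
    field_simp at h1
    exact h1.symm
  obtain ⟨d, hd⟩ := Cfsg.Agent.Lib.Helper45.Suz2.exists_sep (F := F) (ι := F ≃+* F) (fun τ => lam * (τ lam)⁻¹) m
    (LamHyp.odd_order L) (by
      intro τ
      show (lam * (τ lam)⁻¹) ^ m = 1
      rw [mul_pow, inv_pow, ← map_pow, hlm, map_one, inv_one, mul_one]) (by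
      intro τ τ' hne k hk'
      have hk'' : (lam * (τ lam)⁻¹) ^ (2 ^ k) = lam * (τ' lam)⁻¹ := hk'
      by_cases hτ : τ = 1
      · subst hτ
        have h1 : lam * ((1 : F ≃+* F) lam)⁻¹ = 1 := mul_inv_cancel₀ hk
        rw [h1, one_pow] at hk''
        exact hne (hμ1 τ' hk''.symm).symm
      · by_cases hτ' : τ' = 1
        · subst hτ'
          have h1 : lam * ((1 : F ≃+* F) lam)⁻¹ = 1 := mul_inv_cancel₀ hk
          rw [h1] at hk''
          have h2 : lam * (τ lam)⁻¹ = 1 := by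
            have hinj := (frobenius_inj F 2).iterate k
            apply hinj
            rw [iterate_frobenius, iterate_frobenius, one_pow]
            exact hk''
          exact hτ (hμ1 τ h2)
        · exact hne (Cfsg.Agent.Lib.Helper76.Suz2.LamArith.nonconj_of
            Cfsg.Agent.Lib.Helper50.Suz2.nt_four LA τ τ' hτ hτ' k hk'')) τ₀
  exact CHyp.exists_pure_part_of_sep H L g τ₀ m d hd

end Cfsg.Agent.Lib.Helper37.Suz2
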