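import Mathlib

/-!
# A square matrix over a field is conjugate to its transpose

Proof: the `F[X]`-module attached to an endomorphism `φ` of a finite-dimensional space is a
direct sum of cyclic modules `F[X]/(q)`; each cyclic module carries an `X`-balanced bilinear
form `(x, y) ↦ l (x * y)` that is left-separating; summing and transporting gives a
`φ`-balanced nondegenerate form on the space, whose Gram matrix conjugates `A` to `Aᵀ`.
-/

set_option autoImplicit false

namespace Cfsg.Agent.Lib.Helper37

open Polynomial Module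

section cyclic
variable {F : Type*} [Field F]

/-- An algebra with a power basis has a linear functional whose kernel contains no nonzero
ideal. -/
theorem exists_functional_of_powerBasis {S : Type*} [CommRing S] [Algebra F S]
    (pb : PowerBasis F S) :
    ∃ l : S →ₗ[F] F, ∀ x : S, x ≠ 0 → ∃ y : S, l (x * y) ≠ 0 := by
  classical
  by_cases hd : pb.dim = 0
  · refine ⟨0, fun x hx => absurd ?_ hx⟩
    have : IsEmpty (Fin pb.dim) := by rw [hd]; infer_instance
    apply pb.basis.ext_elem
    intro i
    exact isEmptyElim i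
  · have hpos : 0 < pb.dim := Nat.pos_of_ne_zero hd
    set top : Fin pb.dim := ⟨pb.dim - 1, by omega⟩ with htop
    refine ⟨pb.basis.coord top, fun x hx => ?_⟩
    set c := pb.basis.repr x with hc
    have hc0 : c ≠ 0 := by
      intro h
      apply hx
      have := congrArg pb.basis.repr.symm h
      simpa [hc] using this
    have hsupp : c.support.Nonempty := Finsupp.support_nonempty_iff.2 hc0
    set k := c.support.max' hsupp with hk'
    have hk : c k ≠ 0 := Finsupp.mem_support_iff.1 (Finset.max'_mem _ _)
    have hmax : ∀ i, k < i → c i = 0 := fun i hi => by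
      by_contra h
      exact absurd (Finset.le_max' _ i (Finsupp.mem_support_iff.2 h)) (not_le.2 hi)
    refine ⟨pb.gen ^ (pb.dim - 1 - k), ?_⟩
    have hx' : x = ∑ i, c i • pb.gen ^ (i : ℕ) := by
      conv_lhs => rw [← pb.basis.sum_repr x]
      simp [pb.coe_basis, hc]
    rw [hx', Finset.sum_mul, map_sum]
    rw [Finset.sum_eq_single k]
    · rw [smul_mul_assoc, map_smul, ← pow_add]
      have h1 : (k : ℕ) + (pb.dim - 1 - k) = pb.dim - 1 := by omega
      rw [h1]
      have h2 : pb.gen ^ (pb.dim - 1) = pb.basis top := by rw [pb.coe_basis]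
      rw [h2, Basis.coord_apply, Basis.repr_self, Finsupp.single_eq_same, smul_eq_mul, mul_one]
      exact hk
    · intro i _ hik
      rcases lt_or_gt_of_ne hik with h | h
      · rw [smul_mul_assoc, map_smul, ← pow_add]
        have hlt : (i : ℕ) + (pb.dim - 1 - k) < pb.dim := by
          have : (i : ℕ) < k := h
          omega
        have h2 : pb.gen ^ ((i : ℕ) + (pb.dim - 1 - k)) = pb.basis ⟨_, hlt⟩ := by
          rw [pb.coe_basis]
        rw [h2, Basis.coord_apply, Basis.repr_self, Finsupp.single_eq_of_ne, smul_zero]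
        intro heq
        have := congrArg Fin.val heq
        simp only [htop] at this
        have : (i : ℕ) < k := h
        omega
      · rw [hmax i h, zero_smul, zero_mul, map_zero]
    · intro h
      exact absurd (Finset.mem_univ k) h

theorem exists_functional_quotient (q : F[X]) (hq : q ≠ 0) :
    ∃ l : (F[X] ⧸ Submodule.span F[X] {q}) →ₗ[F] F,
      ∀ x : F[X] ⧸ Submodule.span F[X] {q}, x ≠ 0 → ∃ y, l (x * y) ≠ 0 :=
  exists_functional_of_powerBasis (S := AdjoinRoot q) (AdjoinRoot.powerBasis hq)

end cyclic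

section directsum
open DirectSum
variable {F : Type*} [Field F]

theorem exists_form_directSum {ι : Type*} [Fintype ι] (q : ι → F[X]) (hq : ∀ i, q i ≠ 0) :
    ∃ b : (⨁ i, F[X] ⧸ Submodule.span F[X] {q i}) →ₗ[F]
        (⨁ i, F[X] ⧸ Submodule.span F[X] {q i}) →ₗ[F] F,
      (∀ x y, b ((X : F[X]) • x) y = b x ((X : F[X]) • y)) ∧
      (∀ x, x ≠ 0 → ∃ y, b x y ≠ 0) := by
  classical
  choose l hl using fun i => exists_functional_quotient (q i) (hq i)
  let N : ι → Type _ := fun i => F[X] ⧸ Submodule.span F[X] {q i}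
  let B : ∀ i, N i →ₗ[F] N i →ₗ[F] F := fun i => (LinearMap.mul F (N i)).compr₂ (l i)
  let pr : ∀ i, (⨁ i, N i) →ₗ[F] N i := fun i => DirectSum.component F ι N i
  refine ⟨∑ i, (B i).compl₁₂ (pr i) (pr i), ?_, ?_⟩
  · intro x y
    simp only [LinearMap.sum_apply, LinearMap.compl₁₂_apply]
    refine Finset.sum_congr rfl fun i _ => ?_
    have h1 : pr i ((X : F[X]) • x) = (X : F[X]) • pr i x := rfl
    have h2 : pr i ((X : F[X]) • y) = (X : F[X]) • pr i y := rfl
    rw [h1, h2]
    simp only [B, LinearMap.compr₂_apply, LinearMap.mul_apply']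
    rw [smul_mul_assoc, mul_smul_comm]
  · intro x hx
    obtain ⟨i, hi⟩ : ∃ i, x i ≠ 0 := by
      by_contra h
      push Not at h
      exact hx (DFinsupp.ext h)
    obtain ⟨y, hy⟩ := hl i (x i) hi
    refine ⟨DirectSum.lof F ι N i y, ?_⟩
    simp only [LinearMap.sum_apply, LinearMap.compl₁₂_apply]
    rw [Finset.sum_eq_single i]
    · simp only [B, pr, LinearMap.compr₂_apply, LinearMap.mul_apply', DirectSum.component.lof_self]
      exact hy
    · intro j _ hji
      have : pr j (DirectSum.lof F ι N i y) = 0 := by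
        show (DirectSum.of N i y) j = 0
        exact DirectSum.of_eq_of_ne (β := N) i j y hji
      rw [this, map_zero]
    · intro h
      exact absurd (Finset.mem_univ i) h

theorem exists_balanced_form {V : Type*} [AddCommGroup V] [Module F V] [FiniteDimensional F V]
    (φ : V →ₗ[F] V) :
    ∃ b : V →ₗ[F] V →ₗ[F] F, (∀ x y, b (φ x) y = b x (φ y)) ∧
      (∀ x, x ≠ 0 → ∃ y, b x y ≠ 0) := by
  have htors : Module.IsTorsion F[X] (AEval' φ) :=
    Module.AEval.isTorsion_of_finiteDimensional F V φ
  obtain ⟨ι, _, p, hp, e, ⟨E⟩⟩ := Module.equiv_directSum_of_isTorsion htors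
  obtain ⟨b, hb1, hb2⟩ := exists_form_directSum (fun i => p i ^ e i)
    (fun i => pow_ne_zero _ (hp i).ne_zero)
  let E' : V ≃ₗ[F] (⨁ i, F[X] ⧸ Submodule.span F[X] {p i ^ e i}) :=
    (AEval'.of φ).trans (E.restrictScalars F)
  have hE' : ∀ x, E' (φ x) = (X : F[X]) • E' x := by
    intro x
    show E (AEval'.of φ (φ x)) = (X : F[X]) • E (AEval'.of φ x)
    rw [← AEval'.X_smul_of, map_smul]
  refine ⟨b.compl₁₂ E'.toLinearMap E'.toLinearMap, ?_, ?_⟩
  · intro x y
    simp only [LinearMap.compl₁₂_apply, LinearEquiv.coe_coe]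
    rw [hE', hE', hb1]
  · intro x hx
    have hx' : E' x ≠ 0 := fun h => hx (E'.map_eq_zero_iff.1 h)
    obtain ⟨y, hy⟩ := hb2 _ hx'
    refine ⟨E'.symm y, ?_⟩
    simpa using hy

/-- A square matrix over a field is conjugate to its transpose. -/
theorem isConj_transpose {n : Type*} [Fintype n] [DecidableEq n] (A : Matrix n n F) :
    IsConj A A.transpose := by
  obtain ⟨b, hb1, hb2⟩ := exists_balanced_form (Matrix.toLin' A)
  have hsep : LinearMap.SeparatingLeft b := by
    intro x hx
    by_contra hne
    obtain ⟨y, hy⟩ := hb2 x hne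
    exact hy (hx y)
  have hnd : LinearMap.BilinForm.Nondegenerate b :=
    LinearMap.BilinForm.Nondegenerate.ofSeparatingLeft hsep
  set G : Matrix n n F := LinearMap.BilinForm.toMatrix' b with hG
  have hGnd : G.Nondegenerate := LinearMap.BilinForm.Nondegenerate.toMatrix' hnd
  have hdet : G.det ≠ 0 := Matrix.nondegenerate_iff_det_ne_zero.1 hGnd
  have hunit : IsUnit G := (Matrix.isUnit_iff_isUnit_det G).2 (isUnit_iff_ne_zero.2 hdet)
  have hcomp : LinearMap.BilinForm.compLeft b (Matrix.toLin' A)
      = LinearMap.BilinForm.compRight b (Matrix.toLin' A) := by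
    ext x y
    exact hb1 _ _
  have hmat : A.transpose * G = G * A := by
    have := congrArg LinearMap.BilinForm.toMatrix' hcomp
    rwa [LinearMap.BilinForm.toMatrix'_compLeft, LinearMap.BilinForm.toMatrix'_compRight,
      LinearMap.toMatrix'_toLin'] at this
  obtain ⟨u, hu⟩ := hunit
  refine ⟨u, ?_⟩
  show (u : Matrix n n F) * A = A.transpose * u
  rw [hu, hmat]

end directsum

end Cfsg.Agent.Lib.Helper37
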