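import Mathlib
import Cfsg.Agent.Lib.Helper37.TriNormD
import Cfsg.Agent.Lib.Helper36.InndiagPlus

set_option autoImplicit false

/-!
# S2608: triality acts non-trivially on `Inndiag / Inn` of `PΩ⁺₈(F)` (odd characteristic), and
the inner-diagonal group is normal (given the index of `PΓO⁺₈`)
-/

namespace Cfsg.Agent.Lib.Helper37.Tri

open Cfsg.Agent.Lib.Helper13 hiding isoGroup mem_isoGroup
open Cfsg.Agent.Lib.Helper36 Cfsg.Agent.Lib.Helper44 Cfsg.Agent.Lib.Helper36.AutO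
  Cfsg.Agent.Lib.Helper36.Tri Module Cfsg.Agent.Lib.Helper43 Cfsg.Agent.S2168

variable {F : Type*} [Field F] [Fintype F]

/-- a similarity inducing an inner automorphism has a square multiplier -/
theorem isSquare_mult_of_simAut_mem_Inn (h2 : (2 : F) ≠ 0)
    (g : ↥(Cfsg.Geo.quadSimilarityGroup (⇑(plusQF 4 F)))) (c : F)
    (hc : ∀ v, plusQF 4 F (((g : GL (Fin 4 ⊕ Fin 4) F) :
      Matrix (Fin 4 ⊕ Fin 4) (Fin 4 ⊕ Fin 4) F).mulVec v) = c * plusQF 4 F v)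
    (hg : simAut (⇑(plusQF 4 F)) g ∈ Cfsg.Inn (Cfsg.POmega F (⇑(plusQF 4 F)))) :
    IsSquare c := by
  classical
  obtain ⟨v₀, hv₀⟩ : ∃ v₀ : OV F, plusQF 4 F v₀ ≠ 0 := by
    obtain ⟨u, hu⟩ := exists_onorm_eq (1 : F)
    exact ⟨u, by rw [plusQF_eq_onorm, hu]; exact one_ne_zero⟩
  have hcard : Fintype.card (Fin 4 ⊕ Fin 4) = 2 * 4 := by
    rw [Fintype.card_sum, Fintype.card_fin]
  have hdim : 5 ≤ Fintype.card (Fin 4 ⊕ Fin 4) := by rw [hcard]; norm_num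
  have h1 := psi_eq_one_of_simAut_mem_psoAut (plusQF 4 F) v₀ hv₀ 4 (plusQF_nondeg 4 F) h2 hcard
    hdim g (Inn_le_psoAut _ hg)
  have h3 := ((psi_eq_one_iff (plusQF 4 F) v₀ hv₀ 4 (plusQF_nondeg 4 F) h2 hcard g).mp h1).1
  rw [psi1_eq_one_iff] at h3
  have hc0 : c ≠ 0 := by
    intro h0
    obtain ⟨d, hd⟩ := g.2
    have h5 := hc v₀
    rw [hd v₀, h0, zero_mul] at h5
    exact (mul_ne_zero d.ne_zero hv₀) h5
  have h4 : mult (plusQF 4 F) v₀ hv₀ g = Units.mk0 c hc0 :=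
    mult_eq (plusQF 4 F) v₀ hv₀ g (Units.mk0 c hc0) hc
  rw [h4] at h3
  exact h3

/-- **[T3]** triality moves the inner-diagonal group non-trivially modulo inner automorphisms -/
theorem tau_moves_inndiag_aux (h2 : (2 : F) ≠ 0) (τ : MulAut (Cfsg.POmega F (⇑(QO F))))
    (hτ : ∀ t : ↥(RT' F), τ (psi (MO F) t) = psi (MO F) (thetaR t)) :
    ∃ x : MulAut (Cfsg.POmega F (⇑(QO F))), x ∈ inndiagPlusQ 4 F ∧
      τ * x * τ⁻¹ * x⁻¹ ∉ Cfsg.Inn (Cfsg.POmega F (⇑(QO F))) := by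
  have hchar : ringChar F ≠ 2 := by
    intro hc
    apply h2
    have : ((2 : ℕ) : F) = 0 := by
      rw [← hc]; exact ringChar.Nat.cast_ringChar
    exact_mod_cast this
  obtain ⟨η, hη⟩ := FiniteField.exists_nonsquare hchar
  have hη0 : η ≠ 0 := by
    rintro rfl
    exact hη IsSquare.zero
  obtain ⟨a, ha⟩ := exists_onorm_eq (1 : F)
  obtain ⟨b, hb⟩ := exists_onorm_eq η
  obtain ⟨A, B, C, hAi, hB, hC, hrel, hAx, hBx, -⟩ :=
    refl_rel_gen a b 1 η one_ne_zero hη0 ha hb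
  have hAeq : A = reflE 1 one_ne_zero a ha * reflE η hη0 b hb := by
    ext x
    rw [hAx]
    rfl
  have hAs : IsSim A 1 := isSim_one_iff.mpr hAi
  have hAe : plusEvenLin A := by
    rw [hAeq, plusEvenLin_mul_sim (isSim_one_iff.mpr (isIso_reflE _ _ _ _))
      (isSim_one_iff.mpr (isIso_reflE _ _ _ _))]
    exact iff_of_false (not_plusEvenLin_reflE _ _ _ _) (not_plusEvenLin_reflE _ _ _ _)
  refine ⟨simAut (⇑(QO F)) (simOf A 1 hAs), simAut_simOf_mem_inndiag A 1 hAs hAe, ?_⟩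
  rw [tau_conj_simAut τ hτ hAs hB hC hrel, ← map_inv, ← map_mul]
  intro hmem
  have hsq := isSquare_mult_of_simAut_mem_Inn h2
    (simOf (hatE B) (1 * η)⁻¹ hB.hatE * (simOf A 1 hAs)⁻¹) ((1 * η)⁻¹ * 1⁻¹) (by
      intro v
      have h5 : IsSim (hatE B * A⁻¹) ((1 * η)⁻¹ * 1⁻¹) := hB.hatE.mul hAs.inv
      have h6 : (((simOf (hatE B) (1 * η)⁻¹ hB.hatE * (simOf A 1 hAs)⁻¹ :
          ↥(Cfsg.Geo.quadSimilarityGroup (⇑(QO F)))) : GL (Fin 4 ⊕ Fin 4) F) :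
          Matrix (Fin 4 ⊕ Fin 4) (Fin 4 ⊕ Fin 4) F).mulVec v = (hatE B * A⁻¹) v := by
        rw [← glLinEquiv_apply, Subgroup.coe_mul, map_mul, Subgroup.coe_inv, map_inv,
          glLinEquiv_simOf, glLinEquiv_simOf]
      rw [h6]
      exact h5 v) hmem
  apply hη
  rw [one_mul, inv_one, mul_one] at hsq
  obtain ⟨r, hr⟩ := hsq
  have hr0 : r ≠ 0 := by
    rintro rfl
    rw [mul_zero] at hr
    exact inv_ne_zero hη0 hr
  refine ⟨r⁻¹, ?_⟩
  rw [← mul_inv, ← hr, inv_inv]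

/-- **[T3]** in the form asked for by S2608 -/
theorem tau_moves_inndiag (hodd : Odd (Fintype.card F))
    (τ : MulAut (Cfsg.POmega F (Cfsg.quadFormPlus 4 F)))
    (hτ : ∀ t : ↥(RT' F), τ (psi (MO F) t) = psi (MO F) (thetaR t)) :
    ∃ x ∈ Cfsg.inndiagPOmegaPlus 4 F,
      τ * x * τ⁻¹ * x⁻¹ ∉ Cfsg.Inn (Cfsg.POmega F (Cfsg.quadFormPlus 4 F)) :=
  tau_moves_inndiag_aux (Cfsg.Agent.Lib.Helper13.two_ne_zero_of_odd_card hodd) τ hτ

/-- **[N4]** the inner-diagonal group of `PΩ⁺₈(F)` is normal in the automorphism group (odd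
characteristic), given that `PΓO⁺₈(F)` has index three -/
theorem inndiag8_normal_of_index (hodd : Odd (Fintype.card F))
    (hidx : (Cfsg.gammaPOmega F (Cfsg.quadFormPlus 4 F)).index = 3) :
    (Cfsg.inndiagPOmegaPlus 4 F).Normal :=
  ⟨fun δ hδ α => conj_mem_inndiag_of_index_odd
    (Cfsg.Agent.Lib.Helper13.two_ne_zero_of_odd_card hodd) hidx α δ hδ⟩

end Cfsg.Agent.Lib.Helper37.Tri
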