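/-
helper37 library: the number of monic self-(unitary-)dual polynomials of degree `n ≥ 1` with
constant term `(-1)^n` over the field with `q²` elements is `q^(n-1)`.
-/
import Mathlib
import Cfsg.Agent.Lib.Helper37.CycloDual
import Cfsg.Agent.Lib.Helper40.SemisimpleCount

set_option autoImplicit false

namespace Cfsg.Agent.Lib.Helper37.UdualCount

open Polynomial Cfsg.Agent.Lib.Helper5 Cfsg.Agent.Lib.Helper37.GUConj
  Cfsg.Agent.Lib.Helper37.DualPoly Cfsg.Agent.Lib.Helper37.CycloDual

variable {K : Type*} [Field K] [Fintype K] {q : ℕ}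

/-- the twisted reversal of a coefficient vector -/
noncomputable def tw (hK : Fintype.card K = q ^ 2) (ε : K) {m : ℕ} (h : Fin m → K) : Fin m → K :=
  fun j => ε * sig hK (h (Fin.rev j))

theorem tw_apply (hK : Fintype.card K = q ^ 2) (ε : K) {m : ℕ} (h : Fin m → K) (j : Fin m) :
    tw hK ε h j = ε * sig hK (h (Fin.rev j)) := rfl

/-- the fixed points of the twisted reversal form a "real form": `K^m ≃ Fix × Fix` -/
theorem card_fix_sq (hK : Fintype.card K = q ^ 2) (ε : K) (hε : ε * sig hK ε = 1) (m : ℕ) :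
    Nat.card {h : Fin m → K // tw hK ε h = h} ^ 2 = (q ^ 2) ^ m := by
  classical
  obtain ⟨ω, hω⟩ := exists_sig_ne hK
  obtain ⟨ω', hω'⟩ : ∃ ω', ω' = sig hK ω := ⟨_, rfl⟩
  have hσω' : sig hK ω' = ω := by rw [hω', sig_sig]
  have hδ0 : ω - ω' ≠ 0 := by
    intro h
    rw [hω'] at h
    exact hω (sub_eq_zero.1 h).symm
  obtain ⟨d, hd⟩ : ∃ d, d = (ω - ω')⁻¹ := ⟨_, rfl⟩
  have hd1 : d * (ω - ω') = 1 := by rw [hd]; exact inv_mul_cancel₀ hδ0
  have hσd : sig hK d = -d := by
    rw [hd, map_inv₀, map_sub, hσω', ← hω', ← neg_sub ω ω', inv_neg]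
  obtain ⟨ε', hε'⟩ : ∃ ε', ε' = sig hK ε := ⟨_, rfl⟩
  rw [← hε'] at hε
  let e : (Fin m → K) ≃ {h : Fin m → K // tw hK ε h = h} × {h : Fin m → K // tw hK ε h = h} :=
    { toFun := fun x =>
        (⟨fun j => x j - ω * (d * (x j - tw hK ε x j)), by
            funext j
            simp only [tw_apply, Fin.rev_rev, map_sub, map_mul, sig_sig, hσd, ← hω', ← hε']
            linear_combination (-(ε * sig hK (x (Fin.rev j)) - x j)) * hd1 -
              (ω' * d * x j) * hε⟩,
         ⟨fun j => d * (x j - tw hK ε x j), by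
            funext j
            simp only [tw_apply, Fin.rev_rev, map_sub, map_mul, sig_sig, hσd, ← hε']
            linear_combination (d * x j) * hε⟩)
      invFun := fun y => fun j => y.1.1 j + ω * y.2.1 j
      left_inv := by
        intro x
        funext j
        ring
      right_inv := by
        rintro ⟨⟨y₁, hy₁⟩, ⟨y₂, hy₂⟩⟩
        have h1 : ∀ j, ε * sig hK (y₁ (Fin.rev j)) = y₁ j := fun j => congrFun hy₁ j
        have h2 : ∀ j, ε * sig hK (y₂ (Fin.rev j)) = y₂ j := fun j => congrFun hy₂ j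
        apply Prod.ext
        · apply Subtype.ext
          funext j
          simp only [tw_apply, map_add, map_mul, ← hω']
          linear_combination (ω * d) * h1 j + (ω * d * ω') * h2 j - (ω * y₂ j) * hd1
        · apply Subtype.ext
          funext j
          simp only [tw_apply, map_add, map_mul, ← hω']
          linear_combination (-d) * h1 j - (d * ω') * h2 j + (y₂ j) * hd1 }
  rw [sq, ← Nat.card_prod, ← Nat.card_congr e, Nat.card_eq_fintype_card, Fintype.card_fun,
    Fintype.card_fin, hK]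

theorem card_fix (hK : Fintype.card K = q ^ 2) (ε : K) (hε : ε * sig hK ε = 1) (m : ℕ) :
    Nat.card {h : Fin m → K // tw hK ε h = h} = q ^ m := by
  have h := card_fix_sq hK ε hε m
  rw [← pow_mul, mul_comm, pow_mul] at h
  exact Nat.pow_left_injective (by norm_num : 2 ≠ 0) h


theorem udual_coeff (hK : Fintype.card K = q ^ 2) (f : K[X]) (i : ℕ) (hi : i ≤ f.natDegree) :
    (udual hK f).coeff i = (sig hK (f.coeff 0))⁻¹ * sig hK (f.coeff (f.natDegree - i)) := by
  unfold udual rdual
  have hdeg : (f.map (sig hK : K →+* K)).natDegree = f.natDegree := natDegree_map _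
  rw [coeff_C_mul, coeff_reverse, hdeg, revAt_le hi, coeff_map, coeff_map]
  rfl

theorem udual_coeff_gt (hK : Fintype.card K = q ^ 2) (f : K[X]) (i : ℕ) (hi : f.natDegree < i) :
    (udual hK f).coeff i = 0 := by
  unfold udual rdual
  have hdeg : (f.map (sig hK : K →+* K)).natDegree = f.natDegree := natDegree_map _
  rw [coeff_C_mul, coeff_reverse, hdeg, revAt_eq_self_of_lt hi, coeff_map, coeff_map,
    coeff_eq_zero_of_natDegree_lt hi, map_zero, mul_zero]

theorem udual_eq_self_iff_coeff (hK : Fintype.card K = q ^ 2) (f : K[X]) :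
    udual hK f = f ↔ ∀ i ≤ f.natDegree,
      f.coeff i = (sig hK (f.coeff 0))⁻¹ * sig hK (f.coeff (f.natDegree - i)) := by
  constructor
  · intro h i hi
    rw [← udual_coeff hK f i hi, h]
  · intro h
    ext i
    by_cases hi : i ≤ f.natDegree
    · rw [udual_coeff hK f i hi, ← h i hi]
    · push Not at hi
      rw [udual_coeff_gt hK f i hi, coeff_eq_zero_of_natDegree_lt hi]

/-- the count of monic self-dual polynomials with constant term `(-1)^(k+1)` -/
theorem card_udual_poly (hK : Fintype.card K = q ^ 2) (k : ℕ) :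
    Nat.card {f : K[X] // f.Monic ∧ f.natDegree = k + 1 ∧ udual hK f = f ∧
      f.coeff 0 = (-1) ^ (k + 1)} = q ^ k := by
  classical
  obtain ⟨ε, hε⟩ : ∃ ε : K, ε = (-1) ^ (k + 1) := ⟨_, rfl⟩
  have hεσ : sig hK ε = ε := by rw [hε, map_pow, map_neg, map_one]
  have hεε : ε * ε = 1 := by
    rw [hε, ← pow_add, ← two_mul, pow_mul]; norm_num
  have hεinv : ε⁻¹ = ε := inv_eq_of_mul_eq_one_right hεε
  have hεn : ε * sig hK ε = 1 := by rw [hεσ, hεε]
  rw [← hε, ← card_fix hK ε hεn k]
  -- step 1: regroup the conjunction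
  have e1 : {f : K[X] // f.Monic ∧ f.natDegree = k + 1 ∧ udual hK f = f ∧ f.coeff 0 = ε} ≃
      {f : {f : K[X] // f.Monic ∧ f.natDegree = k + 1} // udual hK f.1 = f.1 ∧ f.1.coeff 0 = ε} :=
    { toFun := fun f => ⟨⟨f.1, f.2.1, f.2.2.1⟩, f.2.2.2.1, f.2.2.2.2⟩
      invFun := fun f => ⟨f.1.1, f.1.2.1, f.1.2.2, f.2.1, f.2.2⟩
      left_inv := fun f => rfl
      right_inv := fun f => rfl }
  -- step 2: pass to coefficient vectors
  have hiff : ∀ f : {f : K[X] // f.Monic ∧ f.natDegree = k + 1},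
      (udual hK f.1 = f.1 ∧ f.1.coeff 0 = ε) ↔
      ((Cfsg.Agent.Lib.Helper40.monicCoeffEquiv (k + 1) f) 0 = ε ∧
        tw hK ε (Fin.tail (Cfsg.Agent.Lib.Helper40.monicCoeffEquiv (k + 1) f)) =
          Fin.tail (Cfsg.Agent.Lib.Helper40.monicCoeffEquiv (k + 1) f)) := by
    rintro ⟨f, hmon, hdeg⟩
    have hlead : f.coeff (k + 1) = 1 := by
      have := hmon
      unfold Monic leadingCoeff at this
      rwa [hdeg] at this
    have htail : ∀ j : Fin k, Fin.tail (Cfsg.Agent.Lib.Helper40.monicCoeffEquiv (k + 1)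
        ⟨f, hmon, hdeg⟩) j = f.coeff (j.val + 1) := by
      intro j
      unfold Fin.tail
      rw [Cfsg.Agent.Lib.Helper40.monicCoeffEquiv_apply]
      rfl
    have h0 : (Cfsg.Agent.Lib.Helper40.monicCoeffEquiv (k + 1) ⟨f, hmon, hdeg⟩) 0 = f.coeff 0 := by
      rw [Cfsg.Agent.Lib.Helper40.monicCoeffEquiv_apply]
      rfl
    rw [h0]
    show (udual hK f = f ∧ f.coeff 0 = ε) ↔ _
    constructor
    · rintro ⟨hd, hc0⟩
      refine ⟨hc0, ?_⟩
      funext j
      rw [tw_apply, htail, htail]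
      have h1 := (udual_eq_self_iff_coeff hK f).1 hd (j.val + 1) (by rw [hdeg]; omega)
      rw [hc0, hεσ, hεinv, hdeg] at h1
      rw [h1]
      congr 3
      rw [Fin.val_rev]
      omega
    · rintro ⟨hc0, htw⟩
      refine ⟨?_, hc0⟩
      rw [udual_eq_self_iff_coeff, hdeg, hc0, hεσ, hεinv]
      intro i hi
      rcases Nat.eq_zero_or_pos i with hi0 | hi0
      · subst hi0
        rw [Nat.sub_zero, hlead, map_one, mul_one, hc0]
      rcases Nat.lt_or_ge i (k + 1) with hik | hik
      · have h1 := congrFun htw ⟨i - 1, by omega⟩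
        rw [tw_apply, htail, htail] at h1
        have e1 : (⟨i - 1, by omega⟩ : Fin k).val + 1 = i := by simp; omega
        have e2 : (Fin.rev (⟨i - 1, by omega⟩ : Fin k)).val + 1 = k + 1 - i := by
          rw [Fin.val_rev]; simp; omega
        rw [e1, e2] at h1
        exact h1.symm
      · have : i = k + 1 := by omega
        subst this
        rw [Nat.sub_self, hc0, hεσ, hεε, hlead]
  have e2 : {f : {f : K[X] // f.Monic ∧ f.natDegree = k + 1} //
      udual hK f.1 = f.1 ∧ f.1.coeff 0 = ε} ≃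
      {a : Fin (k + 1) → K // a 0 = ε ∧ tw hK ε (Fin.tail a) = Fin.tail a} :=
    Equiv.subtypeEquiv (p := fun f : {f : K[X] // f.Monic ∧ f.natDegree = k + 1} =>
        udual hK f.1 = f.1 ∧ f.1.coeff 0 = ε)
      (q := fun a : Fin (k + 1) → K => a 0 = ε ∧ tw hK ε (Fin.tail a) = Fin.tail a)
      (Cfsg.Agent.Lib.Helper40.monicCoeffEquiv (F := K) (k + 1)) hiff
  -- step 3: drop the constant coefficient
  have e3 : {a : Fin (k + 1) → K // a 0 = ε ∧ tw hK ε (Fin.tail a) = Fin.tail a} ≃
      {h : Fin k → K // tw hK ε h = h} :=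
    { toFun := fun a => ⟨Fin.tail a.1, a.2.2⟩
      invFun := fun h => ⟨Fin.cons ε h.1, by rw [Fin.cons_zero, Fin.tail_cons]; exact ⟨rfl, h.2⟩⟩
      left_inv := by
        rintro ⟨a, ha0, ha⟩
        apply Subtype.ext
        show (Fin.cons ε (Fin.tail a) : Fin (k + 1) → K) = a
        rw [← ha0]
        exact Fin.cons_self_tail a
      right_inv := by
        rintro ⟨h, hh⟩
        apply Subtype.ext
        show Fin.tail (Fin.cons ε h : Fin (k + 1) → K) = h
        rw [Fin.tail_cons] }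
  exact Nat.card_congr (e1.trans (e2.trans e3))

end Cfsg.Agent.Lib.Helper37.UdualCount
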