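/-
helper37 library: determinants of unitary matrices centralising a semisimple unitary matrix.
Main result `exists_unitary_commute_det`: a semisimple element of `GU_n(q)` (`n ≥ 1`) is
centralised by unitary matrices of every norm-one determinant.  The proof builds a block model
(an atomic self-dual block or a hyperbolic block, plus a unitary rest) and transfers along the
`GU`-conjugacy given by `GUConj.exists_unitary_conj`.
-/
import Mathlib
import Cfsg.Agent.Lib.Helper37.GUSimilar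
import Cfsg.Agent.Lib.Helper37.PGUConj
import Cfsg.Agent.Lib.Helper37.SpExist3
import Cfsg.Agent.Lib.Helper40.SemisimpleGL
import Cfsg.Agent.Lib.Helper40.SemisimpleCount
import Cfsg.Agent.Lib.Helper40.SemisimpleConj
import Cfsg.Agent.Lib.Helper43.SemisimpleCentralizerDet

set_option autoImplicit false

namespace Cfsg.Agent.Lib.Helper37.UCD

open Matrix Polynomial Cfsg Cfsg.Agent.Lib.Helper5 Cfsg.Agent.Lib.Helper37.NormEq
  Cfsg.Agent.Lib.Helper37.GUConj Cfsg.Agent.Lib.Helper37.GUSimilar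
  Cfsg.Agent.Lib.Helper37.DualPoly Cfsg.Agent.Lib.Helper37.CycloDual
  Cfsg.Agent.Lib.Helper37.PGUConj

variable {K : Type*} [Field K] [Fintype K] {q n : ℕ}

theorem st_inv (hK : Fintype.card K = q ^ 2) (M : Matrix (Fin n) (Fin n) K) (hM : IsUnit M.det) :
    st hK M⁻¹ = (st hK M)⁻¹ := by
  symm
  apply Matrix.inv_eq_right_inv
  rw [← st_mul, Matrix.nonsing_inv_mul M hM, st_one]

theorem isUnit_det_st (hK : Fintype.card K = q ^ 2) (M : Matrix (Fin n) (Fin n) K)
    (hM : IsUnit M.det) : IsUnit (st hK M).det := by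
  rw [st_det]; exact hM.map _

/-- if `M` preserves the form `st T * T` then `T M T⁻¹` is unitary. -/
theorem unitary_conj_of_invariant (hK : Fintype.card K = q ^ 2)
    (M T : Matrix (Fin n) (Fin n) K) (hT : IsUnit T.det)
    (hinv : st hK M * (st hK T * T) * M = st hK T * T) :
    IsUnitaryMat q (T * M * T⁻¹) := by
  have hTi1 : T * T⁻¹ = 1 := mul_nonsing_inv T hT
  rw [isUnitaryMat_iff_st hK, st_mul, st_mul]
  have h1 : st hK T⁻¹ * st hK T = 1 := by rw [← st_mul, hTi1, st_one]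
  calc st hK T⁻¹ * (st hK M * st hK T) * (T * M * T⁻¹)
      = st hK T⁻¹ * (st hK M * (st hK T * T) * M) * T⁻¹ := by simp only [Matrix.mul_assoc]
    _ = st hK T⁻¹ * (st hK T * T) * T⁻¹ := by rw [hinv]
    _ = (st hK T⁻¹ * st hK T) * (T * T⁻¹) := by simp only [Matrix.mul_assoc]
    _ = 1 := by rw [h1, hTi1, Matrix.one_mul]

/-- a normal invertible matrix `ψ` gives the unitary matrix `ψ (ψ⋆)⁻¹`. -/
theorem normal_quot_unitary (hK : Fintype.card K = q ^ 2) (ψ : Matrix (Fin n) (Fin n) K)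
    (hψ : IsUnit ψ.det) (hcomm : ψ * st hK ψ = st hK ψ * ψ) :
    IsUnitaryMat q (ψ * (st hK ψ)⁻¹) ∧ (ψ * (st hK ψ)⁻¹).det = ψ.det * (sig hK ψ.det)⁻¹ := by
  have hsψ : IsUnit (st hK ψ).det := isUnit_det_st hK ψ hψ
  constructor
  · rw [isUnitaryMat_iff_st hK, st_mul, st_inv hK _ hsψ, st_st]
    calc ψ⁻¹ * st hK ψ * (ψ * (st hK ψ)⁻¹) = ψ⁻¹ * (st hK ψ * ψ) * (st hK ψ)⁻¹ := by
          simp only [Matrix.mul_assoc]
      _ = ψ⁻¹ * (ψ * st hK ψ) * (st hK ψ)⁻¹ := by rw [hcomm]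
      _ = (ψ⁻¹ * ψ) * (st hK ψ * (st hK ψ)⁻¹) := by simp only [Matrix.mul_assoc]
      _ = 1 := by rw [nonsing_inv_mul ψ hψ, mul_nonsing_inv _ hsψ, Matrix.one_mul]
  · rw [det_mul, det_nonsing_inv, st_det, Ring.inverse_eq_inv']

/-- transfer of a centralising unitary element along a `GL`-conjugacy of unitary matrices. -/
theorem transfer (hK : Fintype.card K = q ^ 2) (a b cb : Matrix (Fin n) (Fin n) K)
    (ha : IsUnitaryMat q a) (hb : IsUnitaryMat q b) (hcb : IsUnitaryMat q cb)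
    (hcomm : cb * b = b * cb)
    (hssa : Module.End.IsSemisimple (Matrix.toLin' a))
    (hssb : Module.End.IsSemisimple (Matrix.toLin' b))
    (hchar : a.charpoly = b.charpoly) :
    ∃ c : Matrix (Fin n) (Fin n) K, IsUnitaryMat q c ∧ c * a = a * c ∧ c.det = cb.det := by
  obtain ⟨P, hP⟩ := Cfsg.Agent.Lib.Helper40.exists_gl_conj_of_charpoly_eq a b hssa hssb hchar
  have hPdet : IsUnit (P : Matrix (Fin n) (Fin n) K).det :=
    (Matrix.isUnit_iff_isUnit_det _).1 P.isUnit
  obtain ⟨u, hu, hua⟩ := exists_unitary_conj hK a b P ha hb hPdet hP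
  rw [isUnitaryMat_iff_st hK] at ha hb hcb hu
  have hu' : u * st hK u = 1 := mul_eq_one_comm.1 hu
  have hsub : st hK u * b = a * st hK u := by
    calc st hK u * b = st hK u * (b * u) * st hK u := by
          rw [Matrix.mul_assoc, Matrix.mul_assoc, hu', Matrix.mul_one]
      _ = st hK u * (u * a) * st hK u := by rw [hua]
      _ = (st hK u * u) * a * st hK u := by simp only [Matrix.mul_assoc]
      _ = a * st hK u := by rw [hu, Matrix.one_mul]
  refine ⟨st hK u * cb * u, ?_, ?_, ?_⟩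
  · rw [isUnitaryMat_iff_st hK, st_mul, st_mul, st_st]
    calc st hK u * (st hK cb * u) * (st hK u * cb * u)
        = st hK u * (st hK cb * (u * st hK u) * cb) * u := by simp only [Matrix.mul_assoc]
      _ = st hK u * (st hK cb * cb) * u := by rw [hu', Matrix.mul_one]
      _ = 1 := by rw [hcb, Matrix.mul_one, hu]
  · calc st hK u * cb * u * a = st hK u * cb * (u * a) := by simp only [Matrix.mul_assoc]
      _ = st hK u * (cb * b) * u := by rw [hua]; simp only [Matrix.mul_assoc]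
      _ = (st hK u * b) * cb * u := by rw [hcomm]; simp only [Matrix.mul_assoc]
      _ = a * (st hK u * cb * u) := by rw [hsub]; simp only [Matrix.mul_assoc]
  · rw [det_mul, det_mul, mul_comm (st hK u).det, mul_assoc, ← det_mul, hu, det_one, mul_one]

/-- every monic self-dual polynomial with non-zero constant term is the characteristic polynomial
of a unitary matrix of order prime to the characteristic. -/
theorem exists_unitary_charpoly {p : ℕ} [Fact p.Prime] [CharP K p] (hK : Fintype.card K = q ^ 2)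
    (f : K[X]) (hf : f.Monic) (hdeg : f.natDegree = n) (hdual : udual hK f = f)
    (hf0 : f.coeff 0 ≠ 0) :
    ∃ B : Matrix (Fin n) (Fin n) K, IsUnitaryMat q B ∧ B.charpoly = f ∧
      ∃ N : ℕ, (N : K) ≠ 0 ∧ B ^ N = 1 := by
  classical
  have hp : p.Prime := Fact.out
  rcases Nat.eq_zero_or_pos n with hn | hn
  · subst hn
    refine ⟨1, Subsingleton.elim _ _, ?_, 1, by simp, Subsingleton.elim _ _⟩
    rw [Matrix.charpoly_isEmpty]
    exact ((Polynomial.Monic.natDegree_eq_zero hf).mp hdeg).symm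
  have : Nonempty (Fin n) := ⟨⟨0, hn⟩⟩
  obtain ⟨A, hAss, hAchar⟩ :=
    Cfsg.Agent.Lib.Helper40.exists_matrix_semisimple_charpoly n f hf hdeg
  have hAdet : IsUnit A.det := by
    rw [Matrix.det_eq_sign_charpoly_coeff, hAchar]
    exact IsUnit.mul (IsUnit.pow _ (isUnit_one.neg)) (isUnit_iff_ne_zero.2 hf0)
  obtain ⟨g, hg⟩ : ∃ g : GL (Fin n) K, (g : Matrix (Fin n) (Fin n) K) = A :=
    ⟨Matrix.GeneralLinearGroup.mk'' A hAdet, rfl⟩
  have hcop : (orderOf g).Coprime p :=
    Cfsg.Agent.Lib.Helper40.coprime_orderOf_of_isSemisimple p g (by rw [hg]; exact hAss)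
  set N := orderOf g with hN
  have hNK : (N : K) ≠ 0 := by
    rw [Ne, CharP.cast_eq_zero_iff K p]
    intro hd
    exact hp.one_lt.ne' (Nat.Coprime.eq_one_of_dvd hcop.symm hd)
  have hApow : A ^ N = (1 : K) • 1 := by
    rw [one_smul, ← hg, ← Units.val_pow_eq_pow_val, hN, pow_orderOf_eq_one, Units.val_one]
  obtain ⟨u, hu1, hu2, hu3⟩ := exists_unitary_rep hK N hNK A 1 one_ne_zero hApow hAss
    (by rw [hAchar, hdual])
  refine ⟨u.1.1, (isUnitaryMat_iff_st hK _).2 (GU_unitary hK u), by rw [hu2, hAchar], N, hNK, ?_⟩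
  rw [hu3, one_smul]

/-- Hilbert 90 for the field with `q²` elements. -/
theorem exists_quot_eq (hK : Fintype.card K = q ^ 2) (ζ : K) (hζ : ζ * sig hK ζ = 1) :
    ∃ w : K, w ≠ 0 ∧ w * (sig hK w)⁻¹ = ζ := by
  obtain ⟨a, ha⟩ := exists_sig_ne hK
  have ha' : IsUnit (a - (sig hK : K →+* K) a) := by
    rw [isUnit_iff_ne_zero]
    intro h
    exact ha (sub_eq_zero.1 h).symm
  obtain ⟨r, hr, hr'⟩ := hilbert90 (sig hK : K →+* K) (sig_sig hK) a ha' ζ hζ
  have hr0 : r ≠ 0 := hr.ne_zero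
  have hs0 : sig hK r ≠ 0 := (map_ne_zero_iff _ (sig hK).injective).2 hr0
  refine ⟨r, hr0, ?_⟩
  have : r = ζ * sig hK r := hr'
  rw [mul_inv_eq_iff_eq_mul₀ hs0]
  exact this

/-- a matrix with irreducible characteristic polynomial: every element of the base field is the
determinant of a polynomial in the matrix. -/
theorem exists_aeval_det_eq (B : Matrix (Fin n) (Fin n) K) (hirr : Irreducible B.charpoly)
    (w : K) : ∃ r : K[X], (aeval B r).det = w := by
  classical
  set m := B.charpoly with hm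
  have hmon : m.Monic := Matrix.charpoly_monic B
  have hdeg : m.natDegree = n := by
    rw [hm, Matrix.charpoly_natDegree_eq_dim, Fintype.card_fin]
  have hn : 0 < n := by rw [← hdeg]; exact hirr.natDegree_pos
  have : Fact (Irreducible m) := ⟨hirr⟩
  set φ : Module.End K (Fin n → K) := Matrix.toLin' B with hφ
  have hφm : ∀ r : K[X], aeval φ r = Matrix.toLin' (aeval B r) := by
    intro r
    have h1 : ∀ M : Matrix (Fin n) (Fin n) K, Matrix.toLin' M = Matrix.toLinAlgEquiv' M :=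
      fun _ => rfl
    rw [hφ, h1, h1, ← aeval_algHom_apply]
  let x₀ : Fin n → K := Pi.single ⟨0, hn⟩ 1
  have hx₀ : x₀ ≠ 0 := by
    intro h
    have := congrFun h ⟨0, hn⟩
    simp [x₀] at this
  have h0 : aeval φ m x₀ = 0 := by
    rw [hφm, hm, Matrix.aeval_self_charpoly, map_zero, LinearMap.zero_apply]
  have hfin : Module.Finite K (AdjoinRoot m) :=
    Cfsg.Agent.Lib.Helper40.finite_adjoinRoot m hmon.ne_zero
  have hfinite : Finite (AdjoinRoot m) := Module.finite_of_finite K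
  have hinj := Cfsg.Agent.Lib.Helper40.iotaF_injective φ m hirr x₀ hx₀ h0
  have hdim : Module.finrank K (AdjoinRoot m) = Module.finrank K (Fin n → K) := by
    rw [(AdjoinRoot.powerBasis hmon.ne_zero).finrank, AdjoinRoot.powerBasis_dim, hdeg,
      Module.finrank_fin_fun]
  have hsurj : Function.Surjective (Cfsg.Agent.Lib.Helper40.iotaF φ m x₀ h0) :=
    (LinearMap.injective_iff_surjective_of_finrank_eq_finrank hdim).1 hinj
  let e : AdjoinRoot m ≃ₗ[K] (Fin n → K) :=
    LinearEquiv.ofBijective (Cfsg.Agent.Lib.Helper40.iotaF φ m x₀ h0) ⟨hinj, hsurj⟩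
  obtain ⟨θ, hθ⟩ := FiniteField.norm_surjective K (AdjoinRoot m) w
  obtain ⟨r, hr⟩ := AdjoinRoot.mk_surjective (g := m) θ
  refine ⟨r, ?_⟩
  rw [← LinearMap.det_toLin', ← hφm]
  have hconj : aeval φ r = e.toLinearMap ∘ₗ (Algebra.lmul K (AdjoinRoot m) θ) ∘ₗ
      e.symm.toLinearMap := by
    apply LinearMap.ext
    intro x
    obtain ⟨y, rfl⟩ := e.surjective x
    simp only [LinearMap.coe_comp, LinearEquiv.coe_coe, Function.comp_apply,
      LinearEquiv.symm_apply_apply]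
    show aeval φ r (Cfsg.Agent.Lib.Helper40.iotaF φ m x₀ h0 y) =
      Cfsg.Agent.Lib.Helper40.iotaF φ m x₀ h0 (θ * y)
    rw [← hr, Cfsg.Agent.Lib.Helper40.iotaF_mk_mul]
  rw [hconj, LinearMap.det_conj, ← Algebra.norm_apply, hθ]

omit [Fintype K] in
theorem inv_comm_of_comm (X B : Matrix (Fin n) (Fin n) K) (hX : IsUnit X.det)
    (h : X * B = B * X) : X⁻¹ * B = B * X⁻¹ := by
  calc X⁻¹ * B = X⁻¹ * (B * X) * X⁻¹ := by
        rw [Matrix.mul_assoc, Matrix.mul_assoc, mul_nonsing_inv X hX, Matrix.mul_one]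
    _ = X⁻¹ * (X * B) * X⁻¹ := by rw [h]
    _ = (X⁻¹ * X) * B * X⁻¹ := by simp only [Matrix.mul_assoc]
    _ = B * X⁻¹ := by rw [nonsing_inv_mul X hX, Matrix.one_mul]

/-- the atomic self-dual block: a unitary matrix with irreducible characteristic polynomial is
centralised by unitary matrices of every norm-one determinant. -/
theorem exists_atomic_selfdual (hK : Fintype.card K = q ^ 2) (B : Matrix (Fin n) (Fin n) K)
    (hB : IsUnitaryMat q B) (hirr : Irreducible B.charpoly) (ζ : K) (hζ : ζ * sig hK ζ = 1) :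
    ∃ c : Matrix (Fin n) (Fin n) K, IsUnitaryMat q c ∧ c * B = B * c ∧ c.det = ζ := by
  obtain ⟨w, hw0, hw⟩ := exists_quot_eq hK ζ hζ
  obtain ⟨r, hr⟩ := exists_aeval_det_eq B hirr w
  rw [isUnitaryMat_iff_st hK] at hB
  have hB' : B * st hK B = 1 := mul_eq_one_comm.1 hB
  have hBc : Commute (st hK B) B := by
    show st hK B * B = B * st hK B
    rw [hB, hB']
  set ψ := aeval B r with hψ
  have hψdet : IsUnit ψ.det := by rw [hr]; exact isUnit_iff_ne_zero.2 hw0
  have h1 : Commute (st hK B) ψ := commute_aeval _ _ hBc r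
  have h2 : Commute ψ (st hK ψ) := by
    rw [hψ, st_aeval]
    exact commute_aeval _ _ h1.symm _
  have h3 : Commute B ψ := commute_aeval B B (Commute.refl B) r
  have h4 : Commute B (st hK ψ) := by
    rw [hψ, st_aeval]
    exact commute_aeval _ _ hBc.symm _
  obtain ⟨hu, hdet⟩ := normal_quot_unitary hK ψ hψdet h2.eq
  refine ⟨ψ * (st hK ψ)⁻¹, hu, ?_, ?_⟩
  · have h5 : (st hK ψ)⁻¹ * B = B * (st hK ψ)⁻¹ :=
      inv_comm_of_comm _ _ (isUnit_det_st hK ψ hψdet) h4.eq.symm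
    rw [Matrix.mul_assoc, h5, ← Matrix.mul_assoc, ← h3.eq, Matrix.mul_assoc]
  · rw [hdet, hr, hw]

/-- reindexing of block matrices -/
noncomputable def rb {a b : ℕ} :
    Matrix (Fin a ⊕ Fin b) (Fin a ⊕ Fin b) K ≃ₐ[K] Matrix (Fin (a + b)) (Fin (a + b)) K :=
  Matrix.reindexAlgEquiv K K finSumFinEquiv

omit [Fintype K] in
theorem det_rb {a b : ℕ} (M : Matrix (Fin a ⊕ Fin b) (Fin a ⊕ Fin b) K) :
    (rb M).det = M.det := by
  unfold rb
  rw [Matrix.det_reindexAlgEquiv]

omit [Fintype K] in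
theorem charpoly_rb {a b : ℕ} (M : Matrix (Fin a ⊕ Fin b) (Fin a ⊕ Fin b) K) :
    (rb M).charpoly = M.charpoly := by
  unfold rb
  rw [Matrix.coe_reindexAlgEquiv, Matrix.charpoly_reindex]

theorem st_rb (hK : Fintype.card K = q ^ 2) {a b : ℕ} (A : Matrix (Fin a) (Fin a) K)
    (B : Matrix (Fin a) (Fin b) K) (C : Matrix (Fin b) (Fin a) K) (D : Matrix (Fin b) (Fin b) K) :
    st hK (rb (fromBlocks A B C D)) =
      rb (fromBlocks (st hK A) ((C.map (sig hK))ᵀ) ((B.map (sig hK))ᵀ) (st hK D)) := by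
  unfold st rb
  rw [Matrix.coe_reindexAlgEquiv, Matrix.reindex_apply,
    Matrix.reindex_apply, ← Matrix.submatrix_map, Matrix.transpose_submatrix, fromBlocks_map,
    fromBlocks_transpose]

theorem st_rb_diag (hK : Fintype.card K = q ^ 2) {a b : ℕ} (A : Matrix (Fin a) (Fin a) K)
    (D : Matrix (Fin b) (Fin b) K) :
    st hK (rb (fromBlocks A 0 0 D)) = rb (fromBlocks (st hK A) 0 0 (st hK D)) := by
  rw [st_rb]
  congr 2 <;> · ext i j; simp

theorem st_rb_anti (hK : Fintype.card K = q ^ 2) {a : ℕ} (B C : Matrix (Fin a) (Fin a) K) :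
    st hK (rb (fromBlocks 0 B C 0)) = rb (fromBlocks 0 (st hK C) (st hK B) 0) := by
  rw [st_rb]
  congr 2 <;> · ext i j; simp [st]

/-- block sums of unitary matrices are unitary -/
theorem unitary_rb (hK : Fintype.card K = q ^ 2) {a b : ℕ} (A : Matrix (Fin a) (Fin a) K)
    (D : Matrix (Fin b) (Fin b) K) (hA : IsUnitaryMat q A) (hD : IsUnitaryMat q D) :
    IsUnitaryMat q (rb (fromBlocks A 0 0 D)) := by
  rw [isUnitaryMat_iff_st hK] at hA hD ⊢
  rw [st_rb_diag, ← map_mul, fromBlocks_multiply]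
  simp only [Matrix.mul_zero, Matrix.zero_mul, add_zero, zero_add]
  rw [hA, hD, fromBlocks_one, map_one]

/-- the hyperbolic double of a matrix -/
noncomputable def dbl (hK : Fintype.card K = q ^ 2) {e : ℕ} (C : Matrix (Fin e) (Fin e) K) :
    Matrix (Fin (e + e)) (Fin (e + e)) K :=
  rb (fromBlocks C 0 0 (st hK C)⁻¹)

/-- the hyperbolic hermitian form -/
noncomputable def hyp (K : Type*) [Field K] (e : ℕ) : Matrix (Fin (e + e)) (Fin (e + e)) K :=
  rb (fromBlocks 0 1 1 0)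

theorem st_hyp (hK : Fintype.card K = q ^ 2) (e : ℕ) : st hK (hyp K e) = hyp K e := by
  unfold hyp
  rw [st_rb_anti, st_one]

omit [Fintype K] in
theorem hyp_mul_hyp (e : ℕ) : hyp K e * hyp K e = 1 := by
  unfold hyp
  rw [← map_mul, fromBlocks_multiply]
  simp only [Matrix.mul_zero, Matrix.zero_mul, add_zero, zero_add, Matrix.mul_one]
  rw [fromBlocks_one, map_one]

omit [Fintype K] in
theorem isUnit_det_hyp (e : ℕ) : IsUnit (hyp K e).det := by
  have := congrArg det (hyp_mul_hyp (K := K) e)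
  rw [det_mul, det_one] at this
  exact IsUnit.of_mul_eq_one _ this

theorem dbl_invariant (hK : Fintype.card K = q ^ 2) {e : ℕ} (C : Matrix (Fin e) (Fin e) K)
    (hC : IsUnit C.det) : st hK (dbl hK C) * hyp K e * dbl hK C = hyp K e := by
  have hsC : IsUnit (st hK C).det := isUnit_det_st hK C hC
  unfold dbl hyp
  rw [st_rb_diag, ← map_mul, ← map_mul, fromBlocks_multiply, fromBlocks_multiply]
  simp only [Matrix.mul_zero, Matrix.zero_mul, add_zero, zero_add, Matrix.mul_one]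
  rw [mul_nonsing_inv _ hsC, st_inv hK _ hsC, st_st, nonsing_inv_mul _ hC]

theorem dbl_mul (hK : Fintype.card K = q ^ 2) {e : ℕ} (C X : Matrix (Fin e) (Fin e) K) :
    dbl hK (C * X) = dbl hK C * dbl hK X := by
  unfold dbl
  rw [← map_mul, fromBlocks_multiply]
  simp only [Matrix.mul_zero, Matrix.zero_mul, add_zero, zero_add]
  rw [st_mul, Matrix.mul_inv_rev]

theorem dbl_one (hK : Fintype.card K = q ^ 2) {e : ℕ} :
    dbl hK (1 : Matrix (Fin e) (Fin e) K) = 1 := by
  unfold dbl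
  rw [st_one, inv_one, fromBlocks_one, map_one]

theorem dbl_pow (hK : Fintype.card K = q ^ 2) {e : ℕ} (C : Matrix (Fin e) (Fin e) K) (k : ℕ) :
    dbl hK (C ^ k) = dbl hK C ^ k := by
  induction k with
  | zero => rw [pow_zero, pow_zero, dbl_one]
  | succ k ih => rw [pow_succ, pow_succ, dbl_mul, ih]

theorem det_dbl (hK : Fintype.card K = q ^ 2) {e : ℕ} (C : Matrix (Fin e) (Fin e) K) :
    (dbl hK C).det = C.det * (sig hK C.det)⁻¹ := by
  unfold dbl
  rw [det_rb, det_fromBlocks_zero₁₂, det_nonsing_inv, st_det, Ring.inverse_eq_inv']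

theorem charpoly_dbl (hK : Fintype.card K = q ^ 2) {e : ℕ} (C : Matrix (Fin e) (Fin e) K)
    (hC : IsUnit C.det) : (dbl hK C).charpoly = C.charpoly * udual hK C.charpoly := by
  unfold dbl
  rw [charpoly_rb, charpoly_fromBlocks_zero₁₂, charpoly_st_inv hK C hC]

/-- a semisimple invertible matrix with prescribed characteristic polynomial and its order -/
theorem exists_semisimple_pow {p : ℕ} [Fact p.Prime] [CharP K p] {e : ℕ} (he : 0 < e) (m : K[X])
    (hm : m.Monic) (hdeg : m.natDegree = e) (hm0 : m.coeff 0 ≠ 0) :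
    ∃ C : Matrix (Fin e) (Fin e) K, Module.End.IsSemisimple (Matrix.toLin' C) ∧ C.charpoly = m ∧
      IsUnit C.det ∧ ∃ N : ℕ, (N : K) ≠ 0 ∧ C ^ N = 1 := by
  classical
  have hp : p.Prime := Fact.out
  have : Nonempty (Fin e) := ⟨⟨0, he⟩⟩
  obtain ⟨A, hAss, hAchar⟩ :=
    Cfsg.Agent.Lib.Helper40.exists_matrix_semisimple_charpoly e m hm hdeg
  have hAdet : IsUnit A.det := by
    rw [Matrix.det_eq_sign_charpoly_coeff, hAchar]
    exact IsUnit.mul (IsUnit.pow _ (isUnit_one.neg)) (isUnit_iff_ne_zero.2 hm0)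
  obtain ⟨g, hg⟩ : ∃ g : GL (Fin e) K, (g : Matrix (Fin e) (Fin e) K) = A :=
    ⟨Matrix.GeneralLinearGroup.mk'' A hAdet, rfl⟩
  have hcop : (orderOf g).Coprime p :=
    Cfsg.Agent.Lib.Helper40.coprime_orderOf_of_isSemisimple p g (by rw [hg]; exact hAss)
  refine ⟨A, hAss, hAchar, hAdet, orderOf g, ?_, ?_⟩
  · rw [Ne, CharP.cast_eq_zero_iff K p]
    intro hd
    exact hp.one_lt.ne' (Nat.Coprime.eq_one_of_dvd hcop.symm hd)
  · rw [← hg, ← Units.val_pow_eq_pow_val, pow_orderOf_eq_one, Units.val_one]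

/-- the atomic hyperbolic block -/
theorem exists_atomic_pair {p : ℕ} [Fact p.Prime] [CharP K p] (hK : Fintype.card K = q ^ 2)
    {e : ℕ} (he : 0 < e) (m : K[X]) (hm : m.Monic) (hdeg : m.natDegree = e)
    (hm0 : m.coeff 0 ≠ 0) (ζ : K) (hζ : ζ * sig hK ζ = 1) :
    ∃ B c : Matrix (Fin (e + e)) (Fin (e + e)) K, IsUnitaryMat q B ∧
      B.charpoly = m * udual hK m ∧ (∃ N : ℕ, (N : K) ≠ 0 ∧ B ^ N = 1) ∧
      IsUnitaryMat q c ∧ c * B = B * c ∧ c.det = ζ := by
  classical
  have : Nonempty (Fin e) := ⟨⟨0, he⟩⟩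
  obtain ⟨C, hCss, hCchar, hCdet, N, hNK, hCN⟩ := exists_semisimple_pow (p := p) he m hm hdeg hm0
  obtain ⟨w, hw0, hw⟩ := exists_quot_eq hK ζ hζ
  obtain ⟨ψ, hψc, hψdet⟩ := Cfsg.Agent.Lib.Helper43.exists_commute_det_eq (Matrix.toLin' C) hCss w
  set X := LinearMap.toMatrix' ψ with hX
  have hXC : X * C = C * X := by
    have := congrArg LinearMap.toMatrix' hψc
    rwa [LinearMap.toMatrix'_comp, LinearMap.toMatrix'_comp, LinearMap.toMatrix'_toLin'] at this
  have hXdet : X.det = w := by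
    rw [← hψdet, ← LinearMap.det_toLin', hX, Matrix.toLin'_toMatrix']
  have hXu : IsUnit X.det := by rw [hXdet]; exact isUnit_iff_ne_zero.2 hw0
  obtain ⟨T, hTT, hTdet⟩ := exists_st_mul_self_eq hK (hyp K e) (st_hyp hK e) (isUnit_det_hyp e)
  obtain ⟨Tu, hTu⟩ := (Matrix.isUnit_iff_isUnit_det _).2 hTdet
  have hTi : T⁻¹ = (Tu⁻¹ : (Matrix (Fin (e + e)) (Fin (e + e)) K)ˣ).val := by
    rw [← hTu, Matrix.coe_units_inv]
  refine ⟨T * dbl hK C * T⁻¹, T * dbl hK X * T⁻¹, ?_, ?_, ⟨N, hNK, ?_⟩, ?_, ?_, ?_⟩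
  · apply unitary_conj_of_invariant hK _ T hTdet
    rw [hTT]
    exact dbl_invariant hK C hCdet
  · rw [← hTu, Matrix.charpoly_units_conj, charpoly_dbl hK C hCdet, hCchar]
  · rw [hTi, ← hTu, Units.conj_pow, ← dbl_pow, hCN, dbl_one, Matrix.mul_one, Units.mul_inv]
  · apply unitary_conj_of_invariant hK _ T hTdet
    rw [hTT]
    exact dbl_invariant hK X hXu
  · have h1 : T⁻¹ * T = 1 := nonsing_inv_mul T hTdet
    calc T * dbl hK X * T⁻¹ * (T * dbl hK C * T⁻¹)
        = T * dbl hK X * (T⁻¹ * T) * dbl hK C * T⁻¹ := by simp only [Matrix.mul_assoc]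
      _ = T * (dbl hK X * dbl hK C) * T⁻¹ := by rw [h1, Matrix.mul_one]; simp only [Matrix.mul_assoc]
      _ = T * (dbl hK C * dbl hK X) * T⁻¹ := by rw [← dbl_mul, hXC, dbl_mul]
      _ = T * dbl hK C * (T⁻¹ * T) * dbl hK X * T⁻¹ := by
          rw [h1, Matrix.mul_one]; simp only [Matrix.mul_assoc]
      _ = T * dbl hK C * T⁻¹ * (T * dbl hK X * T⁻¹) := by simp only [Matrix.mul_assoc]
  · rw [hTi, ← hTu, Matrix.det_units_conj, det_dbl, hXdet, hw]

/-- block sums -/
theorem exists_block_sum (hK : Fintype.card K = q ^ 2) {a b n : ℕ} (hab : a + b = n)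
    (B₁ c₁ : Matrix (Fin a) (Fin a) K) (B₂ : Matrix (Fin b) (Fin b) K)
    (hB₁ : IsUnitaryMat q B₁) (hc₁ : IsUnitaryMat q c₁) (hcomm : c₁ * B₁ = B₁ * c₁)
    (hB₂ : IsUnitaryMat q B₂) (N₁ N₂ : ℕ) (hN₁ : B₁ ^ N₁ = 1) (hN₂ : B₂ ^ N₂ = 1) :
    ∃ B c : Matrix (Fin n) (Fin n) K, IsUnitaryMat q B ∧
      B.charpoly = B₁.charpoly * B₂.charpoly ∧ B ^ (N₁ * N₂) = 1 ∧ IsUnitaryMat q c ∧
      c * B = B * c ∧ c.det = c₁.det := by
  subst hab
  refine ⟨rb (fromBlocks B₁ 0 0 B₂), rb (fromBlocks c₁ 0 0 1), unitary_rb hK _ _ hB₁ hB₂, ?_, ?_,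
    unitary_rb hK _ _ hc₁ ?_, ?_, ?_⟩
  · rw [charpoly_rb, charpoly_fromBlocks_zero₁₂]
  · rw [← map_pow, Cfsg.Agent.Lib.Helper37.SpExist.fromBlocks_diag_pow, pow_mul, hN₁, one_pow,
      pow_mul', hN₂, one_pow, fromBlocks_one, map_one]
  · rw [isUnitaryMat_iff_st hK, st_one, Matrix.one_mul]
  · rw [← map_mul, ← map_mul, fromBlocks_multiply, fromBlocks_multiply]
    simp only [Matrix.mul_zero, Matrix.zero_mul, add_zero, zero_add, Matrix.mul_one,
      Matrix.one_mul]
    rw [hcomm]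
  · rw [det_rb, det_fromBlocks_zero₁₂, det_one, mul_one]

/-- **Key lemma**: a semisimple unitary matrix is centralised by unitary matrices of every
norm-one determinant. -/
theorem exists_unitary_commute_det {p : ℕ} [Fact p.Prime] [CharP K p]
    (hK : Fintype.card K = q ^ 2) (hn : 0 < n) (a : Matrix (Fin n) (Fin n) K)
    (ha : IsUnitaryMat q a) (hss : Module.End.IsSemisimple (Matrix.toLin' a)) (ζ : K)
    (hζ : ζ * sig hK ζ = 1) :
    ∃ c : Matrix (Fin n) (Fin n) K, IsUnitaryMat q c ∧ c * a = a * c ∧ c.det = ζ := by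
  classical
  have ha' := (isUnitaryMat_iff_st hK a).1 ha
  have hadet : IsUnit a.det := by
    have := congrArg det ha'
    rw [det_mul, det_one] at this
    exact IsUnit.of_mul_eq_one _ (by rw [mul_comm]; exact this)
  have hf : a.charpoly.Monic := charpoly_monic a
  have hfdeg : a.charpoly.natDegree = n := by
    rw [Matrix.charpoly_natDegree_eq_dim, Fintype.card_fin]
  have hfdual : udual hK a.charpoly = a.charpoly := by
    rw [← charpoly_st_inv hK a hadet]
    congr 1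
    exact Matrix.inv_eq_left_inv (by rw [mul_eq_one_comm]; exact ha')
  have hf0 : a.charpoly.coeff 0 ≠ 0 := by
    intro h0
    have h1 := Matrix.det_eq_sign_charpoly_coeff a
    rw [h0, mul_zero] at h1
    rw [h1] at hadet
    exact not_isUnit_zero hadet
  have hnu : ¬ IsUnit a.charpoly := Polynomial.not_isUnit_of_natDegree_pos _ (hfdeg.symm ▸ hn)
  obtain ⟨m, hm, hirr, f'', hfm⟩ := Polynomial.exists_monic_irreducible_factor _ hnu
  have hf'' : f''.Monic := hm.of_mul_monic_left (hfm ▸ hf)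
  have hcoef : m.coeff 0 * f''.coeff 0 ≠ 0 := by
    rw [← Polynomial.mul_coeff_zero, ← hfm]; exact hf0
  have hm0 : m.coeff 0 ≠ 0 := left_ne_zero_of_mul hcoef
  have hf''0 : f''.coeff 0 ≠ 0 := right_ne_zero_of_mul hcoef
  have hdegsum : m.natDegree + f''.natDegree = n := by
    rw [← hm.natDegree_mul hf'', ← hfm, hfdeg]
  -- the model
  obtain ⟨b, cb, hb, hbchar, N, hNK, hbN, hcb, hcomm, hcbdet⟩ :
      ∃ b cb : Matrix (Fin n) (Fin n) K, IsUnitaryMat q b ∧ b.charpoly = a.charpoly ∧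
        ∃ N : ℕ, (N : K) ≠ 0 ∧ b ^ N = 1 ∧ IsUnitaryMat q cb ∧ cb * b = b * cb ∧
          cb.det = ζ := by
    by_cases hmd : udual hK m = m
    · -- self-dual factor
      have hf''d : udual hK f'' = f'' := by
        have h1 := hfdual
        rw [hfm, udual_mul, hmd] at h1
        exact mul_left_cancel₀ hm.ne_zero h1
      obtain ⟨B₁, hB₁, hB₁c, N₁, hN₁K, hN₁⟩ :=
        exists_unitary_charpoly (p := p) (n := m.natDegree) hK m hm rfl hmd hm0
      obtain ⟨c₁, hc₁, hc₁B, hc₁d⟩ := exists_atomic_selfdual hK B₁ hB₁ (hB₁c.symm ▸ hirr) ζ hζ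
      obtain ⟨B₂, hB₂, hB₂c, N₂, hN₂K, hN₂⟩ :=
        exists_unitary_charpoly (p := p) (n := f''.natDegree) hK f'' hf'' rfl hf''d hf''0
      obtain ⟨B, c, h1, h2, h3, h4, h5, h6⟩ := exists_block_sum hK hdegsum B₁ c₁ B₂ hB₁ hc₁ hc₁B
        hB₂ N₁ N₂ hN₁ hN₂
      refine ⟨B, c, h1, by rw [h2, hB₁c, hB₂c, hfm], N₁ * N₂, ?_, h3, h4, h5, by rw [h6, hc₁d]⟩
      rw [Nat.cast_mul]
      exact mul_ne_zero hN₁K hN₂K
    · -- a pair of dual factors
      have hmdirr : Irreducible (udual hK m) := udual_irreducible hK hm hirr hm0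
      have hmdmon : (udual hK m).Monic := udual_monic hK hm0
      have hdvd : udual hK m ∣ m * f'' := by
        have := udual_dvd hK (Dvd.intro f'' rfl : m ∣ m * f'')
        rw [← hfm, hfdual, hfm] at this
        exact this
      have hdvd2 : udual hK m ∣ f'' := by
        rcases (hmdirr.prime.dvd_mul).1 hdvd with h | h
        · exfalso
          apply hmd
          exact Polynomial.eq_of_monic_of_associated hmdmon hm
            (hmdirr.associated_of_dvd hirr h)
        · exact h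
      obtain ⟨f', hf'eq⟩ := hdvd2
      have hf' : f'.Monic := hmdmon.of_mul_monic_left (hf'eq ▸ hf'')
      have hcoef' : (udual hK m).coeff 0 * f'.coeff 0 ≠ 0 := by
        rw [← Polynomial.mul_coeff_zero, ← hf'eq]; exact hf''0
      have hf'0 : f'.coeff 0 ≠ 0 := right_ne_zero_of_mul hcoef'
      have hf'd : udual hK f' = f' := by
        have h1 := hfdual
        rw [hfm, hf'eq, udual_mul, udual_mul, udual_udual hK hm hm0] at h1
        have h2 : (m * udual hK m) * udual hK f' = (m * udual hK m) * f' := by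
          linear_combination h1
        exact mul_left_cancel₀ (mul_ne_zero hm.ne_zero hmdmon.ne_zero) h2
      have he : 0 < m.natDegree := hirr.natDegree_pos
      have hdegsum' : m.natDegree + m.natDegree + f'.natDegree = n := by
        rw [← hdegsum, hf'eq, hmdmon.natDegree_mul hf', udual_natDegree hK hm0]
        ring
      obtain ⟨B₁, c₁, hB₁, hB₁c, ⟨N₁, hN₁K, hN₁⟩, hc₁, hc₁B, hc₁d⟩ :=
        exists_atomic_pair (p := p) hK he m hm rfl hm0 ζ hζ
      obtain ⟨B₂, hB₂, hB₂c, N₂, hN₂K, hN₂⟩ :=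
        exists_unitary_charpoly (p := p) (n := f'.natDegree) hK f' hf' rfl hf'd hf'0
      obtain ⟨B, c, h1, h2, h3, h4, h5, h6⟩ := exists_block_sum hK hdegsum' B₁ c₁ B₂ hB₁ hc₁
        hc₁B hB₂ N₁ N₂ hN₁ hN₂
      refine ⟨B, c, h1, by rw [h2, hB₁c, hB₂c, hfm, hf'eq, mul_assoc], N₁ * N₂, ?_, h3, h4, h5,
        by rw [h6, hc₁d]⟩
      rw [Nat.cast_mul]
      exact mul_ne_zero hN₁K hN₂K
  have hssb : Module.End.IsSemisimple (Matrix.toLin' b) :=
    Cfsg.Agent.Lib.Helper40.isSemisimple_toLin'_of_pow_eq_one b N hNK hbN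
  obtain ⟨c, hc1, hc2, hc3⟩ := transfer hK a b cb ha hb hcb hcomm hss hssb hbchar.symm
  exact ⟨c, hc1, hc2, by rw [hc3, hcbdet]⟩

end Cfsg.Agent.Lib.Helper37.UCD
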